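import Mathlib.AlgebraicGeometry.Morphisms.Smooth
import Mathlib.AlgebraicGeometry.Properties
import Mathlib.RingTheory.RingHom.StandardSmooth
import Mathlib.RingTheory.Unramified.Field
import Mathlib.RingTheory.Flat.Basic
import Mathlib.AlgebraicGeometry.Geometrically.Reduced

/-!
# A smooth scheme over a field is reduced
-/

universe u

open CategoryTheory AlgebraicGeometry TensorProduct

namespace Groth.Agent.Lib.GrpSch

theorem isReduced_of_etale_over_domain {P B : Type u} [CommRing P] [IsDomain P] [CommRing B] [Algebra P B]
    [Algebra.Etale P B] : _root_.IsReduced B := by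
  let K := FractionRing P
  have : Algebra.Etale K (K ⊗[P] B) := inferInstance
  have : _root_.IsReduced (K ⊗[P] B) := Algebra.FormallyUnramified.isReduced_of_field K _
  have hinj : Function.Injective
      (Algebra.TensorProduct.includeRight : B →ₐ[P] K ⊗[P] B) :=
    Algebra.TensorProduct.includeRight_injective (IsFractionRing.injective P K)
  exact isReduced_of_injective Algebra.TensorProduct.includeRight.toRingHom hinj

theorem isReduced_of_isStandardSmooth {k B : Type u} [CommRing k] [IsDomain k] [CommRing B] (φ : k →+* B)
    (h : φ.IsStandardSmooth) : _root_.IsReduced B := by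
  obtain ⟨n, g, -, hg⟩ := h.exists_etale_mvPolynomial
  algebraize [g]
  exact isReduced_of_etale_over_domain (P := MvPolynomial (Fin n) k)

theorem isReduced_of_smooth_field {X : Scheme.{u}} {k : Type u} [Field k] (f : X ⟶ Spec (CommRingCat.of k))
    [Smooth f] : IsReduced X := by
  have : ∀ x : X, _root_.IsReduced (X.presheaf.stalk x) := fun x => by
    obtain ⟨U, hU, V, hV, hxV, e, hstd⟩ := Smooth.exists_isStandardSmooth f x
    have hUtop : U = ⊤ := by
      ext y
      simp only [TopologicalSpace.Opens.coe_top, Set.mem_univ, iff_true]
      exact Subsingleton.elim (f x) y ▸ e hxV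
    subst hUtop
    let σ := (Scheme.ΓSpecIso (CommRingCat.of k)).commRingCatIsoToRingEquiv
    have : IsDomain Γ(Spec (CommRingCat.of k), ⊤) := MulEquiv.isDomain k σ.toMulEquiv
    have hred := isReduced_of_isStandardSmooth _ hstd
    let _ := TopCat.Presheaf.algebra_section_stalk X.presheaf (⟨x, hxV⟩ : V)
    have := hV.isLocalization_stalk ⟨x, hxV⟩
    exact isReduced_localizationPreserves (hV.primeIdealOf ⟨x, hxV⟩).asIdeal.primeCompl
      (X.presheaf.stalk x) hred
  exact isReduced_of_isReduced_stalk X

theorem geometricallyReduced_of_smooth_field {X : Scheme.{u}} {k : Type u} [Field k]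
    (f : X ⟶ Spec (CommRingCat.of k)) [Smooth f] : GeometricallyReduced f := by
  refine ⟨fun K _ y P p q h => ?_⟩
  have : Smooth q := MorphismProperty.of_isPullback h ‹Smooth f›
  exact isReduced_of_smooth_field q

/-- The product of a smooth scheme and a reduced scheme locally of finite type over a field is reduced. -/
theorem isReduced_pullback_of_smooth_field {X Y : Scheme.{u}} {k : Type u} [Field k]
    (f : X ⟶ Spec (CommRingCat.of k)) (g : Y ⟶ Spec (CommRingCat.of k)) [Smooth f] [IsReduced Y]
    [LocallyOfFiniteType g] : IsReduced (Limits.pullback f g) := by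
  have := geometricallyReduced_of_smooth_field f
  have : IsLocallyNoetherian Y := LocallyOfFiniteType.isLocallyNoetherian g
  infer_instance

end Groth.Agent.Lib.GrpSch
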