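import Groth.Agent.Lib.GrpSch.Basic
import Mathlib.AlgebraicGeometry.AlgClosed.Basic
import Mathlib.AlgebraicGeometry.Morphisms.FinitePresentation
import Mathlib.FieldTheory.IsAlgClosed.Basic

/-!
# Geometric points of schemes locally of finite type over a field

`geomPoint k K`: `Spec K` over `Spec k`.
-/

universe u

open CategoryTheory Limits MonoidalCategory CartesianMonoidalCategory AlgebraicGeometry

namespace Groth.Agent.Lib.GrpSch

/-- A nonempty constructible set contains a nonempty locally closed one. -/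
theorem exists_isLocallyClosed_subset {X : Type*} [TopologicalSpace X] {s : Set X}
    (hs : Topology.IsConstructible s) :
    ∀ x ∈ s, ∃ Z : Set X, IsLocallyClosed Z ∧ x ∈ Z ∧ Z ⊆ s := by
  suffices (∀ x ∈ s, ∃ Z : Set X, IsLocallyClosed Z ∧ x ∈ Z ∧ Z ⊆ s) ∧
      ∀ x ∈ sᶜ, ∃ Z : Set X, IsLocallyClosed Z ∧ x ∈ Z ∧ Z ⊆ sᶜ from this.1
  induction hs using Topology.IsConstructible.empty_union_induction with
  | open_retrocompact U hU _ =>
    exact ⟨fun x hx => ⟨U, hU.isLocallyClosed, hx, subset_rfl⟩,
      fun x hx => ⟨Uᶜ, hU.isClosed_compl.isLocallyClosed, hx, subset_rfl⟩⟩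
  | union s hs t ht hs' ht' =>
    refine ⟨?_, fun x hx => ?_⟩
    · rintro x (hx | hx)
      · obtain ⟨Z, h1, h2, h3⟩ := hs'.1 x hx
        exact ⟨Z, h1, h2, h3.trans Set.subset_union_left⟩
      · obtain ⟨Z, h1, h2, h3⟩ := ht'.1 x hx
        exact ⟨Z, h1, h2, h3.trans Set.subset_union_right⟩
    · rw [Set.compl_union] at hx ⊢
      obtain ⟨Z, h1, h2, h3⟩ := hs'.2 x hx.1
      obtain ⟨W, g1, g2, g3⟩ := ht'.2 x hx.2
      exact ⟨Z ∩ W, h1.inter g1, ⟨h2, g2⟩, Set.inter_subset_inter h3 g3⟩
  | compl s hs hs' => exact ⟨hs'.2, by rw [compl_compl]; exact hs'.1⟩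

/-- A morphism of finite type schemes over a Jacobson base is surjective once its image contains all closed
points. -/
theorem surjective_of_closedPoints {X Y : Scheme.{u}} (f : X ⟶ Y) [JacobsonSpace Y] [IsLocallyNoetherian Y]
    [CompactSpace Y] [QuasiSeparatedSpace Y] [LocallyOfFiniteType f] [QuasiCompact f]
    (h : ∀ y ∈ closedPoints Y, y ∈ Set.range f) : Surjective f := by
  refine ⟨fun y => ?_⟩
  by_contra hy
  have hc : Topology.IsConstructible (Set.range f)ᶜ := by
    rw [← Set.image_univ]
    exact (f.isConstructible_image .univ).compl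
  obtain ⟨Z, hZ, hyZ, hZsub⟩ := exists_isLocallyClosed_subset hc y hy
  obtain ⟨c, hcZ, hc⟩ := nonempty_inter_closedPoints ⟨y, hyZ⟩ hZ
  exact hZsub hcZ (h c hc)

variable (k K : Type u) [Field k] [Field K] [Algebra k K]

/-- `Spec K` over `Spec k`. -/
noncomputable abbrev geomPoint : Over (Spec (CommRingCat.of k)) :=
  Over.mk (Spec.map (CommRingCat.ofHom (algebraMap k K)))

variable [IsAlgClosed K] {k K} {A B : Over (Spec (CommRingCat.of k))} [LocallyOfFiniteType A.hom]

/-- A geometric point of the target in the set-theoretic image lifts. -/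
theorem exists_geomPoint_lift (f : A ⟶ B) (y : geomPoint k K ⟶ B)
    (hy : ∀ s, y.left s ∈ Set.range f.left) : ∃ x : geomPoint k K ⟶ A, x ≫ f = y := by
  have : LocallyOfFiniteType (f.left ≫ B.hom) := by rw [Over.w]; infer_instance
  have : LocallyOfFiniteType f.left := locallyOfFiniteType_of_comp f.left B.hom
  let y' : Spec (CommRingCat.of K) ⟶ B.left := y.left
  let P := pullback f.left y'
  let p : P ⟶ Spec (CommRingCat.of K) := pullback.snd f.left y'
  have : LocallyOfFiniteType p := inferInstanceAs (LocallyOfFiniteType (pullback.snd f.left y'))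
  have : JacobsonSpace P := LocallyOfFiniteType.jacobsonSpace p
  obtain ⟨a, ha⟩ := hy (IsLocalRing.closedPoint K)
  obtain ⟨w, -, -⟩ := Scheme.Pullback.exists_preimage_pullback (f := f.left) (g := y') a _ ha
  obtain ⟨c, -, hc⟩ := nonempty_inter_closedPoints (X := P) ⟨w, Set.mem_univ _⟩ isClosed_univ.isLocallyClosed
  let q := pointOfClosedPoint p c hc
  have hq : q ≫ p = 𝟙 _ := pointOfClosedPoint_comp p c hc
  let x : Spec (CommRingCat.of K) ⟶ A.left := q ≫ pullback.fst f.left y'
  have hx : x ≫ f.left = y' := by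
    simp only [x, Category.assoc, pullback.condition]
    rw [← Category.assoc, show q ≫ pullback.snd f.left y' = 𝟙 _ from hq, Category.id_comp]
  refine ⟨Over.homMk x ?_, Over.OverMorphism.ext hx⟩
  rw [← Over.w f, reassoc_of% hx]
  exact Over.w y

/-- Every closed point carries a geometric point. -/
theorem exists_geomPoint_apply_eq (c : A.left) (hc : c ∈ closedPoints A.left) :
    ∃ x : geomPoint k K ⟶ A, ∀ s, x.left s = c := by
  let g := Spec.map (CommRingCat.ofHom (algebraMap k K))
  let P := pullback A.hom g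
  let p : P ⟶ Spec (CommRingCat.of K) := pullback.snd A.hom g
  have : LocallyOfFiniteType p := inferInstanceAs (LocallyOfFiniteType (pullback.snd A.hom g))
  have : JacobsonSpace P := LocallyOfFiniteType.jacobsonSpace p
  obtain ⟨w, hw, -⟩ := Scheme.Pullback.exists_preimage_pullback (f := A.hom) (g := g) c (IsLocalRing.closedPoint K)
    (Subsingleton.elim (α := Spec (CommRingCat.of k)) _ _)
  obtain ⟨d, hd, hdc⟩ := nonempty_inter_closedPoints (X := P) (Z := pullback.fst A.hom g ⁻¹' {c}) ⟨w, hw⟩
    (((mem_closedPoints_iff).1 hc).preimage (pullback.fst A.hom g).continuous).isLocallyClosed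
  have hq : pointOfClosedPoint p d hdc ≫ p = 𝟙 _ := pointOfClosedPoint_comp p d hdc
  refine ⟨Over.homMk (pointOfClosedPoint p d hdc ≫ pullback.fst A.hom g) ?_, fun s => ?_⟩
  · change (_ ≫ pullback.fst A.hom g) ≫ A.hom = g
    rw [Category.assoc, pullback.condition, ← Category.assoc,
      show pointOfClosedPoint p d hdc ≫ pullback.snd A.hom g = 𝟙 _ from hq, Category.id_comp]
  · change (pointOfClosedPoint p d hdc ≫ pullback.fst A.hom g) s = c
    rw [Scheme.Hom.comp_apply]
    exact (congrArg _ (pointOfClosedPoint_apply p d hdc s)).trans hd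

variable (K) in
/-- Surjectivity is detected on geometric points. -/
theorem surjective_iff_forall_geomPoint_lift [QuasiCompact A.hom] [LocallyOfFiniteType B.hom]
    [QuasiCompact B.hom] [IsSeparated B.hom] (f : A ⟶ B) :
    Surjective f.left ↔ ∀ y : geomPoint k K ⟶ B, ∃ x, x ≫ f = y := by
  refine ⟨fun h y => exists_geomPoint_lift f y fun s => h.1 _, fun h => ?_⟩
  have : IsLocallyNoetherian B.left := LocallyOfFiniteType.isLocallyNoetherian B.hom
  have : CompactSpace B.left := QuasiCompact.compactSpace_of_compactSpace B.hom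
  have : JacobsonSpace B.left := LocallyOfFiniteType.jacobsonSpace B.hom
  have : LocallyOfFiniteType (f.left ≫ B.hom) := by rw [Over.w]; infer_instance
  have : LocallyOfFiniteType f.left := locallyOfFiniteType_of_comp f.left B.hom
  have : QuasiCompact (f.left ≫ B.hom) := by rw [Over.w]; infer_instance
  have : QuasiCompact f.left := QuasiCompact.of_comp f.left B.hom
  refine surjective_of_closedPoints f.left fun y hy => ?_
  obtain ⟨p, hp⟩ := exists_geomPoint_apply_eq (K := K) y hy
  obtain ⟨x, hx⟩ := h p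
  let s : ↥(geomPoint k K).left := IsLocalRing.closedPoint K
  exact ⟨x.left s, by rw [← Scheme.Hom.comp_apply, ← Over.comp_left, hx, hp s]⟩

end Groth.Agent.Lib.GrpSch
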