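import Groth.Agent.Lib.GrpSch.Orbit
import Groth.Prelude.Def_ActBC
import Mathlib.AlgebraicGeometry.Morphisms.FlatDescent
import Mathlib.AlgebraicGeometry.Morphisms.LocalFlatDescent
import Mathlib.AlgebraicGeometry.Morphisms.Flat

/-!
# Base change of group schemes and actions along a morphism of bases; descent from a field extension

`bcProj f X : (Red.bc f X).left ⟶ X.left` is the projection; `isPullback_bc_map` the square of a base-changed
morphism; `bc_hom_of`, `bc_map_left_of` transfer properties; `of_bc_hom`, `of_bc_map_left` descend them along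
`extBase k K : Spec K ⟶ Spec k`.
-/

universe u

open CategoryTheory Limits MonoidalCategory CartesianMonoidalCategory MonObj AlgebraicGeometry

namespace Groth.Agent.Lib.GrpSch

section Gen

variable {S S' : Scheme.{u}} (f : S' ⟶ S)

/-- The projection of a base change. -/
noncomputable def bcProj (X : Over S) : (Red.bc f X).left ⟶ X.left := pullback.fst X.hom f

theorem isPullback_bc (X : Over S) : IsPullback (bcProj f X) (Red.bc f X).hom X.hom f :=
  IsPullback.of_hasPullback X.hom f

theorem bc_map_proj {X Y : Over S} (g : X ⟶ Y) :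
    ((Over.pullback f).map g).left ≫ bcProj f Y = bcProj f X ≫ g.left := by
  exact pullback.lift_fst _ _ _

theorem isPullback_bc_map {X Y : Over S} (g : X ⟶ Y) :
    IsPullback ((Over.pullback f).map g).left (bcProj f X) (bcProj f Y) g.left := by
  have h : IsPullback (bcProj f X) ((Over.pullback f).map g).left g.left (bcProj f Y) := by
    refine IsPullback.of_bot ?_ (bc_map_proj f g).symm (isPullback_bc f Y)
    rw [Over.w, Over.w g]
    exact isPullback_bc f X
  exact h.flip

variable {P : MorphismProperty Scheme.{u}} [P.IsStableUnderBaseChange]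

theorem bc_hom_of (X : Over S) (h : P X.hom) : P (Red.bc f X).hom :=
  P.of_isPullback (isPullback_bc f X) h

theorem bc_map_left_of {X Y : Over S} (g : X ⟶ Y) (h : P g.left) : P ((Over.pullback f).map g).left :=
  P.of_isPullback (isPullback_bc_map f g).flip h

theorem bcProj_of (X : Over S) (h : P f) : P (bcProj f X) :=
  P.of_isPullback (isPullback_bc f X).flip h

instance isMonHom_bc_map {G H : Over S} [GrpObj G] [GrpObj H] (g : G ⟶ H) [IsMonHom g] :
    IsMonHom ((Over.pullback f).map g) := inferInstance

end Gen

section Field

variable (k K : Type u) [Field k] [Field K] [Algebra k K]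

/-- `Spec K ⟶ Spec k`. -/
noncomputable abbrev extBase : Spec (CommRingCat.of K) ⟶ Spec (CommRingCat.of k) :=
  Spec.map (CommRingCat.ofHom (algebraMap k K))

theorem extBase_surjective_flat_qc :
    (@Surjective ⊓ @Flat ⊓ @QuasiCompact : MorphismProperty Scheme.{u}) (extBase k K) :=
  ⟨⟨⟨Function.surjective_to_subsingleton (α := Spec (CommRingCat.of K)) (β := Spec (CommRingCat.of k)) _⟩,
    inferInstance⟩, inferInstance⟩

variable {P : MorphismProperty Scheme.{u}} [P.DescendsAlong (@Surjective ⊓ @Flat ⊓ @QuasiCompact)] [P.RespectsIso]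

theorem of_bc_hom (X : Over (Spec (CommRingCat.of k))) (h : P (Red.bc (extBase k K) X).hom) : P X.hom :=
  MorphismProperty.of_pullback_snd_of_descendsAlong (Q := @Surjective ⊓ @Flat ⊓ @QuasiCompact)
    (f := X.hom) (g := extBase k K) (extBase_surjective_flat_qc k K) h

theorem bcProj_surjective_flat_qc (X : Over (Spec (CommRingCat.of k))) :
    (@Surjective ⊓ @Flat ⊓ @QuasiCompact : MorphismProperty Scheme.{u}) (bcProj (extBase k K) X) :=
  have h := extBase_surjective_flat_qc k K
  ⟨⟨MorphismProperty.of_isPullback (P := @Surjective) (isPullback_bc (extBase k K) X).flip h.1.1,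
    MorphismProperty.of_isPullback (P := @Flat) (isPullback_bc (extBase k K) X).flip h.1.2⟩,
    MorphismProperty.of_isPullback (P := @QuasiCompact) (isPullback_bc (extBase k K) X).flip h.2⟩

theorem of_bc_map_left {X Y : Over (Spec (CommRingCat.of k))} (g : X ⟶ Y)
    (h : P ((Over.pullback (extBase k K)).map g).left) : P g.left :=
  MorphismProperty.DescendsAlong.of_isPullback (Q := @Surjective ⊓ @Flat ⊓ @QuasiCompact)
    (isPullback_bc_map (extBase k K) g) (bcProj_surjective_flat_qc k K Y) h

theorem isIso_of_isIso_bc_map {X Y : Over (Spec (CommRingCat.of k))} (g : X ⟶ Y)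
    [IsIso ((Over.pullback (extBase k K)).map g)] : IsIso g := by
  have : IsIso g.left :=
    of_bc_map_left k K (P := MorphismProperty.isomorphisms Scheme.{u}) g
      ((Over.forget _).map_isIso ((Over.pullback (extBase k K)).map g))
  have : IsIso ((Over.forget (Spec (CommRingCat.of k))).map g) := this
  exact isIso_of_reflects_iso g (Over.forget _)

end Field

end Groth.Agent.Lib.GrpSch
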