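import Groth.Prelude.Def_AlgGrp
import Mathlib.AlgebraicGeometry.Morphisms.Separated
import Mathlib.AlgebraicGeometry.Morphisms.Immersion
import Mathlib.AlgebraicGeometry.Limits

/-!
# Basic lemmas on products in `Over S`, group schemes and their actions

* `isPullback_left`: `(X ⊗ Y).left` is the fibre product.
* `fst_left_of`, `snd_left_of`, `whiskerLeft_left_of`, `whiskerRight_left_of`: transfer of properties stable
  under base change.
* `act_one`, `act_mul`, `act_inv_act`, `act_act_inv`: actions on points.
* `shear a : G ⊗ X ≅ G ⊗ X`, `(g, x) ↦ (g, g • x)`; `act_left_of`: `a.act.left` inherits every base change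
  stable property of `G.hom`.
* `translate a g : X ≅ X` for a rational point `g`; orbit map lemmas.
* `isImmersion_η`, `isClosedImmersion_η`, `isSeparated_of_isClosedImmersion_η`.
-/

universe u

open CategoryTheory Limits MonoidalCategory CartesianMonoidalCategory MonObj AlgebraicGeometry

namespace Groth.Agent.Lib.GrpSch

variable {S : Scheme.{u}}

/-! ### Products in `Over S` -/

theorem isPullback_left (X Y : Over S) :
    IsPullback (fst X Y).left (snd X Y).left X.hom Y.hom :=
  IsPullback.of_hasPullback X.hom Y.hom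

theorem isPullback_whiskerLeft (X : Over S) {Y Z : Over S} (f : Y ⟶ Z) :
    IsPullback (X ◁ f).left (snd X Y).left (snd X Z).left f.left := by
  have h : IsPullback (snd X Y).left ((X ◁ f).left) f.left (snd X Z).left := by
    refine IsPullback.of_bot ?_ ?_ (isPullback_left X Z).flip
    · rw [← Over.comp_left, whiskerLeft_fst, Over.w f]
      exact (isPullback_left X Y).flip
    · rw [← Over.comp_left, ← Over.comp_left, whiskerLeft_snd]
  exact h.flip

theorem isPullback_whiskerRight {X Y : Over S} (f : X ⟶ Y) (Z : Over S) :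
    IsPullback (f ▷ Z).left (fst X Z).left (fst Y Z).left f.left := by
  have h : IsPullback (fst X Z).left ((f ▷ Z).left) f.left (fst Y Z).left := by
    refine IsPullback.of_bot ?_ ?_ (isPullback_left Y Z)
    · rw [← Over.comp_left, whiskerRight_snd, Over.w f]
      exact isPullback_left X Z
    · rw [← Over.comp_left, ← Over.comp_left, whiskerRight_fst]
  exact h.flip

section Transfer

variable {P : MorphismProperty Scheme.{u}} [P.IsStableUnderBaseChange]

theorem snd_left_of {X : Over S} (Y : Over S) (h : P X.hom) : P (snd X Y).left :=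
  P.of_isPullback (isPullback_left X Y) h

theorem fst_left_of (X : Over S) {Y : Over S} (h : P Y.hom) : P (fst X Y).left :=
  P.of_isPullback (isPullback_left X Y).flip h

theorem whiskerLeft_left_of (X : Over S) {Y Z : Over S} (f : Y ⟶ Z) (h : P f.left) :
    P (X ◁ f).left :=
  P.of_isPullback (isPullback_whiskerLeft X f).flip h

theorem whiskerRight_left_of {X Y : Over S} (f : X ⟶ Y) (Z : Over S) (h : P f.left) :
    P (f ▷ Z).left :=
  P.of_isPullback (isPullback_whiskerRight f Z).flip h

theorem tensorHom_left_of [P.IsStableUnderComposition] {X X' Y Y' : Over S} (f : X ⟶ X') (g : Y ⟶ Y')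
    (hf : P f.left) (hg : P g.left) : P (f ⊗ₘ g).left := by
  rw [tensorHom_def, Over.comp_left]
  exact P.comp_mem _ _ (whiskerRight_left_of f Y hf) (whiskerLeft_left_of X' g hg)

end Transfer

/-! ### Actions on points -/

variable {G X Y T : Over S} [GrpObj G] (a : AlgGrp.Action G X)

@[reassoc (attr := simp)]
theorem act_one (x : T ⟶ X) : lift (1 : T ⟶ G) x ≫ a.act = x := by
  rw [Hom.one_def, ← lift_whiskerRight_assoc (toUnit T) x η[G], a.one_act, leftUnitor_hom, lift_snd]

@[reassoc (attr := simp)]
theorem act_η (x : T ⟶ X) : lift (toUnit T ≫ η[G]) x ≫ a.act = x := by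
  rw [← Hom.one_def]; exact act_one a x

@[reassoc]
theorem act_mul (g h : T ⟶ G) (x : T ⟶ X) :
    lift (g * h) x ≫ a.act = lift g (lift h x ≫ a.act) ≫ a.act := by
  rw [Hom.mul_def, ← lift_whiskerRight_assoc, a.mul_act, lift_lift_associator_hom_assoc,
    lift_whiskerLeft_assoc]

@[reassoc (attr := simp)]
theorem act_inv_act (g : T ⟶ G) (x : T ⟶ X) :
    lift g⁻¹ (lift g x ≫ a.act) ≫ a.act = x := by
  rw [← act_mul, inv_mul_cancel, act_one]

@[reassoc (attr := simp)]
theorem act_act_inv (g : T ⟶ G) (x : T ⟶ X) :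
    lift g (lift g⁻¹ x ≫ a.act) ≫ a.act = x := by
  rw [← act_mul, mul_inv_cancel, act_one]

theorem act_eq_iff (g : T ⟶ G) (x y : T ⟶ X) :
    lift g x ≫ a.act = y ↔ x = lift g⁻¹ y ≫ a.act := by
  constructor
  · rintro rfl; simp
  · rintro rfl; simp

theorem act_injective (g : T ⟶ G) {x y : T ⟶ X} (h : lift g x ≫ a.act = lift g y ≫ a.act) : x = y := by
  simpa using congr(lift g⁻¹ $h ≫ a.act)

/-- Two actions with the same action morphism are equal. -/
theorem action_ext {a b : AlgGrp.Action G X} (h : a.act = b.act) : a = b := by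
  cases a; cases b; cases h; rfl

/-- An action from its two laws on points. -/
noncomputable def actionMk (act : G ⊗ X ⟶ X) (h1 : ∀ (T : Over S) (x : T ⟶ X), lift (1 : T ⟶ G) x ≫ act = x)
    (h2 : ∀ (T : Over S) (g h : T ⟶ G) (x : T ⟶ X),
      lift (g * h) x ≫ act = lift g (lift h x ≫ act) ≫ act) :
    AlgGrp.Action G X where
  act := act
  one_act := by
    have := h1 (𝟙_ (Over S) ⊗ X) (snd _ _)
    rw [Hom.one_def, show (lift (toUnit (𝟙_ (Over S) ⊗ X) ≫ η[G]) (snd _ _)) = η[G] ▷ X from ?_] at this
    · rw [this, leftUnitor_hom]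
    · apply CartesianMonoidalCategory.hom_ext
      · rw [lift_fst, whiskerRight_fst, toUnit_unique (toUnit _) (fst _ _)]
      · rw [lift_snd, whiskerRight_snd]
  mul_act := by
    have h := h2 ((G ⊗ G) ⊗ X) (fst _ _ ≫ fst G G) (fst _ _ ≫ snd G G) (snd _ _)
    rw [Hom.mul_def, ← comp_lift, lift_fst_snd, Category.comp_id] at h
    have e1 : lift (fst (G ⊗ G) X ≫ μ[G]) (snd (G ⊗ G) X) = μ[G] ▷ X := by
      apply CartesianMonoidalCategory.hom_ext <;> simp
    rw [e1] at h
    rw [h, ← lift_whiskerLeft_assoc, ← lift_lift_associator_hom_assoc]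
    simp [← comp_lift]

/-! ### The shear isomorphism -/

/-- The automorphism `(g, x) ↦ (g, g • x)` of `G ⊗ X`. -/
noncomputable def shear : G ⊗ X ≅ G ⊗ X where
  hom := lift (fst G X) a.act
  inv := lift (fst G X) (lift (fst G X)⁻¹ (snd G X) ≫ a.act)
  hom_inv_id := by
    apply CartesianMonoidalCategory.hom_ext
    · simp
    · have h := act_inv_act a (fst G X) (snd G X)
      rw [lift_fst_snd, Category.id_comp] at h
      simp [comp_lift_assoc, GrpObj.comp_inv, h]
  inv_hom_id := by
    apply CartesianMonoidalCategory.hom_ext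
    · simp
    · simp [act_act_inv]

@[reassoc (attr := simp)]
theorem shear_hom_snd : (shear a).hom ≫ snd G X = a.act := lift_snd _ _

@[reassoc (attr := simp)]
theorem shear_hom_fst : (shear a).hom ≫ fst G X = fst G X := lift_fst _ _

/-- The action morphism inherits every base-change stable property of the structure morphism of `G`. -/
theorem act_left_of {P : MorphismProperty Scheme.{u}} [P.IsStableUnderBaseChange] (h : P G.hom) :
    P a.act.left := by
  have : IsIso (shear a).hom.left := ((Over.forget S).mapIso (shear a)).isIso_hom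
  rw [← shear_hom_snd a, Over.comp_left]
  refine (P.cancel_left_of_respectsIso _ _).mpr ?_
  exact snd_left_of X h

theorem act_surjective (h : Surjective G.hom) : Surjective a.act.left := act_left_of a h

/-- The automorphism `(h, x) ↦ (h, x)` swapped form: `(g, x) ↦ (g • x, x)` is the shear followed by projections. -/
theorem lift_act_snd : lift a.act (snd G X) = (shear a).hom ≫ lift (snd G X) (lift (fst G X)⁻¹ (snd G X) ≫ a.act) := by
  apply CartesianMonoidalCategory.hom_ext
  · simp
  · have h := act_inv_act a (fst G X) (snd G X)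
    rw [lift_fst_snd, Category.id_comp] at h
    simp [comp_lift_assoc, GrpObj.comp_inv, h]

/-- Translation by a rational point, an automorphism of `X`. -/
noncomputable def translate (g : 𝟙_ (Over S) ⟶ G) : X ≅ X where
  hom := lift (toUnit X ≫ g) (𝟙 X) ≫ a.act
  inv := lift (toUnit X ≫ g⁻¹) (𝟙 X) ≫ a.act
  hom_inv_id := by
    rw [comp_lift_assoc, Category.comp_id, ← Category.assoc _ (toUnit X),
      toUnit_unique (_ ≫ toUnit X) (toUnit X), GrpObj.comp_inv, act_inv_act]
  inv_hom_id := by
    rw [comp_lift_assoc, Category.comp_id, ← Category.assoc _ (toUnit X),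
      toUnit_unique (_ ≫ toUnit X) (toUnit X), GrpObj.comp_inv, act_act_inv]

theorem comp_translate_hom (g : 𝟙_ (Over S) ⟶ G) (x : T ⟶ X) :
    x ≫ (translate a g).hom = lift (toUnit T ≫ g) x ≫ a.act := by
  simp [translate, comp_lift_assoc]

theorem translate_one : (translate a (1 : 𝟙_ (Over S) ⟶ G)) = Iso.refl X := by
  ext1
  simp [translate, MonObj.comp_one]

theorem translate_mul (g h : 𝟙_ (Over S) ⟶ G) :
    (translate a (g * h)).hom = (translate a h).hom ≫ (translate a g).hom := by
  rw [comp_translate_hom]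
  simp [translate, MonObj.comp_mul, act_mul]

/-! ### Orbit maps -/

theorem comp_orbit (g : T ⟶ G) (o : 𝟙_ (Over S) ⟶ X) :
    g ≫ a.orbitMap o = lift g (toUnit T ≫ o) ≫ a.act := by
  rw [AlgGrp.Action.orbitMap, comp_lift_assoc, Category.comp_id, ← Category.assoc,
    toUnit_unique (g ≫ toUnit G) (toUnit T)]

theorem η_orbit (o : 𝟙_ (Over S) ⟶ X) : η[G] ≫ a.orbitMap o = o := by
  rw [comp_orbit, show toUnit (𝟙_ (Over S)) = 𝟙 _ from toUnit_unique _ _, Category.id_comp]
  simpa [Hom.one_def, show toUnit (𝟙_ (Over S)) = 𝟙 _ from toUnit_unique _ _] using act_one a o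

theorem mul_orbit (g h : T ⟶ G) (o : 𝟙_ (Over S) ⟶ X) :
    (g * h) ≫ a.orbitMap o = lift g (h ≫ a.orbitMap o) ≫ a.act := by
  rw [comp_orbit, comp_orbit, act_mul]

theorem orbit_equivariant (o : 𝟙_ (Over S) ⟶ X) :
    (G ◁ a.orbitMap o) ≫ a.act = μ[G] ≫ a.orbitMap o := by
  have h := mul_orbit a (fst G G) (snd G G) o
  rw [Hom.mul_def, lift_fst_snd, Category.id_comp] at h
  rw [h]
  congr 1

/-! ### The unit section and separatedness -/

variable (G)

theorem η_left_comp_hom : η[G].left ≫ G.hom = 𝟙 S := Over.w η[G]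

theorem isImmersion_η : IsImmersion η[G].left := by
  have : IsImmersion (η[G].left ≫ G.hom) := by
    rw [η_left_comp_hom]
    exact inferInstanceAs (IsImmersion (𝟙 S))
  exact IsImmersion.of_comp η[G].left G.hom

theorem isClosedImmersion_η [IsSeparated G.hom] : IsClosedImmersion η[G].left := by
  have : IsClosedImmersion (η[G].left ≫ G.hom) := by
    rw [η_left_comp_hom]
    exact inferInstanceAs (IsClosedImmersion (𝟙 S))
  exact IsClosedImmersion.of_comp η[G].left G.hom

theorem isPullback_div_η :
    IsPullback (toUnit G) (lift (𝟙 G) (𝟙 G)) η[G] (fst G G * (snd G G)⁻¹) := by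
  refine ⟨⟨?_⟩, ⟨PullbackCone.IsLimit.mk _ (fun s => s.snd ≫ fst G G) (fun s => toUnit_unique _ _)
    (fun s => ?_) (fun s m _ h₂ => ?_)⟩⟩
  · simp [MonObj.comp_mul, GrpObj.comp_inv, Hom.one_def]
  · have h := s.condition
    rw [MonObj.comp_mul, GrpObj.comp_inv, show s.fst ≫ η[G] = 1 by
      rw [Hom.one_def, toUnit_unique s.fst (toUnit _)]] at h
    apply CartesianMonoidalCategory.hom_ext
    · simp
    · simp only [comp_lift, Category.comp_id, lift_snd]
      exact mul_inv_eq_one.mp h.symm
  · simp [← h₂]

theorem diagonal_left_of {P : MorphismProperty Scheme.{u}} [P.IsStableUnderBaseChange] (h : P η[G].left) :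
    P (pullback.diagonal G.hom) := by
  have h2 : IsPullback (toUnit G).left (lift (𝟙 G) (𝟙 G)).left η[G].left
      (fst G G * (snd G G)⁻¹).left := (isPullback_div_η G).map (Over.forget S)
  exact P.of_isPullback h2 h

theorem isSeparated_of_isClosedImmersion_η [IsClosedImmersion η[G].left] : IsSeparated G.hom :=
  ⟨diagonal_left_of G (P := @IsClosedImmersion) inferInstance⟩

theorem isSeparated_iff_isClosedImmersion_η : IsSeparated G.hom ↔ IsClosedImmersion η[G].left :=
  ⟨fun _ => isClosedImmersion_η G, fun _ => isSeparated_of_isClosedImmersion_η G⟩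

/-- A group scheme over a field is separated. -/
theorem isSeparated_of_field {k : Type u} [Field k] (G : Over (Spec (CommRingCat.of k))) [GrpObj G] :
    IsSeparated G.hom := by
  have : IsClosedImmersion η[G].left := isClosedImmersion_of_comp_eq_id
    (Y := Spec (CommRingCat.of k)) G.hom η[G].left (η_left_comp_hom G)
  exact isSeparated_of_isClosedImmersion_η G

end Groth.Agent.Lib.GrpSch
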