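import Groth.Agent.S1537
import Groth.Prelude.Def_AlgGrp
import Groth.Agent.Lib.GrpSch.Basic
import Mathlib.AlgebraicGeometry.Morphisms.Etale
import Mathlib.AlgebraicGeometry.AlgClosed.Basic

/-!
# Schemes with a section and connected fibres are geometrically connected;
open subsets of connected group schemes which contain the identity and are stable under products.
-/

set_option autoImplicit false
universe u
open CategoryTheory CategoryTheory.Limits MonoidalCategory CartesianMonoidalCategory MonObj GrpObj AlgebraicGeometry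

namespace Groth.Agent.Lib.GrpSch

/-- A connected scheme over a field with a rational point is geometrically connected. -/
theorem geometricallyConnected_of_rationalPoint {k : Type u} [Field k] {X : Scheme.{u}} [ConnectedSpace X]
    (f : X ⟶ Spec (CommRingCat.of k)) (s : Spec (CommRingCat.of k) ⟶ X) (hs : s ≫ f = 𝟙 _) :
    GeometricallyConnected f := by
  let _ : X.Over (Spec (CommRingCat.of k)) := ⟨f⟩
  obtain ⟨x, hx⟩ : ∃ x, x = s (IsLocalRing.closedPoint k) := ⟨_, rfl⟩
  subst hx
  refine Groth.Agent.S1537.result k X (s (IsLocalRing.closedPoint k)) fun a _ => ?_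
  let ψ : X.residueField (s (IsLocalRing.closedPoint k)) ⟶ CommRingCat.of k :=
    Scheme.descResidueField (Scheme.stalkClosedPointTo s)
  have hψ : Spec.map ψ ≫ X.fromSpecResidueField _ = s :=
    Scheme.descResidueField_stalkClosedPointTo_fromSpecResidueField _ _ _
  have h1 : Spec.map (CommRingCat.ofHom (Curv2.resMap k X (s (IsLocalRing.closedPoint k))) ≫ ψ) = Spec.map (𝟙 _) := by
    rw [Spec.map_id, Spec.map_comp, Groth.Agent.Lib.GeomConn.Residue.specMap_resMap k X _,
      ← Category.assoc, hψ]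
    exact hs
  have h2 : ∀ c, ψ.hom (Curv2.resMap k X (s (IsLocalRing.closedPoint k)) c) = c := fun c =>
    congr($(Spec.map_injective h1).hom c)
  exact ⟨ψ.hom a, ψ.hom.injective (h2 _)⟩

/-- A morphism with a section and connected fibres is geometrically connected. -/
theorem geometricallyConnected_of_section {X S : Scheme.{u}} (f : X ⟶ S) (σ : S ⟶ X) (hσ : σ ≫ f = 𝟙 S)
    (hconn : ∀ s : S, ConnectedSpace (f.fiber s)) : GeometricallyConnected f := by
  rw [GeometricallyConnected.iff_geometricallyConnected_fiber]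
  intro s
  have := hconn s
  exact geometricallyConnected_of_rationalPoint (f.fiberToSpecResidueField s)
    (pullback.lift (S.fromSpecResidueField s ≫ σ) (𝟙 _) (((Category.assoc _ _ _).trans ((congrArg (_ ≫ ·) hσ).trans (Category.comp_id _))).trans (Category.id_comp _).symm))
    (pullback.lift_snd _ _ _)

theorem whiskerLeft_lift {S : Scheme.{u}} {G T T' : Over S} (t : T' ⟶ T) (g : T' ⟶ G) :
    lift g (𝟙 T') ≫ (G ◁ t) = lift g t := by
  ext <;> simp

/-- In a connected group scheme over an algebraically closed field, an open set containing the identity and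
stable under products and quotients of rational points is everything. -/
theorem open_eq_univ_of_connected {S : Scheme.{u}} {G : Over S} [GrpObj G] [LocallyOfFiniteType G.hom]
    {K : Type u} [Field K] [IsAlgClosed K] (p : Spec (CommRingCat.of K) ⟶ S)
    [ConnectedSpace (G ⊗ Over.mk p).left]
    (U : Set (G ⊗ Over.mk p).left) (hU : IsOpen U)
    (hone : ∀ z, (lift (1 : Over.mk p ⟶ G) (𝟙 _)).left z ∈ U)
    (hmul : ∀ g h : Over.mk p ⟶ G, (∀ z, (lift g (𝟙 _)).left z ∈ U) → (∀ z, (lift h (𝟙 _)).left z ∈ U) →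
      ∀ z, (lift (g * h) (𝟙 _)).left z ∈ U)
    (hinv : ∀ g : Over.mk p ⟶ G, (∀ z, (lift g (𝟙 _)).left z ∈ U) → ∀ z, (lift g⁻¹ (𝟙 _)).left z ∈ U) :
    U = Set.univ := by
  let T₁ := Over.mk p
  let π : (G ⊗ T₁).left ⟶ Spec (CommRingCat.of K) := (snd G T₁).left
  have : LocallyOfFiniteType π := snd_left_of (P := @LocallyOfFiniteType) T₁ ‹_›
  have : JacobsonSpace (G ⊗ T₁).left := LocallyOfFiniteType.jacobsonSpace π
  have hpt : ∀ c ∈ closedPoints (G ⊗ T₁).left, ∃ g : T₁ ⟶ G, ∀ z, (lift g (𝟙 T₁)).left z = c := by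
    intro c hc
    let q : T₁ ⟶ G ⊗ T₁ := Over.homMk (pointOfClosedPoint π c hc) (by
      rw [← Over.w (snd G T₁), ← Category.assoc]
      exact (congrArg (· ≫ p) (pointOfClosedPoint_comp π c hc)).trans (Category.id_comp p))
    refine ⟨q ≫ fst G T₁, fun z => ?_⟩
    have : q = lift (q ≫ fst G T₁) (𝟙 _) := by
      refine CartesianMonoidalCategory.hom_ext _ _ (by simp) (Over.OverMorphism.ext ?_)
      rw [lift_snd, Over.comp_left]
      exact pointOfClosedPoint_comp π c hc
    rw [← this]
    exact pointOfClosedPoint_apply π c hc z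
  let mg : (T₁ ⟶ G) → (G ⊗ T₁ ⟶ G ⊗ T₁) := fun g => lift ((snd G T₁ ≫ g) * fst G T₁) (snd G T₁)
  have hmg : ∀ g h : T₁ ⟶ G, lift h (𝟙 T₁) ≫ mg g = lift (g * h) (𝟙 T₁) := fun g h => by
    simp only [mg, comp_lift, MonObj.comp_mul, lift_snd_assoc, lift_fst, lift_snd, Category.id_comp]
  have hmg' : ∀ g h : T₁ ⟶ G, ∀ z, (mg g).left ((lift h (𝟙 T₁)).left z) = (lift (g * h) (𝟙 T₁)).left z :=
    fun g h z => by rw [← Scheme.Hom.comp_apply, ← Over.comp_left, hmg]
  obtain ⟨z₀⟩ : Nonempty ↥(Spec (CommRingCat.of K)) := inferInstance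
  have hall : ∀ (g : T₁ ⟶ G), (lift g (𝟙 T₁)).left z₀ ∈ U → ∀ z, (lift g (𝟙 T₁)).left z ∈ U := fun g hg z => by
    rwa [Subsingleton.elim (α := Spec (CommRingCat.of K)) z z₀]
  -- the union of the translates of `U` by rational points outside of `U`
  let V : Set (G ⊗ T₁).left := {w | ∃ g : T₁ ⟶ G, (lift g (𝟙 T₁)).left z₀ ∉ U ∧ (mg g⁻¹).left w ∈ U}
  have hV : IsOpen V := by
    have : V = ⋃ g ∈ {g : T₁ ⟶ G | (lift g (𝟙 T₁)).left z₀ ∉ U}, (mg g⁻¹).left ⁻¹' U := by
      ext w; simp [V]
    rw [this]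
    exact isOpen_biUnion fun g _ => hU.preimage (mg g⁻¹).left.continuous
  have hdisj : U ∩ V = ∅ := by
    by_contra hne
    obtain ⟨c, ⟨hcU, g, hg, hcg⟩, hc⟩ := nonempty_inter_closedPoints (Set.nonempty_iff_ne_empty.2 hne)
      (hU.inter hV).isLocallyClosed
    obtain ⟨h, rfl⟩ : ∃ h : T₁ ⟶ G, (lift h (𝟙 T₁)).left z₀ = c := by
      obtain ⟨h, hh⟩ := hpt c hc; exact ⟨h, hh z₀⟩
    rw [hmg'] at hcg
    refine hg ?_
    have := hmul _ _ (hall h hcU) (hinv _ (hall _ hcg)) z₀
    rwa [_root_.mul_inv_rev, _root_.inv_inv, ← _root_.mul_assoc, _root_.mul_inv_cancel, _root_.one_mul] at this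
  have hcov : U ∪ V = Set.univ := by
    by_contra hne
    obtain ⟨c, hcn, hc⟩ := nonempty_inter_closedPoints
      (Set.nonempty_compl.2 hne) (hU.union hV).isClosed_compl.isLocallyClosed
    obtain ⟨g, hg⟩ := hpt c hc
    refine hcn ?_
    by_cases hgU : (lift g (𝟙 T₁)).left z₀ ∈ U
    · exact Or.inl (hg z₀ ▸ hgU)
    · refine Or.inr ⟨g, hgU, ?_⟩
      rw [← hg z₀, hmg', _root_.inv_mul_cancel]
      exact hone _
  have hclopen : IsClopen U := by
    refine ⟨⟨?_⟩, hU⟩
    have : Uᶜ = V := Set.Subset.antisymm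
      (fun w hw => (hcov.symm ▸ Set.mem_univ w : w ∈ U ∪ V).resolve_left hw)
      (fun w hw hwU => (Set.eq_empty_iff_forall_notMem.1 hdisj) w ⟨hwU, hw⟩)
    rw [this]; exact hV
  exact hclopen.eq_univ ⟨_, hone z₀⟩

/-- If two morphisms into the source of a formally unramified morphism locally of finite type agree on the target,
the set of points where they meet the diagonal detects equality. -/
theorem comp_eq_iff_forall_mem_diagonal {W X Y P : Scheme.{u}} (f : X ⟶ Y) [FormallyUnramified f]
    [LocallyOfFiniteType f] (u v : W ⟶ X) (h : u ≫ f = v ≫ f) (r : P ⟶ W) :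
    r ≫ u = r ≫ v ↔ ∀ z, pullback.lift u v h (r z) ∈ Set.range (pullback.diagonal f) := by
  refine ⟨fun e z => ⟨(r ≫ u) z, ?_⟩, fun e => ?_⟩
  · rw [← Scheme.Hom.comp_apply, ← Scheme.Hom.comp_apply]
    congr 1
    have : (r ≫ u) ≫ pullback.diagonal f = r ≫ pullback.lift u v h := by
      apply pullback.hom_ext
      · simp only [Category.assoc, pullback.lift_fst, pullback.diagonal_fst, Category.comp_id]
      · simp only [Category.assoc, pullback.lift_snd, pullback.diagonal_snd, Category.comp_id, e]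
    rw [this]
  · have hsub : Set.range (r ≫ pullback.lift u v h) ⊆ Set.range (pullback.diagonal f) := by
      rintro _ ⟨z, rfl⟩
      rw [Scheme.Hom.comp_apply]
      exact e z
    have hl := IsOpenImmersion.lift_fac (pullback.diagonal f) (r ≫ pullback.lift u v h) hsub
    have h1 := congrArg (· ≫ pullback.fst f f) hl
    have h2 := congrArg (· ≫ pullback.snd f f) hl
    simp only [Category.assoc, pullback.diagonal_fst, pullback.diagonal_snd, pullback.lift_fst,
      pullback.lift_snd, Category.comp_id] at h1 h2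
    exact h1.symm.trans h2

end Groth.Agent.Lib.GrpSch
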