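import Mathlib.AlgebraicGeometry.SpreadingOut
import Mathlib.AlgebraicGeometry.Morphisms.FlatMono
import Mathlib.AlgebraicGeometry.Morphisms.Immersion
import Mathlib.AlgebraicGeometry.Properties
import Mathlib.AlgebraicGeometry.Restrict

/-!
# A monomorphism of finite type is an isomorphism near a generic point of a reduced target
-/

universe u

open CategoryTheory Limits AlgebraicGeometry

namespace Groth.Agent.Lib.GrpSch

theorem flat_of_isField {X : Scheme.{u}} {R : CommRingCat.{u}} (hR : IsField R) (f : X ⟶ Spec R) : Flat f := by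
  let _ : Field R := hR.toField
  rw [HasRingHomProperty.iff_appLE (P := @Flat)]
  intro U V e
  rcases subsingleton_or_nontrivial Γ(X, V.1) with hV | hV
  · algebraize [(f.appLE U.1 V.1 e).hom]
    show Module.Flat _ _
    infer_instance
  · have hU : U.1 = ⊤ := by
      obtain ⟨v⟩ : Nonempty (V.1 : X.Opens) := by
        by_contra hempty
        have : (V.1 : X.Opens) = ⊥ := by
          ext x; exact ⟨fun hx => hempty ⟨⟨x, hx⟩⟩, fun h => h.elim⟩
        rw [this] at hV
        exact not_subsingleton Γ(X, ⊥) inferInstance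
      have : Subsingleton ↥(Spec R) := inferInstanceAs (Subsingleton (PrimeSpectrum R))
      ext y
      simp only [TopologicalSpace.Opens.coe_top, Set.mem_univ, iff_true]
      exact Subsingleton.elim (f v.1) y ▸ e v.2
    have hf : IsField Γ(Spec R, U.1) := by
      rw [hU]
      exact (Scheme.ΓSpecIso R).commRingCatIsoToRingEquiv.toMulEquiv.isField hR
    let _ := hf.toField
    algebraize [(f.appLE U.1 V.1 e).hom]
    show Module.Flat _ _
    infer_instance

/-- Over a point `η` with `𝒪_{Y,η}` a field and in the image of a monomorphism `f` locally of finite type,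
`f` is an isomorphism over a neighbourhood of `η`. -/
theorem exists_isIso_restrict_of_mono {X Y : Scheme.{u}} (f : X ⟶ Y) [Mono f] [LocallyOfFiniteType f]
    (η : Y) [Y.IsGermInjectiveAt η] (hfield : IsField (Y.presheaf.stalk η)) (hη : η ∈ Set.range f) :
    ∃ U : Y.Opens, η ∈ U ∧ IsIso (f ∣_ U) := by
  let p := pullback.snd f (Y.fromSpecStalk η)
  have : Mono p := inferInstanceAs (Mono (pullback.snd f (Y.fromSpecStalk η)))
  have : Subsingleton ↥(Spec (Y.presheaf.stalk η)) :=
    let _ := hfield.toField
    inferInstanceAs (Subsingleton (PrimeSpectrum (Y.presheaf.stalk η)))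
  have hs : Surjective p := by
    refine ⟨fun z => ?_⟩
    obtain ⟨x, hx⟩ := hη
    have hz : f x = Y.fromSpecStalk η z := by
      rw [hx, Subsingleton.elim z (IsLocalRing.closedPoint _), Scheme.fromSpecStalk_closedPoint]
    obtain ⟨w, -, hw⟩ := Scheme.Pullback.exists_preimage_pullback (f := f) x z hz
    exact ⟨w, hw⟩
  have : Flat p := flat_of_isField hfield p
  have hsub : Subsingleton ↥(pullback f (Y.fromSpecStalk η)) :=
    ⟨fun a b => p.injective (Subsingleton.elim _ _)⟩
  have : QuasiCompact p := ⟨fun U _ _ => (Set.toFinite _).isCompact⟩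
  have : IsIso p := Flat.isIso_of_surjective_of_mono p
  let φ : Spec (Y.presheaf.stalk η) ⟶ X := inv p ≫ pullback.fst f (Y.fromSpecStalk η)
  have hφ : φ ≫ f = Y.fromSpecStalk η ≫ 𝟙 Y := by
    simp [φ, pullback.condition, p]
  obtain ⟨U, hηU, s, -, hs⟩ := spread_out_of_isGermInjective' (𝟙 Y) f φ hφ
  rw [Category.comp_id] at hs
  refine ⟨U, hηU, ?_⟩
  have hsq := (isPullback_morphismRestrict f U).flip
  let t : (U : Scheme.{u}) ⟶ f ⁻¹ᵁ U := hsq.lift s (𝟙 _) (by rw [hs, Category.id_comp])
  have ht : t ≫ (f ∣_ U) = 𝟙 _ := hsq.lift_snd _ _ _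
  have : Mono (f ∣_ U) := MorphismProperty.of_isPullback (P := MorphismProperty.monomorphisms Scheme.{u}) hsq
    (show Mono f from inferInstance)
  refine ⟨⟨t, ?_, ht⟩⟩
  rw [← cancel_mono (f ∣_ U), Category.assoc, ht, Category.comp_id, Category.id_comp]

end Groth.Agent.Lib.GrpSch
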