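import Groth.Agent.Lib.GrpSch.BaseChange

/-!
# Translations, restriction along automorphisms, spreading properties over all closed points

`regularAction G`: `G` acting on itself by left multiplication; `restrict_preimage_of_isPullback`;
`hom_translate_comm`; `closedPoint_of_rational`.
-/

universe u

open CategoryTheory Limits MonoidalCategory CartesianMonoidalCategory MonObj AlgebraicGeometry

namespace Groth.Agent.Lib.GrpSch

/-- A group scheme acting on itself by left multiplication. -/
noncomputable def regularAction {S : Scheme.{u}} (G : Over S) [GrpObj G] : AlgGrp.Action G G where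
  act := μ[G]
  one_act := MonObj.one_mul G
  mul_act := MonObj.mul_assoc G

theorem restrict_preimage_of_isPullback {P : MorphismProperty Scheme.{u}} [P.IsStableUnderBaseChange]
    {X X' Y Y' : Scheme.{u}} {t : X' ⟶ X} {f' : X' ⟶ Y'} {f : X ⟶ Y} {b : Y' ⟶ Y}
    (h : IsPullback t f' f b) (U : Y.Opens) (hU : P (f ∣_ U)) : P (f' ∣_ b ⁻¹ᵁ U) := by
  have h1 : IsPullback ((f' ⁻¹ᵁ b ⁻¹ᵁ U).ι ≫ t) (f' ∣_ b ⁻¹ᵁ U) f ((b ⁻¹ᵁ U).ι ≫ b) :=
    (isPullback_morphismRestrict f' (b ⁻¹ᵁ U)).flip.paste_horiz h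
  have he : (b ∣_ U) ≫ U.ι = (b ⁻¹ᵁ U).ι ≫ b := morphismRestrict_ι b U
  rw [← he] at h1
  have hw : ((f' ⁻¹ᵁ b ⁻¹ᵁ U).ι ≫ t) ≫ f = ((f' ∣_ b ⁻¹ᵁ U) ≫ (b ∣_ U)) ≫ U.ι := by
    rw [h1.w, Category.assoc]
  let m := (isPullback_morphismRestrict f U).flip.lift _ _ hw
  have h2 : IsPullback m (f' ∣_ b ⁻¹ᵁ U) (f ∣_ U) (b ∣_ U) := by
    refine IsPullback.of_right ?_ ((isPullback_morphismRestrict f U).flip.lift_snd _ _ hw)
      (isPullback_morphismRestrict f U).flip
    rw [show m ≫ (f ⁻¹ᵁ U).ι = _ from (isPullback_morphismRestrict f U).flip.lift_fst _ _ hw]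
    exact h1
  exact P.of_isPullback h2 hU

theorem rational_isClosed {k : Type u} [Field k] {X : Over (Spec (CommRingCat.of k))}
    (p : 𝟙_ (Over (Spec (CommRingCat.of k))) ⟶ X) (s : ↥(Spec (CommRingCat.of k))) :
    IsClosed ({p.left s} : Set X.left) := by
  have hp : p.left ≫ X.hom = 𝟙 _ := Over.w p
  have : IsClosedImmersion p.left := isClosedImmersion_of_comp_eq_id (Y := Spec (CommRingCat.of k)) X.hom p.left hp
  have h := p.left.isClosedEmbedding.isClosed_range
  have : Nonempty ↥(𝟙_ (Over (Spec (CommRingCat.of k)))).left := ⟨s⟩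
  rwa [(Set.range_eq_singleton_iff (y := p.left s)).2] at h
  exact fun x => congrArg p.left (Subsingleton.elim (α := Spec (CommRingCat.of k)) x s)

variable {k : Type u} [Field k] {G H : Over (Spec (CommRingCat.of k))} [GrpObj G] [GrpObj H]

theorem translate_regular_apply (g p : 𝟙_ (Over (Spec (CommRingCat.of k))) ⟶ G) :
    p ≫ (translate (regularAction G) g).hom = g * p := by
  rw [comp_translate_hom, show toUnit (𝟙_ (Over (Spec (CommRingCat.of k)))) = 𝟙 _ from toUnit_unique _ _,
    Category.id_comp, Hom.mul_def]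
  rfl

theorem hom_translate_comm (f : G ⟶ H) [IsMonHom f] (g : 𝟙_ (Over (Spec (CommRingCat.of k))) ⟶ G) :
    (translate (regularAction G) g).hom ≫ f = f ≫ (translate (regularAction H) (g ≫ f)).hom := by
  rw [comp_translate_hom]
  change (lift (toUnit G ≫ g) (𝟙 G) ≫ μ[G]) ≫ f = _ ≫ μ[H]
  rw [← Hom.mul_def, MonObj.mul_comp, ← Hom.mul_def, Category.id_comp, Category.assoc]

theorem exists_lift_point [IsAlgClosed k] {X Y : Over (Spec (CommRingCat.of k))} [LocallyOfFiniteType X.hom]
    [LocallyOfFiniteType Y.hom] [QuasiCompact X.hom] (f : X ⟶ Y) [Surjective f.left]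
    (y : 𝟙_ (Over (Spec (CommRingCat.of k))) ⟶ Y) : ∃ x, x ≫ f = y := by
  obtain ⟨s⟩ : Nonempty ↥(Spec (CommRingCat.of k)) := inferInstance
  have hW : IsClosed (f.left ⁻¹' {y.left s}) := (rational_isClosed y s).preimage f.left.continuous
  obtain ⟨x, hx⟩ := exists_point_mem hW ((Set.singleton_nonempty _).preimage f.left.surjective)
  refine ⟨x, Over.OverMorphism.ext (ext_of_apply_closedPoint_eq Y.hom (Over.w _) (Over.w y) ?_)⟩
  exact (hx ⟨IsLocalRing.closedPoint k, rfl⟩).trans
    (congrArg y.left (Subsingleton.elim (α := Spec (CommRingCat.of k)) _ _))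

theorem exists_nhd_forall [IsAlgClosed k] [LocallyOfFiniteType H.hom] {P : Set H.left → Prop}
    (U : H.left.Opens) (hne : (U : Set H.left).Nonempty) (y : H.left)
    (htr : ∀ h : 𝟙_ (Over (Spec (CommRingCat.of k))) ⟶ H,
      P ((translate (regularAction H) h).hom.left ⁻¹' U)) :
    ∃ c, y ⤳ c ∧ ∃ W : Set H.left, c ∈ W ∧ P W := by
  have : JacobsonSpace H.left := LocallyOfFiniteType.jacobsonSpace H.hom
  obtain ⟨c, hc, hcc⟩ := nonempty_inter_closedPoints (X := H.left) (Z := closure {y})
    ⟨y, subset_closure rfl⟩ isClosed_closure.isLocallyClosed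
  obtain ⟨v, hv, hvc⟩ := nonempty_inter_closedPoints hne U.2.isLocallyClosed
  let pc : 𝟙_ (Over (Spec (CommRingCat.of k))) ⟶ H :=
    Over.homMk (pointOfClosedPoint H.hom c hcc) (pointOfClosedPoint_comp H.hom c hcc)
  let pv : 𝟙_ (Over (Spec (CommRingCat.of k))) ⟶ H :=
    Over.homMk (pointOfClosedPoint H.hom v hvc) (pointOfClosedPoint_comp H.hom v hvc)
  refine ⟨c, specializes_iff_mem_closure.2 hc, _, ?_, htr (pv * pc⁻¹)⟩
  change (translate (regularAction H) (pv * pc⁻¹)).hom.left c ∈ U
  obtain ⟨s⟩ : Nonempty ↥(Spec (CommRingCat.of k)) := inferInstance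
  have e1 : pc.left s = c := pointOfClosedPoint_apply H.hom c hcc s
  have e2 : pv.left s = v := pointOfClosedPoint_apply H.hom v hvc s
  have e3 : pc ≫ (translate (regularAction H) (pv * pc⁻¹)).hom = pv := by
    rw [translate_regular_apply, inv_mul_cancel_right]
  rw [← e1, ← Scheme.Hom.comp_apply, ← Over.comp_left, e3, e2]
  exact hv

theorem forall_translate_isPullback (f : G ⟶ H) [IsMonHom f] (g : 𝟙_ (Over (Spec (CommRingCat.of k))) ⟶ G) :
    IsPullback (translate (regularAction G) g).hom.left f.left f.left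
      (translate (regularAction H) (g ≫ f)).hom.left := by
  have : IsIso (translate (regularAction G) g).hom.left := ((Over.forget _).mapIso (translate _ g)).isIso_hom
  have : IsIso (translate (regularAction H) (g ≫ f)).hom.left :=
    ((Over.forget _).mapIso (translate _ (g ≫ f))).isIso_hom
  exact IsPullback.of_horiz_isIso ⟨by rw [← Over.comp_left, ← Over.comp_left, hom_translate_comm]⟩

/-- For a homomorphism surjective on rational points, a property local on the target which holds over a
nonempty open holds everywhere. -/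
theorem forall_of_open_of_surjective [IsAlgClosed k] [LocallyOfFiniteType G.hom] [QuasiCompact G.hom]
    [LocallyOfFiniteType H.hom] (f : G ⟶ H) [IsMonHom f] [Surjective f.left]
    {P : MorphismProperty Scheme.{u}} [P.IsStableUnderBaseChange] [IsZariskiLocalAtTarget P]
    (U : H.left.Opens) (hne : (U : Set H.left).Nonempty) (hU : P (f.left ∣_ U)) : P f.left := by
  refine IsZariskiLocalAtTarget.of_forall_exists_morphismRestrict fun y => ?_
  obtain ⟨c, hyc, W, hcW, W', hW', hPW⟩ := exists_nhd_forall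
    (P := fun W => ∃ W' : H.left.Opens, (W' : Set H.left) = W ∧ P (f.left ∣_ W')) U hne y fun h => by
      obtain ⟨g, rfl⟩ := exists_lift_point f h
      exact ⟨_, rfl, restrict_preimage_of_isPullback (forall_translate_isPullback f g) U hU⟩
  subst hW'
  exact ⟨W', hyc.mem_open W'.2 hcW, hPW⟩

end Groth.Agent.Lib.GrpSch
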