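import Groth.Agent.Lib.Henselian.EtaleHom
import Groth.Agent.Lib.GrpSch.Basic
import Mathlib.AlgebraicGeometry.Morphisms.Smooth
import Mathlib.AlgebraicGeometry.Properties
import Mathlib.RingTheory.RingHom.StandardSmooth
import Mathlib.Algebra.MvPolynomial.Funext
import Mathlib.RingTheory.Spectrum.Prime.Chevalley
import Mathlib.FieldTheory.IsSepClosed

/-!
# Nonempty smooth schemes over separably closed fields have rational points
-/

universe u

open CategoryTheory AlgebraicGeometry TensorProduct

namespace Groth.Agent.Lib.GrpSch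

theorem infinite_of_isSepClosed (k : Type u) [Field k] [IsSepClosed k] : Infinite k := by
  rcases finite_or_infinite k with hk | hk
  · have : PerfectField k := inferInstance
    have : IsAlgClosed k := inferInstance
    exact inferInstance
  · exact hk

theorem exists_algHom_of_etale_mvPolynomial {k : Type u} [Field k] [IsSepClosed k] {n : ℕ} {B : Type u}
    [CommRing B] [Nontrivial B] [Algebra (MvPolynomial (Fin n) k) B] [Algebra k B]
    [IsScalarTower k (MvPolynomial (Fin n) k) B] [Algebra.Etale (MvPolynomial (Fin n) k) B] :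
    Nonempty (B →ₐ[k] k) := by
  let P := MvPolynomial (Fin n) k
  have := infinite_of_isSepClosed k
  obtain ⟨q⟩ : Nonempty (PrimeSpectrum B) := inferInstance
  have hopen : IsOpenMap (PrimeSpectrum.comap (algebraMap P B)) :=
    PrimeSpectrum.isOpenMap_comap_of_hasGoingDown_of_finitePresentation
  obtain ⟨_, ⟨h, rfl⟩, hq, hsub⟩ := PrimeSpectrum.isTopologicalBasis_basic_opens.exists_subset_of_mem_open
    (Set.mem_range_self q) hopen.isOpen_range
  have hh : h ≠ 0 := fun h0 => by
    rw [h0] at hq
    exact hq (Submodule.zero_mem _)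
  obtain ⟨x, hx⟩ : ∃ x, MvPolynomial.eval x h ≠ 0 := by
    by_contra hc
    push Not at hc
    exact hh (MvPolynomial.funext fun x => by rw [hc x, map_zero])
  let ev : P →+* k := MvPolynomial.eval x
  have hmem : (⟨RingHom.ker ev, RingHom.ker_isPrime ev⟩ : PrimeSpectrum P) ∈
      (PrimeSpectrum.basicOpen h : Set (PrimeSpectrum P)) := hx
  obtain ⟨r, hr⟩ := hsub hmem
  have hr' : r.asIdeal.comap (algebraMap P B) = RingHom.ker ev := congrArg PrimeSpectrum.asIdeal hr
  let _ : Algebra P k := ev.toAlgebra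
  have : IsScalarTower k P k := IsScalarTower.of_algebraMap_eq fun c => (MvPolynomial.eval_C (f := x) c).symm
  let E := k ⊗[P] B
  have : Algebra.Etale k E := inferInstance
  have hne : Nontrivial E := by
    let L := r.asIdeal.ResidueField
    let ψ : B →ₐ[P] L := IsScalarTower.toAlgHom P B L
    have hker : ∀ p : P, ev p = 0 → algebraMap P L p = 0 := fun p hp => by
      rw [IsScalarTower.algebraMap_apply P B L, ← RingHom.mem_ker, Ideal.ker_algebraMap_residueField]
      have : p ∈ r.asIdeal.comap (algebraMap P B) := by rw [hr']; exact hp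
      exact this
    let φ₀ : k →+* L := (algebraMap P L).comp MvPolynomial.C
    let φ : k →ₐ[P] L := ⟨φ₀, fun p => by
      change algebraMap P L (MvPolynomial.C (ev p)) = algebraMap P L p
      rw [← sub_eq_zero, ← map_sub]
      exact hker _ (by rw [map_sub]; change MvPolynomial.eval x (MvPolynomial.C (ev p)) - ev p = 0; rw [MvPolynomial.eval_C, sub_self])⟩
    exact (Algebra.TensorProduct.lift φ ψ (fun _ _ => Commute.all _ _)).toRingHom.domain_nontrivial
  obtain ⟨m, hm⟩ := Ideal.exists_maximal E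
  let σ : E →ₐ[k] E ⧸ m := Ideal.Quotient.mkₐ k m
  let _ : Field (E ⧸ m) := Ideal.Quotient.field m
  have hsurj : Function.Surjective (algebraMap k (E ⧸ m)) := fun y => by
    obtain ⟨z, rfl⟩ := Ideal.Quotient.mk_surjective y
    exact Groth.Agent.Lib.Henselian.EtaleHom.mem_range_of_isSepClosed σ z
  let e : k ≃ₐ[k] E ⧸ m :=
    AlgEquiv.ofBijective (Algebra.ofId k (E ⧸ m)) ⟨(algebraMap k (E ⧸ m)).injective, hsurj⟩
  exact ⟨(e.symm.toAlgHom.comp σ).comp
    ((Algebra.TensorProduct.includeRight : B →ₐ[P] E).restrictScalars k)⟩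

/-- A nonempty smooth scheme over a separably closed field has a rational point. -/
theorem exists_section_of_smooth {X : Scheme.{u}} {k : Type u} [Field k] [IsSepClosed k] [Nonempty X]
    (f : X ⟶ Spec (CommRingCat.of k)) [Smooth f] : ∃ s, s ≫ f = 𝟙 _ := by
  obtain ⟨x⟩ := ‹Nonempty X›
  obtain ⟨U, hU, V, hV, hxV, e, hstd⟩ := Smooth.exists_isStandardSmooth f x
  have hUtop : U = ⊤ := by
    ext y
    simp only [TopologicalSpace.Opens.coe_top, Set.mem_univ, iff_true]
    exact Subsingleton.elim (f x) y ▸ e hxV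
  subst hUtop
  let σ := Scheme.ΓSpecIso (CommRingCat.of k)
  let φ : CommRingCat.of k ⟶ Γ(X, V) := σ.inv ≫ f.appLE ⊤ V e
  have hφ : φ.hom.IsStandardSmooth := by
    have := RingHom.isStandardSmooth_respectsIso.2 (f.appLE ⊤ V e).hom σ.symm.commRingCatIsoToRingEquiv hstd
    exact this
  obtain ⟨n, g, hgC, hg⟩ := hφ.exists_etale_mvPolynomial
  let _ : Algebra k Γ(X, V) := φ.hom.toAlgebra
  let _ : Algebra (MvPolynomial (Fin n) k) Γ(X, V) := g.toAlgebra
  have : IsScalarTower k (MvPolynomial (Fin n) k) Γ(X, V) :=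
    IsScalarTower.of_algebraMap_eq fun c => (RingHom.congr_fun hgC c).symm
  have : Algebra.Etale (MvPolynomial (Fin n) k) Γ(X, V) := hg
  have : Nontrivial Γ(X, V) := by
    have : Nonempty (Spec Γ(X, V)) := ⟨hV.primeIdealOf ⟨x, hxV⟩⟩
    exact (PrimeSpectrum.nonempty_iff_nontrivial).1 this
  obtain ⟨χ⟩ := exists_algHom_of_etale_mvPolynomial (k := k) (n := n) (B := Γ(X, V))
  refine ⟨Spec.map (CommRingCat.ofHom χ.toRingHom) ≫ hV.fromSpec, ?_⟩
  have h1 : hV.fromSpec ≫ f = Spec.map φ := by
    rw [← (isAffineOpen_top (Spec (CommRingCat.of k))).SpecMap_appLE_fromSpec f hV e]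
    simp [φ, σ, IsAffineOpen.fromSpec_top, Scheme.isoSpec_Spec_inv, ← Spec.map_comp]
  rw [Category.assoc, h1, ← Spec.map_comp, ← Spec.map_id]
  congr 1
  ext c
  exact χ.commutes c

end Groth.Agent.Lib.GrpSch
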