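import Groth.Agent.Lib.Dim.Local
import Mathlib.AlgebraicGeometry.Morphisms.FiniteType
import Mathlib.AlgebraicGeometry.Noetherian
import Mathlib.AlgebraicGeometry.AffineScheme
import Mathlib.Topology.KrullDimension

/-!
# Dimension of a locally closed set and of its boundary

For `X` of finite type over a field, a closed `C` and `O = U ∩ C` with `U` open such that every point of `C` is a
specialization of a point of `O`: `dim (C \ O) + 1 ≤ dim O` and these are finite.
-/

universe u

open CategoryTheory AlgebraicGeometry TopologicalSpace Topology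
open Groth.Agent.Lib.Dim.Basic Groth.Agent.Lib.Dim.Local

namespace Groth.Agent.Lib.GrpSch

variable {k : Type u} [Field k] {X : Scheme.{u}} (f : X ⟶ Spec (CommRingCat.of k)) [LocallyOfFiniteType f]

/-- Krull dimension of a quasi-sober subspace computed on points. -/
theorem topologicalKrullDim_eq_krullDim_subset {Y : Scheme.{u}} (T : Set Y) [QuasiSober ↥T] :
    topologicalKrullDim ↥T = Order.krullDim {x : Y // x ∈ T} :=
  Order.krullDim_eq_of_orderIso
    { toEquiv := (irreducibleSetEquivPoints (α := ↥T)).toEquiv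
      map_rel_iff' := by
        intro a b
        letI : Preorder ↥T := (specializationOrder ↥T).toPreorder
        have h := (irreducibleSetEquivPoints (α := ↥T)).map_rel_iff' (a := a) (b := b)
        exact Iff.trans (subtype_specializes_iff _ _).symm h }

include f in
theorem exists_algebra_affineOpen {W : X.Opens} (hW : IsAffineOpen W) :
    ∃ _ : Algebra k Γ(X, W), Algebra.FiniteType k Γ(X, W) := by
  have h : (f.appLE ⊤ W le_top).hom.FiniteType :=
    HasRingHomProperty.appLE @LocallyOfFiniteType f inferInstance ⟨⊤, isAffineOpen_top _⟩ ⟨W, hW⟩ le_top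
  let e := (Scheme.ΓSpecIso (CommRingCat.of k))
  have h2 : ((f.appLE ⊤ W le_top).hom.comp e.inv.hom).FiniteType :=
    h.comp (RingHom.FiniteType.of_surjective _ e.commRingCatIsoToRingEquiv.symm.surjective)
  exact ⟨((f.appLE ⊤ W le_top).hom.comp e.inv.hom).toAlgebra, h2⟩

/-- Chains with bottom in an affine open are chains of primes. -/
theorem exists_primeSeries {W : X.Opens} (hW : IsAffineOpen W) (l : LTSeries X) (hl : l.head ∈ W) :
    ∃ m : LTSeries (PrimeSpectrum Γ(X, W)), m.length = l.length ∧ hW.fromSpec m.head = l.last := by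
  have hmem : ∀ i, l i ∈ W := fun i => by
    have : l.head ≤ l i := l.head_le i
    exact Specializes.mem_open (this : l i ⤳ l.head) W.2 hl
  have hex : ∀ i, ∃ p : PrimeSpectrum Γ(X, W), hW.fromSpec p = l i := fun i => by
    have := hmem i
    rw [← SetLike.mem_coe, ← hW.range_fromSpec] at this
    exact this
  choose p hp using hex
  refine ⟨⟨l.length, fun i => p i.rev, fun i => ?_⟩, rfl, ?_⟩
  · suffices h : (p i.castSucc.rev : PrimeSpectrum Γ(X, W)) < p i.succ.rev from h
    have hlt : l i.succ.rev < l i.castSucc.rev := by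
      rw [Fin.rev_succ, Fin.rev_castSucc]
      exact l.step i.rev
    rw [lt_iff_le_not_ge, PrimeSpectrum.le_iff_specializes, PrimeSpectrum.le_iff_specializes]
    have key : ∀ i j, (p i : PrimeSpectrum Γ(X, W)) ⤳ p j ↔ l i ⤳ l j := fun i j => by
      rw [← hp i, ← hp j]
      exact hW.fromSpec.isOpenEmbedding.isInducing.specializes_iff.symm
    rw [key, key]
    exact ⟨hlt.le, hlt.not_ge⟩
  · exact (congrArg hW.fromSpec (congrArg p (Fin.rev_zero l.length))).trans (hp _)

include f in
theorem chain_length_lt_top [CompactSpace X] : Order.krullDim X < ⊤ := by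
  obtain ⟨s, hs⟩ := isCompact_univ.elim_finite_subcover (fun W : X.affineOpens => (W.1 : Set X))
    (fun W => W.1.2) (fun x _ => by
      obtain ⟨W, hW, hxW, -⟩ := exists_isAffineOpen_mem_and_subset (X := X) (x := x) (U := ⊤) trivial
      exact Set.mem_iUnion.2 ⟨⟨W, hW⟩, hxW⟩)
  have hb : ∀ W : X.affineOpens, ∃ n : ℕ, ∀ l : LTSeries X, l.head ∈ W.1 → l.length ≤ n := fun W => by
    obtain ⟨_, _⟩ := exists_algebra_affineOpen f W.2
    rcases subsingleton_or_nontrivial Γ(X, W.1) with hA | hA
    · refine ⟨0, fun l hl => ?_⟩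
      obtain ⟨m, -, -⟩ := exists_primeSeries W.2 l hl
      exact (IsEmpty.false m.head).elim
    · obtain ⟨P, hP, hdim⟩ := exists_ringKrullDim_eq_dimQ (A := Γ(X, W.1)) k
      refine ⟨dimQ k P, fun l hl => ?_⟩
      obtain ⟨m, hm, -⟩ := exists_primeSeries W.2 l hl
      have := Order.LTSeries.length_le_krullDim m
      rw [show Order.krullDim (PrimeSpectrum Γ(X, W.1)) = _ from hdim.1] at this
      rw [← hm]
      exact_mod_cast this
  choose n hn using hb
  refine lt_of_le_of_lt (b := ((s.sup n : ℕ) : WithBot ℕ∞)) (iSup_le fun l => ?_)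
    (WithBot.coe_lt_coe.2 (ENat.natCast_lt_top _))
  obtain ⟨W, hWs, hW⟩ := Set.mem_iUnion₂.1 (hs (Set.mem_univ l.head))
  exact_mod_cast (hn W l hW).trans (Finset.le_sup hWs)

include f in
theorem exists_chain_succ {C U : Set X} (hC : IsClosed C) (hU : IsOpen U)
    (hgen : ∀ x ∈ C, ∃ e ∈ U ∩ C, e ⤳ x) (l : LTSeries {x : X // x ∈ C \ (U ∩ C)}) :
    ∃ m : LTSeries {x : X // x ∈ U ∩ C}, m.length = l.length + 1 := by
  obtain ⟨e, he, hspec⟩ := hgen l.last.1 l.last.2.1
  let l' : LTSeries X := l.map Subtype.val (fun _ _ h => h)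
  have hne : l'.last < e := by
    change l.last.1 < e
    refine lt_of_le_not_ge hspec fun h => l.last.2.2 ?_
    exact (hspec.antisymm h).eq ▸ he
  let L : LTSeries X := l'.snoc e hne
  obtain ⟨W, hW, hlW, -⟩ := exists_isAffineOpen_mem_and_subset (X := X) (x := L.head) (U := ⊤) trivial
  obtain ⟨_, _⟩ := exists_algebra_affineOpen f hW
  obtain ⟨P, hP, hPe⟩ := exists_primeSeries hW L hlW
  have hPe' : hW.fromSpec P.head = e := hPe.trans (RelSeries.last_snoc l' e hne)
  have hlen : l.length + 1 ≤ dimQ k P.head.asIdeal := by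
    have h1 := length_add_dimQ_le k P
    have h2 : P.length = l.length + 1 := hP
    omega
  obtain ⟨_, ⟨g, rfl⟩, hgq, hgU⟩ := PrimeSpectrum.isTopologicalBasis_basic_opens.exists_subset_of_mem_open
    (show P.head ∈ hW.fromSpec ⁻¹' U from (congrArg (· ∈ U) hPe').mpr he.1) (hU.preimage hW.fromSpec.continuous)
  set q := P.head.asIdeal
  obtain ⟨m, hm, hqm, hgm⟩ := exists_isMaximal_ge_notMem (k := k) q hgq
  have : (m.map (Ideal.Quotient.mk q)).IsMaximal :=
    Ideal.IsMaximal.map_of_surjective_of_ker_le Ideal.Quotient.mk_surjective (by rwa [Ideal.mk_ker])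
  have hht : ((l.length + 1 : ℕ) : ℕ∞) ≤
      Order.height (⟨m.map (Ideal.Quotient.mk q), inferInstance⟩ : PrimeSpectrum (Γ(X, W) ⧸ q)) := by
    rw [← PrimeSpectrum.height_eq_orderHeight, height_maximal k]
    exact_mod_cast hlen
  obtain ⟨s, hs, hsl⟩ := Order.exists_series_of_le_height _ hht
  let φ : PrimeSpectrum (Γ(X, W) ⧸ q) → PrimeSpectrum Γ(X, W) := PrimeSpectrum.comap (Ideal.Quotient.mk q)
  let pt : Fin (s.length + 1) → X := fun i => hW.fromSpec (φ (s i.rev))
  have hle : ∀ i, P.head ≤ φ (s i) ∧ (φ (s i)).asIdeal ≤ m := fun i => by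
    refine ⟨?_, ?_⟩
    · change q ≤ (s i).asIdeal.comap (Ideal.Quotient.mk q)
      exact (Ideal.mk_ker (I := q)).symm.le.trans (Ideal.comap_mono bot_le)
    · have hi : s i ≤ s.last := s.monotone (Fin.le_last i)
      rw [hs] at hi
      have := Ideal.comap_mono (f := Ideal.Quotient.mk q) hi
      rwa [Ideal.comap_map_of_surjective _ Ideal.Quotient.mk_surjective, ← RingHom.ker_eq_comap_bot,
        Ideal.mk_ker, sup_of_le_left hqm] at this
  have hptmem : ∀ i, pt i ∈ U ∩ C := fun i => by
    refine ⟨hgU ?_, ?_⟩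
    · exact fun hg => hgm ((hle i.rev).2 hg)
    · have : e ⤳ pt i := hPe' ▸ ((PrimeSpectrum.le_iff_specializes _ _).1 (hle i.rev).1).map
        hW.fromSpec.continuous
      exact this.mem_closed hC he.2
  refine ⟨⟨s.length, fun i => ⟨pt i, hptmem i⟩, fun i => ?_⟩, hsl⟩
  have hlt : φ (s i.succ.rev) < φ (s i.castSucc.rev) := by
    rw [Fin.rev_succ, Fin.rev_castSucc]
    exact lt_of_le_not_ge (Ideal.comap_mono (s.step i.rev).le) fun h => (s.step i.rev).not_ge
      ((Ideal.comap_le_comap_iff_of_surjective _ Ideal.Quotient.mk_surjective _ _).1 h)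
  rw [lt_iff_le_not_ge, PrimeSpectrum.le_iff_specializes, PrimeSpectrum.le_iff_specializes] at hlt
  have key : ∀ a b : PrimeSpectrum Γ(X, W), hW.fromSpec a ⤳ hW.fromSpec b ↔ a ⤳ b :=
    fun a b => hW.fromSpec.isOpenEmbedding.isInducing.specializes_iff
  show pt i.castSucc < pt i.succ
  exact lt_iff_le_not_ge.2 ⟨(key _ _).2 hlt.1, fun h => hlt.2 ((key _ _).1 h)⟩

include f in
theorem topologicalKrullDim_boundary_lt [CompactSpace X] {C U : Set X} (hC : IsClosed C) (hU : IsOpen U)
    (hne : C.Nonempty) (hgen : ∀ x ∈ C, ∃ e ∈ U ∩ C, e ⤳ x) :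
    topologicalKrullDim ↥(C \ (U ∩ C)) < topologicalKrullDim ↥(U ∩ C) := by
  have hCU : C \ (U ∩ C) = C \ U := by ext; simp +contextual
  have h1 : QuasiSober ↥(U ∩ C) := by
    have : QuasiSober ↥C := hC.isClosedEmbedding_subtypeVal.quasiSober
    have e : IsOpenEmbedding (Set.inclusion (Set.inter_subset_right : U ∩ C ⊆ C)) := by
      refine ⟨IsEmbedding.inclusion _, ?_⟩
      rw [Set.range_inclusion]
      convert hU.preimage (continuous_subtype_val (p := fun x => x ∈ C)) using 1
      ext ⟨x, hx⟩; simp [hx]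
    exact e.quasiSober
  have h2 : QuasiSober ↥(C \ (U ∩ C)) := by
    rw [hCU]
    exact (hC.sdiff hU).isClosedEmbedding_subtypeVal.quasiSober
  rw [topologicalKrullDim_eq_krullDim_subset, topologicalKrullDim_eq_krullDim_subset]
  obtain ⟨c, hc⟩ := hne
  obtain ⟨e, he, -⟩ := hgen c hc
  have hOne : Nonempty {x : X // x ∈ U ∩ C} := ⟨⟨e, he⟩⟩
  rcases isEmpty_or_nonempty {x : X // x ∈ C \ (U ∩ C)} with hB | hB
  · rw [Order.krullDim_eq_bot]
    exact lt_of_lt_of_le (WithBot.bot_lt_coe 0) Order.krullDim_nonneg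
  · have hfin : Order.krullDim {x : X // x ∈ C \ (U ∩ C)} < ⊤ :=
      lt_of_le_of_lt (Order.krullDim_le_of_strictMono Subtype.val fun _ _ h => h) (chain_length_lt_top f)
    have hfd : FiniteDimensionalOrder {x : X // x ∈ C \ (U ∩ C)} :=
      Order.finiteDimensionalOrder_iff_krullDim_ne_bot_and_top.2 ⟨Order.krullDim_ne_bot_iff.2 hB, hfin.ne⟩
    obtain ⟨m, hm⟩ := exists_chain_succ f hC hU hgen (LTSeries.longestOf _)
    rw [Order.krullDim_eq_length_of_finiteDimensionalOrder]
    refine lt_of_lt_of_le ?_ (Order.LTSeries.length_le_krullDim m)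
    rw [hm]
    exact_mod_cast Nat.lt_succ_self _

end Groth.Agent.Lib.GrpSch
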