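import Groth.Agent.Lib.GrpSch.Orbit
import Groth.Agent.Lib.GrpSch.DenseDim
import Groth.Agent.Lib.SchTopo.Closure

/-!
# Boundary of an orbit; orbits of minimal dimension are closed
-/

universe u

open CategoryTheory Limits MonoidalCategory CartesianMonoidalCategory MonObj AlgebraicGeometry

namespace Groth.Agent.Lib.GrpSch

variable {k : Type u} [Field k] {G X : Over (Spec (CommRingCat.of k))} [GrpObj G] (a : AlgGrp.Action G X)
  [LocallyOfFiniteType G.hom] [QuasiCompact G.hom] [LocallyOfFiniteType X.hom] [QuasiCompact X.hom]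

theorem quasiCompact_orbitMap (o : 𝟙_ (Over (Spec (CommRingCat.of k))) ⟶ X) :
    QuasiCompact (a.orbitMap o).left := by
  have : IsLocallyNoetherian X.left := LocallyOfFiniteType.isLocallyNoetherian X.hom
  have : QuasiCompact ((a.orbitMap o).left ≫ X.hom) := by rw [Over.w]; infer_instance
  exact QuasiCompact.of_comp (a.orbitMap o).left X.hom

theorem topologicalKrullDim_orbit_boundary_lt (o : 𝟙_ (Over (Spec (CommRingCat.of k))) ⟶ X) :
    topologicalKrullDim ↥(closure (Set.range (a.orbitMap o).left) \ Set.range (a.orbitMap o).left) <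
      topologicalKrullDim ↥(Set.range (a.orbitMap o).left) := by
  have : CompactSpace X.left := QuasiCompact.compactSpace_of_compactSpace X.hom
  have := quasiCompact_orbitMap a o
  obtain ⟨U, hU, h⟩ := exists_open_orbit_eq a o
  obtain ⟨s⟩ : Nonempty ↥(Spec (CommRingCat.of k)) := inferInstance
  have hne : (closure (Set.range (a.orbitMap o).left)).Nonempty :=
    ⟨_, subset_closure ⟨η[G].left s, rfl⟩⟩
  have := topologicalKrullDim_boundary_lt X.hom isClosed_closure hU hne fun y hy => by
    obtain ⟨g, hg⟩ := SchTopo.Closure.exists_specializes_of_mem_closure_range (a.orbitMap o).left hy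
    exact ⟨_, h.le ⟨g, rfl⟩, hg⟩
  rwa [← h] at this

theorem isClosed_range_orbit_of_minimal [IsAlgClosed k] (x : 𝟙_ (Over (Spec (CommRingCat.of k))) ⟶ X)
    (hmin : ∀ y : 𝟙_ (Over (Spec (CommRingCat.of k))) ⟶ X,
      topologicalKrullDim (Set.range (a.orbitMap x).left) ≤ topologicalKrullDim (Set.range (a.orbitMap y).left)) :
    IsClosed (Set.range (a.orbitMap x).left) := by
  rcases Set.eq_empty_or_nonempty (closure (Set.range (a.orbitMap x).left) \ Set.range (a.orbitMap x).left)
    with he | hne
  · rw [Set.sdiff_eq_empty] at he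
    rw [(subset_antisymm subset_closure he)]
    exact isClosed_closure
  · obtain ⟨y, hy⟩ := exists_point_mem (isClosed_boundary a x) hne
    have hsub := range_orbit_subset a (isStableSet_boundary a x) y hy
    have h1 := (Topology.IsEmbedding.inclusion hsub).isInducing.topologicalKrullDim_le
    exact absurd ((hmin y).trans h1) (not_le.2 (topologicalKrullDim_orbit_boundary_lt a x))

theorem exists_isClosed_range_orbit [IsAlgClosed k] [Nonempty X.left] :
    ∃ x : 𝟙_ (Over (Spec (CommRingCat.of k))) ⟶ X, IsClosed (Set.range (a.orbitMap x).left) := by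
  obtain ⟨y, -⟩ := exists_point_mem (X := X) (W := Set.univ) isClosed_univ Set.univ_nonempty
  have : Nonempty (𝟙_ (Over (Spec (CommRingCat.of k))) ⟶ X) := ⟨y⟩
  obtain ⟨x, hx⟩ : ∃ x : 𝟙_ (Over (Spec (CommRingCat.of k))) ⟶ X, ∀ y,
      ¬ topologicalKrullDim (Set.range (a.orbitMap y).left) < topologicalKrullDim (Set.range (a.orbitMap x).left) := by
    obtain ⟨x, -, hx⟩ := (InvImage.wf (fun x : 𝟙_ (Over (Spec (CommRingCat.of k))) ⟶ X =>
      topologicalKrullDim (Set.range (a.orbitMap x).left)) wellFounded_lt).has_min Set.univ Set.univ_nonempty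
    exact ⟨x, fun y => hx y trivial⟩
  exact ⟨x, isClosed_range_orbit_of_minimal a x fun y => not_lt.1 (hx y)⟩

end Groth.Agent.Lib.GrpSch
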