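import Groth.Agent.Lib.FFDesc.Effective
import Groth.Agent.Lib.AlgSpMor.Sep

/-!
# Descent of closed subschemes along fppf covers
-/

set_option autoImplicit false
universe u
open CategoryTheory CategoryTheory.Limits AlgebraicGeometry

namespace Groth.Agent.Lib.GrpSch

/-- Factoring through a monomorphism is fpqc local. -/
theorem exists_factor_mono_of_cover {T T' X W : Scheme.{u}} (r : T' ⟶ T) (hr : FFDesc.fpqcCover r)
    (x : T ⟶ X) (j : W ⟶ X) [Mono j] (h : ∃ w : T' ⟶ W, w ≫ j = r ≫ x) :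
    ∃ w : T ⟶ W, w ≫ j = x := by
  have := hr.effectiveEpi
  obtain ⟨w, hw⟩ := h
  refine ⟨EffectiveEpi.desc r w (fun a b e => (cancel_mono j).1 ?_), ?_⟩
  · rw [Category.assoc, Category.assoc, hw, reassoc_of% e]
  · rw [← cancel_epi r, EffectiveEpi.fac_assoc, hw]

set_option backward.isDefEq.respectTransparency.types false in
/-- A closed subscheme whose set of points is saturated for an fppf cover descends. -/
theorem exists_closedImmersion_descent {U X W' : Scheme.{u}} (p : U ⟶ X) [Flat p] [Surjective p]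
    [LocallyOfFinitePresentation p] (i : W' ⟶ U) [IsClosedImmersion i]
    (h : ∀ {T : Scheme.{u}} (x₀ x₁ : T ⟶ U), x₀ ≫ p = x₁ ≫ p → (∃ v, v ≫ i = x₀) → ∃ v, v ≫ i = x₁) :
    ∃ (W : Scheme.{u}) (j : W ⟶ X) (q : W' ⟶ W), IsClosedImmersion j ∧ IsPullback i q p j := by
  have hsub : ∀ {T : Scheme.{u}} (x : T ⟶ U), Subsingleton (Desc.Lifts (Over.mk i) x) := fun x =>
    ⟨fun v w => Subtype.ext ((cancel_mono i).1 (v.2.trans w.2.symm))⟩
  let D : Desc.SchDD p :=
    { obj := Over.mk i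
      φ := fun T x₀ x₁ e =>
        { toFun := fun v => ⟨(h x₀ x₁ e ⟨v.1, v.2⟩).choose, (h x₀ x₁ e ⟨v.1, v.2⟩).choose_spec⟩
          invFun := fun v => ⟨(h x₁ x₀ e.symm ⟨v.1, v.2⟩).choose, (h x₁ x₀ e.symm ⟨v.1, v.2⟩).choose_spec⟩
          left_inv := fun v => (hsub x₀).elim _ _
          right_inv := fun v => (hsub x₁).elim _ _ }
      φ_natural := fun T T' g x₀ x₁ e e' v v' _ => (cancel_mono i).1
        (((h _ _ e' ⟨v'.1, v'.2⟩).choose_spec).trans
          (((Category.assoc _ _ _).trans (congrArg (g ≫ ·) (h x₀ x₁ e ⟨v.1, v.2⟩).choose_spec)).symm))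
      φ_self := fun T x v => (hsub x).elim _ _
      φ_comp := fun T x₀ x₁ x₂ _ _ v => (hsub x₂).elim _ _ }
  have hD : Mor2.IsQuasiAffine D.obj.hom := ⟨inferInstanceAs (QuasiCompact i), fun V hV => by
    have : IsAffine (i ⁻¹ᵁ V : Scheme.{u}) := hV.preimage i
    change Scheme.IsQuasiAffine (i ⁻¹ᵁ V : Scheme.{u})
    infer_instance⟩
  obtain ⟨W, q, hq, -, -⟩ := FFDesc.exists_isDescended D (FFDesc.fpqcCover_of_lfp p) hD
  refine ⟨W.left, W.hom, q, ?_, hq.isPullback⟩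
  exact MorphismProperty.DescendsAlong.of_isPullback
    (P := @IsClosedImmersion.{u}) (Q := @Surjective ⊓ @Flat ⊓ @LocallyOfFinitePresentation)
    hq.isPullback ⟨⟨‹_›, ‹_›⟩, ‹_›⟩ ‹IsClosedImmersion i›

end Groth.Agent.Lib.GrpSch
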