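import Groth.Agent.Lib.MultSmooth.Lifting
import Mathlib.AlgebraicGeometry.Morphisms.Smooth

/-!
# Smoothness from the lifting property
-/

set_option autoImplicit false
universe u

open CategoryTheory Limits AlgebraicGeometry

namespace Groth.Agent.Lib.GrpSch

theorem surjective_specMap_mk {A : CommRingCat.{u}} (J : Ideal A) (hJ : J ^ 2 = ⊥) :
    Function.Surjective (Spec.map (CommRingCat.ofHom (Ideal.Quotient.mk J))) := fun p => by
  have hle : J ≤ p.asIdeal := fun z hz => by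
    have hz2 : z ^ 2 ∈ (⊥ : Ideal A) := hJ ▸ Ideal.pow_mem_pow hz 2
    exact p.isPrime.mem_of_pow_mem 2 (by
      rw [Ideal.mem_bot] at hz2
      rw [hz2]
      exact p.asIdeal.zero_mem)
  have hp : p ∈ Set.range (PrimeSpectrum.comap (Ideal.Quotient.mk J)) := by
    rw [range_comap_of_surjective _ _ Ideal.Quotient.mk_surjective]
    intro z hz
    exact hle (Ideal.Quotient.eq_zero_iff_mem.1 hz)
  exact hp

/-- A morphism locally of finite presentation with the infinitesimal lifting property is smooth. -/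
theorem smooth_of_liftings {X Y : Scheme.{u}} (f : X ⟶ Y) [LocallyOfFinitePresentation f]
    (h : ∀ (A : CommRingCat.{u}) (J : Ideal A), J ^ 2 = ⊥ → ∀ (t : Spec A ⟶ Y)
      (c₀ : Spec (CommRingCat.of (A ⧸ J)) ⟶ X), c₀ ≫ f = Spec.map (CommRingCat.ofHom (Ideal.Quotient.mk J)) ≫ t →
        ∃ c : Spec A ⟶ X, c ≫ f = t ∧ Spec.map (CommRingCat.ofHom (Ideal.Quotient.mk J)) ≫ c = c₀) :
    Smooth f := by
  refine IsZariskiLocalAtTarget.of_iSup_eq_top (P := @Smooth) (fun U : Y.affineOpens => U.1)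
    (iSup_affineOpens_eq_top Y) fun U => ?_
  refine IsZariskiLocalAtSource.of_openCover (P := @Smooth) (f ⁻¹ᵁ U.1).toScheme.affineCover fun i => ?_
  haveI : IsAffine U.1.toScheme := U.2
  let j := (f ⁻¹ᵁ U.1).toScheme.affineCover.f i ≫ (f ⁻¹ᵁ U.1).ι
  have hj : ((f ⁻¹ᵁ U.1).toScheme.affineCover.f i ≫ f ∣_ U.1) ≫ U.1.ι = j ≫ f := by
    simp [j, morphismRestrict_ι]
  haveI : LocallyOfFinitePresentation ((f ⁻¹ᵁ U.1).toScheme.affineCover.f i ≫ f ∣_ U.1) := inferInstance
  refine MultSmooth.smooth_of_lifts _ fun A J hJ t c₀ hc₀ => ?_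
  rw [Category.comp_id] at hc₀ ⊢
  obtain ⟨c, hc, hc'⟩ := h A J hJ (t ≫ U.1.ι) (c₀ ≫ j) (by
    rw [Category.assoc, ← hj, ← Category.assoc, hc₀, Category.assoc])
  have hr : Set.range c ⊆ Set.range j := by
    rintro _ ⟨p, rfl⟩
    obtain ⟨q, rfl⟩ := surjective_specMap_mk J hJ p
    rw [← Scheme.Hom.comp_apply, hc', Scheme.Hom.comp_apply]
    exact Set.mem_range_self _
  refine ⟨IsOpenImmersion.lift j c hr, ?_, ?_⟩
  · rw [← cancel_mono U.1.ι, Category.assoc, hj, IsOpenImmersion.lift_fac_assoc, hc]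
  · rw [← cancel_mono j, Category.assoc, IsOpenImmersion.lift_fac, hc']

end Groth.Agent.Lib.GrpSch
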