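import Mathlib.AlgebraicGeometry.Morphisms.FormallyUnramified
import Mathlib.AlgebraicGeometry.Fiber
import Mathlib.RingTheory.Kaehler.TensorProduct
import Mathlib.RingTheory.LocalRing.Module
import Mathlib.RingTheory.Etale.Kaehler
import Mathlib.RingTheory.Unramified.Basic

/-!
# Formal unramifiedness is fibrewise for morphisms locally of finite type
-/

universe u

open CategoryTheory Limits AlgebraicGeometry TensorProduct

namespace Groth.Agent.Lib.GrpSch

theorem algebra_formallyUnramified_of_fibres (A B : Type u) [CommRing A] [CommRing B] [Algebra A B]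
    [Algebra.FiniteType A B]
    (h : ∀ p : PrimeSpectrum A,
      Algebra.FormallyUnramified p.asIdeal.ResidueField (p.asIdeal.ResidueField ⊗[A] B)) :
    Algebra.FormallyUnramified A B := by
  have : Module.Finite B (Ω[B⁄A]) := inferInstance
  refine (Algebra.formallyUnramified_iff A B).2 ?_
  rw [← Module.support_eq_empty_iff (R := B)]
  by_contra hne
  obtain ⟨q, hq⟩ := Set.nonempty_iff_ne_empty.2 hne
  rw [Module.mem_support_iff_nontrivial_residueField_tensorProduct] at hq
  let p := q.comap (algebraMap A B)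
  let K := p.asIdeal.ResidueField
  let L := q.asIdeal.ResidueField
  have hK : Subsingleton (K ⊗[A] Ω[B⁄A]) := by
    have := h p
    have : Subsingleton (Ω[(K ⊗[A] B)⁄K]) := Algebra.FormallyUnramified.subsingleton_kaehlerDifferential
    let _ : Algebra B (K ⊗[A] B) := Algebra.TensorProduct.rightAlgebra
    exact (KaehlerDifferential.tensorKaehlerEquivBase A K B (K ⊗[A] B)).toEquiv.subsingleton
  have : q.asIdeal.LiesOver p.asIdeal := ⟨rfl⟩
  let g : K →ₐ[A] L := Ideal.ResidueField.mapₐ p.asIdeal q.asIdeal (Algebra.ofId A B) rfl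
  let φ : K ⊗[A] Ω[B⁄A] →ₗ[A] L ⊗[B] Ω[B⁄A] :=
    TensorProduct.lift
      (((TensorProduct.mk B L Ω[B⁄A]).restrictScalars₁₂ A A).comp g.toLinearMap)
  refine not_subsingleton (L ⊗[B] Ω[B⁄A]) ⟨fun a b => ?_⟩
  have h0 : ∀ m : Ω[B⁄A], (1 : L) ⊗ₜ[B] m = 0 := fun m => by
    have := congrArg φ (Subsingleton.elim ((1 : K) ⊗ₜ[A] m) 0)
    simpa [φ, g] using this
  suffices ∀ x : L ⊗[B] Ω[B⁄A], x = 0 by rw [this a, this b]
  intro x
  induction x with
  | zero => rfl
  | add x y hx hy => rw [hx, hy, add_zero]
  | tmul c m =>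
    rw [show c = c • (1 : L) by rw [smul_eq_mul, mul_one], ← TensorProduct.smul_tmul', h0, smul_zero]

/-- Formal unramifiedness at all field-valued points of the base. -/
theorem formallyUnramified_of_field_points {X Y : Scheme.{u}} (f : X ⟶ Y) [LocallyOfFiniteType f]
    (h : ∀ (K : Type u) [Field K] (y : Spec (CommRingCat.of K) ⟶ Y), FormallyUnramified (pullback.snd f y)) :
    FormallyUnramified f := by
  rw [HasRingHomProperty.iff_appLE (P := @FormallyUnramified)]
  intro U V e
  let φ := f.appLE U.1 V.1 e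
  have hft : φ.hom.FiniteType := f.finiteType_appLE U.2 V.2 e
  algebraize [φ.hom]
  have : Algebra.FiniteType Γ(Y, U.1) Γ(X, V.1) := hft
  refine algebra_formallyUnramified_of_fibres _ _ fun p => ?_
  let A := Γ(Y, U.1)
  let B := Γ(X, V.1)
  let K := p.asIdeal.ResidueField
  have hpb : IsPullback (Spec.map (CommRingCat.ofHom (Algebra.TensorProduct.includeRight : B →ₐ[A] K ⊗[A] B).toRingHom))
      (Spec.map (CommRingCat.ofHom (Algebra.TensorProduct.includeLeftRingHom : K →+* K ⊗[A] B)))
      (Spec.map φ) (Spec.map (CommRingCat.ofHom (algebraMap A K))) :=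
    (isPullback_SpecMap_of_isPushout _ _ _ _ (CommRingCat.isPushout_tensorProduct A K B)).flip
  let y := Spec.map (CommRingCat.ofHom (algebraMap A K)) ≫ U.2.fromSpec
  have hA : V.2.fromSpec ≫ f = Spec.map φ ≫ U.2.fromSpec := (U.2.SpecMap_appLE_fromSpec f V.2 e).symm
  have hbig : IsPullback (Spec.map (CommRingCat.ofHom (Algebra.TensorProduct.includeRight : B →ₐ[A] K ⊗[A] B).toRingHom))
      (Spec.map (CommRingCat.ofHom (Algebra.TensorProduct.includeLeftRingHom : K →+* K ⊗[A] B)))
      (V.2.fromSpec ≫ f) y := by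
    rw [hA]
    have : IsOpenImmersion U.2.fromSpec := U.2.isOpenImmersion_fromSpec
    refine ⟨⟨?_⟩, ⟨PullbackCone.IsLimit.mk _ (fun c => hpb.lift c.fst c.snd ?_) (fun c => hpb.lift_fst _ _ _)
      (fun c => hpb.lift_snd _ _ _) (fun c m h₁ h₂ => hpb.hom_ext ?_ ?_)⟩⟩
    · rw [hpb.w_assoc]
    · rw [← cancel_mono U.2.fromSpec, Category.assoc, Category.assoc]
      exact c.condition
    · rw [hpb.lift_fst]; exact h₁
    · rw [hpb.lift_snd]; exact h₂
  have : FormallyUnramified (pullback.snd f y) := h K y
  have : IsOpenImmersion V.2.fromSpec := V.2.isOpenImmersion_fromSpec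
  have h1 : FormallyUnramified (pullback.snd (V.2.fromSpec ≫ f) y) := by
    rw [← pullbackRightPullbackFstIso_inv_snd_snd]
    exact MorphismProperty.comp_mem _ _ _ inferInstance
      (MorphismProperty.comp_mem _ _ _ inferInstance inferInstance)
  have h2 : FormallyUnramified (Spec.map (CommRingCat.ofHom
      (Algebra.TensorProduct.includeLeftRingHom : K →+* K ⊗[A] B))) := by
    rw [← hbig.isoPullback_hom_snd]
    exact MorphismProperty.comp_mem _ _ _ inferInstance h1
  rw [HasRingHomProperty.Spec_iff (P := @FormallyUnramified)] at h2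
  exact RingHom.formallyUnramified_algebraMap.mp h2

/-- Formal unramifiedness is fibrewise for morphisms locally of finite type. -/
theorem formallyUnramified_of_fibres {X Y : Scheme.{u}} (f : X ⟶ Y) [LocallyOfFiniteType f]
    (h : ∀ y : Y, FormallyUnramified (f.fiberToSpecResidueField y)) : FormallyUnramified f := by
  refine formallyUnramified_of_field_points f fun K _ y => ?_
  obtain ⟨⟨y₀, φ⟩, rfl⟩ := (Scheme.SpecToEquivOfField K Y).symm.surjective y
  change FormallyUnramified (pullback.snd f (Spec.map φ ≫ Y.fromSpecResidueField y₀))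
  rw [← pullbackLeftPullbackSndIso_inv_snd_snd]
  exact MorphismProperty.comp_mem _ _ _ inferInstance (MorphismProperty.of_isPullback (P := @FormallyUnramified) (IsPullback.of_hasPullback _ _) (h y₀))

end Groth.Agent.Lib.GrpSch
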