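import Groth.Agent.Lib.GrpSch.Translate
import Groth.Agent.Lib.Flat55.FlatDescend
import Groth.Agent.Lib.LocalFlat.Criterion
import Groth.Agent.Lib.Unram.BaseChangeNhd
import Mathlib.AlgebraicGeometry.Morphisms.FlatMono
import Mathlib.RingTheory.TensorProduct.Quotient

/-!
# Open immersions of group schemes detected at the unit

* `flat_of_completion`: a local homomorphism of Noetherian local rings inducing isomorphisms
  `A ⧸ m ^ (n + 1) ≅ B ⧸ m ^ (n + 1)` is flat.
* `isOpenImmersion_of_flat_at_one`: an equivariant monomorphism `G ⟶ M` into a scheme with an action of `G`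
  which is flat at the unit point is an open immersion.
-/

universe u

open CategoryTheory Limits MonoidalCategory CartesianMonoidalCategory MonObj AlgebraicGeometry
open scoped TensorProduct

namespace Groth.Agent.Lib.GrpSch.UnitOpen

theorem flat_of_completion {A B : Type u} [CommRing A] [CommRing B] [IsLocalRing A] [IsLocalRing B]
    [IsNoetherianRing A] [IsNoetherianRing B] (φ : A →+* B) [IsLocalHom φ]
    (hs : ∀ n : ℕ, Function.Surjective
      ((Ideal.Quotient.mk (IsLocalRing.maximalIdeal B ^ (n + 1))).comp φ))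
    (hi : ∀ (n : ℕ) (a : A), φ a ∈ IsLocalRing.maximalIdeal B ^ (n + 1) →
      a ∈ IsLocalRing.maximalIdeal A ^ (n + 1)) : φ.Flat := by
  letI := φ.toAlgebra
  haveI : IsLocalHom (algebraMap A B) := ‹IsLocalHom φ›
  have hJ : (IsLocalRing.maximalIdeal A).map φ = IsLocalRing.maximalIdeal B := by
    refine le_antisymm (IsLocalRing.map_maximalIdeal_le φ) ?_
    refine Submodule.le_of_le_smul_of_le_jacobson_bot (I := IsLocalRing.maximalIdeal B)
      (IsNoetherian.noetherian _) (IsLocalRing.jacobson_eq_maximalIdeal ⊥ bot_ne_top).ge ?_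
    intro x hx
    obtain ⟨a, ha⟩ := hs 1 (Ideal.Quotient.mk _ x)
    rw [RingHom.comp_apply, Ideal.Quotient.eq] at ha
    have hφa : φ a ∈ IsLocalRing.maximalIdeal B := by
      have h2 : φ a - x ∈ IsLocalRing.maximalIdeal B := Ideal.pow_le_self (by omega) ha
      simpa using add_mem h2 hx
    have ham : a ∈ IsLocalRing.maximalIdeal A := by
      have := hi 0 a (by simpa using hφa)
      simpa using this
    rw [show x = φ a - (φ a - x) by ring]
    refine Submodule.sub_mem _ (Submodule.mem_sup_left (Ideal.mem_map_of_mem φ ham))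
      (Submodule.mem_sup_right ?_)
    rwa [smul_eq_mul, ← pow_two]
  change Module.Flat A B
  refine Lib.LocalFlat.Criterion.flat_of_flat_quotient_pow (M := B) B (IsLocalRing.maximalIdeal A)
    (Lib.LocalFlat.Criterion.map_le_jacobson_bot_of_isLocalHom (Ideal.IsMaximal.ne_top inferInstance))
    fun n => ?_
  set I := IsLocalRing.maximalIdeal A ^ n with hI
  have hmap : I.map (algebraMap A B) = IsLocalRing.maximalIdeal B ^ n := by
    rw [hI, Ideal.map_pow]
    exact congrArg (· ^ n) hJ
  have hsurj : ∀ b : B, ∃ a : A, φ a - b ∈ I.map (algebraMap A B) := fun b => by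
    rw [hmap]
    obtain ⟨a, ha⟩ := hs n (Ideal.Quotient.mk _ b)
    rw [RingHom.comp_apply, Ideal.Quotient.eq] at ha
    exact ⟨a, Ideal.pow_le_pow_right (by omega) ha⟩
  have hinj : ∀ a : A, φ a ∈ I.map (algebraMap A B) → a ∈ I := fun a ha => by
    rw [hmap] at ha
    rw [hI]
    cases n with
    | zero => simp
    | succ m => exact hi m a ha
  let e : (A ⧸ I) →ₗ[A ⧸ I] ((A ⧸ I) ⊗[A] B) := Algebra.linearMap _ _
  refine Module.Flat.of_linearEquiv (LinearEquiv.ofBijective e ⟨?_, ?_⟩).symm
  · let ψ : (A ⧸ I) ⊗[A] B →ₐ[A] B ⧸ I.map (algebraMap A B) :=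
      Algebra.TensorProduct.lift
        (Ideal.Quotient.liftₐ I ((Ideal.Quotient.mkₐ A _).comp (Algebra.ofId A B))
          fun a ha => Ideal.Quotient.eq_zero_iff_mem.2 (Ideal.mem_map_of_mem _ ha))
        (Ideal.Quotient.mkₐ A _) fun _ _ => Commute.all _ _
    rw [injective_iff_map_eq_zero]
    intro r hr
    obtain ⟨a, rfl⟩ := Ideal.Quotient.mk_surjective r
    have h2 : ψ ((Ideal.Quotient.mk I a) ⊗ₜ[A] (1 : B)) = 0 := by
      rw [show ((Ideal.Quotient.mk I a) ⊗ₜ[A] (1 : B)) = e (Ideal.Quotient.mk I a) from rfl, hr, map_zero]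
    simp only [ψ, Algebra.TensorProduct.lift_tmul] at h2
    rw [map_one, _root_.mul_one] at h2
    exact Ideal.Quotient.eq_zero_iff_mem.2 (hinj a (Ideal.Quotient.eq_zero_iff_mem.1 h2))
  · intro z
    induction z using TensorProduct.induction_on with
    | zero => exact ⟨0, map_zero e⟩
    | add x y hx hy =>
      obtain ⟨a, rfl⟩ := hx
      obtain ⟨b, rfl⟩ := hy
      exact ⟨a + b, map_add e a b⟩
    | tmul r b =>
      obtain ⟨a, ha⟩ := hsurj b
      obtain ⟨c, rfl⟩ := Ideal.Quotient.mk_surjective r
      refine ⟨Ideal.Quotient.mk I (c * a), ?_⟩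
      have h0 : ∀ x ∈ I.map (algebraMap A B), ∀ r : A ⧸ I, r ⊗ₜ[A] x = 0 := by
        intro x hx
        induction hx using Submodule.span_induction with
        | mem y hy =>
          obtain ⟨t, ht, rfl⟩ := hy
          intro r
          rw [Algebra.algebraMap_eq_smul_one, TensorProduct.tmul_smul, TensorProduct.smul_tmul',
            Algebra.smul_def, Ideal.Quotient.algebraMap_eq, Ideal.Quotient.eq_zero_iff_mem.2 ht,
            zero_mul, TensorProduct.zero_tmul]
        | zero => intro r; simp
        | add x y _ _ hx hy => intro r; rw [TensorProduct.tmul_add, hx, hy, add_zero]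
        | smul t x _ hx =>
          intro r
          have h3 := congrArg (((1 : A ⧸ I) ⊗ₜ[A] t) * ·) (hx r)
          simpa using h3
      change (Ideal.Quotient.mk I (c * a)) ⊗ₜ[A] (1 : B) = _
      have h4 := h0 _ ha (Ideal.Quotient.mk I c)
      rw [TensorProduct.tmul_sub, sub_eq_zero] at h4
      rw [← h4, show φ a = a • (1 : B) from Algebra.algebraMap_eq_smul_one a, TensorProduct.tmul_smul,
        TensorProduct.smul_tmul', Algebra.smul_def, Ideal.Quotient.algebraMap_eq, ← map_mul, mul_comm]

variable {k : Type u} [Field k] {G M : Over (Spec (CommRingCat.of k))} [GrpObj G]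

theorem flat_hom (X : Over (Spec (CommRingCat.of k))) : Flat X.hom := inferInstance

/-- An equivariant monomorphism `G ⟶ M` which is flat at the unit point is an open immersion. -/
theorem isOpenImmersion_of_flat_at_one [LocallyOfFiniteType G.hom] [LocallyOfFiniteType M.hom]
    (a : AlgGrp.Action G M) (i : G ⟶ M) [Mono i.left] (hi : (G ◁ i) ≫ a.act = μ[G] ≫ i)
    (pt : ↥(𝟙_ (Over (Spec (CommRingCat.of k)))).left)
    (hflat : (i.left.stalkMap (η[G].left.base pt)).hom.Flat) : IsOpenImmersion i.left := by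
  obtain rfl : pt = IsLocalRing.closedPoint k := Subsingleton.elim (α := ↥(Spec (CommRingCat.of k))) _ _
  let e : ↥G.left := η[G].left.base (IsLocalRing.closedPoint k)
  let V : Over (Spec (CommRingCat.of k)) := Over.mk (G.left.fromSpecStalk e ≫ G.hom)
  let j : V ⟶ G := Over.homMk (G.left.fromSpecStalk e) rfl
  let Φ : G ⊗ V ⟶ G := (G ◁ j) ≫ μ[G]
  have hj : Flat j.left := Lib.Unram.BaseChangeNhd.flat_fromSpecStalk e
  have hμ : Flat μ[G].left := act_left_of (P := @Flat) (regularAction G) (flat_hom G)
  haveI hΦflat : Flat Φ.left := by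
    rw [Over.comp_left]
    exact MorphismProperty.comp_mem @Flat _ _ (whiskerLeft_left_of G j hj) hμ
  have hji : Flat (j ≫ i).left := by
    rw [Over.comp_left]
    change Flat (G.left.fromSpecStalk e ≫ i.left)
    rw [← Scheme.SpecMap_stalkMap_fromSpecStalk]
    exact MorphismProperty.comp_mem @Flat _ _ ((HasRingHomProperty.Spec_iff (P := @Flat)).2 hflat)
      (Lib.Unram.BaseChangeNhd.flat_fromSpecStalk _)
  haveI hcomp : Flat (Φ.left ≫ i.left) := by
    rw [← Over.comp_left, Category.assoc, ← hi, ← MonoidalCategory.whiskerLeft_comp_assoc, Over.comp_left]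
    exact MorphismProperty.comp_mem @Flat _ _ (whiskerLeft_left_of G (j ≫ i) hji)
      (act_left_of (P := @Flat) a (flat_hom G))
  haveI hΦsurj : Surjective Φ.left := by
    let s : 𝟙_ (Over (Spec (CommRingCat.of k))) ⟶ V :=
      Over.homMk (Spec.map (Scheme.stalkClosedPointTo η[G].left)) (by
        change Spec.map (Scheme.stalkClosedPointTo η[G].left) ≫ G.left.fromSpecStalk e ≫ G.hom = _
        rw [Scheme.Spec_stalkClosedPointTo_fromSpecStalk_assoc]
        exact Over.w η[G])
    have hsj : s ≫ j = η[G] := Over.OverMorphism.ext (Scheme.Spec_stalkClosedPointTo_fromSpecStalk _)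
    have hid : lift (𝟙 G) (toUnit G ≫ s) ≫ Φ = 𝟙 G := by
      rw [lift_whiskerLeft_assoc, Category.assoc, hsj, ← Hom.one_def, ← Hom.mul_def, _root_.mul_one]
    refine ⟨fun y => ⟨(lift (𝟙 G) (toUnit G ≫ s)).left.base y, ?_⟩⟩
    rw [← Scheme.Hom.comp_apply, ← Over.comp_left, hid]
    rfl
  haveI : Flat i.left := Groth.Agent.Lib.Flat55.FlatDescend.flat_of_comp Φ.left i.left
  haveI : LocallyOfFiniteType (i.left ≫ M.hom) := by rw [Over.w]; infer_instance
  haveI : LocallyOfFiniteType i.left := locallyOfFiniteType_of_comp i.left M.hom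
  haveI : IsLocallyNoetherian M.left := LocallyOfFiniteType.isLocallyNoetherian M.hom
  haveI : LocallyOfFinitePresentation i.left := inferInstance
  exact IsOpenImmersion.of_flat_of_mono _

end Groth.Agent.Lib.GrpSch.UnitOpen
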