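import Groth.Agent.Lib.GrpSch.Basic
import Groth.Agent.Lib.Spectral.Basic
import Mathlib.AlgebraicGeometry.Morphisms.UniversallyOpen
import Mathlib.AlgebraicGeometry.Morphisms.FinitePresentation
import Mathlib.AlgebraicGeometry.Noetherian
import Mathlib.AlgebraicGeometry.PullbackCarrier
import Mathlib.AlgebraicGeometry.AlgClosed.Basic

/-!
# Stable subsets and orbits

`sat a U = act (snd ⁻¹ U)`, `IsStableSet a W : sat a W ⊆ W`; orbits are stable; for `G` universally open over
`S`, saturations of opens are open, closures of stable sets are stable; over a field orbits are locally closed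
and `closure O \ O` is closed and stable.
-/

universe u

open Topology CategoryTheory Limits MonoidalCategory CartesianMonoidalCategory MonObj AlgebraicGeometry

namespace Groth.Agent.Lib.GrpSch

section Gen

variable {S : Scheme.{u}} {G X : Over S} [GrpObj G] (a : AlgGrp.Action G X)

/-- The saturation of a subset under an action. -/
def sat (U : Set X.left) : Set X.left := a.act.left '' ((snd G X).left ⁻¹' U)

/-- A subset is stable when it contains its saturation. -/
def IsStableSet (W : Set X.left) : Prop := sat a W ⊆ W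

theorem sat_mono {U V : Set X.left} (h : U ⊆ V) : sat a U ⊆ sat a V :=
  Set.image_mono (Set.preimage_mono h)

theorem subset_sat (U : Set X.left) : U ⊆ sat a U := by
  intro x hx
  let e : X ⟶ G ⊗ X := lift (toUnit X ≫ η[G]) (𝟙 X)
  refine ⟨e.left x, ?_, ?_⟩
  · have : e ≫ snd G X = 𝟙 X := lift_snd _ _
    change (snd G X).left (e.left x) ∈ U
    rw [← Scheme.Hom.comp_apply, ← Over.comp_left, this]
    exact hx
  · have : e ≫ a.act = 𝟙 X := act_η a (𝟙 X)
    rw [← Scheme.Hom.comp_apply, ← Over.comp_left, this]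
    rfl

theorem isStableSet_iff (W : Set X.left) :
    IsStableSet a W ↔ ∀ p : ↑(G ⊗ X).left, (snd G X).left p ∈ W → a.act.left p ∈ W := by
  constructor
  · exact fun h p hp => h ⟨p, hp, rfl⟩
  · rintro h _ ⟨p, hp, rfl⟩; exact h p hp

/-- The inversion of a pair `(g, x) ↦ (g⁻¹, g • x)`. -/
noncomputable def flipPair : G ⊗ X ⟶ G ⊗ X := lift (fst G X)⁻¹ a.act

theorem flipPair_snd : flipPair a ≫ snd G X = a.act := lift_snd _ _

theorem flipPair_act : flipPair a ≫ a.act = snd G X := by
  have h := act_inv_act a (fst G X) (snd G X)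
  rw [lift_fst_snd, Category.id_comp] at h
  exact h

theorem IsStableSet.mem_iff {W : Set X.left} (h : IsStableSet a W) (p : ↑(G ⊗ X).left) :
    a.act.left p ∈ W ↔ (snd G X).left p ∈ W := by
  rw [isStableSet_iff] at h
  refine ⟨fun hp => ?_, h p⟩
  have := h ((flipPair a).left p)
  rw [← Scheme.Hom.comp_apply, ← Scheme.Hom.comp_apply, ← Over.comp_left, ← Over.comp_left, flipPair_snd,
    flipPair_act] at this
  exact this hp

theorem IsStableSet.compl {W : Set X.left} (h : IsStableSet a W) : IsStableSet a Wᶜ := by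
  rw [isStableSet_iff]
  intro p hp hact
  exact hp ((h.mem_iff a p).1 hact)

theorem IsStableSet.sdiff {W V : Set X.left} (hW : IsStableSet a W) (hV : IsStableSet a V) :
    IsStableSet a (W \ V) := by
  rw [isStableSet_iff]
  intro p hp
  exact ⟨(hW.mem_iff a p).2 hp.1, fun h => hp.2 ((hV.mem_iff a p).1 h)⟩

theorem isStableSet_sat (U : Set X.left) : IsStableSet a (sat a U) := by
  rintro _ ⟨p, ⟨r, hr, hrp⟩, rfl⟩
  obtain ⟨w, hw1, hw2⟩ := Scheme.exists_preimage_of_isPullback (isPullback_whiskerLeft G a.act) p r hrp.symm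
  refine ⟨((α_ G G X).inv ≫ (μ[G] ▷ X)).left w, ?_, ?_⟩
  · change (snd G X).left _ ∈ U
    rw [← Scheme.Hom.comp_apply, ← Over.comp_left, Category.assoc, whiskerRight_snd,
      show (α_ G G X).inv ≫ snd (G ⊗ G) X = snd G (G ⊗ X) ≫ snd G X by simp, Over.comp_left,
      Scheme.Hom.comp_apply, hw2]
    exact hr
  · rw [← Scheme.Hom.comp_apply, ← Over.comp_left, Category.assoc, a.mul_act, Iso.inv_hom_id_assoc,
      Over.comp_left, Scheme.Hom.comp_apply, hw1]

theorem sat_subset_of_stable {U W : Set X.left} (h : U ⊆ W) (hW : IsStableSet a W) : sat a U ⊆ W :=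
  (sat_mono a h).trans hW

theorem isStableSet_range_orbit (o : 𝟙_ (Over S) ⟶ X) :
    IsStableSet a (Set.range (a.orbitMap o).left) := by
  rw [isStableSet_iff]
  rintro p ⟨q, hq⟩
  obtain ⟨w, hw1, -⟩ :=
    Scheme.exists_preimage_of_isPullback (isPullback_whiskerLeft G (a.orbitMap o)) p q hq.symm
  refine ⟨μ[G].left w, ?_⟩
  rw [← Scheme.Hom.comp_apply, ← Over.comp_left, ← orbit_equivariant, Over.comp_left,
    Scheme.Hom.comp_apply, hw1]

theorem range_orbit_subset {W : Set X.left} (hW : IsStableSet a W) (o : 𝟙_ (Over S) ⟶ X)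
    (ho : Set.range o.left ⊆ W) : Set.range (a.orbitMap o).left ⊆ W := by
  rintro _ ⟨q, rfl⟩
  refine (isStableSet_iff a W).1 hW ((lift (𝟙 G) (toUnit G ≫ o)).left q) (ho ⟨(toUnit G).left q, ?_⟩)
  rw [← Scheme.Hom.comp_apply, ← Scheme.Hom.comp_apply, ← Over.comp_left, ← Over.comp_left, lift_snd]

theorem range_subset_range_orbit (o : 𝟙_ (Over S) ⟶ X) :
    Set.range o.left ⊆ Set.range (a.orbitMap o).left := by
  rintro _ ⟨s, rfl⟩
  refine ⟨η[G].left s, ?_⟩
  rw [← Scheme.Hom.comp_apply, ← Over.comp_left, η_orbit]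

section Open

variable [UniversallyOpen G.hom]

theorem act_isOpenMap : IsOpenMap a.act.left :=
  have : UniversallyOpen a.act.left := act_left_of a inferInstance
  a.act.left.isOpenMap

omit [GrpObj G] in
theorem snd_isOpenMap (G X : Over S) [UniversallyOpen G.hom] : IsOpenMap (snd G X).left :=
  have : UniversallyOpen (snd G X).left := snd_left_of X inferInstance
  (snd G X).left.isOpenMap

theorem isOpen_sat {U : Set X.left} (hU : IsOpen U) : IsOpen (sat a U) :=
  act_isOpenMap a _ (hU.preimage (snd G X).left.continuous)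

theorem IsStableSet.closure {W : Set X.left} (h : IsStableSet a W) : IsStableSet a (closure W) := by
  rw [isStableSet_iff]
  intro p hp
  have hp' : p ∈ _root_.closure ((snd G X).left ⁻¹' W) := by
    rw [← (snd_isOpenMap G X).preimage_closure_eq_closure_preimage (snd G X).left.continuous]
    exact hp
  exact map_mem_closure a.act.left.continuous hp' fun q hq => (h.mem_iff a q).2 hq

theorem IsStableSet.interior {W : Set X.left} (h : IsStableSet a W) : IsStableSet a (interior W) := by
  have : sat a (_root_.interior W) ⊆ _root_.interior W :=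
    interior_maximal (sat_subset_of_stable a interior_subset h) (isOpen_sat a isOpen_interior)
  exact this

omit [UniversallyOpen G.hom] in
theorem sat_inter_of_stable {C : Set X.left} (hC : IsStableSet a C) (U : Set X.left) :
    C ∩ sat a U ⊆ sat a (C ∩ U) := by
  rintro _ ⟨hc, p, hp, rfl⟩
  exact ⟨p, ⟨(hC.mem_iff a p).1 hc, hp⟩, rfl⟩

end Open

end Gen

section Field

variable {k : Type u} [Field k] {G X : Over (Spec (CommRingCat.of k))} [GrpObj G] (a : AlgGrp.Action G X)

/-- Any two points of an orbit over a field differ by a point of the group. -/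
theorem orbit_subset_sat (o : 𝟙_ (Over (Spec (CommRingCat.of k))) ⟶ X) {r : X.left}
    (hr : r ∈ Set.range (a.orbitMap o).left) : Set.range (a.orbitMap o).left ⊆ sat a {r} := by
  obtain ⟨s, rfl⟩ := hr
  rintro _ ⟨b, rfl⟩
  let m : G ⊗ G ⟶ G ⊗ G := lift (fst G G * (snd G G)⁻¹) (snd G G)
  obtain ⟨v, hv1, hv2⟩ := Scheme.exists_preimage_of_isPullback (isPullback_left G G) b s
    (Subsingleton.elim (α := Spec (CommRingCat.of k)) _ _)
  refine ⟨(m ≫ (G ◁ a.orbitMap o)).left v, ?_, ?_⟩
  · change (snd G X).left _ = _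
    rw [← Scheme.Hom.comp_apply, ← Over.comp_left, Category.assoc, whiskerLeft_snd, lift_snd_assoc,
      Over.comp_left, Scheme.Hom.comp_apply, hv2]
  · rw [← Scheme.Hom.comp_apply, ← Over.comp_left, Category.assoc, orbit_equivariant,
      show m ≫ μ[G] ≫ a.orbitMap o = fst G G ≫ a.orbitMap o by
        rw [← Category.assoc, ← Hom.mul_def, inv_mul_cancel_right],
      Over.comp_left, Scheme.Hom.comp_apply, hv1]

variable [LocallyOfFiniteType G.hom] [QuasiCompact G.hom] [LocallyOfFiniteType X.hom] [QuasiCompact X.hom]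

theorem exists_open_subset_orbit (o : 𝟙_ (Over (Spec (CommRingCat.of k))) ⟶ X) :
    ∃ U : Set X.left, IsOpen U ∧ (U ∩ closure (Set.range (a.orbitMap o).left)).Nonempty ∧
      U ∩ closure (Set.range (a.orbitMap o).left) ⊆ Set.range (a.orbitMap o).left := by
  set f := (a.orbitMap o).left
  have : IsLocallyNoetherian X.left := LocallyOfFiniteType.isLocallyNoetherian X.hom
  have : CompactSpace X.left := QuasiCompact.compactSpace_of_compactSpace X.hom
  have : AlgebraicGeometry.IsNoetherian X.left := ⟨⟩
  have : IsLocallyNoetherian (Spec (CommRingCat.of k)) := inferInstance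
  have : LocallyOfFiniteType (f ≫ X.hom) := by rw [Over.w]; infer_instance
  have : LocallyOfFiniteType f := locallyOfFiniteType_of_comp f X.hom
  have : QuasiCompact (f ≫ X.hom) := by rw [Over.w]; infer_instance
  have : QuasiCompact f := QuasiCompact.of_comp f X.hom
  have hO : Topology.IsConstructible (Set.range f) := by
    rw [← Set.image_univ]
    exact f.isConstructible_image .univ
  obtain ⟨s⟩ : Nonempty ↥(Spec (CommRingCat.of k)) := inferInstance
  have hne : (closure (Set.range f)).Nonempty :=
    ⟨f (η[G].left s), subset_closure ⟨_, rfl⟩⟩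
  obtain ⟨Z, hZ⟩ : ∃ Z, Z ∈ irreducibleComponents ↥(closure (Set.range f)) :=
    ⟨_, irreducibleComponent_mem_irreducibleComponents ⟨_, hne.some_mem⟩⟩
  have hqs : QuasiSober ↥(closure (Set.range f)) := isClosed_closure.isClosedEmbedding_subtypeVal.quasiSober
  set z := hZ.1.genericPoint with hz
  have hmax : ∀ e ∈ closure (Set.range f), e ⤳ z.1 → e = z.1 := by
    intro e he hspec
    have h1 : (⟨e, he⟩ : ↥(closure (Set.range f))) ⤳ z := (subtype_specializes_iff _ _).2 hspec
    have hcl : closure {z} = Z := hZ.1.closure_genericPoint (isClosed_of_mem_irreducibleComponents _ hZ)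
    have h2 : Z ⊆ closure {(⟨e, he⟩ : ↥(closure (Set.range f)))} :=
      hcl ▸ specializes_iff_closure_subset.1 h1
    have h3 := hZ.2 isIrreducible_singleton.closure h2
    have h4 : z ⤳ (⟨e, he⟩ : ↥(closure (Set.range f))) :=
      specializes_iff_mem_closure.2 (by rw [hcl]; exact h3 (subset_closure rfl))
    exact congrArg Subtype.val (h1.antisymm h4).eq
  have : SpectralSpace X.left := {}
  have hcons := Spectral.Basic.isClopen_cons_of_isConstructible hO
  have hzO : z.1 ∈ Set.range f := by
    obtain ⟨e, he, hspec⟩ := Spectral.Basic.exists_specializes_of_mem_closure hcons.1 z.2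
    exact hmax e (subset_closure he) hspec ▸ he
  refine ⟨(closure (closure (Set.range f) \ Set.range f))ᶜ, isClosed_closure.isOpen_compl, ⟨z.1, ?_, z.2⟩, ?_⟩
  · intro hmem
    have hcl : IsClosed[constructibleTopology X.left] (closure (Set.range f) \ Set.range f) :=
      @IsClosed.inter _ _ _ (constructibleTopology X.left)
        (Spectral.Basic.isClosed_cons_of_isClosed isClosed_closure)
        ((@isClosed_compl_iff _ (constructibleTopology X.left) _).2 hcons.2)
    obtain ⟨e, ⟨he, heO⟩, hspec⟩ := Spectral.Basic.exists_specializes_of_mem_closure hcl hmem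
    exact heO (hmax e he hspec ▸ hzO)
  · rintro x ⟨hx, hxC⟩
    by_contra hxO
    exact hx (subset_closure ⟨hxC, hxO⟩)

/-- Orbits of actions of algebraic groups are locally closed (any field). -/
theorem exists_open_orbit_eq (o : 𝟙_ (Over (Spec (CommRingCat.of k))) ⟶ X) :
    ∃ U : Set X.left, IsOpen U ∧
      Set.range (a.orbitMap o).left = U ∩ closure (Set.range (a.orbitMap o).left) := by
  obtain ⟨U, hU, ⟨r, hrU, hrC⟩, hUO⟩ := exists_open_subset_orbit a o
  refine ⟨sat a U, isOpen_sat a hU, ?_⟩
  have hst := isStableSet_range_orbit a o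
  apply subset_antisymm
  · refine fun x hx => ⟨?_, subset_closure hx⟩
    exact sat_mono a (Set.singleton_subset_iff.2 hrU) (orbit_subset_sat a o (hUO ⟨hrU, hrC⟩) hx)
  · rintro x ⟨hxs, hxC⟩
    exact sat_subset_of_stable a hUO hst (by
      rw [Set.inter_comm U]; exact sat_inter_of_stable a (hst.closure a) U ⟨hxC, hxs⟩)

theorem isLocallyClosed_range_orbit (o : 𝟙_ (Over (Spec (CommRingCat.of k))) ⟶ X) :
    IsLocallyClosed (Set.range (a.orbitMap o).left) := by
  obtain ⟨U, hU, h⟩ := exists_open_orbit_eq a o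
  exact ⟨U, _, hU, isClosed_closure, h⟩

theorem isClosed_boundary (o : 𝟙_ (Over (Spec (CommRingCat.of k))) ⟶ X) :
    IsClosed (closure (Set.range (a.orbitMap o).left) \ Set.range (a.orbitMap o).left) := by
  obtain ⟨U, hU, h⟩ := exists_open_orbit_eq a o
  have : closure (Set.range (a.orbitMap o).left) \ Set.range (a.orbitMap o).left =
      closure (Set.range (a.orbitMap o).left) \ U := by
    ext x
    constructor
    · exact fun hx => ⟨hx.1, fun hxU => hx.2 (by rw [h]; exact ⟨hxU, hx.1⟩)⟩
    · exact fun hx => ⟨hx.1, fun hxO => hx.2 (h.le hxO).1⟩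
  rw [this]
  exact isClosed_closure.sdiff hU

theorem isStableSet_boundary (o : 𝟙_ (Over (Spec (CommRingCat.of k))) ⟶ X) :
    IsStableSet a (closure (Set.range (a.orbitMap o).left) \ Set.range (a.orbitMap o).left) :=
  ((isStableSet_range_orbit a o).closure a).sdiff a (isStableSet_range_orbit a o)

omit [GrpObj G] [LocallyOfFiniteType G.hom] [QuasiCompact G.hom] in
/-- A nonempty closed subset of a finite type scheme over an algebraically closed field has a rational point. -/
theorem exists_point_mem [IsAlgClosed k] {W : Set X.left} (hW : IsClosed W) (hne : W.Nonempty) :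
    ∃ y : 𝟙_ (Over (Spec (CommRingCat.of k))) ⟶ X, Set.range y.left ⊆ W := by
  have : JacobsonSpace X.left := LocallyOfFiniteType.jacobsonSpace X.hom
  obtain ⟨c, hcW, hc⟩ := nonempty_inter_closedPoints hne hW.isLocallyClosed
  refine ⟨Over.homMk (pointOfClosedPoint X.hom c hc) (pointOfClosedPoint_comp X.hom c hc), ?_⟩
  rintro _ ⟨s, rfl⟩
  change pointOfClosedPoint X.hom c hc s ∈ W
  exact (pointOfClosedPoint_apply X.hom c hc s).symm ▸ hcW

end Field

end Groth.Agent.Lib.GrpSch
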