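import Groth.Prelude.Def_Magnet2
import Mathlib.CategoryTheory.Limits.Shapes.Pullback.IsPullback.Basic
import Mathlib.CategoryTheory.Limits.Types.Pullbacks
import Mathlib.AlgebraicGeometry.Morphisms.SchemeTheoreticallyDominant
import Mathlib.AlgebraicGeometry.Morphisms.ClosedImmersion

/-!
# Functors of equivariant morphisms: generalities
-/

universe u v₁ u₁

open CategoryTheory MonoidalCategory CartesianMonoidalCategory MonObj AlgebraicGeometry Opposite

namespace Groth.Agent.Lib.GrpSch

section General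

variable {C : Type u₁} [Category.{v₁} C] [CartesianMonoidalCategory C] {A B X Z : C} [MonObj A]

/-- An equivariant morphism out of `B ⊗ T`, restricted along a monoid morphism `i : A ⟶ B`, is the orbit of
its value at the unit. -/
theorem restrict_eq_orbit [MonObj B] (i : A ⟶ B) [IsMonHom i] (a : Magnet.MonAct A X) {T : C}
    (φ : (Magnet.MonAct.eqvHom ((Magnet.MonAct.regular B).restrict i) a).obj (op T)) :
    (i ▷ T) ≫ φ.1 =
      (A ◁ ((Magnet.MonAct.eqvHom.evalAt ((Magnet.MonAct.regular B).restrict i) a η[B]).app (op T) φ)) ≫ a.act := by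
  apply Magnet.hom_ext_lift₂
  intro T' g t
  have h := (Magnet.MonAct.mem_eqvHom_iff _).1 φ.2 T' g 1 t
  rw [Magnet.MonAct.lift_restrict_act, Magnet.MonAct.lift_regular_act, _root_.mul_one] at h
  rw [lift_whiskerRight_assoc, h, lift_whiskerLeft_assoc, Magnet.MonAct.eqvHom.evalAt_app, ← Category.assoc t,
    comp_lift, Category.comp_id, ← Category.assoc t, toUnit_unique (t ≫ toUnit _) (toUnit T'), Hom.one_def]

variable {ρ : Magnet.MonAct A B} {aX : Magnet.MonAct A X} {aZ : Magnet.MonAct A Z}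

/-- For a monomorphism `j`, the square of `postcomp j` and `evalAt e` is cartesian as soon as every equivariant
`φ` with `φ(e, ·)` in `Z` factors through `j`. -/
theorem isPullback_postcomp_evalAt (j : Z ⟶ X) [Mono j] (hj : Magnet.MonAct.IsEquivariant aZ aX j)
    (e : 𝟙_ C ⟶ B)
    (H : ∀ (T : C) (φ : (Magnet.MonAct.eqvHom ρ aX).obj (op T)) (z : T ⟶ Z),
      (Magnet.MonAct.eqvHom.evalAt ρ aX e).app (op T) φ = z ≫ j → ∃ ψ : B ⊗ T ⟶ Z, ψ ≫ j = φ.1) :
    IsPullback (Magnet.MonAct.eqvHom.postcomp ρ j hj) (Magnet.MonAct.eqvHom.evalAt ρ aZ e)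
      (Magnet.MonAct.eqvHom.evalAt ρ aX e) (yoneda.map j) := by
  refine IsPullback.of_forall_isPullback_app fun T => ?_
  rw [Limits.Types.isPullback_iff]
  refine ⟨?_, fun x y ⟨h1, _⟩ => Subtype.ext ?_, fun φ z hw => ?_⟩
  · ext φ
    exact (Category.assoc _ _ _).symm
  · exact (cancel_mono j).1 (congrArg Subtype.val h1)
  · obtain ⟨ψ, hψ⟩ := H T.unop φ z hw
    have hmem : Magnet.MonAct.IsEquivariant (ρ.prod (Magnet.MonAct.trivial A T.unop)) aZ ψ := by
      have h2 := φ.2
      unfold Magnet.MonAct.IsEquivariant at h2 hj ⊢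
      rw [← cancel_mono j, Category.assoc, hψ, h2, Category.assoc, hj,
        ← MonoidalCategory.whiskerLeft_comp_assoc, hψ]
    refine ⟨⟨ψ, hmem⟩, Subtype.ext hψ, (cancel_mono j).1 ?_⟩
    change (lift (toUnit T.unop ≫ e) (𝟙 _) ≫ ψ) ≫ j = z ≫ j
    rw [Category.assoc, hψ]
    exact hw

end General

/-- Factorisation through a closed immersion is detected after a scheme-theoretically dominant morphism. -/
theorem exists_factor_of_std {S : Scheme.{u}} {W Y Z X : Over S} (d : W ⟶ Y) [IsSchemeTheoreticallyDominant d.left]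
    (φ : Y ⟶ X) (j : Z ⟶ X) [IsClosedImmersion j.left] (χ : W ⟶ Z) (h : d ≫ φ = χ ≫ j) :
    ∃ ψ : Y ⟶ Z, ψ ≫ j = φ := by
  have hker : j.left.ker ≤ φ.left.ker := by
    have h1 : j.left.ker ≤ (χ.left ≫ j.left).ker := χ.left.le_ker_comp j.left
    rw [← Over.comp_left, ← h, Over.comp_left, Scheme.Hom.ker_comp, Scheme.Hom.ker_eq_bot d.left,
      Scheme.IdealSheafData.map_bot] at h1
    exact h1
  have hfac := IsClosedImmersion.lift_fac j.left φ.left hker
  refine ⟨Over.homMk (IsClosedImmersion.lift j.left φ.left hker) ?_, Over.OverMorphism.ext hfac⟩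
  rw [← Over.w j, reassoc_of% hfac]
  exact Over.w φ

end Groth.Agent.Lib.GrpSch
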