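import Groth.Agent.Lib.GrpSch.FreeRestr
import Mathlib.AlgebraicGeometry.Morphisms.Finite
import Mathlib.AlgebraicGeometry.Morphisms.Flat
import Mathlib.AlgebraicGeometry.Morphisms.FinitePresentation
import Mathlib.RingTheory.Finiteness.ModuleFinitePresentation
import Mathlib.RingTheory.Finiteness.Projective

/-!
# Weil restriction of closed subschemes along finite locally free morphisms

`exists_closed_restr`: for `π : Y ⟶ X` finite, flat, lfp and a closed immersion `e : E ⟶ Y`, the condition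
`Restr π e` is factorisation through a closed immersion `j : Z ⟶ X`, which is lfp when `e` is.
-/

set_option autoImplicit false
universe u
open CategoryTheory CategoryTheory.Limits AlgebraicGeometry TensorProduct

namespace Groth.Agent.Lib.GrpSch.FiniteRestr

open FreeRestr

section Ring

variable {A : Type u} [CommRing A]

/-- The ideal cutting out the vanishing of an ideal of a finite projective algebra. -/
theorem exists_coordIdeal (B : Type u) [CommRing B] [Algebra A B] [Module.Finite A B] [Module.Projective A B]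
    (I : Ideal B) : ∃ J : Ideal A, (I.FG → J.FG) ∧ ∀ (C : Type u) [CommRing C] [Algebra A C],
      (∀ b ∈ I, b ⊗ₜ[A] (1 : C) = 0) ↔ J ≤ RingHom.ker (algebraMap A C) := by
  obtain ⟨n, p, s, -, -, hps⟩ := Module.Finite.exists_comp_eq_id_of_projective A B
  have hps' : ∀ b, p (s b) = b := fun b => LinearMap.congr_fun hps b
  let e : Fin n → B := fun l => p (Pi.single l 1)
  have hsum : ∀ b, b = ∑ l, s b l • e l := fun b => by
    conv_lhs => rw [← hps' b, pi_eq_sum_univ' (s b)]
    simp [e]
  refine ⟨Ideal.span (Set.range fun q : ↥(I : Set B) × Fin n => s q.1.1 q.2), fun hI => ?_, fun C _ _ => ?_⟩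
  · obtain ⟨t, ht⟩ := hI
    classical
    refine ⟨(t ×ˢ (Finset.univ : Finset (Fin n × Fin n))).image fun q => s (e q.2.1 * q.1) q.2.2, ?_⟩
    refine le_antisymm (Ideal.span_le.2 fun a ha => ?_) (Ideal.span_le.2 ?_)
    · simp only [Finset.coe_image, Set.mem_image, SetLike.mem_coe, Finset.mem_product] at ha
      obtain ⟨q, ⟨hq, -⟩, rfl⟩ := ha
      exact Ideal.subset_span ⟨(⟨_, I.mul_mem_left _ (ht ▸ Ideal.subset_span hq)⟩, q.2.2), rfl⟩
    · rintro _ ⟨⟨⟨b₀, hb₀⟩, i₀⟩, rfl⟩
      suffices key : ∀ b ∈ Submodule.span B (t : Set B), ∀ i, s b i ∈ Ideal.span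
          (((t ×ˢ (Finset.univ : Finset (Fin n × Fin n))).image fun q => s (e q.2.1 * q.1) q.2.2 : Finset A) : Set A) from
        key b₀ (show b₀ ∈ Ideal.span (t : Set B) by rw [show Ideal.span (t : Set B) = I from ht]; exact hb₀) i₀
      intro b hb
      induction hb using Submodule.span_induction with
      | mem g hg =>
        intro i
        have : g = (∑ l, s 1 l • e l) * g := by rw [← hsum 1, one_mul]
        rw [this, Finset.sum_mul, map_sum, Finset.sum_apply]
        refine Ideal.sum_mem _ fun l _ => ?_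
        rw [smul_mul_assoc, map_smul, Pi.smul_apply, smul_eq_mul]
        exact Ideal.mul_mem_left _ _ (Ideal.subset_span (by
          simp only [Finset.coe_image, Set.mem_image, SetLike.mem_coe, Finset.mem_product]
          exact ⟨(g, l, i), ⟨hg, Finset.mem_univ _⟩, rfl⟩))
      | zero => intro i; simp
      | add x y _ _ hx hy => intro i; rw [map_add, Pi.add_apply]; exact add_mem (hx i) (hy i)
      | smul c x _ hx =>
        intro i
        rw [smul_eq_mul, hsum x, Finset.mul_sum, map_sum, Finset.sum_apply]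
        refine Ideal.sum_mem _ fun l _ => ?_
        rw [mul_smul_comm, map_smul, Pi.smul_apply, smul_eq_mul]
        exact Ideal.mul_mem_right _ _ (hx l)
  · constructor
    · intro h
      rw [Ideal.span_le]
      rintro _ ⟨⟨⟨b, hb⟩, i⟩, rfl⟩
      have h2 := congrArg (TensorProduct.map ((LinearMap.proj i).comp s) (LinearMap.id (M := C))) (h b hb)
      rw [TensorProduct.map_tmul, map_zero] at h2
      have h3 := congrArg (TensorProduct.lid A C) h2
      simpa [Algebra.smul_def, RingHom.mem_ker] using h3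
    · intro h b hb
      rw [hsum b, TensorProduct.sum_tmul]
      refine Finset.sum_eq_zero fun l _ => ?_
      rw [TensorProduct.smul_tmul, Algebra.smul_def, mul_one,
        show algebraMap A C (s b l) = 0 from h (Ideal.subset_span ⟨(⟨b, hb⟩, l), rfl⟩), TensorProduct.tmul_zero]

/-- Over an affine base. -/
theorem exists_restr_spec (B : Type u) [CommRing B] [Algebra A B] [Module.Finite A B] [Module.Projective A B]
    {E Y : Scheme.{u}} (π : Y ⟶ Spec (.of A)) (e : E ⟶ Y) [IsClosedImmersion e] (θ : Spec (.of B) ≅ Y)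
    (hθ : θ.hom ≫ π = Spec.map (CommRingCat.ofHom (algebraMap A B))) :
    ∃ J : Ideal A, (LocallyOfFinitePresentation e → J.FG) ∧ ∀ (T : Scheme.{u}) (x : T ⟶ Spec (.of A)),
      (∃ w, w ≫ Spec.map (CommRingCat.ofHom (Ideal.Quotient.mk J)) = x) ↔ Restr π e x := by
  obtain ⟨I, κ, hκ⟩ := (IsClosedImmersion.Spec_iff (f := e ≫ θ.inv)).mp inferInstance
  obtain ⟨J, hJfg, hJ⟩ := exists_coordIdeal (A := A) B I
  have hI : ∀ (W : Scheme.{u}) (p : W ⟶ Spec (.of B)), (∃ w, w ≫ e = p ≫ θ.hom) ↔
      ∃ w, w ≫ Spec.map (CommRingCat.ofHom (Ideal.Quotient.mk I)) = p := fun W p => by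
    constructor
    · rintro ⟨w, hw⟩
      refine ⟨w ≫ κ.hom, ?_⟩
      rw [Category.assoc, ← hκ, reassoc_of% hw, Iso.hom_inv_id, Category.comp_id]
    · rintro ⟨w, rfl⟩
      refine ⟨w ≫ κ.inv, ?_⟩
      rw [← cancel_mono θ.inv]
      simp only [Category.assoc, hκ, Iso.inv_hom_id_assoc, Iso.hom_inv_id, Category.comp_id]
  have hspec : ∀ (C : Type u) [CommRing C] (φ : B →+* C),
      (∃ w, w ≫ Spec.map (CommRingCat.ofHom (Ideal.Quotient.mk I)) = Spec.map (CommRingCat.ofHom φ)) ↔
        I ≤ RingHom.ker φ := by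
    intro C _ φ
    constructor
    · rintro ⟨w, hw⟩ b hb
      obtain ⟨ψ, rfl⟩ := Spec.map_surjective w
      rw [← Spec.map_comp] at hw
      have := RingHom.congr_fun (congrArg CommRingCat.Hom.hom (Spec.map_injective hw)) b
      simpa [Ideal.Quotient.eq_zero_iff_mem.mpr hb] using this.symm
    · intro h
      refine ⟨Spec.map (CommRingCat.ofHom (Ideal.Quotient.lift I φ h)), ?_⟩
      rw [← Spec.map_comp]
      congr 1
  refine ⟨J, fun he => hJfg ?_, fun T x => ⟨?_, fun hx => ?_⟩⟩
  · have h1 : LocallyOfFinitePresentation (Spec.map (CommRingCat.ofHom (Ideal.Quotient.mk I))) := by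
      rw [show Spec.map (CommRingCat.ofHom (Ideal.Quotient.mk I)) = κ.inv ≫ e ≫ θ.inv by
        rw [hκ, Iso.inv_hom_id_assoc]]
      infer_instance
    rw [HasRingHomProperty.Spec_iff (P := @LocallyOfFinitePresentation)] at h1
    haveI : Algebra.FinitePresentation B (B ⧸ I) := RingHom.finitePresentation_algebraMap.1 (by
      rw [Ideal.Quotient.algebraMap_eq]; exact h1)
    have h2 := Algebra.FinitePresentation.ker_fG_of_surjective (Ideal.Quotient.mkₐ B I) Ideal.Quotient.mk_surjective
    rwa [show RingHom.ker (Ideal.Quotient.mkₐ B I).toRingHom = I from Ideal.Quotient.mkₐ_ker B I] at h2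
  · rintro ⟨w, rfl⟩
    intro W p q hpq
    obtain ⟨v, hv⟩ := (hspec (B ⊗[A] (A ⧸ J)) Algebra.TensorProduct.includeLeftRingHom).2 (fun b hb =>
      (hJ (A ⧸ J)).2 (by rw [Ideal.Quotient.algebraMap_eq, Ideal.mk_ker]) b hb)
    obtain ⟨w', hw'⟩ := (hI W (p ≫ θ.inv)).2 ⟨pullback.lift (p ≫ θ.inv) (q ≫ w) (by
        have h' : Spec.map (CommRingCat.ofHom (algebraMap A B)) = θ.hom ≫ π := hθ.symm
        rw [h', Category.assoc, Iso.inv_hom_id_assoc, hpq, Category.assoc]) ≫
      (pullbackSpecIso A B (A ⧸ J)).hom ≫ v, by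
        simp only [Category.assoc]
        rw [hv, pullbackSpecIso_hom_fst, pullback.lift_fst]⟩
    exact ⟨w', by rw [hw', Category.assoc, Iso.inv_hom_id, Category.comp_id]⟩
  · haveI : IsClosedImmersion (Spec.map (CommRingCat.ofHom (Ideal.Quotient.mk J))) :=
      IsClosedImmersion.spec_of_surjective _ Ideal.Quotient.mk_surjective
    refine exists_factor_of_openCover _ x T.affineCover fun k => ?_
    refine ((?_ : ∀ (C : CommRingCat.{u}) (g : Spec C ⟶ T),
      ∃ w, w ≫ Spec.map (CommRingCat.ofHom (Ideal.Quotient.mk J)) = g ≫ x) _ (T.affineCover.f k))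
    intro C g
    obtain ⟨φ, hφ⟩ := Spec.map_surjective (g ≫ x)
    rw [← hφ]
    let := φ.hom.toAlgebra
    have hle : J ≤ RingHom.ker φ.hom := by
      refine (hJ (C : Type u)).1 fun b hb => ?_
      refine (hspec (B ⊗[A] (C : Type u)) Algebra.TensorProduct.includeLeftRingHom).1 ((hI _ _).1 ?_) hb
      refine (hx.precomp g) _ _
        (Spec.map (CommRingCat.ofHom (Algebra.TensorProduct.includeRight (R := A) (A := B) (B := (C : Type u))).toRingHom)) ?_
      rw [Category.assoc, hθ, ← hφ, ← Spec.map_comp, ← Spec.map_comp]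
      congr 1
      ext a
      exact ((Algebra.TensorProduct.includeLeft (R := A) (S := A) (A := B) (B := (C : Type u))).commutes a).trans
        ((Algebra.TensorProduct.includeRight (R := A) (A := B) (B := (C : Type u))).commutes a).symm
    refine ⟨Spec.map (CommRingCat.ofHom (Ideal.Quotient.lift J φ.hom hle)), ?_⟩
    rw [← Spec.map_comp]
    congr 1

end Ring

variable {E Y X : Scheme.{u}}

/-- The affine case. -/
theorem exists_restr_isAffine [IsAffine X] [IsAffine Y] (π : Y ⟶ X) [IsFinite π] [Flat π]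
    [LocallyOfFinitePresentation π] (e : E ⟶ Y) [IsClosedImmersion e] :
    ∃ (Z : Scheme.{u}) (j : Z ⟶ X), IsClosedImmersion j ∧
      (LocallyOfFinitePresentation e → LocallyOfFinitePresentation j) ∧
      ∀ (T : Scheme.{u}) (x : T ⟶ X), (∃ w, w ≫ j = x) ↔ Restr π e x := by
  letI : Algebra Γ(X, ⊤) Γ(Y, ⊤) := π.appTop.hom.toAlgebra
  haveI : Module.Finite Γ(X, ⊤) Γ(Y, ⊤) :=
    ((HasAffineProperty.iff_of_isAffine (P := @IsFinite)).1 (inferInstance : IsFinite π)).2
  haveI : Module.Flat Γ(X, ⊤) Γ(Y, ⊤) := HasRingHomProperty.appTop (P := @Flat) π inferInstance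
  haveI : Algebra.FinitePresentation Γ(X, ⊤) Γ(Y, ⊤) :=
    HasRingHomProperty.appTop (P := @LocallyOfFinitePresentation) π inferInstance
  haveI := Module.FinitePresentation.of_finite_of_finitePresentation (R := Γ(X, ⊤)) (S := Γ(Y, ⊤))
  haveI : Module.Projective Γ(X, ⊤) Γ(Y, ⊤) := Module.Flat.projective_of_finitePresentation
  obtain ⟨J, hJfg, hJ⟩ := exists_restr_spec Γ(Y, ⊤) (π ≫ X.isoSpec.hom) e Y.isoSpec.symm (by
    rw [← Scheme.isoSpec_hom_naturality, Iso.symm_hom, Iso.inv_hom_id_assoc]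
    rfl)
  refine ⟨_, Spec.map (CommRingCat.ofHom (Ideal.Quotient.mk J)) ≫ X.isoSpec.inv, ?_, fun he => ?_, fun T t => ?_⟩
  · haveI : IsClosedImmersion (Spec.map (CommRingCat.ofHom (Ideal.Quotient.mk J))) :=
      IsClosedImmersion.spec_of_surjective _ Ideal.Quotient.mk_surjective
    infer_instance
  · haveI : LocallyOfFinitePresentation (Spec.map (CommRingCat.ofHom (Ideal.Quotient.mk J))) := by
      rw [HasRingHomProperty.Spec_iff (P := @LocallyOfFinitePresentation)]
      exact RingHom.FinitePresentation.of_surjective _ Ideal.Quotient.mk_surjective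
        (by change (RingHom.ker (Ideal.Quotient.mk J)).FG; rw [Ideal.mk_ker]; exact hJfg he)
    infer_instance
  · have e1 : (∃ w, w ≫ Spec.map (CommRingCat.ofHom (Ideal.Quotient.mk J)) ≫ X.isoSpec.inv = t) ↔
        ∃ w, w ≫ Spec.map (CommRingCat.ofHom (Ideal.Quotient.mk J)) = t ≫ X.isoSpec.hom :=
      ⟨fun ⟨w, hw⟩ => ⟨w, by rw [← hw]; simp⟩, fun ⟨w, hw⟩ => ⟨w, by rw [reassoc_of% hw]; simp⟩⟩
    rw [e1, hJ]
    constructor
    · intro h W p q hpq
      exact h W p q (by rw [reassoc_of% hpq])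
    · intro h W p q hpq
      exact h W p q (by rw [← cancel_mono X.isoSpec.hom, Category.assoc, hpq, Category.assoc])

/-- Weil restriction of a closed subscheme along a finite locally free morphism. -/
theorem exists_closed_restr (π : Y ⟶ X) [IsFinite π] [Flat π] [LocallyOfFinitePresentation π]
    (e : E ⟶ Y) [IsClosedImmersion e] :
    ∃ (Z : Scheme.{u}) (j : Z ⟶ X), IsClosedImmersion j ∧
      (LocallyOfFinitePresentation e → LocallyOfFinitePresentation j) ∧
      ∀ (T : Scheme.{u}) (x : T ⟶ X), (∃ w, w ≫ j = x) ↔ Restr π e x := by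
  have main : ∀ x : X, ∃ U : X.Opens, x ∈ U ∧ ∃ (Z : Scheme.{u}) (j : Z ⟶ U.toScheme), IsClosedImmersion j ∧
      (LocallyOfFinitePresentation e → LocallyOfFinitePresentation j) ∧
      ∀ (T : Scheme.{u}) (t : T ⟶ U.toScheme), (∃ w, w ≫ j = t) ↔ Restr π e (t ≫ U.ι) := by
    intro x
    obtain ⟨U, hU, hxU, -⟩ := exists_isAffineOpen_mem_and_subset (X := X) (x := x) (U := ⊤) trivial
    haveI : IsAffine U.toScheme := hU
    let π' := π ∣_ U
    haveI : IsAffine (π ⁻¹ᵁ U).toScheme := hU.preimage π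
    haveI : IsFinite π' := IsZariskiLocalAtTarget.restrict (P := @IsFinite) inferInstance U
    haveI : Flat π' := IsZariskiLocalAtTarget.restrict (P := @Flat) inferInstance U
    haveI : LocallyOfFinitePresentation π' :=
      IsZariskiLocalAtTarget.restrict (P := @LocallyOfFinitePresentation) inferInstance U
    obtain ⟨Z, j, hj, hfp, hJ⟩ := exists_restr_isAffine π' (pullback.snd e (π ⁻¹ᵁ U).ι)
    refine ⟨U, hxU, Z, j, hj, fun he => hfp (MorphismProperty.pullback_snd _ _ he), fun T t => ?_⟩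
    rw [hJ]
    constructor
    · intro h W p q hpq
      let p' := (isPullback_morphismRestrict π U).lift (q ≫ t) p (by rw [hpq, Category.assoc])
      have hp1 : p' ≫ π' = q ≫ t := IsPullback.lift_fst _ _ _ _
      have hp2 : p' ≫ (π ⁻¹ᵁ U).ι = p := IsPullback.lift_snd _ _ _ _
      obtain ⟨w, hw⟩ := h W p' q hp1
      exact ⟨w ≫ pullback.fst e _, by rw [Category.assoc, pullback.condition, reassoc_of% hw, hp2]⟩
    · intro h W p q hpq
      obtain ⟨w, hw⟩ := h W (p ≫ (π ⁻¹ᵁ U).ι) q (by
        rw [Category.assoc, ← morphismRestrict_ι, reassoc_of% hpq])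
      exact ⟨pullback.lift w p hw, pullback.lift_snd _ _ _⟩
  obtain ⟨Z, j, hj, hZ⟩ := GrpSch.exists_closed_of_local (X := X) (fun {T} x => Restr π e x)
    (fun g x hx => Restr.precomp hx g) (fun x hx => Restr.of_local x hx) (fun x => by
      obtain ⟨U, hxU, Z, j, hj, -, h⟩ := main x
      exact ⟨U, hxU, Z, j, hj, h⟩)
  refine ⟨Z, j, hj, fun he => ?_, hZ⟩
  choose U hxU Zs js hjs hfp hP using main
  refine (IsZariskiLocalAtTarget.iff_of_iSup_eq_top (P := @LocallyOfFinitePresentation) U
    (top_le_iff.1 fun x _ => TopologicalSpace.Opens.mem_iSup.2 ⟨x, hxU x⟩)).2 fun x => ?_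
  haveI := hfp x he
  haveI := hjs x
  obtain ⟨a, ha⟩ := (hP x _ (j ∣_ U x)).2 (by
    rw [morphismRestrict_ι]; exact (hZ _ _).1 ⟨_, rfl⟩)
  obtain ⟨b, hb⟩ := (hZ _ (js x ≫ (U x).ι)).2 ((hP x _ (js x)).1 ⟨𝟙 _, Category.id_comp _⟩)
  let b' := (isPullback_morphismRestrict j (U x)).lift (js x) b hb.symm
  have hb' : b' ≫ (j ∣_ U x) = js x := IsPullback.lift_fst _ _ _ _
  haveI : IsClosedImmersion (j ∣_ U x) := IsZariskiLocalAtTarget.restrict (P := @IsClosedImmersion) hj _
  haveI : IsIso a := ⟨b', by rw [← cancel_mono (j ∣_ U x), Category.assoc, hb', ha, Category.id_comp],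
    by rw [← cancel_mono (js x), Category.assoc, ha, hb', Category.id_comp]⟩
  rw [← ha]
  infer_instance

end Groth.Agent.Lib.GrpSch.FiniteRestr
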