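import Groth.Agent.H2.Rigid.Const
import Groth.Agent.Lib.GrpSch.ConnFibre
import Mathlib.Topology.Sheaves.SheafCondition.Sites

/-!
# Blanchard's lemma: actions descend along proper morphisms with `f_* O = O`
-/

set_option autoImplicit false
universe u
open CategoryTheory CategoryTheory.Limits MonoidalCategory CartesianMonoidalCategory MonObj GrpObj AlgebraicGeometry
open TopologicalSpace

namespace Groth.Agent.Lib.GrpSch.Blanchard

open Groth.Agent.H2.Rigid

/-- `g_* O = O` is stable under flat base change. -/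
theorem push_of_isPullback {X T X' T' : Scheme.{u}} {g : X ⟶ T} {g' : X' ⟶ T'} {a : X' ⟶ X}
    {b : T' ⟶ T} [QuasiCompact g] [QuasiSeparated g] [Flat b] (hg : Push g)
    (h : IsPullback a g' g b) : Push g' := by
  let Idx := {U' : T'.Opens // IsAffineOpen U' ∧ ∃ U : T.Opens, IsAffineOpen U ∧ U' ≤ b ⁻¹ᵁ U}
  have hbasis : Opens.IsBasis (Set.range fun i : Idx => i.1) := by
    rw [Opens.isBasis_iff_nbhd]
    intro U' x hx
    obtain ⟨U, hU, hbxU, -⟩ := exists_isAffineOpen_mem_and_subset (x := b x) (U := (⊤ : T.Opens)) trivial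
    obtain ⟨V, hV, hxV, hVle⟩ := exists_isAffineOpen_mem_and_subset (x := x) (U := U' ⊓ b ⁻¹ᵁ U) ⟨hx, hbxU⟩
    exact ⟨V, ⟨⟨V, hV, U, hU, fun y hy => (hVle hy).2⟩, rfl⟩, hxV, fun y hy => (hVle hy).1⟩
  let φ : T'.sheaf ⟶ (TopCat.Sheaf.pushforward _ g'.base).obj X'.sheaf := ⟨g'.c⟩
  have hb : ∀ i : Idx, IsIso (φ.hom.app (Opposite.op i.1)) := by
    rintro ⟨U', hU', U, hU, hle⟩
    change IsIso (g'.app U')
    have hc : IsCompact (g ⁻¹ᵁ U : Set X) := QuasiCompact.isCompact_preimage _ U.2 hU.isCompact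
    have hq : IsQuasiSeparated (g ⁻¹ᵁ U : Set X) :=
      g.isQuasiSeparated_preimage hU.isQuasiSeparated
    have hUY : g' ⁻¹ᵁ U' = a ⁻¹ᵁ (g ⁻¹ᵁ U) ⊓ g' ⁻¹ᵁ U' := by
      refine (inf_eq_right.mpr ?_).symm
      intro x hx
      change (a ≫ g) x ∈ U
      rw [h.w]
      exact hle hx
    have := isIso_pushoutSection_of_isQuasiSeparated_of_flat_right h (UX := g ⁻¹ᵁ U) (US := U)
      (UT := U') (UY := g' ⁻¹ᵁ U') hle le_rfl hUY hU hU' hc hq
    have hp := (isIso_pushoutSection_iff _ _ _ _).1 this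
    have : IsIso (g.appLE U (g ⁻¹ᵁ U) le_rfl) := by
      rw [← Scheme.Hom.app_eq_appLE]
      exact (ConcreteCategory.isIso_iff_bijective _).2 (hg U)
    rw [Scheme.Hom.app_eq_appLE]
    exact hp.isIso_inr_of_isIso
  have := TopCat.Sheaf.isIso_iff_isIso_basis hbasis hb
  intro U
  have : IsIso φ.hom := inferInstanceAs (IsIso ((TopCat.Sheaf.forget _ _).map φ))
  have : IsIso (g'.app U) := (inferInstance : IsIso (φ.hom.app (Opposite.op U)))
  exact ConcreteCategory.bijective_of_isIso (g'.app U)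

theorem surjective_of_push {X T : Scheme.{u}} {g : X ⟶ T} (hg : Push g) (hc : IsClosedMap g) :
    Surjective g := by
  refine ⟨fun t => ?_⟩
  by_contra hne
  let U : T.Opens := ⟨(Set.range g)ᶜ, hc.isClosed_range.isOpen_compl⟩
  have h0 : g ⁻¹ᵁ U = ⊥ := Opens.ext (Set.eq_empty_iff_forall_notMem.2 fun x hx => hx ⟨x, rfl⟩)
  haveI : Subsingleton Γ(X, g ⁻¹ᵁ U) := by rw [h0]; infer_instance
  haveI : Subsingleton Γ(T, U) := (hg U).1.subsingleton
  have ht : t ∈ T.basicOpen (1 : Γ(T, U)) := by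
    rw [Scheme.basicOpen_of_isUnit _ isUnit_one]
    exact hne
  rw [Subsingleton.elim (1 : Γ(T, U)) 0, Scheme.basicOpen_zero] at ht
  exact ht

theorem intoSet_subset_constSet_of_push {X Y T : Scheme.{u}} {g : X ⟶ T} {f : X ⟶ Y} (hg : Push g)
    (hc : IsClosedMap g) {V : Y.Opens} (hV : IsAffineOpen V) :
    intoSet g f V ⊆ constSet g f := by
  haveI : IsAffine (V : Scheme.{u}) := hV
  let W : T.Opens := ⟨intoSet g f V, isOpen_intoSet hc V⟩
  have hr : Set.range ((g ⁻¹ᵁ W).ι ≫ f) ⊆ Set.range V.ι := by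
    rintro _ ⟨w, rfl⟩; rw [Scheme.Opens.range_ι]; exact mem_intoSet.1 w.2 _ rfl
  obtain ⟨k, hk⟩ := exists_comp_eq_of_isAffine (g ∣_ W) ((hg.restrict W) ⊤)
    (IsOpenImmersion.lift V.ι _ hr)
  intro t ht
  rw [mem_constSet]
  have key : ∀ x (hx : g x = t), f x = V.ι (k ⟨t, ht⟩) := by
    intro x hx
    have hxW : x ∈ g ⁻¹ᵁ W := by change g x ∈ intoSet g f V; rw [hx]; exact ht
    have e1 : (g ∣_ W) ⟨x, hxW⟩ = ⟨t, ht⟩ := by
      apply W.ι.isOpenEmbedding.injective
      rw [← Scheme.Hom.comp_apply, morphismRestrict_ι]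
      exact hx
    have e2 : f x = (((g ∣_ W) ≫ k) ≫ V.ι) ⟨x, hxW⟩ := by
      rw [hk, IsOpenImmersion.lift_fac]; rfl
    rw [e2, Scheme.Hom.comp_apply, Scheme.Hom.comp_apply, e1]
  intro x x' hx hx'
  rw [key x hx, key x' hx']

theorem isOpen_constSet_of_push {X Y T : Scheme.{u}} {g : X ⟶ T} {f : X ⟶ Y} (hg : Push g)
    (hc : IsClosedMap g) : IsOpen (constSet g f) := by
  haveI := surjective_of_push hg hc
  refine isOpen_iff_forall_mem_open.2 fun t ht => ?_
  obtain ⟨V, hV, htV⟩ := exists_intoSet ht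
  exact ⟨_, intoSet_subset_constSet_of_push hg hc hV, isOpen_intoSet hc V, htV⟩

section Geometric

variable {S : Scheme.{u}} {K : Type u} [Field K] (p : Spec (CommRingCat.of K) ⟶ S)

/-- The point of `Z ⊗ Spec K` defined by a `K`-point of `Z`. -/
noncomputable def pt {Z : Over S} (z : Over.mk p ⟶ Z) : (Z ⊗ Over.mk p).left :=
  (lift z (𝟙 (Over.mk p))).left (IsLocalRing.closedPoint K)

theorem left_apply_pt {Z W : Over S} (m : Z ⊗ Over.mk p ⟶ W) (z : Over.mk p ⟶ Z) :
    m.left (pt p z) = (lift z (𝟙 _) ≫ m).left (IsLocalRing.closedPoint K) := by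
  rw [Over.comp_left, Scheme.Hom.comp_apply]; rfl

theorem map_pt {Z W : Over S} (m : Z ⟶ W) (z : Over.mk p ⟶ Z) :
    (m ▷ Over.mk p).left (pt p z) = pt p (z ≫ m) := by
  rw [left_apply_pt, lift_whiskerRight]; rfl

variable [IsAlgClosed K]

theorem exists_pt {Z : Over S} [LocallyOfFiniteType Z.hom] {c : (Z ⊗ Over.mk p).left}
    (hc : c ∈ closedPoints (Z ⊗ Over.mk p).left) : ∃ z, pt p z = c := by
  let π : (Z ⊗ Over.mk p).left ⟶ Spec (CommRingCat.of K) := (snd Z (Over.mk p)).left
  haveI : LocallyOfFiniteType π := snd_left_of (P := @LocallyOfFiniteType) (Over.mk p) ‹_›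
  let q : Over.mk p ⟶ Z ⊗ Over.mk p := Over.homMk (pointOfClosedPoint π c hc) (by
    rw [← Over.w (snd Z (Over.mk p)), ← Category.assoc]
    exact (congrArg (· ≫ p) (pointOfClosedPoint_comp π c hc)).trans (Category.id_comp p))
  refine ⟨q ≫ fst _ _, ?_⟩
  have : q = lift (q ≫ fst _ _) (𝟙 _) := by
    refine CartesianMonoidalCategory.hom_ext _ _ (by simp) (Over.OverMorphism.ext ?_)
    rw [lift_snd, Over.comp_left]
    exact pointOfClosedPoint_comp π c hc
  rw [pt, ← this]
  exact pointOfClosedPoint_apply π c hc _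

theorem pt_injective {Z : Over S} [LocallyOfFiniteType Z.hom] {z z' : Over.mk p ⟶ Z}
    (h : pt p z = pt p z') : z = z' := by
  let π : (Z ⊗ Over.mk p).left ⟶ Spec (CommRingCat.of K) := (snd Z (Over.mk p)).left
  haveI : LocallyOfFiniteType π := snd_left_of (P := @LocallyOfFiniteType) (Over.mk p) ‹_›
  have hw : ∀ w : Over.mk p ⟶ Z, (lift w (𝟙 (Over.mk p))).left ≫ π = 𝟙 _ := fun w => by
    rw [← Over.comp_left, lift_snd]; rfl
  have := ext_of_apply_closedPoint_eq π (hw z) (hw z') h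
  have e : lift z (𝟙 (Over.mk p)) = lift z' (𝟙 _) := Over.OverMorphism.ext this
  simpa using congr($e ≫ fst _ _)

theorem isClosed_pt {Z : Over S} [LocallyOfFiniteType Z.hom] (z : Over.mk p ⟶ Z) :
    pt p z ∈ closedPoints (Z ⊗ Over.mk p).left := by
  let π : (Z ⊗ Over.mk p).left ⟶ Spec (CommRingCat.of K) := (snd Z (Over.mk p)).left
  haveI : LocallyOfFiniteType π := snd_left_of (P := @LocallyOfFiniteType) (Over.mk p) ‹_›
  exact (pointEquivClosedPoint π ⟨(lift z (𝟙 (Over.mk p))).left, by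
    rw [← Over.comp_left, lift_snd]; rfl⟩).2

theorem exists_pt_mem {Z : Over S} [LocallyOfFiniteType Z.hom] {A : Set (Z ⊗ Over.mk p).left}
    (hne : A.Nonempty) (hA : IsLocallyClosed A) : ∃ z, pt p z ∈ A := by
  haveI : LocallyOfFiniteType ((snd Z (Over.mk p)).left) :=
    snd_left_of (P := @LocallyOfFiniteType) (Over.mk p) ‹_›
  haveI : JacobsonSpace (Z ⊗ Over.mk p).left :=
    LocallyOfFiniteType.jacobsonSpace (Y := Spec (CommRingCat.of K)) (snd Z (Over.mk p)).left
  obtain ⟨c, hcA, hc⟩ := nonempty_inter_closedPoints hne hA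
  obtain ⟨z, rfl⟩ := exists_pt p hc
  exact ⟨z, hcA⟩

variable {G X Y : Over S} [GrpObj G]

/-- Blanchard's lemma, geometric form: after base change to an algebraically closed field, an action
composed with `f` is constant on the fibres of `G ◁ f`. -/
theorem constSet_geometric [LocallyOfFiniteType G.hom] [LocallyOfFiniteType X.hom]
    [LocallyOfFiniteType Y.hom] (a : AlgGrp.Action G X) (f : X ⟶ Y) [IsProper f.left]
    (hg : Push ((G ◁ f) ▷ Over.mk p).left) [ConnectedSpace (G ⊗ Over.mk p).left] :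
    constSet ((G ◁ f) ▷ Over.mk p).left ((a.act ≫ f) ▷ Over.mk p).left = Set.univ := by
  haveI : IsProper (G ◁ f).left := whiskerLeft_left_of (P := @IsProper) G f ‹_›
  haveI : IsProper ((G ◁ f) ▷ (Over.mk p)).left := whiskerRight_left_of (P := @IsProper) _ (Over.mk p) ‹_›
  haveI : LocallyOfFiniteType (G ⊗ Y).hom := by
    rw [← Over.w (fst G Y)]
    haveI : LocallyOfFiniteType (fst G Y).left := fst_left_of (P := @LocallyOfFiniteType) G ‹_›
    infer_instance
  haveI : LocallyOfFiniteType (G ⊗ X).hom := by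
    rw [← Over.w (fst G X)]
    haveI : LocallyOfFiniteType (fst G X).left := fst_left_of (P := @LocallyOfFiniteType) G ‹_›
    infer_instance
  set g := ((G ◁ f) ▷ (Over.mk p)).left
  set φ := ((a.act ≫ f) ▷ (Over.mk p)).left
  set C := constSet g φ
  have hC : IsOpen C := isOpen_constSet_of_push hg g.isClosedMap
  have gpt : ∀ (γ : (Over.mk p) ⟶ G) (x : (Over.mk p) ⟶ X), g (pt p (lift γ x)) = pt p (lift γ (x ≫ f)) := fun γ x => by
    rw [show g = ((G ◁ f) ▷ (Over.mk p)).left from rfl, map_pt, lift_whiskerLeft]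
  have φpt : ∀ (γ : (Over.mk p) ⟶ G) (x : (Over.mk p) ⟶ X),
      φ (pt p (lift γ x)) = pt p (lift γ x ≫ a.act ≫ f) := fun γ x => by
    rw [show φ = ((a.act ≫ f) ▷ (Over.mk p)).left from rfl, map_pt]
  -- membership of rational points
  have hmem : ∀ (γ : (Over.mk p) ⟶ G) (y : (Over.mk p) ⟶ Y), pt p (lift γ y) ∈ C ↔
      ∀ x x' : (Over.mk p) ⟶ X, x ≫ f = y → x' ≫ f = y →
        lift γ x ≫ a.act ≫ f = lift γ x' ≫ a.act ≫ f := by
    intro γ y
    constructor
    · intro h x x' hx hx'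
      refine pt_injective p ?_
      rw [← φpt, ← φpt]
      exact mem_constSet.1 h _ _ (by rw [gpt, hx]) (by rw [gpt, hx'])
    · intro h
      have hq : IsClosed ({pt p (lift γ y)} : Set _) := isClosed_pt p (lift γ y)
      let F : Set ((G ⊗ X) ⊗ (Over.mk p)).left := g ⁻¹' {pt p (lift γ y)}
      have hF : IsClosed F := hq.preimage g.continuous
      have hrat : ∀ z, pt p z ∈ F → ∃ x, z = lift γ x ∧ x ≫ f = y := by
        intro z hz
        have e : z ≫ (G ◁ f) = lift γ y := pt_injective p <| by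
          rw [← map_pt]; exact hz
        have e1 : z ≫ fst G X = γ := by simpa using congr($e ≫ fst G Y)
        have e2 : (z ≫ snd G X) ≫ f = y := by simpa using congr($e ≫ snd G Y)
        exact ⟨z ≫ snd G X, by rw [← e1, ← comp_lift, lift_fst_snd, Category.comp_id], e2⟩
      rw [mem_constSet]
      intro w w' hw hw'
      by_cases hne : F.Nonempty
      · obtain ⟨z₀, hz₀⟩ := exists_pt_mem p hne hF.isLocallyClosed
        obtain ⟨x₀, rfl, hx₀⟩ := hrat z₀ hz₀
        have hv : IsClosed ({φ (pt p (lift γ x₀))} : Set _) := by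
          rw [φpt]; exact isClosed_pt p _
        suffices hsub : F ⊆ φ ⁻¹' {φ (pt p (lift γ x₀))} from
          (hsub hw : φ w = _).trans (hsub hw' : φ w' = _).symm
        intro v hvF
        by_contra hvn
        obtain ⟨z, hz, hzn⟩ := exists_pt_mem p (A := F ∩ (φ ⁻¹' {φ (pt p (lift γ x₀))})ᶜ) ⟨v, hvF, hvn⟩
          (hF.isLocallyClosed.inter (hv.preimage φ.continuous).isOpen_compl.isLocallyClosed)
        obtain ⟨x, rfl, hx⟩ := hrat z hz
        refine hzn ?_
        change φ (pt p (lift γ x)) = φ (pt p (lift γ x₀))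
        rw [φpt, φpt, h x x₀ hx hx₀]
      · exact absurd ⟨w, hw⟩ hne
  have hone : ∀ y : (Over.mk p) ⟶ Y, pt p (lift (1 : (Over.mk p) ⟶ G) y) ∈ C := fun y => by
    rw [hmem]
    intro x x' hx hx'
    rw [act_one_assoc, act_one_assoc, hx, hx']
  -- the slice over a rational point of `Y`
  have hall : ∀ (γ : (Over.mk p) ⟶ G) (y : (Over.mk p) ⟶ Y), pt p (lift γ y) ∈ C := by
    intro γ y
    let s : G ⊗ (Over.mk p) ⟶ (G ⊗ Y) ⊗ (Over.mk p) := lift (lift (fst G (Over.mk p)) (snd G (Over.mk p) ≫ y)) (snd G (Over.mk p))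
    have hs : ∀ γ : (Over.mk p) ⟶ G, s.left (pt p γ) = pt p (lift γ y) := fun γ => by
      rw [left_apply_pt]; simp [s, pt, comp_lift]
    let L : Set (G ⊗ (Over.mk p)).left := s.left ⁻¹' C
    have hL : IsOpen L := hC.preimage s.left.continuous
    have hLc : IsClosed L := by
      refine isClosed_of_closure_subset fun v hv => ?_
      by_contra hvn
      obtain ⟨γ₀, hcl, hγ₀⟩ := exists_pt_mem p (A := closure L ∩ Lᶜ) ⟨v, hv, hvn⟩
        (isClosed_closure.isLocallyClosed.inter hL.isClosed_compl.isLocallyClosed)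
      refine hγ₀ ?_
      change s.left (pt p γ₀) ∈ C
      rw [hs, hmem]
      intro x x' hx hx'
      -- `ε ↦ (γ₀ ε⁻¹, f (ε x))`
      let τ : G ⊗ (Over.mk p) ⟶ (G ⊗ Y) ⊗ (Over.mk p) := lift (lift ((snd G (Over.mk p) ≫ γ₀) * (fst G (Over.mk p))⁻¹)
        (lift (fst G (Over.mk p)) (snd G (Over.mk p) ≫ x) ≫ a.act ≫ f)) (snd G (Over.mk p))
      have hτ : ∀ ε : (Over.mk p) ⟶ G, τ.left (pt p ε) = pt p (lift (γ₀ * ε⁻¹) (lift ε x ≫ a.act ≫ f)) := by
        intro ε
        rw [left_apply_pt]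
        simp only [τ, pt, comp_lift, MonObj.comp_mul, GrpObj.comp_inv, lift_fst, lift_snd,
          lift_snd_assoc, Category.id_comp, comp_lift_assoc]
      have h0 : pt p γ₀ ∈ τ.left ⁻¹' C := by
        change τ.left (pt p γ₀) ∈ C
        rw [hτ, mul_inv_cancel]
        exact hone _
      obtain ⟨v', hv'⟩ := mem_closure_iff.1 hcl _ (hC.preimage τ.left.continuous) h0
      obtain ⟨ε, hετ, hεL⟩ := exists_pt_mem p ⟨v', hv'⟩
        ((hC.preimage τ.left.continuous).inter hL).isLocallyClosed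
      rw [Set.mem_preimage, hτ, hmem] at hετ
      change s.left (pt p ε) ∈ C at hεL
      rw [hs, hmem] at hεL
      have := hετ (lift ε x ≫ a.act) (lift ε x' ≫ a.act) (Category.assoc _ _ _)
        ((Category.assoc _ _ _).trans (hεL x x' hx hx').symm)
      rwa [← Category.assoc, ← Category.assoc, ← act_mul, ← act_mul, inv_mul_cancel_right,
        Category.assoc, Category.assoc] at this
    have hne : pt p (1 : (Over.mk p) ⟶ G) ∈ L := by
      change s.left (pt p 1) ∈ C
      rw [hs]; exact hone y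
    have : L = Set.univ := IsClopen.eq_univ ⟨hLc, hL⟩ ⟨_, hne⟩
    have := this.ge (Set.mem_univ (pt p γ))
    change s.left (pt p γ) ∈ C at this
    rwa [hs] at this
  by_contra hne
  obtain ⟨z, hz⟩ := exists_pt_mem p (Set.nonempty_compl.2 hne) hC.isClosed_compl.isLocallyClosed
  refine hz ?_
  have := hall (z ≫ fst G Y) (z ≫ snd G Y)
  rwa [← comp_lift, lift_fst_snd, Category.comp_id] at this

end Geometric

section Field

variable {k : Type u} [Field k] {G X Y : Over (Spec (CommRingCat.of k))} [GrpObj G]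

theorem push_whiskerLeft (Z : Over (Spec (CommRingCat.of k))) (f : X ⟶ Y) [IsProper f.left]
    (hf : Push f.left) : Push (Z ◁ f).left := by
  haveI : Flat Z.hom := inferInstance
  haveI : Flat (snd Z Y).left := snd_left_of (P := @Flat) Y ‹_›
  exact push_of_isPullback hf (isPullback_whiskerLeft Z f).flip

theorem hom_ext_whiskerLeft (Z : Over (Spec (CommRingCat.of k))) (f : X ⟶ Y) [IsProper f.left]
    (hf : Push f.left) {W : Over (Spec (CommRingCat.of k))} {k₁ k₂ : Z ⊗ Y ⟶ W}
    (e : (Z ◁ f) ≫ k₁ = (Z ◁ f) ≫ k₂) : k₁ = k₂ := by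
  haveI : IsProper (Z ◁ f).left := whiskerLeft_left_of (P := @IsProper) Z f ‹_›
  have hp := push_whiskerLeft Z f hf
  haveI := surjective_of_push hp (Z ◁ f).left.isClosedMap
  exact Over.OverMorphism.ext (hp.hom_ext (congrArg CommaMorphism.left e))

/-- An action descends along a proper morphism with `f_* O = O` as soon as the composite is
set-theoretically constant on the fibres. -/
theorem existsUnique_action (a : AlgGrp.Action G X) (f : X ⟶ Y) [IsProper f.left] (hf : Push f.left)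
    (hconst : constSet (G ◁ f).left (a.act ≫ f).left = Set.univ) :
    ∃! b : AlgGrp.Action G Y, (G ◁ f) ≫ b.act = a.act ≫ f := by
  haveI : IsProper (G ◁ f).left := whiskerLeft_left_of (P := @IsProper) G f ‹_›
  have hp := push_whiskerLeft G f hf
  haveI := surjective_of_push hp (G ◁ f).left.isClosedMap
  obtain ⟨m, hm⟩ := Push.exists_factor (f := (a.act ≫ f).left) hp (G ◁ f).left.isClosedMap hconst
  have hw : m ≫ Y.hom = (G ⊗ Y).hom := hp.hom_ext (by
    rw [← Category.assoc, hm, Over.w, Over.w])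
  let act : G ⊗ Y ⟶ Y := Over.homMk m hw
  have hact : (G ◁ f) ≫ act = a.act ≫ f := Over.OverMorphism.ext hm
  refine ⟨⟨act, ?_, ?_⟩, hact, fun b hb => action_ext (hom_ext_whiskerLeft G f hf (hb.trans hact.symm))⟩
  · refine hom_ext_whiskerLeft _ f hf ?_
    rw [← Category.assoc, whisker_exchange, Category.assoc, hact, ← Category.assoc, a.one_act,
      leftUnitor_naturality]
  · refine hom_ext_whiskerLeft _ f hf ?_
    rw [← Category.assoc, whisker_exchange, Category.assoc, hact, ← Category.assoc, a.mul_act]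
    simp only [Category.assoc]
    rw [← hact, ← Category.assoc (G ◁ a.act), ← whiskerLeft_comp, ← hact, whiskerLeft_comp,
      Category.assoc, associator_naturality_right_assoc]

/-- Blanchard's lemma over a field. -/
theorem constSet_eq_univ_of_connected [LocallyOfFiniteType G.hom] [LocallyOfFiniteType X.hom]
    [LocallyOfFiniteType Y.hom] [ConnectedSpace ↥G.left] (a : AlgGrp.Action G X) (f : X ⟶ Y)
    [IsProper f.left] (hf : Push f.left) :
    constSet (G ◁ f).left (a.act ≫ f).left = Set.univ := by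
  let K := AlgebraicClosure k
  let p : Spec (CommRingCat.of K) ⟶ Spec (CommRingCat.of k) :=
    Spec.map (CommRingCat.ofHom (algebraMap k K))
  haveI : Flat p := inferInstance
  haveI : Surjective p := inferInstance
  haveI : GeometricallyConnected G.hom :=
    geometricallyConnected_of_rationalPoint G.hom η[G].left (Over.w η[G])
  haveI : ConnectedSpace (G ⊗ Over.mk p).left :=
    GeometricallyConnected.geometrically_connectedSpace _ _ _ (isPullback_left G (Over.mk p))
  haveI : IsProper (G ◁ f).left := whiskerLeft_left_of (P := @IsProper) G f ‹_›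
  haveI : Flat (fst (G ⊗ Y) (Over.mk p)).left := fst_left_of (P := @Flat) (G ⊗ Y) ‹_›
  haveI : Surjective (fst (G ⊗ Y) (Over.mk p)).left := fst_left_of (P := @Surjective) (G ⊗ Y) ‹_›
  have sq := isPullback_whiskerRight (G ◁ f) (Over.mk p)
  have hpK : Push ((G ◁ f) ▷ Over.mk p).left :=
    push_of_isPullback (push_whiskerLeft G f hf) sq.flip
  have hK := constSet_geometric p a f hpK
  refine Set.eq_univ_of_forall fun t => mem_constSet.2 fun x x' hx hx' => ?_
  obtain ⟨t', ht'⟩ := (fst (G ⊗ Y) (Over.mk p)).left.surjective t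
  obtain ⟨w, hwt, hwx⟩ := Scheme.exists_preimage_of_isPullback sq t' x (ht'.trans hx.symm)
  obtain ⟨w', hwt', hwx'⟩ := Scheme.exists_preimage_of_isPullback sq t' x' (ht'.trans hx'.symm)
  have e := mem_constSet.1 (hK.ge (Set.mem_univ t')) w w' hwt hwt'
  have hn : ((a.act ≫ f) ▷ Over.mk p).left ≫ (fst Y (Over.mk p)).left =
      (fst (G ⊗ X) (Over.mk p)).left ≫ (a.act ≫ f).left := by
    rw [← Over.comp_left, ← Over.comp_left, whiskerRight_fst]
  have := congr((fst Y (Over.mk p)).left $e)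
  rwa [← Scheme.Hom.comp_apply, ← Scheme.Hom.comp_apply, hn, Scheme.Hom.comp_apply,
    Scheme.Hom.comp_apply, hwx, hwx'] at this

end Field

end Groth.Agent.Lib.GrpSch.Blanchard
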