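import Groth.Agent.Lib.GrpQ.MonoClosed
import Groth.Agent.Lib.FFDesc.Datum

/-!
# A monomorphism of group schemes whose image contains the identity component is a closed immersion
-/

set_option autoImplicit false
universe u

open CategoryTheory CategoryTheory.Limits MonoidalCategory CartesianMonoidalCategory MonObj AlgebraicGeometry
open Groth.Agent.Lib.GrpQ.MonoClosed

namespace Groth.Agent.Lib.GrpSch

variable {k : Type u} [Field k]

/-- Left multiplication by a rational point. -/
noncomputable def lmulIso {G : Over (Spec (CommRingCat.of k))} [GrpObj G]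
    (c : 𝟙_ (Over (Spec (CommRingCat.of k))) ⟶ G) : G ≅ G where
  hom := (toUnit G ≫ c) * 𝟙 G
  inv := (toUnit G ≫ c⁻¹) * 𝟙 G
  hom_inv_id := by
    rw [MonObj.comp_mul, ← Category.assoc, Category.comp_id, comp_toUnit, ← _root_.mul_assoc, GrpObj.comp_inv,
      inv_mul_cancel, _root_.one_mul]
  inv_hom_id := by
    rw [MonObj.comp_mul, ← Category.assoc, Category.comp_id, comp_toUnit, ← _root_.mul_assoc, GrpObj.comp_inv,
      mul_inv_cancel, _root_.one_mul]

theorem comp_lmulIso {G T : Over (Spec (CommRingCat.of k))} [GrpObj G]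
    (c : 𝟙_ (Over (Spec (CommRingCat.of k))) ⟶ G) (x : T ⟶ G) :
    x ≫ (lmulIso c).hom = (toUnit T ≫ c) * x := by
  rw [lmulIso, MonObj.comp_mul, ← Category.assoc, Category.comp_id, comp_toUnit]

/-- A point over a field which is defined over `k` in `G` and comes from `H` comes from a point of `H` over `k`. -/
theorem exists_factor_of_field {H G : Over (Spec (CommRingCat.of k))} (ρ : H ⟶ G) [Mono ρ]
    (c : 𝟙_ (Over (Spec (CommRingCat.of k))) ⟶ G) (T : Over (Spec (CommRingCat.of k)))
    [Nonempty T.left] [QuasiCompact T.hom] (g : T ⟶ H) (h : g ≫ ρ = toUnit T ≫ c) :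
    ∃ c' : 𝟙_ (Over (Spec (CommRingCat.of k))) ⟶ H, c' ≫ ρ = c := by
  haveI : Mono ρ.left := (Over.forget _).map_mono ρ
  haveI : Surjective T.hom := ⟨fun y => ⟨Classical.arbitrary _, Subsingleton.elim (α := PrimeSpectrum k) _ _⟩⟩
  haveI : Flat T.hom := inferInstance
  haveI := (FFDesc.fpqcCover_of_quasiCompact T.hom).effectiveEpi
  have hl : g.left ≫ ρ.left = T.hom ≫ c.left := congrArg CommaMorphism.left h
  obtain ⟨d, hd⟩ : ∃ d : Spec (CommRingCat.of k) ⟶ H.left, T.hom ≫ d = g.left :=
    ⟨EffectiveEpi.desc T.hom g.left fun g₁ g₂ e => (cancel_mono ρ.left).1 (by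
        simp only [Category.assoc, hl, reassoc_of% e]),
      EffectiveEpi.fac _ _ _⟩
  refine ⟨Over.homMk d ((cancel_epi T.hom).1 ?_), Over.OverMorphism.ext ((cancel_epi T.hom).1 ?_)⟩
  · rw [← Category.assoc, hd, Over.w g]
    exact (Category.comp_id _).symm
  · change T.hom ≫ d ≫ ρ.left = T.hom ≫ c.left
    rw [← Category.assoc, hd, hl]

/-- A monomorphism of group schemes through which an open neighbourhood subgroup factors is a closed immersion. -/
theorem isClosedImmersion_of_open_factor [IsAlgClosed k] {H G R : Over (Spec (CommRingCat.of k))}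
    [GrpObj H] [GrpObj G] [GrpObj R] [LocallyOfFiniteType G.hom] (ρ : H ⟶ G) [IsMonHom ρ] [Mono ρ]
    (r : R ⟶ G) [IsMonHom r] [IsOpenImmersion r.left] (σ : R ⟶ H) (hσ : σ ≫ ρ = r) :
    IsClosedImmersion ρ.left := by
  haveI : Mono ρ.left := (Over.forget _).map_mono ρ
  haveI : JacobsonSpace G.left := LocallyOfFiniteType.jacobsonSpace G.hom
  refine IsZariskiLocalAtTarget.of_forall_exists_morphismRestrict fun y => ?_
  obtain ⟨c, hc⟩ := exists_ptOf (X := G) (s := closure {y}) isClosed_closure.isLocallyClosed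
    ⟨y, subset_closure rfl⟩
  let m : R ⟶ G := r ≫ (lmulIso c).hom
  haveI : IsIso (lmulIso c).hom.left := ((Over.forget _).mapIso (lmulIso c)).isIso_hom
  haveI : IsOpenImmersion m.left := by
    change IsOpenImmersion (r.left ≫ (lmulIso c).hom.left); infer_instance
  refine ⟨m.left.opensRange, (specializes_iff_mem_closure.2 hc).mem_open m.left.opensRange.2 ?_, ?_⟩
  · refine ⟨ptOf (1 : 𝟙_ (Over (Spec (CommRingCat.of k))) ⟶ R), ?_⟩
    rw [ptOf_comp]
    congr 1
    rw [← Category.assoc, comp_lmulIso, MonObj.one_comp, _root_.mul_one, toUnit_unique (toUnit _) (𝟙 _),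
      Category.id_comp]
  by_cases hne : ∃ w, ρ.left w ∈ m.left.opensRange
  · obtain ⟨w, hw⟩ := hne
    let T : Over (Spec (CommRingCat.of k)) := Over.mk (H.left.fromSpecResidueField w ≫ H.hom)
    let gw : T ⟶ H := Over.homMk (H.left.fromSpecResidueField w) rfl
    have hsub : Set.range (gw ≫ ρ).left ⊆ Set.range m.left := by
      rintro _ ⟨t, rfl⟩
      change ρ.left (H.left.fromSpecResidueField w t) ∈ _
      rw [show H.left.fromSpecResidueField w t = w from by
        have := H.left.range_fromSpecResidueField w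
        exact this.le ⟨t, rfl⟩]
      exact hw
    let xr : T ⟶ R := Over.homMk (IsOpenImmersion.lift m.left (gw ≫ ρ).left hsub) (by
      rw [← Over.w m, IsOpenImmersion.lift_fac_assoc]; exact Over.w (gw ≫ ρ))
    have hxr : xr ≫ m = gw ≫ ρ := Over.OverMorphism.ext (IsOpenImmersion.lift_fac _ _ _)
    haveI : Nonempty T.left := inferInstanceAs (Nonempty (Spec (H.left.residueField w)))
    haveI : IsAffine T.left := inferInstanceAs (IsAffine (Spec (H.left.residueField w)))
    haveI : IsAffineHom T.hom := inferInstance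
    haveI : QuasiCompact T.hom := inferInstance
    obtain ⟨c', hc'⟩ := exists_factor_of_field ρ c T (gw * (xr ≫ σ)⁻¹) (by
      rw [MonObj.mul_comp, GrpObj.inv_comp, Category.assoc, hσ, mul_inv_eq_iff_eq_mul, ← hxr, ← comp_lmulIso,
        Category.assoc])
    let s : R ⟶ H := (toUnit R ≫ c') * σ
    have hs : s ≫ ρ = m := by
      rw [MonObj.mul_comp, hσ, Category.assoc, hc']
      exact (comp_lmulIso c r).symm
    have hsl : s.left ≫ ρ.left = m.left := congrArg CommaMorphism.left hs
    let sec : R.left ⟶ pullback ρ.left m.left := pullback.lift s.left (𝟙 _) (by rw [hsl, Category.id_comp])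
    haveI : IsSplitEpi (pullback.snd ρ.left m.left) := IsSplitEpi.mk' ⟨sec, pullback.lift_snd _ _ _⟩
    haveI : IsIso (pullback.snd ρ.left m.left) := isIso_of_mono_of_isSplitEpi _
    exact (MorphismProperty.arrow_mk_iso_iff @IsClosedImmersion (morphismRestrictOpensRange ρ.left m.left)).2
      inferInstance
  · haveI : IsEmpty ((ρ.left ⁻¹ᵁ m.left.opensRange : H.left.Opens) : Scheme.{u}) := ⟨fun x => hne ⟨x.1, x.2⟩⟩
    infer_instance

end Groth.Agent.Lib.GrpSch
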