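import Groth.Agent.Lib.GrpSch.InfAut

/-!
# Morphisms `X ⊗ Spec k[ε] ⟶ X` extending the identity and derivations
-/

set_option autoImplicit false
universe u

open CategoryTheory CategoryTheory.Limits MonoidalCategory CartesianMonoidalCategory MonObj AlgebraicGeometry
open TopologicalSpace Opposite TrivSqZeroExt

noncomputable section

namespace Groth.Agent.Lib.GrpSch.InfAut.Thick

variable {k : Type u} [Field k] {X : Over (Spec (CommRingCat.of k))}

/-- Constants on a smaller open. -/
theorem scal_map {U V : X.left.Opens} (h : V ≤ U) (c : k) :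
    X.left.presheaf.map (homOfLE h).op (scal U c) = scal V c :=
  ConcreteCategory.congr_hom (Scheme.Hom.appLE_map X.hom le_top (homOfLE h).op) _

theorem scal_comp (U : X.left.Opens) (φ : X ⊗ dual k ⟶ X) (e : π X ⁻¹ᵁ U ≤ φ.left ⁻¹ᵁ U) (c : k) :
    φ.left.appLE U (π X ⁻¹ᵁ U) e (scal U c) = (π X).app U (scal U c) := by
  have e1 := Scheme.Hom.appLE_comp_appLE φ.left X.hom ⊤ U (π X ⁻¹ᵁ U) le_top e
  have e2 := Scheme.Hom.appLE_comp_appLE (π X) X.hom ⊤ U (π X ⁻¹ᵁ U) le_top le_rfl
  rw [Scheme.Hom.app_eq_appLE]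
  refine (ConcreteCategory.congr_hom e1 ((Scheme.ΓSpecIso (CommRingCat.of k)).inv c)).trans
    (Eq.trans ?_ (ConcreteCategory.congr_hom e2 ((Scheme.ΓSpecIso (CommRingCat.of k)).inv c)).symm)
  have h1 : π X ≫ X.hom = φ.left ≫ X.hom := (Over.w (fst X (dual k))).trans (Over.w φ).symm
  simp only [h1]

variable (hφ : ∀ U, Function.Bijective (θ (X := X) U))

/-- The `ε`-coefficient of the pull back by a morphism extending the identity. -/
def coef (φ : X ⊗ dual k ⟶ X) (hs : (sec X).left ≫ φ.left = 𝟙 _) (U : X.left.Opens) (x : Γ(X.left, U)) :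
    Γ(X.left, U) :=
  TrivSqZeroExt.snd ((Function.surjInv (hφ U).2) (φ.left.appLE U (π X ⁻¹ᵁ U) (preimage_le hs U) x))

theorem θ_coef (φ : X ⊗ dual k ⟶ X) (hs : (sec X).left ≫ φ.left = 𝟙 _) (U : X.left.Opens) (x : Γ(X.left, U)) :
    φ.left.appLE U (π X ⁻¹ᵁ U) (preimage_le hs U) x = θ U (inl x + inr (coef hφ φ hs U x)) := by
  have h := Function.surjInv_eq (hφ U).2 (φ.left.appLE U (π X ⁻¹ᵁ U) (preimage_le hs U) x)
  have h1 : TrivSqZeroExt.fst (Function.surjInv (hφ U).2 (φ.left.appLE U (π X ⁻¹ᵁ U) (preimage_le hs U) x)) = x := by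
    rw [← sec_θ U, h, ← ConcreteCategory.comp_apply, Scheme.Hom.appLE_comp_appLE]
    simp only [hs]
    simp only [Scheme.Hom.appLE, Scheme.Hom.id_app]
    erw [X.left.presheaf.map_id, Category.comp_id]
    rfl
  conv_lhs => rw [← h]
  congr 1
  ext
  · simp [h1]
  · simp [coef]

/-- The derivation of a morphism extending the identity. -/
def derOf (φ : X ⊗ dual k ⟶ X) (hs : (sec X).left ≫ φ.left = 𝟙 _) :
    OmegaSh.Der X.hom (Coh.structureModule X.left) where
  d {U} := OmegaSh.strSect X.left U.unop |>.comp (AddMonoidHom.mk' (coef hφ φ hs U.unop) fun a b => by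
    have h := θ_coef hφ φ hs U.unop (a + b)
    rw [map_add, θ_coef hφ φ hs, θ_coef hφ φ hs, ← map_add] at h
    have h2 := congrArg TrivSqZeroExt.snd ((hφ U.unop).1 h)
    simpa using h2.symm)
  d_mul {U} a b := by
    have h := θ_coef hφ φ hs U.unop (a * b)
    rw [map_mul, θ_coef hφ φ hs, θ_coef hφ φ hs, ← map_mul] at h
    have h2 := congrArg TrivSqZeroExt.snd ((hφ U.unop).1 h)
    change coef hφ φ hs U.unop (a * b) = a * coef hφ φ hs U.unop b + b * coef hφ φ hs U.unop a
    simp [DualNumber.snd_mul] at h2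
    rw [← h2]
    ring
  d_map {U V} i x := by
    have hle : V.unop ≤ U.unop := i.unop.le
    have h := congrArg ((P X).presheaf.map (homOfLE ((π X).preimage_mono hle)).op).hom (θ_coef hφ φ hs U.unop x)
    have h' : (P X).presheaf.map (homOfLE ((π X).preimage_mono hle)).op
        (φ.left.appLE U.unop (π X ⁻¹ᵁ U.unop) (preimage_le hs _) x) =
        φ.left.appLE V.unop (π X ⁻¹ᵁ V.unop) (preimage_le hs _) (X.left.presheaf.map i x) := by
      rw [← ConcreteCategory.comp_apply, ← ConcreteCategory.comp_apply, Scheme.Hom.appLE_map, Scheme.Hom.map_appLE]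
    have h'' := (h'.symm.trans h).trans (map_θ hle _)
    rw [θ_coef hφ φ hs] at h''
    have h2 := congrArg TrivSqZeroExt.snd ((hφ V.unop).1 h'')
    simp only [fst_add, fst_inl, fst_inr, snd_add, snd_inl, snd_inr, add_zero, zero_add] at h2
    exact h2
  d_app {V} c := by
    have hc : X.hom.app V.unop c = X.hom.appLE V.unop (X.hom ⁻¹ᵁ V.unop) le_rfl c := by
      rw [Scheme.Hom.appLE_eq_app]
    have h := θ_coef hφ φ hs (X.hom ⁻¹ᵁ V.unop) (X.hom.app V.unop c)
    have h1 : φ.left.appLE (X.hom ⁻¹ᵁ V.unop) (π X ⁻¹ᵁ (X.hom ⁻¹ᵁ V.unop)) (preimage_le hs _) (X.hom.app V.unop c) =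
        (π X).app (X.hom ⁻¹ᵁ V.unop) (X.hom.app V.unop c) := by
      rw [hc, Scheme.Hom.app_eq_appLE (π X), ← ConcreteCategory.comp_apply, ← ConcreteCategory.comp_apply,
        Scheme.Hom.appLE_comp_appLE, Scheme.Hom.appLE_comp_appLE]
      have h1 : π X ≫ X.hom = φ.left ≫ X.hom := (Over.w (fst X (dual k))).trans (Over.w φ).symm
      simp only [h1]
    rw [h1, ← θ_inl] at h
    have h2 := congrArg TrivSqZeroExt.snd ((hφ _).1 h)
    simp only [snd_add, snd_inl, snd_inr, zero_add] at h2
    exact h2.symm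

/-- A morphism extending the identity with zero derivation is the projection. -/
theorem eq_fst_of_derOf (φ : X ⊗ dual k ⟶ X) (hs : (sec X).left ≫ φ.left = 𝟙 _)
    (h0 : ∀ U s, (derOf hφ φ hs).app U s = 0) : φ = fst X (dual k) := by
  apply Over.OverMorphism.ext
  change φ.left = π X
  have hb : φ.left.base = (π X).base := by
    ext y; exact base_eq hs y
  refine Scheme.Hom.ext hb fun U => ?_
  ext x : 2
  have h := θ_coef hφ φ hs U x
  rw [show coef hφ φ hs U x = 0 from h0 U x, inr_zero, add_zero, θ_inl] at h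
  exact h

section OfDer

variable (D : OmegaSh.Der X.hom (Coh.structureModule X.left))

/-- The value of the derivation as a function. -/
def fD (U : X.left.Opens) (x : Γ(X.left, U)) : Γ(X.left, U) := OmegaSh.fnSect X.left U (D.app U x)

theorem fD_add (U : X.left.Opens) (x y : Γ(X.left, U)) : fD D U (x + y) = fD D U x + fD D U y := by
  simp [fD]

theorem fD_mul (U : X.left.Opens) (x y : Γ(X.left, U)) : fD D U (x * y) = x * fD D U y + y * fD D U x :=
  D.d_mul (X := op U) x y

theorem fD_map {U V : X.left.Opens} (h : V ≤ U) (x : Γ(X.left, U)) :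
    fD D V (X.left.presheaf.map (homOfLE h).op x) = X.left.presheaf.map (homOfLE h).op (fD D U x) :=
  D.d_map (homOfLE h).op x

theorem fD_app (V : (Spec (CommRingCat.of k)).Opens) (c : Γ(Spec (CommRingCat.of k), V)) :
    fD D (X.hom ⁻¹ᵁ V) (X.hom.app V c) = 0 :=
  D.d_app (X := op V) c

/-- `x ↦ x + ε D x`. -/
def ringOfDer (U : X.left.Opens) : Γ(X.left, U) →+* Γ(P X, π X ⁻¹ᵁ U) :=
  (θ U).comp
    { toFun := fun x => inl x + inr (fD D U x)
      map_one' := by
        have h := fD_mul D U 1 1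
        simp only [_root_.one_mul] at h
        ext
        · simp
        · simpa using h.symm
      map_mul' := fun x y => by
        ext
        · simp
        · simp [fD_mul, DualNumber.snd_mul]; ring
      map_zero' := by
        have h := fD_add D U 0 0
        simp only [add_zero] at h
        ext
        · simp
        · simpa using h.symm
      map_add' := fun x y => by ext <;> simp [fD_add] }

theorem ringOfDer_apply (U : X.left.Opens) (x : Γ(X.left, U)) :
    ringOfDer D U x = (π X).app U x + eps U * (π X).app U (fD D U x) := by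
  change (π X).app U _ + eps U * (π X).app U _ = _
  simp

/-- The presheafed morphism of a derivation. -/
def preOfDer : (P X).toPresheafedSpace ⟶ X.left.toPresheafedSpace where
  base := (π X).base
  c :=
    { app := fun U => CommRingCat.ofHom (ringOfDer D U.unop)
      naturality := fun U V i => by
        ext x : 2
        change ringOfDer D V.unop (X.left.presheaf.map i x) =
          (P X).presheaf.map (homOfLE ((π X).preimage_mono i.unop.le)).op (ringOfDer D U.unop x)
        change θ V.unop _ = (P X).presheaf.map _ (θ U.unop _)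
        rw [map_θ i.unop.le]
        change θ V.unop (inl _ + inr (fD D _ (X.left.presheaf.map (homOfLE i.unop.le).op x))) = θ V.unop _
        rw [fD_map D i.unop.le]
        refine congrArg (θ V.unop) ?_
        ext
        · simp only [fst_add, fst_inl, fst_inr, add_zero]
          simp
          rfl
        · simp }

/-- The scheme morphism of a derivation. -/
def schOfDer : P X ⟶ X.left :=
  ⟨⟨preOfDer D, fun y => ⟨fun a ha => by
    obtain ⟨U, hyU, x, rfl⟩ := X.left.presheaf.exists_germ_eq (x := π X y) a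
    have h1 : (preOfDer D).stalkMap y (X.left.presheaf.germ U (π X y) hyU x) =
        (P X).presheaf.germ (π X ⁻¹ᵁ U) y hyU (ringOfDer D U x) :=
      ConcreteCategory.congr_hom (PresheafedSpace.stalkMap_germ (preOfDer D) U y hyU) x
    replace ha : IsUnit ((P X).presheaf.germ (π X ⁻¹ᵁ U) y hyU (ringOfDer D U x)) := h1 ▸ ha
    rw [ringOfDer_apply, map_add, map_mul] at ha
    have hn : IsNilpotent ((P X).presheaf.germ (π X ⁻¹ᵁ U) y hyU (eps U) *
        (P X).presheaf.germ (π X ⁻¹ᵁ U) y hyU ((π X).app U (fD D U x))) := by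
      refine ⟨2, ?_⟩
      rw [mul_pow, pow_two, ← map_mul, eps_mul_eps, map_zero, zero_mul]
    have h2 := IsNilpotent.isUnit_add_right_of_commute hn.neg ha (Commute.all _ _)
    rw [neg_add_cancel_comm_assoc] at h2
    rw [← Scheme.Hom.germ_stalkMap_apply (π X) U y hyU x] at h2
    exact (isUnit_map_iff ((π X).stalkMap y).hom _).1 h2⟩⟩⟩

theorem schOfDer_appLE (U : X.left.Opens) (x : Γ(X.left, U)) :
    (schOfDer D).appLE U (π X ⁻¹ᵁ U) le_rfl x = ringOfDer D U x := by
  change ((schOfDer D).appLE U (schOfDer D ⁻¹ᵁ U) le_rfl).hom x = _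
  rw [Scheme.Hom.appLE_eq_app]
  rfl

theorem schOfDer_hom : schOfDer D ≫ X.hom = π X ≫ X.hom := by
  refine ext_of_isAffine ?_
  ext c : 2
  change ringOfDer D _ (X.hom.app ⊤ c) = (π X).app _ (X.hom.app ⊤ c)
  rw [ringOfDer_apply, fD_app, map_zero, mul_zero, add_zero]

/-- The family of a derivation. -/
def famOfDer : X ⊗ dual k ⟶ X :=
  Over.homMk (schOfDer D) ((schOfDer_hom D).trans (Over.w (fst X (dual k))))

theorem sec_famOfDer : (sec X).left ≫ (famOfDer D).left = 𝟙 _ := by
  have hb : ((sec X).left ≫ schOfDer D).base = (𝟙 X.left : _ ⟶ _).base := by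
    ext y
    change π X ((sec X).left y) = y
    rw [← Scheme.Hom.comp_apply, sec_π]
    rfl
  refine Scheme.Hom.ext hb fun U => ?_
  ext x : 2
  have h := Scheme.Hom.appLE_comp_appLE (sec X).left (schOfDer D) U (π X ⁻¹ᵁ U) U le_rfl (sec_le U)
  refine (ConcreteCategory.congr_hom h.symm x).trans ?_
  refine (congrArg ((sec X).left.appLE _ U (sec_le U)).hom (schOfDer_appLE D U x)).trans ?_
  change (sec X).left.appLE _ U (sec_le U) (θ U _) = x
  rw [sec_θ]
  simp

theorem famOfDer_appLE (U : X.left.Opens) (e : π X ⁻¹ᵁ U ≤ (famOfDer D).left ⁻¹ᵁ U) (x : Γ(X.left, U)) :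
    (famOfDer D).left.appLE U (π X ⁻¹ᵁ U) e x = ringOfDer D U x :=
  schOfDer_appLE D U x

/-- The opposite derivation. -/
def negDer : OmegaSh.Der X.hom (Coh.structureModule X.left) where
  d {U} := -D.d (X := U)
  d_mul {U} a b := by
    change -D.d (X := U) (a * b) = a • -D.d (X := U) b + b • -D.d (X := U) a
    rw [D.d_mul, neg_add, smul_neg, smul_neg]
  d_map {U V} i x := by
    change -D.d (X := V) _ = _
    rw [D.d_map, AddMonoidHom.neg_apply, map_neg]
    rfl
  d_app {V} c := by
    change -D.d (X := _) _ = 0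
    rw [D.d_app, neg_zero]

theorem endOf_comp_famOfDer :
    AutSch.endOf (famOfDer D) ≫ famOfDer (negDer D) = fst X (dual k) := by
  apply Over.OverMorphism.ext
  change (AutSch.endOf (famOfDer D)).left ≫ schOfDer (negDer D) = π X
  have hfst : (AutSch.endOf (famOfDer D)).left ≫ π X = schOfDer D := by
    change (AutSch.endOf (famOfDer D) ≫ fst _ _).left = _
    rw [AutSch.endOf_fst]
    rfl
  have hsnd : (AutSch.endOf (famOfDer D)).left ≫ (snd X (dual k)).left = (snd X (dual k)).left := by
    rw [← Over.comp_left, AutSch.endOf_snd]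
  have hb : ∀ y, π X ((AutSch.endOf (famOfDer D)).left y) = π X y := fun y => by
    rw [← Scheme.Hom.comp_apply, hfst]
    rfl
  have hle : ∀ U, π X ⁻¹ᵁ U ≤ (AutSch.endOf (famOfDer D)).left ⁻¹ᵁ (π X ⁻¹ᵁ U) := fun U y hy => by
    change π X ((AutSch.endOf (famOfDer D)).left y) ∈ U
    rw [hb]
    exact hy
  have hbase : ((AutSch.endOf (famOfDer D)).left ≫ schOfDer (negDer D)).base = (π X).base := by
    ext y; exact hb y
  refine Scheme.Hom.ext hbase fun U => ?_
  ext x : 2
  have h := Scheme.Hom.appLE_comp_appLE (AutSch.endOf (famOfDer D)).left (schOfDer (negDer D)) U (π X ⁻¹ᵁ U)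
    (π X ⁻¹ᵁ U) le_rfl (hle U)
  refine (ConcreteCategory.congr_hom h.symm x).trans ?_
  refine (congrArg ((AutSch.endOf (famOfDer D)).left.appLE _ _ (hle U)).hom (schOfDer_appLE (negDer D) U x)).trans ?_
  rw [ringOfDer_apply, map_add, map_mul]
  have h1 : ∀ a, (AutSch.endOf (famOfDer D)).left.appLE _ _ (hle U) ((π X).app U a) = ringOfDer D U a := fun a => by
    rw [Scheme.Hom.app_eq_appLE, ← ConcreteCategory.comp_apply, Scheme.Hom.appLE_comp_appLE]
    simp only [hfst]
    exact schOfDer_appLE D U a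
  have h2 : (AutSch.endOf (famOfDer D)).left.appLE _ _ (hle U) (eps U) = eps U := by
    have h3 := Scheme.Hom.appLE_comp_appLE (AutSch.endOf (famOfDer D)).left (snd X (dual k)).left ⊤ (π X ⁻¹ᵁ U)
      (π X ⁻¹ᵁ U) le_top (hle U)
    simp only [hsnd] at h3
    exact ConcreteCategory.congr_hom h3 ((Scheme.ΓSpecIso (CommRingCat.of (DualNumber k))).inv (DualNumber.eps : DualNumber k))
  rw [h1, h1, h2, ringOfDer_apply, ringOfDer_apply]
  have h4 : fD (negDer D) U x = -fD D U x := by
    change OmegaSh.fnSect X.left U (-(D.app U x)) = _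
    rw [map_neg]
    rfl
  rw [h4, map_neg]
  linear_combination (-((π X).app U (fD D U (fD (negDer D) U x)))) * 0 + (π X).app U (fD D U (-fD D U x)) * eps_mul_eps U

theorem isAutFamily_famOfDer : AutSch.IsAutFamily (famOfDer D) := by
  have hcomp : ∀ D', AutSch.endOf (famOfDer D') ≫ AutSch.endOf (famOfDer (negDer D')) = 𝟙 (X ⊗ dual k) := fun D' => by
    apply CartesianMonoidalCategory.hom_ext
    · rw [Category.assoc, AutSch.endOf_fst, endOf_comp_famOfDer, Category.id_comp]
    · rw [Category.assoc, AutSch.endOf_snd, AutSch.endOf_snd, Category.id_comp]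
  have hnn : negDer (negDer D) = D := by
    ext U x
    change -(-(D.d x)) = D.d x
    rw [neg_neg]
  exact ⟨AutSch.endOf (famOfDer (negDer D)), hcomp D, by simpa [hnn] using hcomp (negDer D)⟩

theorem eq_zero_of_famOfDer_eq (hφ : ∀ U, Function.Bijective (θ (X := X) U))
    (h : famOfDer D = fst X (dual k)) (U : X.left.Opens) (s : Γ(X.left, U)) : D.app U s = 0 := by
  have h1 := famOfDer_appLE D U le_rfl s
  have h1' : (π X).app U s = ringOfDer D U s := by
    rw [← h1, Scheme.Hom.app_eq_appLE]
    simp only [h]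
    rfl
  rw [← θ_inl] at h1'
  change θ U (inl s) = θ U (inl s + inr (fD D U s)) at h1'
  have h2 := congrArg TrivSqZeroExt.snd ((hφ U).1 h1')
  simp only [snd_add, snd_inl, snd_inr, zero_add] at h2
  exact h2.symm

end OfDer

end Groth.Agent.Lib.GrpSch.InfAut.Thick
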