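import Groth.Prelude.Def_W4bk4git07Quot
import Groth.Agent.Lib.GrpSch.Basic
import Mathlib.AlgebraicGeometry.Morphisms.FlatDescent

/-!
# Maps of torsors are cartesian
-/

set_option autoImplicit false
universe u
open CategoryTheory CategoryTheory.Limits MonoidalCategory CartesianMonoidalCategory MonObj AlgebraicGeometry

namespace Groth.Agent.Lib.GrpSch

variable {S : Scheme.{u}} {G : Over S} [GrpObj G]

/-- A torsor in the sense of an isomorphism `PsiY`. -/
theorem isPullback_of_isIso_PsiY {X Q : Over S} (a : AlgGrp.Action G X) (q : X ⟶ Q) (h : GIT.IsInvariant a q)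
    (hiso : IsIso (GIT.PsiY a q h)) : IsPullback a.act.left (snd G X).left q.left q.left :=
  IsPullback.of_iso_pullback ⟨h.left⟩ (asIso (GIT.PsiY a q h)) (pullback.lift_fst _ _ _) (pullback.lift_snd _ _ _)

set_option backward.isDefEq.respectTransparency.types false in
/-- An equivariant map of torsors is cartesian over the map of bases. -/
theorem isPullback_of_torsorMap {X P Q B : Over S} (a : AlgGrp.Action G X) (b : AlgGrp.Action G P)
    (q : X ⟶ Q) (π : P ⟶ B) (hX : IsPullback a.act.left (snd G X).left q.left q.left)
    (hP : IsPullback b.act.left (snd G P).left π.left π.left) [Flat q.left] [Surjective q.left]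
    [QuasiCompact q.left] (e : X ⟶ P) (he : a.act ≫ e = (G ◁ e) ≫ b.act) (p : Q ⟶ B) (h : q ≫ p = e ≫ π) :
    IsPullback e.left q.left π.left p.left := by
  have hl : q.left ≫ p.left = e.left ≫ π.left := congrArg (fun m => m.left) h
  let θ : X.left ⟶ pullback π.left p.left := pullback.lift e.left q.left hl.symm
  have hθ₁ : θ ≫ pullback.fst π.left p.left = e.left := pullback.lift_fst _ _ _
  have hθ₂ : θ ≫ pullback.snd π.left p.left = q.left := pullback.lift_snd _ _ _
  have big : IsPullback ((a.act.left ≫ θ) ≫ pullback.fst π.left p.left) (snd G X).left π.left (q.left ≫ p.left) := by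
    have := (isPullback_whiskerLeft G e).paste_horiz hP
    rwa [← Over.comp_left, ← he, Over.comp_left, ← hl, ← hθ₁, ← Category.assoc] at this
  have sq : IsPullback (a.act.left ≫ θ) (snd G X).left (pullback.snd π.left p.left) q.left :=
    IsPullback.of_right big (by rw [Category.assoc, hθ₂]; exact hX.w) (IsPullback.of_hasPullback π.left p.left)
  let r := pullback.fst (pullback.snd π.left p.left) q.left
  let j := sq.isoPullback
  have hj : IsPullback a.act.left j.hom θ r := by
    have hb : IsPullback r (pullback.snd (pullback.snd π.left p.left) q.left) (pullback.snd π.left p.left) q.left :=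
      IsPullback.of_hasPullback _ _
    refine IsPullback.of_bot (v₁₁ := j.hom) ?_ ?_ hb.flip.flip
    · rw [sq.isoPullback_hom_snd, hθ₂]; exact hX
    · exact (sq.isoPullback_hom_fst).symm
  have : IsIso θ :=
    MorphismProperty.DescendsAlong.of_isPullback (P := MorphismProperty.isomorphisms Scheme.{u})
      (Q := @Surjective ⊓ @Flat ⊓ @QuasiCompact) hj.flip
      ⟨⟨MorphismProperty.pullback_fst (P := @Surjective) _ _ inferInstance,
        MorphismProperty.pullback_fst (P := @Flat) _ _ inferInstance⟩,
        MorphismProperty.pullback_fst (P := @QuasiCompact) _ _ inferInstance⟩ (inferInstanceAs (IsIso j.hom))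
  exact IsPullback.of_iso_pullback ⟨hl.symm⟩ (asIso θ) hθ₁ hθ₂

end Groth.Agent.Lib.GrpSch
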