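import Groth.Agent.Lib.GrpSch.ClosedDescent
import Groth.Agent.Lib.Henselian.CoupleSigma
import Mathlib.AlgebraicGeometry.Morphisms.Flat
import Mathlib.AlgebraicGeometry.Morphisms.FinitePresentation

/-!
# Zariski-local closed subfunctors are closed subschemes
-/

set_option autoImplicit false
universe u
open CategoryTheory CategoryTheory.Limits AlgebraicGeometry

namespace Groth.Agent.Lib.GrpSch

set_option backward.isDefEq.respectTransparency false in
set_option backward.isDefEq.respectTransparency.types false in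
/-- A Zariski-local condition on morphisms into `X` which on each member of an open cover of `X` is
factorisation through a closed subscheme, is factorisation through a closed subscheme of `X`. -/
theorem exists_closed_of_local {X : Scheme.{u}} (P : ∀ {T : Scheme.{u}}, (T ⟶ X) → Prop)
    (hpre : ∀ {T T' : Scheme.{u}} (g : T' ⟶ T) (x : T ⟶ X), P x → P (g ≫ x))
    (hloc : ∀ {T : Scheme.{u}} (x : T ⟶ X),
      (∀ t : T, ∃ V : T.Opens, t ∈ V ∧ P (V.ι ≫ x)) → P x)
    (h : ∀ x : X, ∃ U : X.Opens, x ∈ U ∧ ∃ (Z : Scheme.{u}) (j : Z ⟶ U.toScheme), IsClosedImmersion j ∧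
      ∀ (T : Scheme.{u}) (t : T ⟶ U.toScheme), (∃ w, w ≫ j = t) ↔ P (t ≫ U.ι)) :
    ∃ (Z : Scheme.{u}) (j : Z ⟶ X), IsClosedImmersion j ∧
      ∀ (T : Scheme.{u}) (x : T ⟶ X), (∃ w, w ≫ j = x) ↔ P x := by
  choose U hU Zs js hjs hP using h
  let p : (∐ fun x : X => (U x).toScheme) ⟶ X := Sigma.desc fun x => (U x).ι
  let i : (∐ Zs) ⟶ ∐ fun x : X => (U x).toScheme := Limits.Sigma.map js
  have : ∀ x, IsClosedImmersion (js x) := hjs
  have : IsClosedImmersion i := Groth.Agent.Lib.Henselian.CoupleSigma.instIsClosedImmersion _ _ js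
  have : Flat p := IsZariskiLocalAtSource.sigmaDesc fun x => inferInstance
  have : LocallyOfFinitePresentation p := IsZariskiLocalAtSource.sigmaDesc fun x => inferInstance
  have hsj : Surjective p := ⟨fun x => ⟨(Sigma.ι (fun x : X => (U x).toScheme) x).base ⟨x, hU x⟩, by
    rw [← Scheme.Hom.comp_apply, Sigma.ι_desc]; rfl⟩⟩
  -- factorisation through `i` is the condition `P`
  have hiff : ∀ {T : Scheme.{u}} (t : T ⟶ ∐ fun x : X => (U x).toScheme),
      (∃ w, w ≫ i = t) ↔ P (t ≫ p) := by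
    intro T t
    constructor
    · rintro ⟨w, rfl⟩
      refine hloc _ fun z => ?_
      obtain ⟨l, v, hv⟩ := Groth.Agent.Lib.Henselian.CoupleSigma.exists_sigmaι_eq Zs (w.base z)
      refine ⟨w ⁻¹ᵁ (Sigma.ι Zs l).opensRange, ⟨v, hv⟩, ?_⟩
      have hr : Set.range ((w ⁻¹ᵁ (Sigma.ι Zs l).opensRange).ι ≫ w).base ⊆ Set.range (Sigma.ι Zs l).base := by
        rintro _ ⟨q, rfl⟩; exact q.2
      obtain ⟨w', hw'⟩ : ∃ w', w' ≫ Sigma.ι Zs l = (w ⁻¹ᵁ (Sigma.ι Zs l).opensRange).ι ≫ w :=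
        ⟨IsOpenImmersion.lift _ _ hr, IsOpenImmersion.lift_fac _ _ hr⟩
      have e : (w ⁻¹ᵁ (Sigma.ι Zs l).opensRange).ι ≫ (w ≫ i) ≫ p = (w' ≫ js l) ≫ (U l).ι := by
        rw [Category.assoc, ← reassoc_of% hw', Limits.Sigma.ι_map_assoc, Sigma.ι_desc, Category.assoc]
      rw [e]
      exact (hP l _ _).1 ⟨w', rfl⟩
    · intro ht
      let 𝒱 : T.OpenCover := (sigmaOpenCover fun x : X => (U x).toScheme).pullback₁ t
      have hmem : ∀ k : 𝒱.I₀, ∃ w, w ≫ i = 𝒱.f k ≫ t := by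
        intro k
        change ∃ w, w ≫ i = pullback.fst t (Sigma.ι (fun x : X => (U x).toScheme) k) ≫ t
        rw [pullback.condition]
        obtain ⟨w, hw⟩ := (hP k _ (pullback.snd t (Sigma.ι (fun x : X => (U x).toScheme) k))).2 (by
          have e : pullback.snd t (Sigma.ι (fun x : X => (U x).toScheme) k) ≫ (U k).ι =
              pullback.fst t (Sigma.ι (fun x : X => (U x).toScheme) k) ≫ t ≫ p := by
            rw [pullback.condition_assoc, Sigma.ι_desc]
          rw [e]; exact hpre _ _ ht)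
        exact ⟨w ≫ Sigma.ι Zs k, by rw [Category.assoc, Limits.Sigma.ι_map, reassoc_of% hw]⟩
      choose w hw using hmem
      refine ⟨𝒱.glueMorphisms w (fun a b => (cancel_mono i).1 ?_), 𝒱.hom_ext _ _ fun k => ?_⟩
      · simp only [Category.assoc, hw, pullback.condition_assoc]
      · rw [Scheme.Cover.ι_glueMorphisms_assoc, hw]
  obtain ⟨W, j, q, hj, hq⟩ := exists_closedImmersion_descent p i (fun x₀ x₁ e hx => by
    rw [hiff] at hx ⊢; rwa [← e])
  refine ⟨W, j, hj, fun T x => ?_⟩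
  constructor
  · rintro ⟨w, rfl⟩
    refine hloc _ fun z => ?_
    have hjz : j.base (w.base z) ∈ U (j.base (w.base z)) := hU _
    set l := j.base (w.base z)
    refine ⟨(w ≫ j) ⁻¹ᵁ U l, hjz, ?_⟩
    let t : ((w ≫ j) ⁻¹ᵁ U l).toScheme ⟶ (U l).toScheme := (w ≫ j) ∣_ U l
    have ht : t ≫ (U l).ι = ((w ≫ j) ⁻¹ᵁ U l).ι ≫ w ≫ j := morphismRestrict_ι _ _
    rw [← ht]
    have e : (t ≫ Sigma.ι (fun x : X => (U x).toScheme) l) ≫ p = (((w ≫ j) ⁻¹ᵁ U l).ι ≫ w) ≫ j := by
      rw [Category.assoc, Sigma.ι_desc, ht, Category.assoc]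
    have h1 := (hiff (t ≫ Sigma.ι (fun x : X => (U x).toScheme) l)).1
      ⟨hq.lift _ _ e, hq.lift_fst _ _ e⟩
    rwa [Category.assoc, Sigma.ι_desc] at h1
  · intro hx
    refine exists_factor_mono_of_cover (pullback.fst x p) (FFDesc.fpqcCover_of_lfp _) x j ?_
    obtain ⟨v, hv⟩ := (hiff (pullback.snd x p)).2 (by rw [← pullback.condition]; exact hpre _ _ hx)
    exact ⟨v ≫ q, by rw [Category.assoc, ← hq.w, reassoc_of% hv, pullback.condition]⟩

end Groth.Agent.Lib.GrpSch
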