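import Groth.Agent.Lib.GrpSch.Magnet
import Groth.Agent.Lib.GrpSch.EqvHom
import Groth.Agent.Lib.GrpSch.ClosedLocal
import Mathlib.RingTheory.TensorProduct.Free
import Mathlib.Algebra.Category.Ring.Under.Basic

/-!
# Attractors of relatively affine schemes

`OrbitFactors a N x`: the orbit map `A(M) × T ⟶ X` of `x : T ⟶ X` factors through `A(N) × T`.
-/

set_option autoImplicit false
universe u

open CategoryTheory Limits MonoidalCategory CartesianMonoidalCategory MonObj AlgebraicGeometry Opposite TensorProduct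

namespace Groth.Agent.Lib.GrpSch.AttrAffine

variable {S : Scheme.{u}} {M : Type} [AddCommMonoid M] {X : Over S}

/-- The orbit map of `x` factors through `A(N) × T`. -/
def OrbitFactors (a : Magnet.MonAct (Magnet.AMonS S M) X) (N : AddSubmonoid M) {T : Over S} (x : T ⟶ X) : Prop :=
  ∃ φ : Magnet.AMonS S N ⊗ T ⟶ X, (Magnet.AMonS.map S N.subtype ▷ T) ≫ φ = (Magnet.AMonS S M ◁ x) ≫ a.act

variable {a : Magnet.MonAct (Magnet.AMonS S M) X} {N : AddSubmonoid M}

theorem OrbitFactors.precomp {T T' : Over S} {x : T ⟶ X} (h : OrbitFactors a N x) (g : T' ⟶ T) :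
    OrbitFactors a N (g ≫ x) := by
  obtain ⟨φ, hφ⟩ := h
  refine ⟨(Magnet.AMonS S N ◁ g) ≫ φ, ?_⟩
  rw [← whisker_exchange_assoc, hφ, MonoidalCategory.whiskerLeft_comp_assoc]

theorem OrbitFactors.of_openCover [IsSeparated X.hom] {T : Over S} (x : T ⟶ X) (𝒰 : T.left.OpenCover)
    (h : ∀ k, OrbitFactors a N ((Over.homMk (U := Over.mk (𝒰.f k ≫ T.hom)) (𝒰.f k) rfl : Over.mk (𝒰.f k ≫ T.hom) ⟶ T) ≫ x)) :
    OrbitFactors a N x := by
  let Tk : 𝒰.I₀ → Over S := fun k => Over.mk (𝒰.f k ≫ T.hom)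
  let ιk : ∀ k, Tk k ⟶ T := fun k => Over.homMk (𝒰.f k)
  choose φ hφ using h
  let A := Magnet.AMonS S N
  have hoi : ∀ k, IsOpenImmersion (A ◁ ιk k).left := fun k =>
    MorphismProperty.of_isPullback (P := @IsOpenImmersion) (isPullback_whiskerLeft A (ιk k)).flip (𝒰.map_prop k)
  let 𝒲 : (A ⊗ T).left.OpenCover :=
    { I₀ := 𝒰.I₀
      X := fun k => (A ⊗ Tk k).left
      f := fun k => (A ◁ ιk k).left
      mem₀ := by
        rw [Scheme.ofArrows_mem_precoverage_iff]
        refine ⟨fun z => ?_, hoi⟩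
        obtain ⟨k, y, hy⟩ := 𝒰.exists_eq ((snd A T).left.base z)
        obtain ⟨w, hw, -⟩ := Scheme.exists_preimage_of_isPullback (isPullback_whiskerLeft A (ιk k)) z y hy.symm
        exact ⟨k, w, hw⟩ }
  have hov : ∀ (i j : 𝒲.I₀), pullback.fst (𝒲.f i) (𝒲.f j) ≫ (φ i).left =
      pullback.snd (𝒲.f i) (𝒲.f j) ≫ (φ j).left := by
    intro i j
    have hs : (pullback.fst (𝒲.f i) (𝒲.f j) ≫ (snd A (Tk i)).left) ≫ 𝒰.f i =
        (pullback.snd (𝒲.f i) (𝒲.f j) ≫ (snd A (Tk j)).left) ≫ 𝒰.f j := by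
      have e : ∀ k, (A ◁ ιk k).left ≫ (snd A T).left = (snd A (Tk k)).left ≫ 𝒰.f k := fun k =>
        (isPullback_whiskerLeft A (ιk k)).w
      rw [Category.assoc, Category.assoc, ← e i, ← e j]
      exact congrArg (· ≫ (snd A T).left) (pullback.condition (f := 𝒲.f i) (g := 𝒲.f j)) |> fun h => by
        simpa only [Category.assoc] using h
    let Tij : Over S := Over.mk (pullback.fst (𝒰.f i) (𝒰.f j) ≫ 𝒰.f i ≫ T.hom)
    let gi : Tij ⟶ Tk i := Over.homMk (pullback.fst (𝒰.f i) (𝒰.f j))
    let gj : Tij ⟶ Tk j := Over.homMk (pullback.snd (𝒰.f i) (𝒰.f j)) (by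
      change pullback.snd (𝒰.f i) (𝒰.f j) ≫ 𝒰.f j ≫ T.hom = _
      rw [← pullback.condition_assoc]; rfl)
    have hg : gi ≫ ιk i = gj ≫ ιk j := Over.OverMorphism.ext pullback.condition
    have heq : (A ◁ gi) ≫ φ i = (A ◁ gj) ≫ φ j := by
      refine ext_of_AMonS_map N.subtype Subtype.val_injective ?_
      rw [← whisker_exchange_assoc, hφ, ← whisker_exchange_assoc, hφ, ← MonoidalCategory.whiskerLeft_comp_assoc,
        ← MonoidalCategory.whiskerLeft_comp_assoc]
      change (Magnet.AMonS S M ◁ (gi ≫ ιk i ≫ x)) ≫ a.act = (Magnet.AMonS S M ◁ (gj ≫ ιk j ≫ x)) ≫ a.act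
      rw [reassoc_of% hg]
    have hcond : (pullback.fst (𝒲.f i) (𝒲.f j) ≫ (fst A (Tk i)).left) ≫ A.hom =
        pullback.lift _ _ hs ≫ Tij.hom := by
      change _ = pullback.lift _ _ hs ≫ pullback.fst _ _ ≫ 𝒰.f i ≫ T.hom
      rw [pullback.lift_fst_assoc, Category.assoc, Category.assoc]
      exact congrArg (pullback.fst (𝒲.f i) (𝒲.f j) ≫ ·) (isPullback_left A (Tk i)).w
    let v := (isPullback_left A Tij).lift _ _ hcond
    have hvi : v ≫ (A ◁ gi).left = pullback.fst (𝒲.f i) (𝒲.f j) := by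
      refine (isPullback_left A (Tk i)).hom_ext ?_ ?_
      · rw [Category.assoc, ← Over.comp_left, whiskerLeft_fst]
        exact (isPullback_left A Tij).lift_fst _ _ _
      · rw [Category.assoc, ← Over.comp_left, whiskerLeft_snd, Over.comp_left]
        exact ((isPullback_left A Tij).lift_snd_assoc _ _ _ _).trans (pullback.lift_fst _ _ _)
    have hvj : v ≫ (A ◁ gj).left = pullback.snd (𝒲.f i) (𝒲.f j) := by
      refine (isPullback_left A (Tk j)).hom_ext ?_ ?_
      · rw [Category.assoc, ← Over.comp_left, whiskerLeft_fst]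
        refine ((isPullback_left A Tij).lift_fst _ _ _).trans ?_
        have e : ∀ k, (A ◁ ιk k).left ≫ (fst A T).left = (fst A (Tk k)).left := fun k => by
          rw [← Over.comp_left, whiskerLeft_fst]
        rw [← e i, ← e j]
        exact congrArg (· ≫ (fst A T).left) (pullback.condition (f := 𝒲.f i) (g := 𝒲.f j)) |> fun h => by
          simpa only [Category.assoc] using h
      · rw [Category.assoc, ← Over.comp_left, whiskerLeft_snd, Over.comp_left]
        exact ((isPullback_left A Tij).lift_snd_assoc _ _ _ _).trans (pullback.lift_snd _ _ _)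
    rw [← hvi, ← hvj, Category.assoc, Category.assoc, ← Over.comp_left, heq, Over.comp_left]
  refine ⟨Over.homMk (𝒲.glueMorphisms (fun k => (φ k).left) hov) ?_, ?_⟩
  · refine 𝒲.hom_ext _ _ fun k => ?_
    rw [Scheme.Cover.ι_glueMorphisms_assoc]
    exact (Over.w (φ k)).trans (Over.w (A ◁ ιk k)).symm
  · have hoi' : ∀ k, IsOpenImmersion (Magnet.AMonS S M ◁ ιk k).left := fun k =>
      MorphismProperty.of_isPullback (P := @IsOpenImmersion) (isPullback_whiskerLeft _ (ιk k)).flip (𝒰.map_prop k)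
    apply Over.OverMorphism.ext
    let 𝒲' : (Magnet.AMonS S M ⊗ T).left.OpenCover :=
      { I₀ := 𝒰.I₀
        X := fun k => (Magnet.AMonS S M ⊗ Tk k).left
        f := fun k => (Magnet.AMonS S M ◁ ιk k).left
        mem₀ := by
          rw [Scheme.ofArrows_mem_precoverage_iff]
          refine ⟨fun z => ?_, hoi'⟩
          obtain ⟨k, y, hy⟩ := 𝒰.exists_eq ((snd (Magnet.AMonS S M) T).left.base z)
          obtain ⟨w, hw, -⟩ := Scheme.exists_preimage_of_isPullback (isPullback_whiskerLeft _ (ιk k)) z y hy.symm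
          exact ⟨k, w, hw⟩ }
    refine 𝒲'.hom_ext _ _ fun k => ?_
    have h1 := congrArg CommaMorphism.left (hφ k)
    have h2 : (Magnet.AMonS S M ◁ ιk k).left ≫ (Magnet.AMonS.map S N.subtype ▷ T).left =
        (Magnet.AMonS.map S N.subtype ▷ Tk k).left ≫ (A ◁ ιk k).left := by
      rw [← Over.comp_left, whisker_exchange, Over.comp_left]
    simp only [Over.comp_left] at h1 ⊢
    change (Magnet.AMonS S M ◁ ιk k).left ≫ (Magnet.AMonS.map S N.subtype ▷ T).left ≫ 𝒲.glueMorphisms _ hov = _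
    rw [reassoc_of% h2]
    erw [Scheme.Cover.ι_glueMorphisms 𝒲]
    rw [h1, MonoidalCategory.whiskerLeft_comp, Over.comp_left]
    simp only [Category.assoc]
    rfl

/-- An element of the attractor over `x` exists exactly when the orbit of `x` factors. -/
theorem exists_attr_iff [IsSeparated X.hom] (a : Magnet.MonAct (Magnet.AMonS S M) X) (N : AddSubmonoid M)
    {T : Over S} (x : T ⟶ X) :
    (∃ ξ : (Magnet.attr a N).obj (op T), (Magnet.attrToX a N).app (op T) ξ = x) ↔ OrbitFactors a N x := by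
  constructor
  · rintro ⟨ξ, rfl⟩
    exact ⟨ξ.1, attr_restrict_eq a N ξ⟩
  · rintro ⟨φ, hφ⟩
    have hmem : ∀ (T' : Over S) (g : T' ⟶ Magnet.AMonS S M) (b : T' ⟶ Magnet.AMonS S N) (t : T' ⟶ T),
        lift (lift g b ≫ (Magnet.subAct S M N).act) t ≫ φ = lift g (lift b t ≫ φ) ≫ a.act := by
      have key : (α_ (Magnet.AMonS S M) (Magnet.AMonS S N) T).inv ≫ ((Magnet.subAct S M N).act ▷ T) ≫ φ =
          (Magnet.AMonS S M ◁ φ) ≫ a.act := by
        have hq : IsSchemeTheoreticallyDominant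
            (Magnet.AMonS S M ◁ (Magnet.AMonS.map S N.subtype ▷ T)).left := by
          have := std_AMonS_map_whiskerRight (S := S) N.subtype Subtype.val_injective (Magnet.AMonS S M ⊗ T)
          let e : ∀ B : Over S, Magnet.AMonS S M ⊗ (B ⊗ T) ≅ B ⊗ (Magnet.AMonS S M ⊗ T) := fun B =>
            (α_ _ _ _).symm ≪≫ whiskerRightIso (β_ _ _) T ≪≫ α_ _ _ _
          have he : (Magnet.AMonS S M ◁ (Magnet.AMonS.map S N.subtype ▷ T)) =
              (e _).hom ≫ (Magnet.AMonS.map S N.subtype ▷ (Magnet.AMonS S M ⊗ T)) ≫ (e _).inv := by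
            rw [← Category.assoc, Iso.eq_comp_inv]
            apply Magnet.hom_ext_lift₂
            intro T' g w
            ext <;> simp [e]
          rw [he, Over.comp_left, Over.comp_left]
          have : ∀ {U V : Over S} (i : U ≅ V), IsIso i.hom.left ∧ IsIso i.inv.left := fun i =>
            ⟨((Over.forget S).mapIso i).isIso_hom, ((Over.forget S).mapIso i).isIso_inv⟩
          have h5 := (this (e (Magnet.AMonS S M))).1
          have h6 := (this (e (Magnet.AMonS S N))).2
          infer_instance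
        apply Over.OverMorphism.ext
        refine Groth.Agent.Lib.SchDense.Basic.ext_of_std X.hom (by rw [Over.w, Over.w])
          (Magnet.AMonS S M ◁ (Magnet.AMonS.map S N.subtype ▷ T)).left ?_
        rw [← Over.comp_left, ← Over.comp_left]
        refine congrArg CommaMorphism.left ?_
        rw [← MonoidalCategory.whiskerLeft_comp_assoc, hφ]
        apply Magnet.hom_ext_lift₂
        intro T' g w
        have hw : lift (w ≫ fst _ _) (w ≫ snd _ _) = w := lift_comp_fst_snd w
        have h3 : ∀ (b : T' ⟶ Magnet.AMonS S M) (t : T' ⟶ T),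
            lift (b ≫ Magnet.AMonS.map S N.subtype) t ≫ φ = lift b (t ≫ x) ≫ a.act := fun b t => by
          rw [← lift_whiskerRight_assoc, hφ, lift_whiskerLeft_assoc]
        rw [← hw]
        simp only [lift_whiskerLeft_assoc, lift_whiskerRight, lift_lift_associator_inv_assoc,
          lift_whiskerRight_assoc, Magnet.subAct, Magnet.MonAct.lift_restrict_act,
          Magnet.MonAct.lift_regular_act]
        rw [← MonObj.mul_comp, h3, Magnet.MonAct.lift_mul_act]
      intro T' g b t
      have := congrArg (lift g (lift b t) ≫ ·) key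
      simpa only [lift_lift_associator_inv_assoc, lift_whiskerRight_assoc, lift_whiskerLeft_assoc] using this
    refine ⟨⟨φ, (Magnet.MonAct.mem_eqvHom_iff _).2 hmem⟩, ?_⟩
    change lift (toUnit T ≫ η[Magnet.AMonS S N]) (𝟙 T) ≫ φ = x
    have h4 := congrArg (lift (1 : T ⟶ Magnet.AMonS S M) (𝟙 T) ≫ ·) hφ
    simp only [lift_whiskerRight_assoc, lift_whiskerLeft_assoc, Category.id_comp, MonObj.one_comp] at h4
    refine Eq.trans ?_ (h4.trans (Magnet.MonAct.lift_one_act a x))
    rw [Hom.one_def]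

end Groth.Agent.Lib.GrpSch.AttrAffine
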