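import Groth.Prelude.Def_Magnet2
import Groth.Agent.Lib.RedPts.Affine
import Groth.Agent.Lib.RedPts.BC

/-!
# Points of the diagonalizable monoid scheme `A(M)_S`

`monFn x m`: the global function `x^*(χ^m)` of a point `x : T ⟶ A(M)_S`; `monPt χ`: the point with prescribed values.
-/

set_option autoImplicit false
universe u

open CategoryTheory MonoidalCategory CartesianMonoidalCategory MonObj AlgebraicGeometry
open Groth.Agent.Lib.RedPts

namespace Groth.Agent.Lib.GrpSch

attribute [local instance] Points.baseAlgebra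

variable {S : Scheme.{u}} {M N : Type} [AddCommMonoid M] [AddCommMonoid N]

/-- The value at `m : M` of a point of `A(M)_S`. -/
noncomputable def monFn {X : Over S} (x : X ⟶ Magnet.AMonS S M) (m : M) : Γ(X.left, ⊤) :=
  Points.algHomOf (BC.down _ x) (MonoidAlgebra.single (Multiplicative.ofAdd m) (1 : ULift.{u} ℤ))

theorem monFn_comp {X X' : Over S} (h : X' ⟶ X) (x : X ⟶ Magnet.AMonS S M) (m : M) :
    monFn (h ≫ x) m = h.left.appTop (monFn x m) := by
  rw [monFn, monFn, BC.down_comp]
  exact Points.ringHomOf_comp _ _ _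

theorem down_mul_mon {X : Over S} (x y : X ⟶ Magnet.AMonS S M) :
    BC.down _ (x * y) = BC.down _ x * BC.down _ y := by
  conv_lhs => rw [← BC.up_down x, ← BC.up_down y]
  rw [BC.up, BC.up, ← BC.homEquiv_mul]
  exact BC.down_up _

theorem monFn_mul {X : Over S} (x y : X ⟶ Magnet.AMonS S M) (m : M) :
    monFn (x * y) m = monFn x m * monFn y m := by
  rw [monFn, down_mul_mon, Points.algHomOf_mul]
  simp [monFn]

theorem monFn_zero {X : Over S} (x : X ⟶ Magnet.AMonS S M) : monFn x 0 = 1 := map_one _

theorem monFn_add {X : Over S} (x : X ⟶ Magnet.AMonS S M) (m n : M) :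
    monFn x (m + n) = monFn x m * monFn x n := by
  unfold monFn
  rw [← map_mul, MonoidAlgebra.single_mul_single, _root_.mul_one, ← ofAdd_add]

theorem monFn_nsmul {X : Over S} (x : X ⟶ Magnet.AMonS S M) (n : ℕ) (m : M) :
    monFn x (n • m) = monFn x m ^ n := by
  induction n with
  | zero => simp [monFn_zero]
  | succ n ih => rw [succ_nsmul, monFn_add, ih, pow_succ]

theorem monFn_ext {X : Over S} {x y : X ⟶ Magnet.AMonS S M} (h : ∀ m, monFn x m = monFn y m) : x = y := by
  refine BC.down_injective (Points.algHomOf_injective (MonoidAlgebra.algHom_ext (fun m => h m.toAdd) ?_))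
  ext

/-- The point of `A(M)_S` with prescribed values. -/
noncomputable def monPt {X : Over S} (χ : Multiplicative M →* Γ(X.left, ⊤)) : X ⟶ Magnet.AMonS S M :=
  BC.up _ (Points.pointOf (MonoidAlgebra.lift (ULift.{u} ℤ) _ _ χ))

@[simp] theorem monFn_monPt {X : Over S} (χ : Multiplicative M →* Γ(X.left, ⊤)) (m : M) :
    monFn (monPt χ) m = χ (Multiplicative.ofAdd m) := by
  let W := (Over.map (Limits.IsTerminal.from specULiftZIsTerminal S)).obj X
  rw [monFn, monPt, BC.down_up, Points.algHomOf_pointOf, MonoidAlgebra.lift_single]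
  exact (@Algebra.smul_def _ _ _ _ (Points.baseAlgebra W) _ _).trans (by rw [map_one, _root_.one_mul])

theorem monFn_map {X : Over S} (x : X ⟶ Magnet.AMonS S M) (φ : N →+ M) (n : N) :
    monFn (x ≫ Magnet.AMonS.map S φ) n = monFn x (φ n) := by
  rw [monFn, Magnet.AMonS.map, BC.down_map]
  refine (Affine.ringHomOf_specMap (BC.down _ x).left _ _).trans ?_
  refine congrArg (Points.ringHomOf (BC.down _ x).left) ?_
  exact MonoidAlgebra.mapDomain_single

theorem monFn_one {X : Over S} (m : M) : monFn (1 : X ⟶ Magnet.AMonS S M) m = 1 := by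
  have h : (1 : X ⟶ Magnet.AMonS S M) = monPt (1 : Multiplicative M →* Γ(X.left, ⊤)) := by
    have hmul : ∀ y : X ⟶ Magnet.AMonS S M, monPt (1 : Multiplicative M →* Γ(X.left, ⊤)) * y = y :=
      fun y => monFn_ext fun m => by simp [monFn_mul]
    rw [← hmul 1, _root_.mul_one]
  rw [h, monFn_monPt, MonoidHom.one_apply]

theorem monFn_pow {X : Over S} (x : X ⟶ Magnet.AMonS S M) (n : ℕ) (m : M) :
    monFn (x ^ n) m = monFn x m ^ n := by
  induction n with
  | zero => simp [monFn_one]
  | succ n ih => rw [pow_succ, monFn_mul, ih, pow_succ]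

end Groth.Agent.Lib.GrpSch
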