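import Groth.Agent.Lib.GrpSch.AttrRep
import Groth.Agent.Lib.GrpSch.MonPts

/-!
# Coassociativity of the coaction on an affine chart

The components `c_m` of a section are homogeneous: `ρ c_m = c_m ⊗ m`.
-/

set_option autoImplicit false
universe u

open CategoryTheory Limits MonoidalCategory CartesianMonoidalCategory MonObj AlgebraicGeometry Opposite TensorProduct
open Groth.Agent.Lib.RedPts

namespace Groth.Agent.Lib.GrpSch.AttrAffine

section Ring

variable (R : Type u) [CommRing R] {M : Type} [AddCommMonoid M]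
variable {C D : CommRingCat.{u}} [Algebra R C] [Algebra R D]

/-- The algebra map `c ⊗ m ↦ (i c · χ m) ⊗ m`. -/
noncomputable def twistAlg (i : (C : Type u) →ₐ[R] D) (χ : Multiplicative M →* D) :
    (C : Type u) ⊗[R] MonoidAlgebra R (Multiplicative M) →ₐ[R] (D : Type u) ⊗[R] MonoidAlgebra R (Multiplicative M) :=
  Algebra.TensorProduct.lift
    ((Algebra.TensorProduct.includeLeft (R := R) (S := R) (A := (D : Type u))
      (B := MonoidAlgebra R (Multiplicative M))).comp i)
    (MonoidAlgebra.lift R ((D : Type u) ⊗[R] MonoidAlgebra R (Multiplicative M)) (Multiplicative M)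
      { toFun := fun m => χ m ⊗ₜ MonoidAlgebra.single m 1
        map_one' := by rw [map_one]; rfl
        map_mul' := fun a b => by
          rw [Algebra.TensorProduct.tmul_mul_tmul, map_mul, MonoidAlgebra.single_mul_single, _root_.one_mul] })
    (fun _ _ => Commute.all _ _)

/-- `c ⊗ m ↦ (i c · χ m) ⊗ m`. -/
noncomputable def bcTwist (i : (C : Type u) →ₐ[R] D) (χ : Multiplicative M →* D) : bcRing R M C ⟶ bcRing R M D :=
  CommRingCat.ofHom (twistAlg R i χ).toRingHom

theorem bcTwist_tmul (i : (C : Type u) →ₐ[R] D) (χ : Multiplicative M →* D) (c : C) (m : Multiplicative M) (r : R) :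
    (bcTwist R i χ).hom (c ⊗ₜ[R] MonoidAlgebra.single m r) = (i c * χ m) ⊗ₜ[R] MonoidAlgebra.single m r := by
  change twistAlg R i χ (c ⊗ₜ[R] MonoidAlgebra.single m r) = _
  rw [twistAlg, Algebra.TensorProduct.lift_tmul, MonoidAlgebra.lift_single]
  change (i c) ⊗ₜ[R] (1 : MonoidAlgebra R (Multiplicative M)) * r • (χ m ⊗ₜ[R] MonoidAlgebra.single m (1 : R)) = _
  rw [← TensorProduct.tmul_smul, Algebra.TensorProduct.tmul_mul_tmul, _root_.one_mul]
  simp

theorem bcInl_bcTwist (i : (C : Type u) →ₐ[R] D) (χ : Multiplicative M →* D) :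
    bcInl R M C ≫ bcTwist R i χ = CommRingCat.ofHom i.toRingHom ≫ bcInl R M D := by
  ext c
  change (bcTwist R i χ).hom (c ⊗ₜ[R] (1 : MonoidAlgebra R (Multiplicative M))) = i c ⊗ₜ[R] 1
  rw [MonoidAlgebra.one_def, bcTwist_tmul, map_one, _root_.mul_one]

theorem bcTwist_bcInr (i : (C : Type u) →ₐ[R] D) (χ : Multiplicative M →* D) (m : Multiplicative M) :
    (bcTwist R i χ).hom ((bcInr R M C).hom (MonoidAlgebra.single m 1)) =
      (bcInl R M D).hom (χ m) * (bcInr R M D).hom (MonoidAlgebra.single m 1) := by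
  change (bcTwist R i χ).hom ((1 : C) ⊗ₜ[R] MonoidAlgebra.single m (1 : R)) =
    (χ m ⊗ₜ[R] (1 : MonoidAlgebra R (Multiplicative M))) * ((1 : D) ⊗ₜ[R] MonoidAlgebra.single m (1 : R))
  rw [bcTwist_tmul, Algebra.TensorProduct.tmul_mul_tmul, map_one, _root_.one_mul, _root_.one_mul, _root_.mul_one]

theorem coord_tmul (c : C) (n m : Multiplicative M) [Decidable (n = m)] (r : R) :
    coord R C (c ⊗ₜ[R] MonoidAlgebra.single n r) m = if n = m then c * algebraMap R C r else 0 := by
  classical
  change (Algebra.TensorProduct.basis (C : Type u) (MonoidAlgebra.basis (Multiplicative M) R)).repr _ m = _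
  rw [Algebra.TensorProduct.basis_repr_tmul, Finsupp.smul_apply, Finsupp.mapRange_apply]
  change c * algebraMap R C (Finsupp.single n r m) = _
  rw [Finsupp.single_apply]
  split_ifs <;> simp

theorem coord_add (z w : bcRing R M C) (m : Multiplicative M) :
    coord R C (z + w) m = coord R C z m + coord R C w m := by
  let β := Algebra.TensorProduct.basis (C : Type u) (MonoidAlgebra.basis (Multiplicative M) R)
  let z' : (C : Type u) ⊗[R] MonoidAlgebra R (Multiplicative M) := z
  let w' : (C : Type u) ⊗[R] MonoidAlgebra R (Multiplicative M) := w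
  change β.repr (z' + w') m = β.repr z' m + β.repr w' m
  simp

theorem coord_zero (m : Multiplicative M) : coord R C (0 : bcRing R M C) m = 0 := by
  let β := Algebra.TensorProduct.basis (C : Type u) (MonoidAlgebra.basis (Multiplicative M) R)
  change β.repr 0 m = 0
  simp

theorem bcRing_induction {P : bcRing R M C → Prop} (z : bcRing R M C) (h0 : P 0)
    (h1 : ∀ (c : C) (m : Multiplicative M) (r : R), P (c ⊗ₜ[R] MonoidAlgebra.single m r))
    (h2 : ∀ x y, P x → P y → P (x + y)) : P z := by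
  let z' : (C : Type u) ⊗[R] MonoidAlgebra R (Multiplicative M) := z
  change P z'
  induction z' using TensorProduct.induction_on with
  | zero => exact h0
  | tmul c a =>
    induction a using MonoidAlgebra.induction_linear with
    | zero => rw [TensorProduct.tmul_zero]; exact h0
    | add x y hx hy => rw [TensorProduct.tmul_add]; exact h2 _ _ hx hy
    | single m r => exact h1 c m r
  | add x y hx hy => exact h2 _ _ hx hy

theorem coord_bcTwist (i : (C : Type u) →ₐ[R] D) (χ : Multiplicative M →* D) (z : bcRing R M C)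
    (m : Multiplicative M) : coord R D ((bcTwist R i χ).hom z) m = i (coord R C z m) * χ m := by
  classical
  induction z using bcRing_induction R with
  | h0 => simp [coord_zero]
  | h1 c n r =>
    rw [bcTwist_tmul, coord_tmul, coord_tmul]
    split_ifs with h
    · subst h; rw [map_mul, AlgHom.commutes]; ring
    · simp
  | h2 x y hx hy => rw [map_add, coord_add, hx, hy, coord_add, map_add, add_mul]

theorem coord_inl_mul_inr (c : C) (n m : Multiplicative M) [Decidable (n = m)] :
    coord R C ((bcInl R M C).hom c * (bcInr R M C).hom (MonoidAlgebra.single n 1)) m = if n = m then c else 0 := by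
  rw [show (bcInl R M C).hom c * (bcInr R M C).hom (MonoidAlgebra.single n 1) =
      c ⊗ₜ[R] MonoidAlgebra.single n (1 : R) from by
    change (c ⊗ₜ[R] (1 : MonoidAlgebra R (Multiplicative M))) * ((1 : C) ⊗ₜ[R] MonoidAlgebra.single n (1 : R)) = _
    rw [Algebra.TensorProduct.tmul_mul_tmul, _root_.mul_one, _root_.one_mul], coord_tmul, map_one, _root_.mul_one]

theorem bcMap_inl_mul_inr {N : Type} [AddCommMonoid N] (f : N →+ M) (c : C) (n : Multiplicative N) :
    (bcMap R C f).hom ((bcInl R N C).hom c * (bcInr R N C).hom (MonoidAlgebra.single n 1)) =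
      (bcInl R M C).hom c * (bcInr R M C).hom (MonoidAlgebra.single (AddMonoidHom.toMultiplicative f n) 1) := by
  rw [map_mul, ← RingHom.comp_apply, ← CommRingCat.hom_comp, bcInl_bcMap, ← RingHom.comp_apply (bcMap R C f).hom,
    ← CommRingCat.hom_comp, bcInr_bcMap, CommRingCat.hom_comp, RingHom.comp_apply]
  congr 2
  exact MonoidAlgebra.mapDomain_single

end Ring

section Scheme

attribute [local instance] baseAlg

variable {S : Scheme.{u}} {M : Type} [AddCommMonoid M]

theorem monFn_of_spec {B : CommRingCat.{u}} {t : Spec B ⟶ S} (y : specOver B t ⟶ Magnet.AMonS S M)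
    (φ : CommRingCat.of (MonoidAlgebra R0.{u} (Multiplicative M)) ⟶ B)
    (h : y.left ≫ bcProj _ (Magnet.AMon R0.{u} M) = Spec.map φ) (m : M) :
    monFn y m = (Scheme.ΓSpecIso B).inv (φ.hom (MonoidAlgebra.single (Multiplicative.ofAdd m) 1)) := by
  change Points.ringHomOf (y.left ≫ bcProj _ (Magnet.AMon R0.{u} M)) _ = _
  refine (congrArg (fun q : Spec B ⟶ Spec (CommRingCat.of (MonoidAlgebra R0.{u} (Multiplicative M))) =>
    Points.ringHomOf q (MonoidAlgebra.single (Multiplicative.ofAdd m) 1)) h).trans ?_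
  simp only [Points.ringHomOf]
  erw [← Scheme.ΓSpecIso_inv_naturality]
  rfl

theorem spec_of_monFn {B : CommRingCat.{u}} {t : Spec B ⟶ S} (y : specOver B t ⟶ Magnet.AMonS S M)
    (φ : CommRingCat.of (MonoidAlgebra R0.{u} (Multiplicative M)) ⟶ B)
    (h : ∀ m, monFn y m = (Scheme.ΓSpecIso B).inv (φ.hom (MonoidAlgebra.single (Multiplicative.ofAdd m) 1))) :
    y.left ≫ bcProj _ (Magnet.AMon R0.{u} M) = Spec.map φ := by
  obtain ⟨ψ, hψ⟩ := Spec.map_surjective (y.left ≫ bcProj _ (Magnet.AMon R0.{u} M))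
  refine hψ.symm.trans (congrArg Spec.map ?_)
  refine CommRingCat.hom_ext (MonoidAlgebra.ringHom_ext (fun r => ?_) (fun m => ?_))
  · obtain ⟨n⟩ := r
    have e : ∀ χ : CommRingCat.of (MonoidAlgebra R0.{u} (Multiplicative M)) ⟶ B,
        χ.hom (MonoidAlgebra.single 1 (ULift.up n)) =
          ((χ.hom.comp MonoidAlgebra.singleOneRingHom).comp ULift.ringEquiv.symm.toRingHom) n := fun _ => rfl
    rw [e, e]
    exact RingHom.congr_fun (RingHom.ext_int _ _) n
  · refine ((Scheme.ΓSpecIso B).commRingCatIsoToRingEquiv.symm.injective ?_)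
    exact (monFn_of_spec y ψ hψ.symm m.toAdd).symm.trans (h m.toAdd)

variable {X : Over S}

/-- Coassociativity: the components of a section are homogeneous. -/
theorem coaction_coassoc [IsAffineHom X.hom] (a : Magnet.MonAct (Magnet.AMonS S M) X) {V : S.Opens}
    (hV : IsAffineOpen V) (ρ : Γ(X.left, X.hom ⁻¹ᵁ V) ⟶ bcRing R0.{u} M Γ(X.left, X.hom ⁻¹ᵁ V))
    (hρc : Spec.map ρ ≫ (hV.preimage X.hom).fromSpec = chartOrbit a (hV.preimage X.hom))
    (b : Γ(X.left, X.hom ⁻¹ᵁ V)) (m : Multiplicative M) :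
    ρ.hom (coord R0.{u} Γ(X.left, X.hom ⁻¹ᵁ V) (ρ.hom b) m) =
      (bcInl R0.{u} M Γ(X.left, X.hom ⁻¹ᵁ V)).hom (coord R0.{u} Γ(X.left, X.hom ⁻¹ᵁ V) (ρ.hom b) m) *
        (bcInr R0.{u} M Γ(X.left, X.hom ⁻¹ᵁ V)).hom (MonoidAlgebra.single m 1) := by
  have hU : IsAffineOpen (X.hom ⁻¹ᵁ V) := hV.preimage X.hom
  let C := Γ(X.left, X.hom ⁻¹ᵁ V)
  let c : Spec C ⟶ X.left := hU.fromSpec
  let t₀ : Spec C ⟶ S := c ≫ X.hom
  let xU : specOver C t₀ ⟶ X := Over.homMk c
  let D := bcRing R0.{u} M C
  let t' : Spec D ⟶ S := Spec.map (bcInl R0.{u} M C) ≫ t₀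
  let χ : Multiplicative M →* D :=
    { toFun := fun n => (bcInr R0.{u} M C).hom (MonoidAlgebra.single n 1)
      map_one' := map_one _
      map_mul' := fun p q => by rw [← map_mul, MonoidAlgebra.single_mul_single, _root_.one_mul] }
  let κ := bcTwist R0.{u} (toAlgHom' (bcInl R0.{u} M C)) χ
  let E : specOver D t' ⟶ Magnet.AMonS S M ⊗ specOver C t₀ := Over.homMk (prodIso (M := M) C t₀).hom (by
    show (prodIso (M := M) C t₀).hom ≫ (Magnet.AMonS S M ⊗ specOver C t₀).hom = t'
    rw [← Over.w (snd (Magnet.AMonS S M) (specOver C t₀)), reassoc_of% prodIso_snd (M := M) C t₀]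
    rfl)
  let g : specOver D t' ⟶ specOver C t₀ := Over.homMk (Spec.map ρ) (by
    show Spec.map ρ ≫ c ≫ X.hom = t'
    rw [reassoc_of% hρc]
    exact chartOrbit_comp_hom a hU)
  have hgE : g ≫ xU = E ≫ (Magnet.AMonS S M ◁ xU) ≫ a.act := Over.OverMorphism.ext hρc
  let E2 : specOver (bcRing R0.{u} M D) (Spec.map (bcInl R0.{u} M D) ≫ t') ⟶
      Magnet.AMonS S M ⊗ specOver D t' := Over.homMk (prodIso (M := M) D t').hom (by
    show (prodIso (M := M) D t').hom ≫ (Magnet.AMonS S M ⊗ specOver D t').hom = _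
    rw [← Over.w (snd (Magnet.AMonS S M) (specOver D t')), reassoc_of% prodIso_snd (M := M) D t']
    rfl)
  let K := (Magnet.AMonS S M ◁ E) ≫ (α_ _ _ _).inv ≫ (μ[Magnet.AMonS S M] ▷ specOver C t₀)
  have hK : (Magnet.AMonS S M ◁ (g ≫ xU)) ≫ a.act = K ≫ (Magnet.AMonS S M ◁ xU) ≫ a.act := by
    rw [hgE]
    apply Magnet.hom_ext_lift₂
    intro T' p q
    simp only [K, lift_whiskerLeft_assoc, Category.assoc]
    rw [← Category.assoc q E, ← lift_comp_fst_snd (q ≫ E)]
    simp only [lift_lift_associator_inv_assoc, lift_whiskerRight_assoc, lift_whiskerLeft_assoc]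
    rw [← Hom.mul_def, Magnet.MonAct.lift_mul_act]
  let y := E2 ≫ K ≫ fst (Magnet.AMonS S M) (specOver C t₀)
  have hyM : y = (E2 ≫ fst _ _) * (E2 ≫ snd _ _ ≫ E ≫ fst _ _) := by
    simp only [y, K, Category.assoc, whiskerRight_fst]
    rw [Hom.mul_def, ← Category.assoc (α_ _ _ _).inv, ← Category.assoc (Magnet.AMonS S M ◁ E), ← Category.assoc E2]
    congr 1
    ext <;> simp
  have hy : y.left ≫ bcProj _ (Magnet.AMon R0.{u} M) = Spec.map (bcInr R0.{u} M C ≫ κ) := by
    refine spec_of_monFn y _ fun n => ?_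
    rw [hyM, monFn_mul,
      monFn_of_spec (E2 ≫ fst (Magnet.AMonS S M) (specOver D t')) (bcInr R0.{u} M D) (prodIso_fst (M := M) D t') n,
      monFn_of_spec (E2 ≫ snd (Magnet.AMonS S M) (specOver D t') ≫ E ≫ fst (Magnet.AMonS S M) (specOver C t₀))
        (bcInr R0.{u} M C ≫ bcInl R0.{u} M D) (by
          change ((prodIso (M := M) D t').hom ≫ (snd (Magnet.AMonS S M) (specOver D t')).left ≫
            (prodIso (M := M) C t₀).hom ≫ (fst (Magnet.AMonS S M) (specOver C t₀)).left) ≫ _ = _
          simp only [Category.assoc]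
          rw [prodIso_fst]
          exact (Category.assoc _ _ _).symm.trans
            ((congrArg (· ≫ Spec.map (bcInr R0.{u} M C)) (prodIso_snd (M := M) D t')).trans (Spec.map_comp _ _).symm)) n,
      ← map_mul]
    congr 1
    rw [_root_.mul_comm]
    exact (bcTwist_bcInr R0.{u} _ χ (Multiplicative.ofAdd n)).symm
  have hKS : (prodIso (M := M) D t').hom ≫ K.left = Spec.map κ ≫ (prodIso (M := M) C t₀).hom := by
    refine (isPullback_AMonS_spec M C t₀).hom_ext ?_ ?_
    · have : K ≫ snd (Magnet.AMonS S M) (specOver C t₀) = snd _ _ ≫ E ≫ snd _ _ := by simp [K]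
      rw [Category.assoc, Category.assoc, ← Over.comp_left, this, prodIso_snd]
      simp only [Over.comp_left]
      rw [reassoc_of% prodIso_snd (M := M) D t']
      change _ ≫ (prodIso (M := M) C t₀).hom ≫ _ = _
      rw [prodIso_snd, ← Spec.map_comp, ← Spec.map_comp, bcInl_bcTwist]
      rfl
    · rw [Category.assoc, Category.assoc, prodIso_fst]
      refine Eq.trans ?_ (hy.trans (Spec.map_comp _ _))
      simp only [y, Over.comp_left, Category.assoc]
      rfl
  have horb : Spec.map (ρ ≫ bcNat R0.{u} (toAlgHom' ρ)) ≫ c = Spec.map (ρ ≫ κ) ≫ c := by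
    rw [Spec.map_comp, Spec.map_comp, Category.assoc, Category.assoc]
    erw [hρc]
    rw [chartOrbit, ← reassoc_of% prodIso_natural ρ t₀ g rfl, ← Category.assoc (Spec.map κ), ← hKS,
      Category.assoc]
    congr 1
    have := congrArg CommaMorphism.left hK
    simp only [MonoidalCategory.whiskerLeft_comp, Category.assoc, Over.comp_left] at this ⊢
    exact this
  rw [cancel_mono] at horb
  have h := congrArg (fun z => coord R0.{u} D z m)
    (RingHom.congr_fun (congrArg CommRingCat.Hom.hom (Spec.map_injective horb)) b)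
  simp only [CommRingCat.hom_comp, RingHom.comp_apply] at h
  rw [coord_bcNat, coord_bcTwist] at h
  exact h

end Scheme

end Groth.Agent.Lib.GrpSch.AttrAffine
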