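import Groth.Agent.Lib.GrpSch.BaseChange
import Mathlib.AlgebraicGeometry.Morphisms.SchemeTheoreticallyDominant
import Mathlib.AlgebraicGeometry.Pullbacks
import Mathlib.RingTheory.TensorProduct.Maps
import Mathlib.CategoryTheory.Limits.Shapes.Pullback.IsPullback.Basic

/-!
# Universal scheme-theoretic dominance from split injective ring maps

`std_of_isPullback_split`: a base change `f'` of `Spec φ` (`φ : A → B` an `R₀`-algebra map with an
`R₀`-linear retraction) along a base change of the base `Spec R₀` is scheme-theoretically dominant.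
-/

universe u

open CategoryTheory Limits AlgebraicGeometry TensorProduct

namespace Groth.Agent.Lib.GrpSch

/-- Scheme-theoretic dominance is local on the target for quasi-compact morphisms. -/
theorem std_of_openCover {X Y : Scheme.{u}} (f : X ⟶ Y) [QuasiCompact f] (𝒰 : Y.OpenCover)
    (h : ∀ i, IsSchemeTheoreticallyDominant (pullback.snd f (𝒰.f i))) : IsSchemeTheoreticallyDominant f := by
  refine ⟨?_⟩
  let U := fun j : (i : 𝒰.I₀) × (𝒰.X i).affineOpens =>
    (⟨(𝒰.f j.1) ''ᵁ j.2.1, j.2.2.image_of_isOpenImmersion _⟩ : Y.affineOpens)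
  have hU : ⨆ j, (U j : Y.Opens) = ⊤ := by
    refine eq_top_iff.2 fun y _ => ?_
    obtain ⟨i, z, rfl⟩ := 𝒰.exists_eq y
    obtain ⟨_, ⟨V, hV, rfl⟩, hzV, -⟩ :=
      (𝒰.X i).isBasis_affineOpens.exists_subset_of_mem_open (Set.mem_univ z) isOpen_univ
    exact TopologicalSpace.Opens.mem_iSup.2 ⟨⟨i, ⟨V, hV⟩⟩, z, hzV, rfl⟩
  refine Scheme.IdealSheafData.ext_of_iSup_eq_top U hU ?_
  rintro ⟨i, W⟩
  have := h i
  have e := Scheme.ker_ideal_of_isPullback_of_isOpenImmersion f (pullback.snd f (𝒰.f i))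
    (pullback.fst f (𝒰.f i)) (𝒰.f i) (IsPullback.of_hasPullback f (𝒰.f i)).flip W
  rw [Scheme.Hom.ker_eq_bot, Scheme.IdealSheafData.ideal_bot, Pi.bot_apply] at e
  simp only [U, Scheme.IdealSheafData.ideal_bot, Pi.bot_apply, ← le_bot_iff]
  intro x hx
  rw [Ideal.mem_bot]
  have hx' : ((𝒰.f i).appIso W).hom x ∈
      (f.ker.ideal ⟨(𝒰.f i) ''ᵁ W, W.2.image_of_isOpenImmersion _⟩).comap ((𝒰.f i).appIso W).inv.hom := by
    rw [Ideal.mem_comap, ← CommRingCat.comp_apply, Iso.hom_inv_id]
    exact hx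
  rw [← e, Ideal.mem_bot] at hx'
  exact (map_eq_zero_iff _ (ConcreteCategory.bijective_of_isIso ((𝒰.f i).appIso W).hom).1).1 hx'

/-- `Spec` of an injective ring map is scheme-theoretically dominant. -/
theorem std_specMap {R L : CommRingCat.{u}} (φ : R ⟶ L) (hφ : Function.Injective φ.hom) :
    IsSchemeTheoreticallyDominant (Spec.map φ) := by
  refine ⟨?_⟩
  rw [Scheme.ker_of_isAffine, ← le_bot_iff]
  refine Scheme.IdealSheafData.le_of_isAffine ?_
  simp only [Scheme.IdealSheafData.ofIdealTop_ideal, Scheme.IdealSheafData.ideal_bot, Pi.bot_apply]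
  have hinj : Function.Injective (Spec.map φ).appTop.hom := by
    have e := Scheme.ΓSpecIso_naturality φ
    have : (Spec.map φ).appTop = (Scheme.ΓSpecIso R).hom ≫ φ ≫ (Scheme.ΓSpecIso L).inv := by
      rw [← Category.assoc, ← e]; simp
    rw [this]
    exact ((ConcreteCategory.bijective_of_isIso (Scheme.ΓSpecIso L).inv).1.comp hφ).comp
      (ConcreteCategory.bijective_of_isIso (Scheme.ΓSpecIso R).hom).1
  rw [(RingHom.injective_iff_ker_eq_bot _).mp hinj]
  simp

variable {R₀ A B : Type u} [CommRing R₀] [CommRing A] [CommRing B] [Algebra R₀ A] [Algebra R₀ B]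

/-- Affine case of `std_of_isPullback_split`. -/
theorem std_of_isPullback_split_aux (φ : A →ₐ[R₀] B) {ψ : B →ₗ[R₀] A} (hψ : ∀ a, ψ (φ a) = a)
    {P Y : Scheme.{u}} (R : CommRingCat.{u}) {pA : Y ⟶ Spec (CommRingCat.of A)} {pT : Y ⟶ Spec R}
    {t : Spec R ⟶ Spec (CommRingCat.of R₀)}
    (hY : IsPullback pT pA t (Spec.map (CommRingCat.ofHom (algebraMap R₀ A))))
    {f : P ⟶ Y} {pB : P ⟶ Spec (CommRingCat.of B)}
    (hP : IsPullback f pB pA (Spec.map (CommRingCat.ofHom φ.toRingHom))) :
    IsSchemeTheoreticallyDominant f := by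
  obtain ⟨τ, rfl⟩ := Spec.map_surjective t
  let _ : Algebra R₀ R := τ.hom.toAlgebra
  have hA := isPullback_SpecMap_of_isPushout _ _ _ _ (CommRingCat.isPushout_tensorProduct R₀ R A)
  have hB := isPullback_SpecMap_of_isPushout _ _ _ _ (CommRingCat.isPushout_tensorProduct R₀ R B)
  let Φ : R ⊗[R₀] A →ₐ[R₀] R ⊗[R₀] B := Algebra.TensorProduct.map (AlgHom.id R₀ R) φ
  have hΦ : Function.Injective Φ :=
    Function.LeftInverse.injective (g := ψ.lTensor R) fun x => by
      induction x with
      | zero => simp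
      | add x y hx hy => simp [hx, hy]
      | tmul r a => simp [Φ, hψ]
  have hstd := std_specMap (CommRingCat.ofHom Φ.toRingHom) hΦ
  have hsq : IsPullback (Spec.map (CommRingCat.ofHom Φ.toRingHom))
      (Spec.map (CommRingCat.ofHom (Algebra.TensorProduct.includeRight : B →ₐ[R₀] R ⊗[R₀] B).toRingHom))
      (Spec.map (CommRingCat.ofHom (Algebra.TensorProduct.includeRight : A →ₐ[R₀] R ⊗[R₀] A).toRingHom))
      (Spec.map (CommRingCat.ofHom φ.toRingHom)) := by
    refine IsPullback.of_right (h₁₂ := Spec.map (CommRingCat.ofHom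
      (Algebra.TensorProduct.includeLeftRingHom : R →+* R ⊗[R₀] A))) ?_ ?_ hA
    · convert hB using 1
      · rw [← Spec.map_comp, ← CommRingCat.ofHom_comp]
        congr 2
        ext r
        simp [Φ]
      · rw [← Spec.map_comp, ← CommRingCat.ofHom_comp]
        congr 2
        exact φ.comp_algebraMap
    · rw [← Spec.map_comp, ← Spec.map_comp, ← CommRingCat.ofHom_comp, ← CommRingCat.ofHom_comp]
      congr 2
  let eY := hA.isoIsPullback _ _ hY
  have e1 : eY.hom ≫ pA =
      Spec.map (CommRingCat.ofHom (Algebra.TensorProduct.includeRight : A →ₐ[R₀] R ⊗[R₀] A).toRingHom) :=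
    hA.isoIsPullback_hom_snd _ _ hY
  have hP' : IsPullback (Spec.map (CommRingCat.ofHom Φ.toRingHom) ≫ eY.hom)
      (Spec.map (CommRingCat.ofHom (Algebra.TensorProduct.includeRight : B →ₐ[R₀] R ⊗[R₀] B).toRingHom))
      pA (Spec.map (CommRingCat.ofHom φ.toRingHom)) :=
    hsq.of_iso (Iso.refl _) eY (Iso.refl _) (Iso.refl _) (by simp) (by simp) (by simp [e1]) (by simp)
  rw [← hP.isoIsPullback_hom_fst _ _ hP']
  infer_instance

/-- A base change of `Spec φ`, `φ` with an `R₀`-linear retraction, is scheme-theoretically dominant. -/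
theorem std_of_isPullback_split (φ : A →ₐ[R₀] B) {ψ : B →ₗ[R₀] A} (hψ : ∀ a, ψ (φ a) = a)
    {P Y T : Scheme.{u}} {pA : Y ⟶ Spec (CommRingCat.of A)} {pT : Y ⟶ T}
    {t : T ⟶ Spec (CommRingCat.of R₀)}
    (hY : IsPullback pT pA t (Spec.map (CommRingCat.ofHom (algebraMap R₀ A))))
    {f : P ⟶ Y} {pB : P ⟶ Spec (CommRingCat.of B)}
    (hP : IsPullback f pB pA (Spec.map (CommRingCat.ofHom φ.toRingHom))) :
    IsSchemeTheoreticallyDominant f := by
  have : QuasiCompact f :=
    MorphismProperty.of_isPullback (P := @QuasiCompact) hP.flip inferInstance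
  refine std_of_openCover f ((T.affineCover.pullback₁ pT)) fun i => ?_
  exact std_of_isPullback_split_aux φ hψ _ (pT := pullback.snd pT (T.affineCover.f i))
    ((IsPullback.of_hasPullback pT (T.affineCover.f i)).flip.paste_vert hY)
    ((IsPullback.of_hasPullback f (pullback.fst pT (T.affineCover.f i))).flip.paste_vert hP)

end Groth.Agent.Lib.GrpSch
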