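import Groth.Prelude.Def_Magnet2
import Groth.Agent.Lib.GrpSch.StdBaseChange
import Groth.Agent.Lib.SchDense.Basic
import Mathlib.AlgebraicGeometry.Morphisms.Affine

/-!
# Attractors: scheme-theoretic dominance of `A(M) ×_S T ⟶ A(N) ×_S T`
-/

universe u

open CategoryTheory Limits MonoidalCategory CartesianMonoidalCategory MonObj AlgebraicGeometry Opposite

namespace Groth.Agent.Lib.GrpSch

open Classical in
/-- A linear retraction of `R[N] → R[M]` for `N → M` injective. -/
theorem exists_retraction (R : Type u) [CommRing R] {M N : Type} [AddCommMonoid M] [AddCommMonoid N]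
    (f : N →+ M) (hf : Function.Injective f) :
    ∃ ψ : MonoidAlgebra R (Multiplicative M) →ₗ[R] MonoidAlgebra R (Multiplicative N),
      ∀ a, ψ ((MonoidAlgebra.mapDomainBialgHom R (AddMonoidHom.toMultiplicative f)).toAlgHom a) = a := by
  let g : Multiplicative N →* Multiplicative M := AddMonoidHom.toMultiplicative f
  have hg : Function.Injective g := hf
  refine ⟨(MonoidAlgebra.basis (Multiplicative M) R).constr R
    (fun m => if h : m ∈ Set.range g then MonoidAlgebra.single h.choose (1 : R) else 0), fun a => ?_⟩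
  set ψ := (MonoidAlgebra.basis (Multiplicative M) R).constr R
    (fun m => if h : m ∈ Set.range g then MonoidAlgebra.single h.choose (1 : R) else 0)
  have key : ψ.comp (MonoidAlgebra.mapDomainBialgHom R g).toAlgHom.toLinearMap = LinearMap.id := by
    apply (MonoidAlgebra.basis (Multiplicative N) R).ext
    intro n
    have h : ∃ y, g y = g n := ⟨n, rfl⟩
    have e1 : (MonoidAlgebra.mapDomainBialgHom R g).toAlgHom (MonoidAlgebra.single n (1 : R)) =
        MonoidAlgebra.basis (Multiplicative M) R (g n) := by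
      simp [MonoidAlgebra.basis_apply]
    rw [LinearMap.comp_apply, AlgHom.toLinearMap_apply, MonoidAlgebra.basis_apply, e1, LinearMap.id_apply,
      Module.Basis.constr_basis, dif_pos (Set.mem_range_self n), hg h.choose_spec]
  exact LinearMap.congr_fun key a

variable {S : Scheme.{u}} {M N : Type} [AddCommMonoid M] [AddCommMonoid N]

theorem isPullback_AMonS_map_whiskerRight (f : N →+ M) (T : Over S) :
    IsPullback (Magnet.AMonS.map S f ▷ T).left
      ((fst (Magnet.AMonS S M) T).left ≫ bcProj _ (Magnet.AMon (ULift.{u} ℤ) M))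
      ((fst (Magnet.AMonS S N) T).left ≫ bcProj _ (Magnet.AMon (ULift.{u} ℤ) N))
      (Magnet.AMon.map (ULift.{u} ℤ) f).left :=
  (isPullback_whiskerRight (Magnet.AMonS.map S f) T).paste_vert
    (isPullback_bc_map (Limits.IsTerminal.from specULiftZIsTerminal S) (Magnet.AMon.map (ULift.{u} ℤ) f))

theorem isPullback_AMonS_snd (T : Over S) (N : Type) [AddCommMonoid N] :
    IsPullback (snd (Magnet.AMonS S N) T).left
      ((fst (Magnet.AMonS S N) T).left ≫ bcProj _ (Magnet.AMon (ULift.{u} ℤ) N))
      (T.hom ≫ Limits.IsTerminal.from specULiftZIsTerminal S)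
      (Magnet.AMon (ULift.{u} ℤ) N).hom :=
  (isPullback_left (Magnet.AMonS S N) T).flip.paste_vert (isPullback_bc _ _).flip

/-- `A(M) ×_S T ⟶ A(N) ×_S T` is scheme-theoretically dominant for `N → M` injective. -/
theorem std_AMonS_map_whiskerRight (f : N →+ M) (hf : Function.Injective f) (T : Over S) :
    IsSchemeTheoreticallyDominant (Magnet.AMonS.map S f ▷ T).left := by
  obtain ⟨ψ, hψ⟩ := exists_retraction (ULift.{u} ℤ) f hf
  exact std_of_isPullback_split
    (MonoidAlgebra.mapDomainBialgHom (ULift.{u} ℤ) (AddMonoidHom.toMultiplicative f)).toAlgHom hψ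
    (isPullback_AMonS_snd T N) (isPullback_AMonS_map_whiskerRight f T)

theorem quasiCompact_AMonS_map_whiskerRight (f : N →+ M) (T : Over S) :
    QuasiCompact (Magnet.AMonS.map S f ▷ T).left :=
  MorphismProperty.of_isPullback (P := @QuasiCompact) (isPullback_AMonS_map_whiskerRight f T).flip
    (inferInstanceAs (QuasiCompact (Spec.map (CommRingCat.ofHom
      (MonoidAlgebra.mapDomainBialgHom (ULift.{u} ℤ) (AddMonoidHom.toMultiplicative f)).toAlgHom.toRingHom))))

theorem ext_of_AMonS_map {X : Over S} [IsSeparated X.hom] (f : N →+ M) (hf : Function.Injective f) {T : Over S}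
    {φ ψ : Magnet.AMonS S N ⊗ T ⟶ X}
    (h : (Magnet.AMonS.map S f ▷ T) ≫ φ = (Magnet.AMonS.map S f ▷ T) ≫ ψ) : φ = ψ := by
  have := std_AMonS_map_whiskerRight (S := S) f hf T
  apply Over.OverMorphism.ext
  exact Groth.Agent.Lib.SchDense.Basic.ext_of_std X.hom (by rw [Over.w, Over.w]) (Magnet.AMonS.map S f ▷ T).left
    (congrArg CommaMorphism.left h)

/-- An element of the attractor restricted along `A(M) → A(N)` is the orbit of its value at the unit. -/
theorem attr_restrict_eq {X : Over S} (a : Magnet.MonAct (Magnet.AMonS S M) X) (L : AddSubmonoid M) {T : Over S}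
    (φ : (Magnet.attr a L).obj (op T)) :
    (Magnet.AMonS.map S L.subtype ▷ T) ≫ φ.1 = (Magnet.AMonS S M ◁ ((Magnet.attrToX a L).app (op T) φ)) ≫ a.act := by
  apply Magnet.hom_ext_lift₂
  intro T' g t
  have h := (Magnet.MonAct.mem_eqvHom_iff _).1 φ.2 T' g 1 t
  rw [show lift g (1 : T' ⟶ Magnet.AMonS S L) ≫ (Magnet.subAct S M L).act = g ≫ Magnet.AMonS.map S L.subtype by
    rw [Magnet.subAct, Magnet.MonAct.lift_restrict_act, Magnet.MonAct.lift_regular_act, _root_.mul_one]] at h
  rw [lift_whiskerRight_assoc, h, lift_whiskerLeft_assoc, Magnet.MonAct.eqvHom.evalAt_app, ← Category.assoc t,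
    comp_lift, Category.comp_id, ← Category.assoc t, toUnit_unique (t ≫ toUnit _) (toUnit T'), Hom.one_def]

theorem attrToX_injective {X : Over S} [IsSeparated X.hom] (a : Magnet.MonAct (Magnet.AMonS S M) X)
    (L : AddSubmonoid M) (T : Over S) :
    Function.Injective ((Magnet.attrToX a L).app (op T)) := by
  intro φ ψ h
  refine Subtype.ext (ext_of_AMonS_map L.subtype Subtype.val_injective ?_)
  rw [attr_restrict_eq a L φ, attr_restrict_eq a L ψ, h]

end Groth.Agent.Lib.GrpSch
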