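import Groth.Agent.Lib.GrpSch.MonPts
import Groth.Agent.Lib.GrpSch.Magnet
import Groth.Prelude.Def_Magnet3
import Mathlib.AlgebraicGeometry.Sites.Fpqc

/-!
# Change of monoid for attractors: descent along `A(M × Y) ⟶ A(f⁻¹ Y)`
-/

set_option autoImplicit false
set_option linter.style.haveILetI false
set_option backward.isDefEq.respectTransparency.types false
universe u

open CategoryTheory Limits MonoidalCategory CartesianMonoidalCategory MonObj AlgebraicGeometry Opposite

namespace Groth.Agent.Lib.GrpSch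

section Ring

open Classical in
/-- A monoid algebra is free over a sub-monoid algebra admitting coset representatives. -/
theorem flat_surjective_of_cosets (R : Type u) [CommRing R] [Nontrivial R] {P Q : Type}
    [AddCommMonoid P] [AddCommMonoid Q] (f : P →+ Q) {κ : Type} [Nonempty κ] (s : κ → Q)
    (hs : Function.Bijective fun x : κ × P => f x.2 + s x.1) :
    Flat (Magnet.AMon.map R f).left ∧ Surjective (Magnet.AMon.map R f).left := by
  let φ := (MonoidAlgebra.mapDomainBialgHom R (AddMonoidHom.toMultiplicative f)).toAlgHom.toRingHom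
  change Flat (Spec.map (CommRingCat.ofHom φ)) ∧ Surjective (Spec.map (CommRingCat.ofHom φ))
  rw [flat_and_surjective_SpecMap_iff, CommRingCat.hom_ofHom]
  letI := φ.toAlgebra
  let v : κ → MonoidAlgebra R (Multiplicative Q) :=
    fun d => MonoidAlgebra.single (Multiplicative.ofAdd (s d)) 1
  let e := Equiv.ofBijective _ hs
  let Φ := Finsupp.linearCombination (MonoidAlgebra R (Multiplicative P)) v
  have hΦ : ∀ d p r, Φ (Finsupp.single d (MonoidAlgebra.single p r)) =
      MonoidAlgebra.single (Multiplicative.ofAdd (e (d, p.toAdd))) r := fun d p r => by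
    rw [Finsupp.linearCombination_single, Algebra.smul_def, RingHom.algebraMap_toAlgebra]
    change MonoidAlgebra.mapDomain _ (MonoidAlgebra.single p r) * _ = _
    rw [MonoidAlgebra.mapDomain_single, MonoidAlgebra.single_mul_single, _root_.mul_one]
    rfl
  let Ψ : MonoidAlgebra R (Multiplicative Q) →+ (κ →₀ MonoidAlgebra R (Multiplicative P)) :=
    (Finsupp.liftAddHom fun q => (Finsupp.singleAddHom (e.symm q.toAdd).1).comp
      (MonoidAlgebra.singleAddHom (Multiplicative.ofAdd (e.symm q.toAdd).2))).comp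
      MonoidAlgebra.coeffAddEquiv.toAddMonoidHom
  have hl : Ψ.comp Φ.toAddMonoidHom = AddMonoidHom.id _ := by
    refine Finsupp.addHom_ext fun d a => ?_
    induction a using MonoidAlgebra.induction_linear with
    | zero => simp
    | add x y hx hy => simp only [Finsupp.single_add, map_add, hx, hy]
    | single p r =>
      change Ψ (Φ (Finsupp.single d (MonoidAlgebra.single p r))) = _
      rw [hΦ]
      simp [Ψ]
  have hr : Φ.toAddMonoidHom.comp Ψ = AddMonoidHom.id _ := by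
    refine AddMonoidHom.ext fun a => ?_
    induction a using MonoidAlgebra.induction_linear with
    | zero => simp
    | add x y hx hy => simp only [map_add, hx, hy]
    | single q r =>
      change Φ (Ψ (MonoidAlgebra.single q r)) = _
      simp [Ψ, hΦ, -Finsupp.linearCombination_single]
  have hbij : Function.Bijective Φ := Function.bijective_iff_has_inverse.mpr
    ⟨Ψ, fun a => DFunLike.congr_fun hl a, fun a => DFunLike.congr_fun hr a⟩
  haveI : Module.Free (MonoidAlgebra R (Multiplicative P)) (MonoidAlgebra R (Multiplicative Q)) :=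
    Module.Free.of_equiv (LinearEquiv.ofBijective Φ hbij)
  rw [← RingHom.algebraMap_toAlgebra φ, RingHom.faithfullyFlat_algebraMap_iff]
  infer_instance

end Ring

variable {S : Scheme.{u}} {M Z : Type} [AddCommGroup M] [AddCommGroup Z]

/-- Being an epimorphism, from `A(M)_ℤ`. -/
theorem effectiveEpi_AMonS_map_whiskerRight {P Q : Type} [AddCommMonoid P] [AddCommMonoid Q]
    (f : P →+ Q) (h : Flat (Magnet.AMon.map (ULift.{u} ℤ) f).left ∧
      Surjective (Magnet.AMon.map (ULift.{u} ℤ) f).left) (T : Over S) :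
    Flat (Magnet.AMonS.map S f ▷ T).left ∧ Surjective (Magnet.AMonS.map S f ▷ T).left ∧
      QuasiCompact (Magnet.AMonS.map S f ▷ T).left :=
  ⟨MorphismProperty.of_isPullback (P := @Flat) (isPullback_AMonS_map_whiskerRight f T).flip h.1,
    MorphismProperty.of_isPullback (P := @Surjective) (isPullback_AMonS_map_whiskerRight f T).flip h.2,
    quasiCompact_AMonS_map_whiskerRight f T⟩

theorem epi_whiskerLeft {X Y : Over S} (q : X ⟶ Y) [Flat q.left] [Surjective q.left] [QuasiCompact q.left]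
    (A : Over S) : Epi (A ◁ q) := by
  haveI := MorphismProperty.of_isPullback (P := @Flat) (isPullback_whiskerLeft A q).flip ‹_›
  haveI := MorphismProperty.of_isPullback (P := @Surjective) (isPullback_whiskerLeft A q).flip ‹_›
  haveI := MorphismProperty.of_isPullback (P := @QuasiCompact) (isPullback_whiskerLeft A q).flip ‹_›
  exact Over.epi_of_epi_left _

theorem epi_of_fpqc {X Y : Over S} (q : X ⟶ Y) [Flat q.left] [Surjective q.left] [QuasiCompact q.left] :
    Epi q :=
  Over.epi_of_epi_left _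

theorem exists_desc {X Y W : Over S} (q : X ⟶ Y) [Flat q.left] [Surjective q.left] [QuasiCompact q.left]
    (Φ : X ⟶ W) (h : ∀ (U : Over S) (x₁ x₂ : U ⟶ X), x₁ ≫ q = x₂ ≫ q → x₁ ≫ Φ = x₂ ≫ Φ) :
    ∃ Ψ : Y ⟶ W, q ≫ Ψ = Φ := by
  have hΦ : ∀ {U : Scheme.{u}} (g₁ g₂ : U ⟶ X.left), g₁ ≫ q.left = g₂ ≫ q.left →
      g₁ ≫ Φ.left = g₂ ≫ Φ.left := fun {U} g₁ g₂ hg => by
    let x₁ : Over.mk (g₁ ≫ X.hom) ⟶ X := Over.homMk g₁ rfl
    let x₂ : Over.mk (g₁ ≫ X.hom) ⟶ X := Over.homMk g₂ (by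
      change g₂ ≫ X.hom = g₁ ≫ X.hom
      rw [← Over.w q, ← Category.assoc, ← Category.assoc, hg])
    exact congrArg CommaMorphism.left (h _ x₁ x₂ (Over.OverMorphism.ext hg))
  let ψ := EffectiveEpi.desc q.left Φ.left hΦ
  have hψ : q.left ≫ ψ = Φ.left := EffectiveEpi.fac q.left Φ.left hΦ
  refine ⟨Over.homMk ψ ?_, Over.OverMorphism.ext hψ⟩
  rw [← cancel_epi q.left, ← Category.assoc, hψ, Over.w, Over.w]

/-- The inverse of a point of `A(M)`, `M` a group. -/
noncomputable def monInv {U : Over S} (g : U ⟶ Magnet.AMonS S M) : U ⟶ Magnet.AMonS S M :=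
  monPt
    { toFun := fun m => monFn g (-m.toAdd)
      map_one' := by simp [monFn_zero]
      map_mul' := fun m n => by simp only [toAdd_mul, neg_add, monFn_add] }

theorem monFn_monInv_mul {U : Over S} (g : U ⟶ Magnet.AMonS S M) (m : M) :
    monFn (monInv g) m * monFn g m = 1 := by
  rw [monInv, monFn_monPt]
  change monFn g (-m) * monFn g m = 1
  rw [← monFn_add, neg_add_cancel, monFn_zero]

variable (f : M →+ Z) (Y : AddSubmonoid Z)

/-- The diagonal `f⁻¹ Y →+ M × Y`. -/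
def diagHom : Y.comap f →+ M × Y :=
  (Y.comap f).subtype.prod ((f.comp (Y.comap f).subtype).codRestrict Y fun x => x.2)

theorem flat_surjective_diag (hY : Y ≤ AddMonoidHom.mrange f) :
    Flat (Magnet.AMon.map (ULift.{u} ℤ) (diagHom f Y)).left ∧
      Surjective (Magnet.AMon.map (ULift.{u} ℤ) (diagHom f Y)).left := by
  let rep : M ⧸ f.ker → M × Y := fun d => (d.out, 0)
  refine flat_surjective_of_cosets _ _ rep ⟨?_, ?_⟩
  · rintro ⟨d, p⟩ ⟨d', p'⟩ h
    simp only [rep, diagHom, Prod.ext_iff, Prod.fst_add, Prod.snd_add, AddMonoidHom.prod_apply,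
      add_zero, Subtype.ext_iff, 
      AddSubmonoid.subtype_apply] at h
    have hd : d = d' := by
      rw [← d.out_eq', ← d'.out_eq', QuotientAddGroup.eq, AddMonoidHom.mem_ker]
      have h1 := congrArg f h.1
      have h2 : f p.1 = f p'.1 := h.2
      rw [map_add, map_add, h2, add_right_inj] at h1
      simp [h1]
    subst hd
    exact Prod.ext rfl (Subtype.ext (add_right_cancel h.1))
  · rintro ⟨m, y⟩
    obtain ⟨m₀, hm₀⟩ := hY y.2
    let d : M ⧸ f.ker := QuotientAddGroup.mk (m - m₀)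
    have hd : f d.out = f (m - m₀) := by
      have h := QuotientAddGroup.eq.mp (show (QuotientAddGroup.mk d.out : M ⧸ f.ker) = QuotientAddGroup.mk (m - m₀) from d.out_eq')
      rw [AddMonoidHom.mem_ker, map_add, map_neg, neg_add_eq_zero] at h
      exact h
    have hp : f (m - d.out) = (y : Z) := by
      rw [map_sub, hd, map_sub, hm₀]; abel
    refine ⟨(d, ⟨m - d.out, ?_⟩), ?_⟩
    · rw [AddSubmonoid.mem_comap, hp]; exact y.2
    · refine Prod.ext ?_ (Subtype.ext ?_)
      · simp [rep, diagHom]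
      · change f (m - d.out) + 0 = (y : Z)
        rw [add_zero, hp]

theorem flat_surjective_subgroup (L : AddSubgroup Z) :
    Flat (Magnet.AMon.map (ULift.{u} ℤ) L.subtype).left ∧
      Surjective (Magnet.AMon.map (ULift.{u} ℤ) L.subtype).left := by
  refine flat_surjective_of_cosets _ _ (fun d : Z ⧸ L => d.out) ⟨?_, ?_⟩
  · rintro ⟨d, p⟩ ⟨d', p'⟩ h
    simp only [AddSubgroup.subtype_apply] at h
    have hd : d = d' := by
      have h' := congrArg (QuotientAddGroup.mk' L) h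
      simpa [(QuotientAddGroup.eq_zero_iff _).mpr p.2, (QuotientAddGroup.eq_zero_iff _).mpr p'.2,
        d.out_eq', d'.out_eq'] using h'
    subst hd
    exact Prod.ext rfl (Subtype.ext (add_right_cancel h))
  · intro z
    let d : Z ⧸ L := QuotientAddGroup.mk z
    have h := QuotientAddGroup.eq.mp (show (QuotientAddGroup.mk d.out : Z ⧸ L) = QuotientAddGroup.mk z from d.out_eq')
    refine ⟨(d, ⟨-d.out + z, h⟩), ?_⟩
    change -d.out + z + d.out = z
    abel

variable {f Y} {X : Over S} (a : Magnet.MonAct (Magnet.AMonS S M) X)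

/-- The restriction map `A(Y) → A(f⁻¹Y)`. -/
noncomputable abbrev comapHom (f : M →+ Z) (Y : AddSubmonoid Z) : Y.comap f →+ Y :=
  (f.comp (Y.comap f).subtype).codRestrict Y fun x => x.2

theorem lift_subAct {W : Type} [AddCommMonoid W] (N : AddSubmonoid W) {U : Over S}
    (g : U ⟶ Magnet.AMonS S W) (b : U ⟶ Magnet.AMonS S N) :
    lift g b ≫ (Magnet.subAct S W N).act = (g ≫ Magnet.AMonS.map S N.subtype) * b :=
  (Magnet.MonAct.lift_restrict_act _ _ _ _).trans (Magnet.MonAct.lift_regular_act _ _)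

/-- `x^* ` of the diagonal is the product of the two components. -/
theorem comp_diag {U : Over S} (x : U ⟶ Magnet.AMonS S (M × Y)) :
    x ≫ Magnet.AMonS.map S (diagHom f Y) =
      ((x ≫ Magnet.AMonS.map S (AddMonoidHom.inl M Y)) ≫ Magnet.AMonS.map S (Y.comap f).subtype) *
        ((x ≫ Magnet.AMonS.map S (AddMonoidHom.inr M Y)) ≫ Magnet.AMonS.map S (comapHom f Y)) := by
  refine monFn_ext fun p => ?_
  rw [monFn_mul, monFn_map, monFn_map, monFn_map, monFn_map, monFn_map, ← monFn_add]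
  congr 1
  simp [diagHom]

/-- The orbit of `φ` under `A(M)`. -/
noncomputable def orbitPair {T : Over S} (φ : Magnet.AMonS S Y ⊗ T ⟶ X) : Magnet.AMonS S (M × Y) ⊗ T ⟶ X :=
  lift (fst _ _ ≫ Magnet.AMonS.map S (AddMonoidHom.inl M Y))
    ((Magnet.AMonS.map S (AddMonoidHom.inr M Y) ▷ T) ≫ φ) ≫ a.act

theorem lift_orbitPair {T : Over S} (φ : Magnet.AMonS S Y ⊗ T ⟶ X) {U : Over S}
    (x : U ⟶ Magnet.AMonS S (M × Y)) (t : U ⟶ T) :
    lift x t ≫ orbitPair a φ = lift (x ≫ Magnet.AMonS.map S (AddMonoidHom.inl M Y))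
      (lift (x ≫ Magnet.AMonS.map S (AddMonoidHom.inr M Y)) t ≫ φ) ≫ a.act := by
  simp only [orbitPair, comp_lift_assoc, lift_fst_assoc, lift_whiskerRight_assoc]

attribute [irreducible] orbitPair

theorem diag_whiskerRight_comp {T : Over S} (ψ : (Magnet.attr a (Y.comap f)).obj (op T)) :
    (Magnet.AMonS.map S (diagHom f Y) ▷ T) ≫ ψ.1 =
      orbitPair a ((Magnet.AMonS.map S (comapHom f Y) ▷ T) ≫ ψ.1) := by
  refine Magnet.hom_ext_lift₂ fun U x t => ?_
  have h := (Magnet.MonAct.mem_eqvHom_iff _).1 ψ.2 U (x ≫ Magnet.AMonS.map S (AddMonoidHom.inl M Y))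
    ((x ≫ Magnet.AMonS.map S (AddMonoidHom.inr M Y)) ≫ Magnet.AMonS.map S (comapHom f Y)) t
  rw [lift_subAct, ← comp_diag] at h
  refine ((lift_whiskerRight_assoc x t _ _).trans h).trans
    (Eq.trans ?_ (lift_orbitPair a _ x t).symm)
  exact congrArg (fun w => lift (x ≫ Magnet.AMonS.map S (AddMonoidHom.inl M Y)) w ≫ a.act)
    (lift_whiskerRight_assoc _ t _ _).symm

/-- Equivariance for `A(Z)` gives equivariance for `A(L)`, `L` the image of `f`. -/
theorem equivariant_range (hY : Y ≤ AddMonoidHom.mrange f) {T : Over S}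
    (φ : (Magnet.attr (a.restrict (Magnet.AMonS.map S f)) Y).obj (op T))
    (U : Over S) (g : U ⟶ Magnet.AMonS S f.range) (b : U ⟶ Magnet.AMonS S Y) (t : U ⟶ T) :
    lift ((g ≫ Magnet.AMonS.map S ((Y.subtype).codRestrict f.range fun y => hY y.2)) * b) t ≫ φ.1 =
      lift (g ≫ Magnet.AMonS.map S f.rangeRestrict) (lift b t ≫ φ.1) ≫ a.act := by
  have hf₀ := (Magnet.MonAct.mem_eqvHom_iff _).1 φ.2
  let πr : M →+ f.range := f.rangeRestrict
  let j : Y →+ f.range := (Y.subtype).codRestrict f.range fun y => hY y.2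
  obtain ⟨e1, e2, e3⟩ := effectiveEpi_AMonS_map_whiskerRight (S := S) _
    (flat_surjective_subgroup f.range) (Magnet.AMonS S Y ⊗ T)
  haveI := epi_of_fpqc (Magnet.AMonS.map S f.range.subtype ▷ (Magnet.AMonS S Y ⊗ T))
  let F₁ : Magnet.AMonS S f.range ⊗ (Magnet.AMonS S Y ⊗ T) ⟶ X :=
    lift ((fst _ _ ≫ Magnet.AMonS.map S j) * (snd _ _ ≫ fst _ _)) (snd _ _ ≫ snd _ _) ≫ φ.1
  let F₂ : Magnet.AMonS S f.range ⊗ (Magnet.AMonS S Y ⊗ T) ⟶ X :=
    lift (fst _ _ ≫ Magnet.AMonS.map S πr) (snd _ _ ≫ φ.1) ≫ a.act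
  have hF : F₁ = F₂ := by
    refine (cancel_epi (Magnet.AMonS.map S f.range.subtype ▷ (Magnet.AMonS S Y ⊗ T))).mp ?_
    refine Magnet.hom_ext_lift₂ fun U g w => ?_
    have h := hf₀ U g (w ≫ fst _ _) (w ≫ snd _ _)
    rw [lift_subAct, Magnet.MonAct.lift_restrict_act, lift_comp_fst_snd] at h
    simp only [F₁, F₂, lift_whiskerRight_assoc, comp_lift_assoc, MonObj.comp_mul, lift_fst_assoc,
      lift_snd_assoc]
    rw [Category.assoc, ← Magnet.AMonS.map_comp, Category.assoc, ← Magnet.AMonS.map_comp]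
    exact h
  have := congrArg (lift g (lift b t) ≫ ·) hF
  simpa only [F₁, F₂, comp_lift_assoc, MonObj.comp_mul, lift_fst_assoc, lift_snd_assoc, lift_fst, lift_snd]
    using this

theorem orbitPair_kernelPair (hY : Y ≤ AddMonoidHom.mrange f) {T : Over S}
    (φ : (Magnet.attr (a.restrict (Magnet.AMonS.map S f)) Y).obj (op T)) (U : Over S)
    (z₁ z₂ : U ⟶ Magnet.AMonS S (M × Y) ⊗ T)
    (hz : z₁ ≫ (Magnet.AMonS.map S (diagHom f Y) ▷ T) = z₂ ≫ (Magnet.AMonS.map S (diagHom f Y) ▷ T)) :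
    z₁ ≫ orbitPair a φ.1 = z₂ ≫ orbitPair a φ.1 := by
  let P := Y.comap f
  let r : P →+ Y := comapHom f Y
  let il := AddMonoidHom.inl M Y
  let ir := AddMonoidHom.inr M Y
  let q := Magnet.AMonS.map S (diagHom f Y)
  let πr : M →+ f.range := f.rangeRestrict
  let j : Y →+ f.range := (Y.subtype).codRestrict f.range fun y => hY y.2
  obtain ⟨x₁, t₁, rfl⟩ : ∃ x t, z₁ = lift x t := ⟨_, _, (lift_comp_fst_snd z₁).symm⟩
  obtain ⟨x₂, t₂, rfl⟩ : ∃ x t, z₂ = lift x t := ⟨_, _, (lift_comp_fst_snd z₂).symm⟩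
  rw [lift_whiskerRight, lift_whiskerRight] at hz
  obtain rfl : t₁ = t₂ := by simpa using congrArg (· ≫ snd _ _) hz
  have hx : x₁ ≫ q = x₂ ≫ q := by simpa using congrArg (· ≫ fst _ _) hz
  refine (lift_orbitPair a φ.1 x₁ t₁).trans (Eq.trans ?_ (lift_orbitPair a φ.1 x₂ t₁).symm)
  set g₁ := x₁ ≫ Magnet.AMonS.map S il
  set g₂ := x₂ ≫ Magnet.AMonS.map S il
  set b₁ := x₁ ≫ Magnet.AMonS.map S ir
  set b₂ := x₂ ≫ Magnet.AMonS.map S ir
  have hval : ∀ p : P, monFn g₁ p.1 * monFn b₁ (r p) = monFn g₂ p.1 * monFn b₂ (r p) := fun p => by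
    have := congrArg (fun w => monFn w p) hx
    simp only [q, comp_diag, monFn_mul, monFn_map] at this
    simpa [g₁, g₂, b₁, b₂, monFn_map, il, ir, r] using this
  let h := monInv g₁ * g₂
  have hker : ∀ m, f m = 0 → monFn h m = 1 := fun m hm => by
    have hmP : m ∈ P := by
      rw [AddSubmonoid.mem_comap, hm]; exact Y.zero_mem
    have hv := hval ⟨m, hmP⟩
    have hr : r ⟨m, hmP⟩ = 0 := Subtype.ext hm
    rw [hr, monFn_zero, monFn_zero, _root_.mul_one, _root_.mul_one] at hv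
    rw [monFn_mul, ← hv, monFn_monInv_mul]
  have hwd : ∀ m m' : M, f m = f m' → monFn h m = monFn h m' := fun m m' e => by
    rw [← sub_add_cancel m m', monFn_add, hker (m - m') (by rw [map_sub, e, sub_self]),
      _root_.one_mul]
  have hsec : ∀ l : f.range, ∃ m, f m = (l : Z) := fun l => l.2
  choose sec hsec using hsec
  let h' : U ⟶ Magnet.AMonS S f.range := monPt
    { toFun := fun l => monFn h (sec l.toAdd)
      map_one' := hker _ (hsec 0)
      map_mul' := fun l l' => by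
        rw [← monFn_add]
        exact hwd _ _ (by simp [hsec, map_add]) }
  have hh' : h' ≫ Magnet.AMonS.map S πr = h := monFn_ext fun m => by
    rw [monFn_map, monFn_monPt]
    exact hwd _ _ (hsec _)
  have hb : (h' ≫ Magnet.AMonS.map S j) * b₂ = b₁ := monFn_ext fun y => by
    obtain ⟨m, hm⟩ := hY y.2
    have hmP : m ∈ P := by rw [AddSubmonoid.mem_comap, hm]; exact y.2
    have hv := hval ⟨m, hmP⟩
    have hr : r ⟨m, hmP⟩ = y := Subtype.ext hm
    rw [hr] at hv
    rw [monFn_mul, monFn_map, monFn_monPt]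
    change monFn h (sec (j y)) * monFn b₂ y = monFn b₁ y
    rw [hwd _ m ((hsec (j y)).trans hm.symm), monFn_mul, _root_.mul_assoc, ← hv,
      ← _root_.mul_assoc, monFn_monInv_mul, _root_.one_mul]
  have hg : g₁ * h = g₂ := monFn_ext fun m => by
    rw [monFn_mul, monFn_mul, ← _root_.mul_assoc, mul_comm (monFn g₁ m), monFn_monInv_mul,
      _root_.one_mul]
  rw [← hb, equivariant_range a hY, hh', ← Magnet.MonAct.lift_mul_act, hg]

theorem desc_equivariant {T : Over S} (φ : Magnet.AMonS S Y ⊗ T ⟶ X)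
    [Flat (Magnet.AMonS.map S (diagHom f Y) ▷ T).left] [Surjective (Magnet.AMonS.map S (diagHom f Y) ▷ T).left]
    [QuasiCompact (Magnet.AMonS.map S (diagHom f Y) ▷ T).left]
    (Ψ : Magnet.AMonS S (Y.comap f) ⊗ T ⟶ X)
    (hΨ : (Magnet.AMonS.map S (diagHom f Y) ▷ T) ≫ Ψ = orbitPair a φ)
    (U : Over S) (g : U ⟶ Magnet.AMonS S M) (p : U ⟶ Magnet.AMonS S (Y.comap f)) (t : U ⟶ T) :
    lift (lift g p ≫ (Magnet.subAct S M (Y.comap f)).act) t ≫ Ψ = lift g (lift p t ≫ Ψ) ≫ a.act := by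
  let il := AddMonoidHom.inl M Y
  let ir := AddMonoidHom.inr M Y
  let q := Magnet.AMonS.map S (diagHom f Y)
  rw [lift_subAct]
  haveI := epi_whiskerLeft (q ▷ T) (Magnet.AMonS S M)
  let G₁ : Magnet.AMonS S M ⊗ (Magnet.AMonS S (Y.comap f) ⊗ T) ⟶ X :=
    lift ((fst _ _ ≫ Magnet.AMonS.map S (Y.comap f).subtype) * (snd _ _ ≫ fst _ _)) (snd _ _ ≫ snd _ _) ≫ Ψ
  let G₂ : Magnet.AMonS S M ⊗ (Magnet.AMonS S (Y.comap f) ⊗ T) ⟶ X :=
    lift (fst _ _) (snd _ _ ≫ Ψ) ≫ a.act
  have hG : G₁ = G₂ := by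
    refine (cancel_epi (Magnet.AMonS S M ◁ (q ▷ T))).mp (Magnet.hom_ext_lift₂ fun V g w => ?_)
    obtain ⟨x, t, rfl⟩ : ∃ x t, w = lift x t := ⟨_, _, (lift_comp_fst_snd w).symm⟩
    let x' := x * (g ≫ Magnet.AMonS.map S (AddMonoidHom.fst M Y))
    have hx' : (g ≫ Magnet.AMonS.map S (Y.comap f).subtype) * (x ≫ q) = x' ≫ q := by
      refine monFn_ext fun p => ?_
      rw [monFn_mul, monFn_map, monFn_map, monFn_map, monFn_mul, monFn_map, mul_comm]
      rfl
    have hl : x' ≫ Magnet.AMonS.map S il = g * (x ≫ Magnet.AMonS.map S il) := by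
      refine monFn_ext fun m => ?_
      rw [monFn_map, monFn_mul, monFn_mul, monFn_map, monFn_map, mul_comm]
      rfl
    have hrr : x' ≫ Magnet.AMonS.map S ir = x ≫ Magnet.AMonS.map S ir := by
      refine monFn_ext fun y => ?_
      rw [monFn_map, monFn_map, monFn_mul, monFn_map]
      simp [ir, monFn_zero]
    simp only [G₁, G₂, lift_whiskerLeft_assoc, lift_whiskerRight,
      comp_lift_assoc, MonObj.comp_mul, lift_fst_assoc, lift_snd_assoc, lift_fst, lift_snd]
    have e : ∀ z : V ⟶ Magnet.AMonS S (M × Y), lift (z ≫ q) t ≫ Ψ = lift (z ≫ Magnet.AMonS.map S il)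
        (lift (z ≫ Magnet.AMonS.map S ir) t ≫ φ) ≫ a.act := fun z =>
      ((lift_whiskerRight_assoc z t q Ψ).symm.trans (congrArg (lift z t ≫ ·) hΨ)).trans
        (lift_orbitPair a φ z t)
    rw [hx', e x', e x, hl, hrr, Magnet.MonAct.lift_mul_act]
  have := congrArg (lift g (lift p t) ≫ ·) hG
  simpa only [G₁, G₂, comp_lift_assoc, MonObj.comp_mul, lift_fst_assoc, lift_snd_assoc, lift_fst, lift_snd]
    using this

theorem desc_restrict {T : Over S} (φ : Magnet.AMonS S Y ⊗ T ⟶ X)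
    (Ψ : Magnet.AMonS S (Y.comap f) ⊗ T ⟶ X)
    (hΨ : (Magnet.AMonS.map S (diagHom f Y) ▷ T) ≫ Ψ = orbitPair a φ) :
    (Magnet.AMonS.map S (comapHom f Y) ▷ T) ≫ Ψ = φ := by
  let r : Y.comap f →+ Y := comapHom f Y
  let il := AddMonoidHom.inl M Y
  let ir := AddMonoidHom.inr M Y
  let q := Magnet.AMonS.map S (diagHom f Y)
  refine Magnet.hom_ext_lift₂ fun U b t => ?_
  let x := b ≫ Magnet.AMonS.map S (AddMonoidHom.snd M Y)
  have hl : x ≫ Magnet.AMonS.map S il = 1 := by
    refine monFn_ext fun m => ?_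
    rw [monFn_map, monFn_map, monFn_one]
    simp [il, monFn_zero]
  have hrr : x ≫ Magnet.AMonS.map S ir = b := by
    refine monFn_ext fun y => ?_
    rw [monFn_map, monFn_map]
    rfl
  have hxq : b ≫ Magnet.AMonS.map S r = x ≫ q := by
    refine monFn_ext fun p => ?_
    rw [monFn_map, monFn_map, monFn_map]
    rfl
  refine (lift_whiskerRight_assoc b t _ Ψ).trans ?_
  rw [hxq]
  refine ((lift_whiskerRight_assoc x t q Ψ).symm.trans (congrArg (lift x t ≫ ·) hΨ)).trans
    ((lift_orbitPair a φ x t).trans ?_)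
  change lift (x ≫ Magnet.AMonS.map S il) (lift (x ≫ Magnet.AMonS.map S ir) t ≫ φ) ≫ a.act = _
  rw [hl, hrr, Magnet.MonAct.lift_one_act]

theorem attrComap_bijective (hY : Y ≤ AddMonoidHom.mrange f) (T : Over S) :
    Function.Bijective ((Magnet.attrComap a f Y).app (op T)) := by
  obtain ⟨i1, i2, i3⟩ := effectiveEpi_AMonS_map_whiskerRight (S := S) _ (flat_surjective_diag f Y hY) T
  constructor
  · intro ψ₁ ψ₂ h
    have h' : (Magnet.AMonS.map S (comapHom f Y) ▷ T) ≫ ψ₁.1 = (Magnet.AMonS.map S (comapHom f Y) ▷ T) ≫ ψ₂.1 :=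
      congrArg Subtype.val h
    haveI := epi_of_fpqc (Magnet.AMonS.map S (diagHom f Y) ▷ T)
    refine Subtype.ext ((cancel_epi (Magnet.AMonS.map S (diagHom f Y) ▷ T)).mp ?_)
    rw [diag_whiskerRight_comp a ψ₁, diag_whiskerRight_comp a ψ₂, h']
  · intro φ
    obtain ⟨Ψ, hΨ⟩ := exists_desc (Magnet.AMonS.map S (diagHom f Y) ▷ T) (orbitPair a φ.1)
      (orbitPair_kernelPair a hY φ)
    exact ⟨⟨Ψ, (Magnet.MonAct.mem_eqvHom_iff _).2 (desc_equivariant a φ.1 Ψ hΨ)⟩,
      Subtype.ext (desc_restrict a φ.1 Ψ hΨ)⟩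

end Groth.Agent.Lib.GrpSch
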