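import Groth.Agent.Lib.GrpSch.AttrRep
import Mathlib.AlgebraicGeometry.AffineTransitionLimit

/-!
# Limit argument for attractors of locally finitely presented schemes
-/

set_option autoImplicit false
universe u

open CategoryTheory Limits MonoidalCategory CartesianMonoidalCategory AlgebraicGeometry Opposite TensorProduct

namespace Groth.Agent.Lib.GrpSch.AttrAffine

section Ring

variable (R : Type u) [CommRing R] (B : CommRingCat.{u}) [Algebra R B] {M : Type} [AddCommMonoid M]

/-- The element `b ⊗ r χ^m`. -/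
noncomputable def bcTerm (b : B) (m : Multiplicative M) (r : R) : bcRing R M B :=
  (b ⊗ₜ[R] MonoidAlgebra.single m r : (B : Type u) ⊗[R] MonoidAlgebra R (Multiplicative M))

theorem bcMap_bcTerm {N : Type} [AddCommMonoid N] (f : N →+ M) (b : B) (m : Multiplicative N) (r : R) :
    (bcMap R B f).hom (bcTerm R B b m r) = bcTerm R B b (AddMonoidHom.toMultiplicative f m) r := by
  change Algebra.TensorProduct.map _ _ (b ⊗ₜ[R] MonoidAlgebra.single m r) = _
  simp [bcTerm]

theorem bcRing_inductionT {P : bcRing R M B → Prop} (z : bcRing R M B) (h0 : P 0)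
    (hadd : ∀ x y, P x → P y → P (x + y)) (hterm : ∀ b m r, P (bcTerm R B b m r)) : P z := by
  let z' : (B : Type u) ⊗[R] MonoidAlgebra R (Multiplicative M) := z
  change P z'
  induction z' using TensorProduct.induction_on with
  | zero => exact h0
  | add x y hx hy => exact hadd _ _ hx hy
  | tmul b a =>
    induction a using MonoidAlgebra.induction_linear with
    | zero => rw [tmul_zero]; exact h0
    | add x y hx hy => rw [tmul_add]; exact hadd _ _ hx hy
    | single m r => exact hterm b m r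

theorem bcMap_comp' {N P : Type} [AddCommMonoid N] [AddCommMonoid P] (f : N →+ M) (g : P →+ N) :
    bcMap R B g ≫ bcMap R B f = bcMap R B (f.comp g) := by
  refine CommRingCat.hom_ext (RingHom.ext fun z => ?_)
  rw [CommRingCat.comp_apply]
  refine bcRing_inductionT R B (P := fun z => (bcMap R B f).hom ((bcMap R B g).hom z) = (bcMap R B (f.comp g)).hom z) z
    ?_ ?_ ?_
  · simp only [map_zero]
  · intro x y hx hy
    simp only [map_add, hx, hy]
  · intro b m r
    rw [bcMap_bcTerm, bcMap_bcTerm, bcMap_bcTerm]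
    rfl

theorem bcMap_comp {A C D : AddSubmonoid M} (h₁ : A ≤ C) (h₂ : C ≤ D) :
    bcMap R B (AddSubmonoid.inclusion h₁) ≫ bcMap R B (AddSubmonoid.inclusion h₂) =
      bcMap R B (AddSubmonoid.inclusion (h₁.trans h₂)) :=
  bcMap_comp' R B _ _

theorem bcMap_refl {A : AddSubmonoid M} (h : A ≤ A) :
    bcMap R B (AddSubmonoid.inclusion h) = 𝟙 _ := by
  refine CommRingCat.hom_ext (RingHom.ext fun z => ?_)
  refine bcRing_inductionT R B (P := fun z => (bcMap R B _).hom z = z) z (map_zero _)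
    (fun x y hx hy => (map_add _ x y).trans (congrArg₂ (· + ·) hx hy)) fun b m r => ?_
  exact bcMap_bcTerm R B _ b m r

end Ring

attribute [local instance] baseAlg

variable {M : Type} [AddCommMonoid M] {J : Type} [Preorder J] [IsDirected J (· ≤ ·)] [Nonempty J]

/-- Finitely presented targets see only a finite stage of a directed union of magnets. -/
theorem exists_factor {S : Scheme.{u}} {X : Over S} [LocallyOfFinitePresentation X.hom]
    (N : J → AddSubmonoid M) (hN : Monotone N) (B : CommRingCat.{u}) (t : Spec B ⟶ S)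
    (φ : Magnet.AMonS S ↥(⨆ i, N i) ⊗ specOver B t ⟶ X) :
    ∃ (i : J) (ψ : Magnet.AMonS S ↥(N i) ⊗ specOver B t ⟶ X),
      (Magnet.AMonS.map S (AddSubmonoid.inclusion (le_iSup N i)) ▷ specOver B t) ≫ ψ = φ := by
  letI : Preorder (ULift.{u} J) := Preorder.lift ULift.down
  haveI : IsDirected (ULift.{u} J) (· ≤ ·) := ⟨fun a b => by
    obtain ⟨c, h1, h2⟩ := directed_of (· ≤ ·) a.down b.down
    exact ⟨⟨c⟩, h1, h2⟩⟩
  haveI : Nonempty (ULift.{u} J) := Nonempty.map ULift.up ‹_›
  let F : ULift.{u} J ⥤ CommRingCat.{u} :=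
    { obj := fun j => bcRing R0.{u} ↥(N j.down) B
      map := fun {a b} h => bcMap R0.{u} B (AddSubmonoid.inclusion (hN h.le))
      map_id := fun a => bcMap_refl R0.{u} B _
      map_comp := fun f g => (bcMap_comp R0.{u} B _ _).symm }
  let cc : Cocone F :=
    { pt := bcRing R0.{u} ↥(⨆ i, N i) B
      ι :=
        { app := fun j => bcMap R0.{u} B (AddSubmonoid.inclusion (le_iSup N j.down))
          naturality := fun a b h => (bcMap_comp R0.{u} B (hN h.le) (le_iSup N b.down)).trans (Category.comp_id _).symm } }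
  have hcol : IsColimit cc := by
    haveI : PreservesColimitsOfShape (ULift.{u} J) (forget CommRingCat.{u}) := inferInstance
    haveI : ReflectsColimitsOfShape (ULift.{u} J) (forget CommRingCat.{u}) :=
      reflectsColimitsOfShape_of_reflectsIsomorphisms
    refine isColimitOfReflects (forget CommRingCat.{u}) (Types.FilteredColimit.isColimitOf' _ _ ?_ ?_)
    · intro (z : bcRing R0.{u} ↥(⨆ i, N i) B)
      show ∃ (i : ULift.{u} J) (w : bcRing R0.{u} ↥(N i.down) B), z = (cc.ι.app i).hom w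
      have hadd : ∀ z₁ z₂ : bcRing R0.{u} ↥(⨆ i, N i) B, (∃ (i : ULift.{u} J) (w : bcRing R0.{u} ↥(N i.down) B), z₁ = (cc.ι.app i).hom w) →
          (∃ (i : ULift.{u} J) (w : bcRing R0.{u} ↥(N i.down) B), z₂ = (cc.ι.app i).hom w) →
          ∃ (i : ULift.{u} J) (w : bcRing R0.{u} ↥(N i.down) B), z₁ + z₂ = (cc.ι.app i).hom w := by
        rintro _ _ ⟨i, w, rfl⟩ ⟨j, v, rfl⟩
        obtain ⟨k, hik, hjk⟩ := directed_of (· ≤ ·) i j
        refine ⟨k, (F.map (homOfLE hik)).hom w + (F.map (homOfLE hjk)).hom v, ?_⟩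
        rw [map_add, ← cc.w (homOfLE hik), ← cc.w (homOfLE hjk)]
        rfl
      refine bcRing_inductionT R0.{u} B z ?_ hadd ?_
      · exact ⟨Classical.arbitrary _, 0, (map_zero _).symm⟩
      · intro b m r
        obtain ⟨i, hi⟩ := (AddSubmonoid.mem_iSup_of_directed hN.directed_le).1 m.toAdd.2
        exact ⟨⟨i⟩, bcTerm R0.{u} B b (Multiplicative.ofAdd ⟨(m.toAdd : M), hi⟩) r,
          (bcMap_bcTerm R0.{u} B (AddSubmonoid.inclusion (le_iSup N i)) b (Multiplicative.ofAdd ⟨(m.toAdd : M), hi⟩) r).symm⟩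
    · exact fun j x y hxy => ⟨j, 𝟙 j, congrArg _
        (bcMap_injective R0.{u} B _ (AddSubmonoid.inclusion_injective (le_iSup N j.down)) hxy)⟩
  let D := F.op ⋙ Scheme.Spec
  let τ : D ⟶ (Functor.const _).obj S :=
    { app := fun j => Spec.map (bcInl R0.{u} ↥(N j.unop.down) B) ≫ t
      naturality := fun a b h => by
        change Spec.map (bcMap R0.{u} B _) ≫ Spec.map (bcInl R0.{u} _ B) ≫ t = (Spec.map (bcInl R0.{u} _ B) ≫ t) ≫ 𝟙 S
        rw [Category.comp_id, ← Spec.map_comp_assoc, bcInl_bcMap] }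
  have i₁ : ∀ {x y} (f : x ⟶ y), IsAffineHom (D.map f) := fun f => by dsimp [D]; infer_instance
  have i₂ : ∀ x, CompactSpace (D.obj x) := fun x => by dsimp [D]; infer_instance
  have i₃ : ∀ x, QuasiSeparatedSpace (D.obj x) := fun x => by dsimp [D]; infer_instance
  obtain ⟨i, g, hg, hg'⟩ := Scheme.exists_π_app_comp_eq_of_locallyOfFinitePresentation D τ X.hom
    (Scheme.Spec.mapCone cc.op) (isLimitOfPreserves Scheme.Spec hcol.op)
    ((prodIso (M := ↥(⨆ i, N i)) B t).hom ≫ φ.left) (by
      ext j : 2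
      change Spec.map (bcMap R0.{u} B _) ≫ Spec.map (bcInl R0.{u} _ B) ≫ t = (_ ≫ φ.left) ≫ X.hom
      rw [← Spec.map_comp_assoc, bcInl_bcMap, Category.assoc, Over.w φ, ← reassoc_of% prodIso_snd (M := ↥(⨆ i, N i)) B t]
      exact congrArg ((prodIso (M := ↥(⨆ i, N i)) B t).hom ≫ ·) (Over.w (snd (Magnet.AMonS S ↥(⨆ i, N i)) (specOver B t))))
  change Spec.map (bcMap R0.{u} B (AddSubmonoid.inclusion (le_iSup N i.unop.down))) ≫ g = _ at hg
  change g ≫ X.hom = Spec.map (bcInl R0.{u} ↥(N i.unop.down) B) ≫ t at hg'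
  refine ⟨i.unop.down, Over.homMk ((prodIso (M := ↥(N i.unop.down)) B t).inv ≫ g) ?_, Over.OverMorphism.ext ?_⟩
  · rw [Category.assoc, hg', ← reassoc_of% prodIso_snd (M := ↥(N i.unop.down)) B t, Iso.inv_hom_id_assoc]
    exact Over.w (snd (Magnet.AMonS S ↥(N i.unop.down)) (specOver B t))
  · rw [← cancel_epi (prodIso (M := ↥(⨆ i, N i)) B t).hom, Over.comp_left, ← hg]
    change _ ≫ _ ≫ (prodIso (M := ↥(N i.unop.down)) B t).inv ≫ g = _
    rw [reassoc_of% prodIso_map (S := S) (AddSubmonoid.inclusion (le_iSup N i.unop.down)) B, Iso.hom_inv_id_assoc]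


end Groth.Agent.Lib.GrpSch.AttrAffine
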