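import Groth.Agent.Lib.GrpSch.FaceHom
import Groth.Agent.Lib.GrpSch.AttrLimit
import Groth.Agent.Lib.GrpSch.AttrDescent
import Groth.Agent.Lib.GrpSch.AttrCoassoc
import Mathlib.FieldTheory.IsAlgClosed.AlgebraicClosure
import Mathlib.Algebra.Category.Grp.Injective
import Mathlib.GroupTheory.Divisible
import Mathlib.AlgebraicGeometry.ResidueField

/-!
# Attractors of open subschemes

A point of an attractor lands in a stable open subscheme as soon as its value at the vertex does.
-/

set_option autoImplicit false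
universe u

open CategoryTheory Limits MonoidalCategory CartesianMonoidalCategory MonObj AlgebraicGeometry Opposite TensorProduct

namespace Groth.Agent.Lib.GrpSch.AttrOpen

open AttrAffine

section Ring

variable (R : Type u) [CommRing R] {M N : Type} [AddCommMonoid M] [AddCommMonoid N]
variable {B D : CommRingCat.{u}} [Algebra R B] [Algebra R D]

/-- `b ⊗ χ^m ↦ i b * χ m`. -/
noncomputable def evAlg (i : (B : Type u) →ₐ[R] D) (χ : Multiplicative M →* D) :
    (B : Type u) ⊗[R] MonoidAlgebra R (Multiplicative M) →ₐ[R] D :=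
  Algebra.TensorProduct.lift i (MonoidAlgebra.lift R D (Multiplicative M) χ) fun _ _ => Commute.all _ _

/-- `b ⊗ χ^m ↦ i b * χ m`. -/
noncomputable def evTo (i : (B : Type u) →ₐ[R] D) (χ : Multiplicative M →* D) : bcRing R M B ⟶ D :=
  CommRingCat.ofHom (evAlg R i χ).toRingHom

theorem evTo_bcTerm (i : (B : Type u) →ₐ[R] D) (χ : Multiplicative M →* D) (b : B) (m : Multiplicative M) (r : R) :
    (evTo R i χ).hom (bcTerm R B b m r) = i b * (algebraMap R D r * χ m) := by
  change evAlg R i χ (b ⊗ₜ[R] MonoidAlgebra.single m r) = _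
  rw [evAlg, Algebra.TensorProduct.lift_tmul, MonoidAlgebra.lift_single, Algebra.smul_def]

theorem bcInl_evTo (i : (B : Type u) →ₐ[R] D) (χ : Multiplicative M →* D) :
    bcInl R M B ≫ evTo R i χ = CommRingCat.ofHom i.toRingHom := by
  ext b
  change evAlg R i χ (b ⊗ₜ[R] (1 : MonoidAlgebra R (Multiplicative M))) = i b
  rw [evAlg, Algebra.TensorProduct.lift_tmul, map_one, _root_.mul_one]

theorem bcInr_evTo (i : (B : Type u) →ₐ[R] D) (χ : Multiplicative M →* D) (m : Multiplicative M) :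
    (bcInr R M B ≫ evTo R i χ).hom (MonoidAlgebra.single m 1) = χ m := by
  change evAlg R i χ ((1 : B) ⊗ₜ[R] MonoidAlgebra.single m (1 : R)) = χ m
  rw [evAlg, Algebra.TensorProduct.lift_tmul, MonoidAlgebra.lift_single, map_one, _root_.one_mul, one_smul]

theorem bcMap_evTo (f : N →+ M) (i : (B : Type u) →ₐ[R] D) (χ : Multiplicative M →* D) (z : bcRing R N B) :
    (evTo R i χ).hom ((bcMap R B f).hom z) = (evTo R i (χ.comp (AddMonoidHom.toMultiplicative f))).hom z := by
  refine bcRing_inductionT R B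
    (P := fun z => (evTo R i χ).hom ((bcMap R B f).hom z) = (evTo R i (χ.comp (AddMonoidHom.toMultiplicative f))).hom z)
    z ?_ ?_ ?_
  · simp only [map_zero]
  · intro x y hx hy
    simp only [map_add, hx, hy]
  · intro b m r
    rw [bcMap_bcTerm, evTo_bcTerm, evTo_bcTerm]
    rfl

theorem evTo_comp {E : CommRingCat.{u}} [Algebra R E] (τ : (D : Type u) →ₐ[R] E)
    (i : (B : Type u) →ₐ[R] D) (χ : Multiplicative M →* D) (z : bcRing R M B) :
    τ ((evTo R i χ).hom z) = (evTo R (τ.comp i) ((τ : (D : Type u) →* E).comp χ)).hom z := by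
  refine bcRing_inductionT R B
    (P := fun z => τ ((evTo R i χ).hom z) = (evTo R (τ.comp i) ((τ : (D : Type u) →* E).comp χ)).hom z) z ?_ ?_ ?_
  · simp only [map_zero]
  · intro x y hx hy
    simp only [map_add, hx, hy]
  · intro b m r
    rw [evTo_bcTerm, evTo_bcTerm, map_mul, map_mul, AlgHom.commutes]
    rfl

/-- Every element lives on finitely many monomials. -/
theorem exists_fg_mem_range {A : Type} [AddCommMonoid A] (L : AddSubmonoid A) (z : bcRing R (↥L) B) :
    ∃ (L' : AddSubmonoid A) (h : L' ≤ L), L'.FG ∧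
      z ∈ Set.range (bcMap R B (AddSubmonoid.inclusion h)).hom := by
  refine bcRing_inductionT R B (P := fun z => ∃ (L' : AddSubmonoid A) (h : L' ≤ L), L'.FG ∧
      z ∈ Set.range (bcMap R B (AddSubmonoid.inclusion h)).hom) z ?_ ?_ ?_
  · exact ⟨⊥, bot_le, ⟨∅, by simp⟩, 0, map_zero _⟩
  · rintro _ _ ⟨L₁, h₁, f₁, w₁, rfl⟩ ⟨L₂, h₂, f₂, w₂, rfl⟩
    refine ⟨L₁ ⊔ L₂, sup_le h₁ h₂, f₁.sup f₂,
      (bcMap R B (AddSubmonoid.inclusion (le_sup_left (b := L₂) : L₁ ≤ L₁ ⊔ L₂))).hom w₁ +
        (bcMap R B (AddSubmonoid.inclusion (le_sup_right (a := L₁) : L₂ ≤ L₁ ⊔ L₂))).hom w₂, ?_⟩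
    rw [map_add, ← CommRingCat.comp_apply, bcMap_comp, ← CommRingCat.comp_apply, bcMap_comp]
  · intro b m r
    refine ⟨AddSubmonoid.closure {((m.toAdd : ↥L) : A)},
      AddSubmonoid.closure_le.2 (Set.singleton_subset_iff.2 m.toAdd.2),
      ⟨{((m.toAdd : ↥L) : A)}, by simp⟩,
      bcTerm R B b (Multiplicative.ofAdd ⟨_, AddSubmonoid.subset_closure rfl⟩) r, ?_⟩
    rw [bcMap_bcTerm]
    rfl

end Ring

open Classical in
/-- Translating a monoid character towards the vertex. -/
theorem exists_twist {K : CommRingCat.{u}} [IsDomain K] [Infinite K] (hK : ∀ x : K, x ≠ 0 → IsUnit x) (R : Type u) [CommRing R] [Algebra R K]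
    {M : Type} [AddCommGroup M] [AddGroup.FG M] (N : AddSubmonoid M) (χ : Multiplicative ↥N →* K)
    (g₀ : Multiplicative M →* (K : Type u)ˣ)
    (hg₀ : ∀ n : ↥N, (n : M) ∈ Magnet.unitFace N → (g₀ (Multiplicative.ofAdd (n : M)) : K) * χ (Multiplicative.ofAdd n) = 1)
    (e : Multiplicative ↥N →* K)
    (he : ∀ n : ↥N, e (Multiplicative.ofAdd n) = if (n : M) ∈ Magnet.unitFace N then 1 else 0)
    (F : bcRing R ↥N K) (hF : (evTo R (AlgHom.id R K) e).hom F ≠ 0) :
    ∃ g : Multiplicative M →* (K : Type u)ˣ,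
      (evTo R (AlgHom.id R K) (((Units.coeHom (K : Type u)).comp (g.comp (AddMonoidHom.toMultiplicative N.subtype))) * χ)).hom F ≠ 0 := by
  obtain ⟨L, hL, hLfg, w, rfl⟩ := exists_fg_mem_range R N F
  obtain ⟨k, hk⟩ := exists_face_hom (M := M) (N := L) (F := L ⊓ Magnet.unitFace N) hLfg
    { le := inf_le_left
      mem_of_add_mem := fun x hx y hy h =>
        ⟨⟨hx, ((Magnet.isFace_unitFace N).mem_of_add_mem x (hL hx) y (hL hy) h.2).1⟩,
          ⟨hy, ((Magnet.isFace_unitFace N).mem_of_add_mem x (hL hx) y (hL hy) h.2).2⟩⟩ }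
  let c : ↥L → K := fun m => (g₀ (Multiplicative.ofAdd (m : M)) : K) * χ (Multiplicative.ofAdd (AddSubmonoid.inclusion hL m))
  let χP : Multiplicative ↥L →* Polynomial K :=
    { toFun := fun m => Polynomial.C (c m.toAdd) * Polynomial.X ^ (k (m.toAdd : M)).toNat
      map_one' := by simp [c]
      map_mul' := fun m m' => by
        simp only [toAdd_mul, c, AddSubmonoid.coe_add, map_add, ofAdd_add, map_mul, Units.val_mul]
        rw [Int.toNat_add (hk _ m.toAdd.2).1 (hk _ m'.toAdd.2).1, pow_add]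
        ring }
  let P : Polynomial K := (evTo R (D := CommRingCat.of (Polynomial K))
    (IsScalarTower.toAlgHom R (K : Type u) (Polynomial K)) χP).hom w
  have hP : ∀ t : K, Polynomial.eval t P = (evTo R (AlgHom.id R K)
      (((Polynomial.aeval (R := (K : Type u)) t).restrictScalars R : Polynomial K →* K).comp χP)).hom w := fun t => by
    have := evTo_comp R (D := CommRingCat.of (Polynomial K)) ((Polynomial.aeval (R := (K : Type u)) t).restrictScalars R)
      (IsScalarTower.toAlgHom R (K : Type u) (Polynomial K)) χP w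
    have hid : ((Polynomial.aeval (R := (K : Type u)) t).restrictScalars R).comp
        (IsScalarTower.toAlgHom R (K : Type u) (Polynomial K)) = AlgHom.id R K := by
      ext x; simp
    rw [hid] at this
    exact (Polynomial.coe_aeval_eq_eval t ▸ this :)
  have hP0 : Polynomial.eval 0 P ≠ 0 := by
    rw [hP]
    intro h0
    apply hF
    rw [bcMap_evTo]
    refine Eq.trans (congrArg (fun φ => (evTo R (AlgHom.id R K) φ).hom w) (MonoidHom.ext ?_)) h0
    intro m'
    obtain ⟨m, rfl⟩ := Multiplicative.ofAdd.surjective m'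
    change e (Multiplicative.ofAdd (AddSubmonoid.inclusion hL m)) = Polynomial.aeval (0 : K) (χP (Multiplicative.ofAdd m))
    rw [he]
    simp only [χP, MonoidHom.coe_mk, OneHom.coe_mk, toAdd_ofAdd, map_mul, Polynomial.aeval_C,
      map_pow, Polynomial.aeval_X, Algebra.algebraMap_self, RingHom.id_apply]
    by_cases hm : (m : M) ∈ Magnet.unitFace N
    · rw [if_pos (show ((AddSubmonoid.inclusion hL m : ↥N) : M) ∈ Magnet.unitFace N from hm), (hk _ m.2).2.2 ⟨m.2, hm⟩, Int.toNat_zero, pow_zero, _root_.mul_one]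
      exact (hg₀ (AddSubmonoid.inclusion hL m) hm).symm
    · rw [if_neg (show ((AddSubmonoid.inclusion hL m : ↥N) : M) ∉ Magnet.unitFace N from hm), zero_pow ?_, mul_zero]
      intro h0
      have hk0 : k (m : M) = 0 := le_antisymm (Int.toNat_eq_zero.1 h0) (hk _ m.2).1
      exact hm ((hk _ m.2).2.1 hk0).2
  have hXP : Polynomial.X * P ≠ 0 := mul_ne_zero Polynomial.X_ne_zero fun h => hP0 (by rw [h, Polynomial.eval_zero])
  obtain ⟨t, ht⟩ : ∃ t : K, Polynomial.eval t (Polynomial.X * P) ≠ 0 := by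
    by_contra! hall
    exact hXP (Polynomial.funext fun r => by rw [hall r, Polynomial.eval_zero])
  rw [Polynomial.eval_mul, Polynomial.eval_X] at ht
  obtain ⟨s, rfl⟩ := hK t (left_ne_zero_of_mul ht)
  let g : Multiplicative M →* (K : Type u)ˣ :=
    { toFun := fun m => g₀ m * s ^ k m.toAdd
      map_one' := by simp
      map_mul' := fun m m' => by
        rw [map_mul, toAdd_mul, map_add, zpow_add, _root_.mul_mul_mul_comm] }
  refine ⟨g, ?_⟩
  have hne := right_ne_zero_of_mul ht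
  rw [hP] at hne
  rw [bcMap_evTo]
  refine fun h0 => hne (Eq.trans (congrArg (fun φ => (evTo R (AlgHom.id R K) φ).hom w) (MonoidHom.ext ?_)) h0)
  intro m'
  obtain ⟨m, rfl⟩ := Multiplicative.ofAdd.surjective m'
  change Polynomial.aeval (s : K) (χP (Multiplicative.ofAdd m)) =
    ((g₀ (Multiplicative.ofAdd (m : M)) * s ^ k (m : M) : (K : Type u)ˣ) : K) * χ (Multiplicative.ofAdd (AddSubmonoid.inclusion hL m))
  simp only [χP, MonoidHom.coe_mk, OneHom.coe_mk, toAdd_ofAdd, map_mul, Polynomial.aeval_C, map_pow,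
    Polynomial.aeval_X, Algebra.algebraMap_self, RingHom.id_apply, c]
  rw [Units.val_mul]
  conv_rhs => rw [← Int.toNat_of_nonneg (hk _ m.2).1, zpow_natCast, Units.val_pow_eq_pow_val]
  ring

section Scheme

open Groth.Agent.Lib.RedPts

attribute [local instance] baseAlg

variable {S : Scheme.{u}} {M : Type} [AddCommGroup M]

theorem monFn_faceMap {N F : AddSubmonoid M}
    (hF : Magnet.IsFace N F) {W : Over S} (y : W ⟶ Magnet.AMonS S F) (n : ↥N) [Decidable ((n : M) ∈ F)] :
    monFn (y ≫ Magnet.AMonS.faceMap S hF) n =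
      if h : (n : M) ∈ F then monFn y ⟨n, h⟩ else 0 := by
  unfold monFn
  rw [Magnet.AMonS.faceMap, BC.down_map]
  refine (Affine.ringHomOf_specMap _ _ _).trans ?_
  change Points.ringHomOf _ (Magnet.faceAlgHom (ULift.{u} ℤ) hF _) = _
  split_ifs with h
  · rw [Magnet.faceAlgHom_single_of_mem _ hF n h]; rfl
  · rw [Magnet.faceAlgHom_single_of_not_mem _ hF n h, map_zero]

/-- The vertex of `A(N)`: `χ^n = 1` for invertible `n` and `0` otherwise. -/
noncomputable def vertex (N : AddSubmonoid M) (U : Over S) : U ⟶ Magnet.AMonS S ↥N :=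
  (1 : U ⟶ Magnet.AMonS S ↥(Magnet.unitFace N)) ≫ Magnet.AMonS.faceMap S (Magnet.isFace_unitFace N)

theorem comp_vertex (N : AddSubmonoid M) {U U' : Over S} (h : U' ⟶ U) : h ≫ vertex N U = vertex N U' := by
  rw [vertex, vertex, ← Category.assoc, MonObj.comp_one]

open Classical in
theorem monFn_vertex (N : AddSubmonoid M) (U : Over S) (n : ↥N) :
    monFn (vertex N U) n = if (n : M) ∈ Magnet.unitFace N then 1 else 0 := by
  rw [vertex, monFn_faceMap]
  split_ifs with h
  · exact monFn_one _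
  · rfl

/-- The value of a character point of `A(N)_B`. -/
noncomputable def charOf {N : Type} [AddCommMonoid N] {B : CommRingCat.{u}} {t : Spec B ⟶ S}
    (b : specOver B t ⟶ Magnet.AMonS S N) : Multiplicative N →* B where
  toFun n := (Scheme.ΓSpecIso B).hom (monFn b n.toAdd)
  map_one' := by rw [toAdd_one, monFn_zero, map_one]
  map_mul' n m := by rw [toAdd_mul, monFn_add, map_mul]

theorem lift_spec {N : Type} [AddCommMonoid N] {B : CommRingCat.{u}} {t : Spec B ⟶ S}
    (b : specOver B t ⟶ Magnet.AMonS S N) :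
    (lift b (𝟙 (specOver B t))).left =
      Spec.map (evTo R0.{u} (AlgHom.id R0.{u} B) (charOf b)) ≫ (prodIso (M := N) B t).hom := by
  refine (isPullback_AMonS_spec N B t).hom_ext ?_ ?_
  · rw [← Over.comp_left, lift_snd, Category.assoc, prodIso_snd, ← Spec.map_comp, bcInl_evTo]
    exact (Spec.map_id B).symm
  · rw [Category.assoc, prodIso_fst, ← Category.assoc, ← Over.comp_left, lift_fst]
    refine Eq.trans ?_ (Spec.map_comp _ _)
    refine spec_of_monFn b _ fun n => ?_
    rw [bcInr_evTo]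
    exact (congr($((Scheme.ΓSpecIso B).hom_inv_id) (monFn b n))).symm

theorem exists_extension {K : Type u} [Field K] [IsAlgClosed K] {M : Type} [AddCommGroup M] (Z : AddSubgroup M)
    (ψ : ↥Z →+ Additive Kˣ) : ∃ g : M →+ Additive Kˣ, g.comp Z.subtype = ψ := by
  letI : DivisibleBy (Additive Kˣ) ℕ := divisibleByOfSMulRightSurj _ _ fun {n} hn a => by
    obtain ⟨z, hz⟩ := IsAlgClosed.exists_pow_nat_eq ((Additive.toMul a : Kˣ) : K) (Nat.pos_of_ne_zero hn)
    have hz0 : z ≠ 0 := fun h => by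
      rw [h, zero_pow hn] at hz
      exact (Additive.toMul a).ne_zero hz.symm
    exact ⟨Additive.ofMul (Units.mk0 z hz0), Additive.toMul.injective (Units.ext (by simpa using hz))⟩
  letI : DivisibleBy (Additive Kˣ) ℤ := AddGroup.divisibleByIntOfDivisibleByNat _
  exact (Module.Baer.of_divisible _).extension_property_addMonoidHom Z.subtype Subtype.val_injective ψ

open Classical in
theorem exists_translate {K : Type u} [Field K] [IsAlgClosed K] [AddGroup.FG M] (N : AddSubmonoid M)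
    (t : Spec (CommRingCat.of K) ⟶ S) (b : specOver (CommRingCat.of K) t ⟶ Magnet.AMonS S ↥N)
    (W : (Magnet.AMonS S ↥N ⊗ specOver (CommRingCat.of K) t).left.Opens)
    (hW : ∀ q, (lift (vertex N _) (𝟙 (specOver (CommRingCat.of K) t))).left.base q ∈ W) :
    ∃ g : specOver (CommRingCat.of K) t ⟶ Magnet.AMonS S M, ∀ q,
      (lift ((g ≫ Magnet.AMonS.map S N.subtype) * b) (𝟙 (specOver (CommRingCat.of K) t))).left.base q ∈ W := by
  let B := CommRingCat.of K
  letI : Algebra R0.{u} B := baseAlg B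
  haveI : IsDomain B := inferInstanceAs (IsDomain K)
  haveI : Infinite B := inferInstanceAs (Infinite K)
  let q₀ : Spec B := (⟨⊥, Ideal.isPrime_bot⟩ : PrimeSpectrum K)
  haveI : Subsingleton (Spec B) := inferInstanceAs (Subsingleton (PrimeSpectrum K))
  let W₁ := (prodIso (M := ↥N) B t).hom ⁻¹ᵁ W
  have hmem : (Spec.map (evTo R0.{u} (AlgHom.id R0.{u} B) (charOf (vertex N (specOver B t))))).base q₀ ∈ W₁ := by
    have := hW q₀
    rwa [lift_spec] at this
  obtain ⟨_, ⟨F, rfl⟩, hFmem, hFW⟩ :=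
    PrimeSpectrum.isTopologicalBasis_basic_opens.exists_subset_of_mem_open hmem W₁.isOpen
  let χ := charOf b
  have hχ : ∀ n : ↥N, monFn b n = (Scheme.ΓSpecIso B).inv (χ (Multiplicative.ofAdd n)) := fun n =>
    (congr($((Scheme.ΓSpecIso B).hom_inv_id) (monFn b n))).symm
  let Z : AddSubgroup M :=
    { Magnet.unitFace N with
      neg_mem' := by
        rintro x ⟨hx, y, hy, hxy⟩
        rw [← eq_neg_of_add_eq_zero_right hxy]
        exact ⟨hy, x, hx, by rw [add_comm, hxy]⟩ }
  have hneg : ∀ z : ↥Z, χ (Multiplicative.ofAdd ⟨-(z : M), (Z.neg_mem z.2).1⟩) * χ (Multiplicative.ofAdd ⟨(z : M), z.2.1⟩) = 1 := fun z => by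
    rw [← map_mul, ← ofAdd_add, ← map_one χ]
    exact congrArg (fun w => χ (Multiplicative.ofAdd w)) (Subtype.ext (neg_add_cancel (z : M)))
  let ψ : ↥Z →+ Additive Kˣ := AddMonoidHom.mk'
    (fun z => Additive.ofMul (Units.mkOfMulEqOne _ _ (hneg z)))
    (fun z z' => Additive.toMul.injective (Units.ext (by
      change χ _ = χ _ * χ _
      rw [← map_mul, ← ofAdd_add]
      exact congrArg (fun w => χ (Multiplicative.ofAdd w)) (Subtype.ext (neg_add (z : M) (z' : M))))))
  obtain ⟨g₁, hg₁⟩ := exists_extension Z ψ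
  let g₀ : Multiplicative M →* (B : Type u)ˣ := AddMonoidHom.toMultiplicativeLeft g₁
  have he : ∀ n : ↥N, charOf (vertex N (specOver B t)) (Multiplicative.ofAdd n) =
      if (n : M) ∈ Magnet.unitFace N then 1 else 0 := fun n => by
    change (Scheme.ΓSpecIso B).hom (monFn (vertex N (specOver B t)) n) = _
    rw [monFn_vertex]
    split_ifs <;> simp
  have hFne : (evTo R0.{u} (AlgHom.id R0.{u} B) (charOf (vertex N (specOver B t)))).hom F ≠ 0 := fun h0 => by
    apply (PrimeSpectrum.mem_basicOpen _ _).1 hFmem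
    change (evTo R0.{u} (AlgHom.id R0.{u} B) (charOf (vertex N (specOver B t)))).hom F ∈ (⊥ : Ideal K)
    rw [Ideal.mem_bot]
    exact h0
  obtain ⟨g, hg⟩ := exists_twist (K := B) (fun x hx => isUnit_iff_ne_zero.2 (hx : (x : K) ≠ 0)) R0.{u} N χ g₀
    (fun n hn => by
      have h := congrArg (fun f => f (⟨(n : M), hn⟩ : ↥Z)) hg₁
      change g₁ (n : M) = _ at h
      change ((Additive.toMul (g₁ (n : M)) : Kˣ) : K) * χ (Multiplicative.ofAdd n) = 1
      rw [h]
      exact hneg ⟨(n : M), hn⟩)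
    _ he F hFne
  let gp : specOver B t ⟶ Magnet.AMonS S M := monPt
    ((Scheme.ΓSpecIso B).inv.hom.toMonoidHom.comp ((Units.coeHom (B : Type u)).comp g))
  refine ⟨gp, fun q => ?_⟩
  obtain rfl : q = q₀ := Subsingleton.elim (α := Spec B) q q₀
  rw [lift_spec]
  apply hFW
  refine (PrimeSpectrum.mem_basicOpen _ _).2 fun h0 => hg ?_
  change (evTo R0.{u} (AlgHom.id R0.{u} B) (charOf ((gp ≫ Magnet.AMonS.map S N.subtype) * b))).hom F ∈ (⊥ : Ideal K) at h0
  rw [Ideal.mem_bot] at h0
  refine Eq.trans (congrArg (fun φ => (evTo R0.{u} (AlgHom.id R0.{u} B) φ).hom F) (MonoidHom.ext ?_)) h0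
  intro n'
  obtain ⟨n, rfl⟩ := Multiplicative.ofAdd.surjective n'
  change ((g (Multiplicative.ofAdd (n : M)) : (B : Type u)ˣ) : B) * χ (Multiplicative.ofAdd n) =
    (Scheme.ΓSpecIso B).hom (monFn ((gp ≫ Magnet.AMonS.map S N.subtype) * b) n)
  rw [monFn_mul, monFn_map, monFn_monPt, map_mul]
  refine congrArg₂ (· * ·) ?_ rfl
  exact (congr($((Scheme.ΓSpecIso B).inv_hom_id) ((g (Multiplicative.ofAdd (n : M)) : (B : Type u)ˣ) : B))).symm

theorem base_fromSpecResidueField_comp (Z : Scheme.{u}) (c : Z) {L : CommRingCat.{u}} (ψ : Z.residueField c ⟶ L)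
    (q : Spec L) : (Spec.map ψ ≫ Z.fromSpecResidueField c).base q = c := by
  rw [Scheme.Hom.comp_apply]
  exact Scheme.fromSpecResidueField_apply _ _

theorem exists_algClosed_hom (k : Type u) [Field k] :
    ∃ (F : Type u) (_ : Field F) (_ : IsAlgClosed F), Nonempty (k →+* F) :=
  ⟨AlgebraicClosure k, inferInstance, inferInstance, ⟨algebraMap k _⟩⟩

theorem exists_algClosed_point (Z : Scheme.{u}) (c : Z) :
    ∃ (K : Type u) (_ : Field K) (_ : IsAlgClosed K) (φ : Spec (CommRingCat.of K) ⟶ Z), ∀ q, φ.base q = c := by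
  obtain ⟨F, i, j, ⟨ρ⟩⟩ := exists_algClosed_hom (Z.residueField c)
  exact ⟨F, i, j, _, base_fromSpecResidueField_comp Z c (CommRingCat.ofHom ρ)⟩

/-- A point of the attractor whose vertex lands in an open stable subscheme lands in it. -/
theorem range_subset [AddGroup.FG M] (N : AddSubmonoid M) {X Y : Over S}
    {aX : Magnet.MonAct (Magnet.AMonS S M) X} {aY : Magnet.MonAct (Magnet.AMonS S M) Y}
    (f : X ⟶ Y) (hf : Magnet.MonAct.IsEquivariant aX aY f) [IsOpenImmersion f.left] {T : Over S}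
    (ξ : (Magnet.attr aY N).obj (op T)) (y : T ⟶ X) (hy : y ≫ f = lift (vertex N T) (𝟙 T) ≫ ξ.1) :
    Set.range ξ.1.left.base ⊆ Set.range f.left.base := by
  rintro _ ⟨c, rfl⟩
  obtain ⟨K, _, _, φc, hφc⟩ := exists_algClosed_point (Magnet.AMonS S ↥N ⊗ T).left c
  let U : Over S := specOver (CommRingCat.of K) (φc ≫ (Magnet.AMonS S ↥N ⊗ T).hom)
  let p : U ⟶ Magnet.AMonS S ↥N ⊗ T := Over.homMk φc rfl
  let b := p ≫ fst _ _
  let t := p ≫ snd _ _
  let q₀ : U.left := (⟨⊥, Ideal.isPrime_bot⟩ : PrimeSpectrum K)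
  have hp : p.left.base q₀ = c := hφc q₀
  let V : Y.left.Opens := f.left.opensRange
  let W : (Magnet.AMonS S ↥N ⊗ U).left.Opens := (((Magnet.AMonS S ↥N) ◁ t) ≫ ξ.1).left ⁻¹ᵁ V
  have hv : lift (vertex N U) (𝟙 U) ≫ ((Magnet.AMonS S ↥N) ◁ t) ≫ ξ.1 = (t ≫ y) ≫ f := by
    rw [lift_whiskerLeft_assoc, Category.id_comp, Category.assoc, hy, comp_lift_assoc, comp_vertex,
      Category.comp_id]
  obtain ⟨g, hg⟩ := exists_translate N (φc ≫ (Magnet.AMonS S ↥N ⊗ T).hom) b W (fun q => by
    change (lift (vertex N U) (𝟙 U) ≫ ((Magnet.AMonS S ↥N) ◁ t) ≫ ξ.1).left.base q ∈ V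
    rw [hv]
    exact ⟨(t ≫ y).left.base q, rfl⟩)
  have hr : Set.range (lift ((g ≫ Magnet.AMonS.map S N.subtype) * b) t ≫ ξ.1).left.base ⊆ Set.range f.left.base := by
    rintro _ ⟨q, rfl⟩
    have := hg q
    have e : lift ((g ≫ Magnet.AMonS.map S N.subtype) * b) (𝟙 U) ≫ ((Magnet.AMonS S ↥N) ◁ t) ≫ ξ.1 =
        lift ((g ≫ Magnet.AMonS.map S N.subtype) * b) t ≫ ξ.1 := by
      rw [lift_whiskerLeft_assoc, Category.id_comp]
    rw [← e]
    exact this
  let y' : U ⟶ X := Over.homMk (IsOpenImmersion.lift f.left _ hr)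
    (by rw [← Over.w f, IsOpenImmersion.lift_fac_assoc, Over.w])
  have hy' : y' ≫ f = lift ((g ≫ Magnet.AMonS.map S N.subtype) * b) t ≫ ξ.1 :=
    Over.OverMorphism.ext (IsOpenImmersion.lift_fac _ _ _)
  have hb : (monInv g ≫ Magnet.AMonS.map S N.subtype) * ((g ≫ Magnet.AMonS.map S N.subtype) * b) = b :=
    monFn_ext fun n => by
      rw [monFn_mul, monFn_mul, monFn_map, monFn_map, ← _root_.mul_assoc, monFn_monInv_mul, _root_.one_mul]
  have key : p ≫ ξ.1 = (lift (monInv g) y' ≫ aX.act) ≫ f := by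
    rw [Category.assoc, (Magnet.MonAct.isEquivariant_iff _ _ _).1 hf, hy',
      ← (Magnet.MonAct.mem_eqvHom_iff _).1 ξ.2 U, lift_subAct, hb, ← comp_lift, lift_fst_snd, Category.comp_id]
  refine ⟨(lift (monInv g) y' ≫ aX.act).left.base q₀, ?_⟩
  rw [← hp]
  exact (congrArg (fun m : U ⟶ Y => m.left.base q₀) key).symm

end Scheme

end Groth.Agent.Lib.GrpSch.AttrOpen
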