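import Groth.Agent.Lib.GrpSch.MonPts
import Mathlib.AlgebraicGeometry.Morphisms.Affine

/-!
# Charts `Spec B[X] ≅ A(ℕ) ×_S Spec B` and separatedness in the coordinate

Here `ℕ` is `multiples 1 ⊆ ℤ`, with generator `lineGen`.
-/

set_option autoImplicit false
universe u

open CategoryTheory MonoidalCategory CartesianMonoidalCategory MonObj AlgebraicGeometry
open Groth.Agent.Lib.RedPts

namespace Groth.Agent.Lib.GrpSch

/-- `ℕ` as a submonoid of `ℤ`. -/
abbrev lineMon : AddSubmonoid ℤ := AddSubmonoid.multiples (1 : ℤ)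

/-- The generator of `lineMon`. -/
def lineGen : lineMon := ⟨1, AddSubmonoid.mem_multiples 1⟩

theorem eq_nsmul_lineGen (n : lineMon) : n = n.1.toNat • lineGen := by
  obtain ⟨_, k, rfl⟩ := n
  apply Subtype.ext
  simp [lineGen]

variable {S : Scheme.{u}}

theorem monFn_line_ext {T : Over S} {x y : T ⟶ Magnet.AMonS S lineMon} (h : monFn x lineGen = monFn y lineGen) :
    x = y := by
  refine monFn_ext fun n => ?_
  rw [eq_nsmul_lineGen n, monFn_nsmul, monFn_nsmul, h]

theorem exists_line_point {T : Over S} (a : Γ(T.left, ⊤)) :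
    ∃ x : T ⟶ Magnet.AMonS S lineMon, monFn x lineGen = a := by
  let χ : Multiplicative lineMon →* Γ(T.left, ⊤) :=
    { toFun := fun n => a ^ (Multiplicative.toAdd n).1.toNat
      map_one' := by simp
      map_mul' := fun m n => by
        have hpos : ∀ l : lineMon, 0 ≤ (l : ℤ) := fun l => by
          obtain ⟨_, k, rfl⟩ := l
          simp
        change a ^ ((Multiplicative.toAdd m).1 + (Multiplicative.toAdd n).1).toNat = _
        rw [Int.toNat_add (hpos _) (hpos _), pow_add] }
  refine ⟨monPt χ, ?_⟩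
  rw [monFn_monPt]
  simp [χ, lineGen]

theorem ext_of_ringHomOf {A : Type u} [CommRing A] {W : Scheme.{u}} {g g' : W ⟶ Spec (CommRingCat.of A)}
    (h : Points.ringHomOf g = Points.ringHomOf g') : g = g' := by
  rw [Points.eq_toSpecΓ g, Points.eq_toSpecΓ g', h]

/-- `Spec B[X]` as the affine line over an affine `S`-scheme. -/
theorem exists_line_chart (B : CommRingCat.{u}) (t : Spec B ⟶ S) :
    ∃ p : Over.mk (Spec.map (CommRingCat.ofHom (Polynomial.C : B →+* Polynomial B)) ≫ t) ⟶
        Magnet.AMonS S lineMon ⊗ Over.mk t,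
      IsIso p ∧ (p ≫ snd _ _).left = Spec.map (CommRingCat.ofHom Polynomial.C) ∧
      monFn (p ≫ fst _ _) lineGen =
        (Scheme.ΓSpecIso (CommRingCat.of (Polynomial B))).inv Polynomial.X := by
  let A : Over S := Over.mk (Spec.map (CommRingCat.ofHom (Polynomial.C : B →+* Polynomial B)) ≫ t)
  let a : A ⟶ Over.mk t := Over.homMk (Spec.map (CommRingCat.ofHom Polynomial.C)) rfl
  obtain ⟨x, hx⟩ := exists_line_point (S := S) (T := A)
    ((Scheme.ΓSpecIso (CommRingCat.of (Polynomial B))).inv Polynomial.X)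
  let W : Over S := Magnet.AMonS S lineMon ⊗ Over.mk t
  let σ := snd (Magnet.AMonS S lineMon) (Over.mk t)
  let φ : Polynomial B →+* Γ(W.left, ⊤) :=
    Polynomial.eval₂RingHom (Points.ringHomOf (A := B) σ.left) (monFn (fst (Magnet.AMonS S lineMon) (Over.mk t)) lineGen)
  let q₀ : W.left ⟶ Spec (CommRingCat.of (Polynomial B)) := W.left.toSpecΓ ≫ Spec.map (CommRingCat.ofHom φ)
  have hqφ : Points.ringHomOf q₀ = φ := Points.ringHomOf_toSpecΓ φ
  have hqa : q₀ ≫ Spec.map (CommRingCat.ofHom Polynomial.C) = σ.left := by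
    refine ext_of_ringHomOf (RingHom.ext fun b => ?_)
    rw [Affine.ringHomOf_specMap, hqφ]
    exact Polynomial.eval₂_C _ _
  let q : W ⟶ A := Over.homMk q₀ (by
    change q₀ ≫ Spec.map _ ≫ t = W.hom
    rw [reassoc_of% hqa]
    exact Over.w σ)
  let p : A ⟶ W := lift x a
  have hqx : monFn (q ≫ x) lineGen = monFn (fst (Magnet.AMonS S lineMon) (Over.mk t)) lineGen := by
    rw [monFn_comp, hx]
    change Points.ringHomOf q₀ Polynomial.X = _
    rw [hqφ]
    exact Polynomial.eval₂_X _ _
  have hpq : (p ≫ q).left = (𝟙 A : A ⟶ A).left := by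
    have h2 : p.left ≫ q₀ ≫ Spec.map (CommRingCat.ofHom Polynomial.C) =
        Spec.map (CommRingCat.ofHom Polynomial.C) := by
      rw [hqa, ← Over.comp_left]
      exact congrArg CommaMorphism.left (lift_snd x a)
    refine ext_of_ringHomOf (Polynomial.ringHom_ext (fun b => ?_) ?_)
    · change Points.ringHomOf (p.left ≫ q₀) (Polynomial.C b) =
        Points.ringHomOf (𝟙 (Spec (CommRingCat.of (Polynomial B)))) (Polynomial.C b)
      rw [← Affine.ringHomOf_specMap, ← Affine.ringHomOf_specMap, Category.assoc, h2, Category.id_comp]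
    · change Points.ringHomOf (p.left ≫ q₀) Polynomial.X = Points.ringHomOf (𝟙 _) Polynomial.X
      have h3 : Points.ringHomOf (p.left ≫ q₀) Polynomial.X = p.left.appTop (φ Polynomial.X) := by
        rw [Points.ringHomOf_comp, hqφ]
      rw [h3, show φ Polynomial.X = monFn (fst _ _) lineGen from Polynomial.eval₂_X _ _, ← monFn_comp]
      change monFn (lift x a ≫ fst _ _) lineGen = _
      rw [lift_fst, hx]
      rfl
  refine ⟨p, ⟨q, Over.OverMorphism.ext hpq, ?_⟩, congrArg CommaMorphism.left (lift_snd x a), ?_⟩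
  · apply CartesianMonoidalCategory.hom_ext
    · rw [Category.assoc, lift_fst, Category.id_comp]
      exact monFn_line_ext hqx
    · rw [Category.assoc, lift_snd, Category.id_comp]
      exact Over.OverMorphism.ext hqa
  · rw [lift_fst, hx]

/-- If `f` is divisible by every power of `X` after multiplying by a power of `h`, a power of `h(0)` kills it. -/
theorem exists_C_pow_mul_eq_zero {B : Type u} [CommRing B] (h f : Polynomial B)
    (hdiv : ∀ n, ∃ a, Polynomial.X ^ n ∣ h ^ a * f) : ∃ j, Polynomial.C (h.coeff 0 ^ j) * f = 0 := by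
  suffices ∀ i, ∃ j, ∀ l < i, h.coeff 0 ^ j * f.coeff l = 0 by
    obtain ⟨j, hj⟩ := this (f.natDegree + 1)
    refine ⟨j, Polynomial.ext fun l => ?_⟩
    rw [Polynomial.coeff_C_mul, Polynomial.coeff_zero]
    rcases lt_or_ge l (f.natDegree + 1) with hl | hl
    · exact hj l hl
    · rw [Polynomial.coeff_eq_zero_of_natDegree_lt (p := f) (n := l) (by omega), mul_zero]
  intro i
  induction i with
  | zero => exact ⟨0, fun l hl => absurd hl (by omega)⟩
  | succ i ih =>
    obtain ⟨J, hJ⟩ := ih
    obtain ⟨a, ha⟩ := hdiv (i + 1)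
    set c := h.coeff 0
    obtain ⟨g, hg⟩ : Polynomial.X ^ i ∣ Polynomial.C (c ^ J) * f :=
      Polynomial.X_pow_dvd_iff.2 fun l hl => by rw [Polynomial.coeff_C_mul]; exact hJ l hl
    have h1 : (h ^ a * (Polynomial.C (c ^ J) * f)).coeff i = 0 := by
      refine Polynomial.X_pow_dvd_iff.1 ?_ i (Nat.lt_succ_self i)
      rw [mul_left_comm]
      exact Dvd.dvd.mul_left ha _
    have hz : ∀ r : Polynomial B, (Polynomial.X ^ i * r).coeff i = r.coeff 0 := fun r => by
      simpa using Polynomial.coeff_X_pow_mul r i 0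
    have h2 : g.coeff 0 = c ^ J * f.coeff i := by
      rw [← hz g, ← hg, Polynomial.coeff_C_mul]
    rw [hg, mul_left_comm, hz, Polynomial.mul_coeff_zero, h2, Polynomial.coeff_zero_eq_eval_zero,
      Polynomial.eval_pow, ← Polynomial.coeff_zero_eq_eval_zero] at h1
    refine ⟨a + J, fun l hl => ?_⟩
    rcases Nat.lt_succ_iff_lt_or_eq.1 hl with hl' | rfl
    · rw [pow_add, _root_.mul_assoc, hJ l hl', mul_zero]
    · rw [pow_add, _root_.mul_assoc]
      exact h1

/-- Localisations of `B[X]` at elements `C h(0) * h` are separated for the `X`-adic topology. -/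
theorem eq_zero_of_forall_mem_span_pow {B : Type u} [CommRing B] (h h' : Polynomial B)
    (hh' : h' = Polynomial.C (h.coeff 0) * h) (z : Localization.Away h')
    (hz : ∀ n, z ∈ Ideal.span {algebraMap (Polynomial B) _ Polynomial.X ^ n}) : z = 0 := by
  obtain ⟨⟨f, _, k, rfl⟩, hf⟩ := IsLocalization.surj (Submonoid.powers h') z
  have hdiv : ∀ n, ∃ a, Polynomial.X ^ n ∣ h' ^ a * f := fun n => by
    obtain ⟨w, hw⟩ := Ideal.mem_span_singleton'.1 (hz n)
    obtain ⟨⟨g, _, l, rfl⟩, hg⟩ := IsLocalization.surj (Submonoid.powers h') w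
    simp only at hg hf
    have he : algebraMap (Polynomial B) (Localization.Away h') (f * h' ^ l) =
        algebraMap (Polynomial B) _ (Polynomial.X ^ n * g * h' ^ k) := by
      simp only [map_mul, map_pow] at hg hf ⊢
      rw [← hf, ← hg, ← hw]
      ring
    obtain ⟨⟨_, a, rfl⟩, ha⟩ := (IsLocalization.eq_iff_exists (Submonoid.powers h') _).1 he
    refine ⟨a + l, g * h' ^ k * h' ^ a, ?_⟩
    simp only at ha
    rw [pow_add]
    calc h' ^ a * h' ^ l * f = h' ^ a * (f * h' ^ l) := by ring
      _ = _ := by rw [ha]; ring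
  obtain ⟨j, hj⟩ := exists_C_pow_mul_eq_zero h' f hdiv
  have h0 : h'.coeff 0 = h.coeff 0 ^ 2 := by
    rw [hh', Polynomial.coeff_C_mul, pow_two]
  rw [h0, ← pow_mul, map_pow] at hj
  have hf0 : h' ^ (2 * j) * f = 0 := by
    rw [hh', mul_pow]
    linear_combination h ^ (2 * j) * hj
  have hunit : IsUnit (algebraMap (Polynomial B) (Localization.Away h') h') :=
    IsLocalization.map_units _ (⟨h', Submonoid.mem_powers h'⟩ : Submonoid.powers h')
  have : z * algebraMap (Polynomial B) _ (h' ^ k) * algebraMap (Polynomial B) _ (h' ^ (2 * j)) = 0 := by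
    simp only at hf
    rw [hf, ← map_mul, mul_comm, hf0, map_zero]
  rw [_root_.mul_assoc, ← map_mul, ← pow_add, map_pow] at this
  exact ((hunit.pow _).mul_left_eq_zero).1 this

end Groth.Agent.Lib.GrpSch
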