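import Groth.Agent.Lib.GrpSch.OrbitDimFormula
import Groth.Agent.H1.GrpIrred
import Mathlib.Topology.KrullDimension
import Mathlib.AlgebraicGeometry.AlgClosed.Basic

/-!
The Lang map of an endomorphism: orbits of the twisted self action with finite stabiliser.
-/

universe u

open CategoryTheory Limits MonoidalCategory CartesianMonoidalCategory MonObj AlgebraicGeometry Topology
open Groth.Agent.Lib.GrpQ.MonoClosed

namespace Groth.Agent.Lib.GrpSch

variable {k : Type u} [Field k]

/-- `(y, z) ↦ y * z * τ(y)⁻¹`. -/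
noncomputable def twistAct {S : Scheme.{u}} {H : Over S} [GrpObj H] (τ : H ⟶ H) [IsMonHom τ] :
    AlgGrp.Action H H where
  act := fst H H * snd H H * (fst H H ≫ τ)⁻¹
  one_act := by
    have h1 : (η[H] ▷ H) ≫ fst H H = (1 : 𝟙_ _ ⊗ H ⟶ H) := by
      rw [whiskerRight_fst, Hom.one_def, toUnit_unique (fst _ H) (toUnit _)]
    rw [MonObj.comp_mul, MonObj.comp_mul, GrpObj.comp_inv, ← Category.assoc, h1, MonObj.one_comp, inv_one,
      _root_.mul_one, _root_.one_mul, whiskerRight_snd, leftUnitor_hom]
  mul_act := by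
    rw [MonObj.comp_mul, MonObj.comp_mul, GrpObj.comp_inv]
    simp only [whiskerRight_fst_assoc, whiskerRight_fst, whiskerRight_snd, MonObj.comp_mul, GrpObj.comp_inv,
      whiskerLeft_fst_assoc, whiskerLeft_fst, whiskerLeft_snd, whiskerLeft_snd_assoc, Category.assoc,
      associator_hom_fst, associator_hom_fst_assoc, associator_hom_snd_fst, associator_hom_snd_snd,
      associator_hom_snd_fst_assoc]
    rw [show μ[H] = fst H H * snd H H by rw [Hom.mul_def, lift_fst_snd, Category.id_comp]]
    simp only [MonObj.comp_mul, MonObj.mul_comp, _root_.mul_inv_rev, _root_.mul_assoc]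

theorem twistAct_orbit {S : Scheme.{u}} {H : Over S} [GrpObj H] (τ : H ⟶ H) [IsMonHom τ] (z : 𝟙_ (Over S) ⟶ H)
    (y : 𝟙_ (Over S) ⟶ H) : y ≫ (twistAct τ).orbitMap z = y * z * (y ≫ τ)⁻¹ := by
  rw [comp_orbit]
  simp [twistAct, MonObj.comp_mul, GrpObj.comp_inv, ← Category.assoc, toUnit_unique (toUnit _) (𝟙 _)]

variable [IsAlgClosed k]

theorem ptOf_injective {X : Over (Spec (CommRingCat.of k))} [LocallyOfFiniteType X.hom]
    {x y : 𝟙_ (Over (Spec (CommRingCat.of k))) ⟶ X} (h : ptOf x = ptOf y) : x = y :=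
  Over.OverMorphism.ext (ext_of_apply_closedPoint_eq X.hom (Over.w x) (Over.w y) h)

theorem exists_lift_of_mem_range {A B : Over (Spec (CommRingCat.of k))} [LocallyOfFiniteType A.hom]
    [LocallyOfFiniteType B.hom] (f : A ⟶ B) (z : 𝟙_ (Over (Spec (CommRingCat.of k))) ⟶ B)
    (hz : IsClosed ({ptOf z} : Set B.left)) (h : ptOf z ∈ Set.range f.left) : ∃ y, y ≫ f = z := by
  obtain ⟨x, hx⟩ := h
  obtain ⟨y, hy⟩ := exists_ptOf (X := A) (s := f.left ⁻¹' {ptOf z})
    (hz.preimage f.left.continuous).isLocallyClosed ⟨x, hx⟩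
  exact ⟨y, ptOf_injective (by rw [← ptOf_comp]; exact hy)⟩

theorem isClosed_ptOf {B : Over (Spec (CommRingCat.of k))} [LocallyOfFiniteType B.hom]
    (z : 𝟙_ (Over (Spec (CommRingCat.of k))) ⟶ B) : IsClosed ({ptOf z} : Set B.left) :=
  ((pointEquivClosedPoint B.hom) ⟨z.left, Over.w z⟩).2

variable {G X : Over (Spec (CommRingCat.of k))} [GrpObj G] [LocallyOfFiniteType G.hom] [QuasiCompact G.hom]
  [LocallyOfFiniteType X.hom] [QuasiCompact X.hom] (a : AlgGrp.Action G X)

/-- An orbit with finite stabiliser in an irreducible space of the dimension of the group contains the generic point. -/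
theorem genericPoint_mem_orbit [IrreducibleSpace X.left]
    (o : 𝟙_ (Over (Spec (CommRingCat.of k))) ⟶ X)
    (hfin : {g : 𝟙_ (Over (Spec (CommRingCat.of k))) ⟶ G | g ≫ a.orbitMap o = o}.Finite)
    (hdim : topologicalKrullDim X.left ≤ topologicalKrullDim G.left) :
    genericPoint X.left ∈ Set.range (a.orbitMap o).left := by
  have hc := isClosed_ptOf o
  have he : (a.orbitMap o).left (η[G].left (IsLocalRing.closedPoint k)) = ptOf o := by
    conv_rhs => rw [← η_orbit a o]
    exact ptOf_comp η[G] _
  let F : Set G.left := (a.orbitMap o).left ⁻¹' {ptOf o}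
  have hF : IsClosed F := hc.preimage (a.orbitMap o).left.continuous
  have : JacobsonSpace G.left := LocallyOfFiniteType.jacobsonSpace G.hom
  have hsub : F ∩ closedPoints G.left ⊆ ptOf '' {g | g ≫ a.orbitMap o = o} := by
    rintro c ⟨hcF, hcc⟩
    obtain ⟨y, hy⟩ := exists_ptOf (X := G) (s := {c}) (IsClosed.isLocallyClosed hcc) ⟨c, rfl⟩
    have hy' : ptOf y = c := hy
    exact ⟨y, ptOf_injective (by rw [← ptOf_comp, hy']; exact hcF), hy'⟩
  have hfinc : (F ∩ closedPoints G.left).Finite := (hfin.image _).subset hsub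
  have hclc : IsClosed (F ∩ closedPoints G.left) := by
    rw [← Set.biUnion_of_singleton (F ∩ closedPoints G.left)]
    exact hfinc.isClosed_biUnion fun c hc => hc.2
  have hFeq : F ∩ closedPoints G.left = F := by
    conv_rhs => rw [← closure_inter_closedPoints hF]
    rw [hclc.closure_eq]
  have : Finite F := (hFeq ▸ hfinc).to_subtype
  have : T1Space F := ⟨fun x => by
    have hx : (x : G.left) ∈ closedPoints G.left := (hFeq.ge x.2).2
    have h := (mem_closedPoints_iff.1 hx).preimage continuous_subtype_val (f := ((↑) : F → G.left))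
    rwa [show ((↑) : F → G.left) ⁻¹' {(x : G.left)} = {x} by ext; simp [Subtype.ext_iff]] at h⟩
  have hF0 : topologicalKrullDim F ≤ 0 := topologicalKrullDim_zero_of_discreteTopology _
  have hadd := dim_eq_add_orbit a o
  rw [he] at hadd
  have hR : topologicalKrullDim G.left ≤ topologicalKrullDim ↥(Set.range (a.orbitMap o).left) :=
    hadd.le.trans ((add_le_add le_rfl hF0).trans_eq (add_zero _))
  have hdense : closure (Set.range (a.orbitMap o).left) = Set.univ := by
    by_contra hne
    have : CompactSpace X.left := QuasiCompact.compactSpace_of_compactSpace X.hom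
    have hU : IsOpen (closure (Set.range (a.orbitMap o).left))ᶜ := isClosed_closure.isOpen_compl
    have hη : genericPoint X.left ∈ (closure (Set.range (a.orbitMap o).left))ᶜ := fun h => hne
      (Set.eq_univ_of_univ_subset (by
        rw [← genericPoint_closure (α := X.left)]
        exact closure_minimal (Set.singleton_subset_iff.2 h) isClosed_closure))
    have hlt := topologicalKrullDim_boundary_lt X.hom (C := Set.univ) isClosed_univ hU Set.univ_nonempty
      fun x _ => ⟨_, ⟨hη, trivial⟩, genericPoint_specializes x⟩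
    rw [Set.inter_univ, Set.compl_eq_univ_sdiff, Set.sdiff_sdiff_cancel_left (Set.subset_univ _)] at hlt
    have h1 : topologicalKrullDim ↥(Set.range (a.orbitMap o).left) ≤
        topologicalKrullDim ↥(closure (Set.range (a.orbitMap o).left)) :=
      (IsEmbedding.inclusion subset_closure).isInducing.topologicalKrullDim_le
    have h2 : topologicalKrullDim ↥(Set.univ \ closure (Set.range (a.orbitMap o).left)) ≤ topologicalKrullDim X.left :=
      IsInducing.subtypeVal.topologicalKrullDim_le
    exact lt_irrefl _ (((h2.trans hdim).trans hR).trans h1 |>.trans_lt hlt)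
  obtain ⟨U, hU, hUeq⟩ := exists_open_orbit_eq a o
  rw [hdense, Set.inter_univ] at hUeq
  rw [hUeq]
  refine ((genericPoint_spec X.left).mem_open_set_iff hU).2 ?_
  refine ⟨ptOf o, trivial, ?_⟩
  rw [← hUeq]
  exact ⟨_, he⟩

end Groth.Agent.Lib.GrpSch
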