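import Groth.Agent.Lib.GrpQ.InfSub
import Groth.Agent.Lib.GrpSch.Basic

/-!
# Isotropy subgroup schemes
-/

universe u

open CategoryTheory Limits MonoidalCategory CartesianMonoidalCategory MonObj AlgebraicGeometry

namespace Groth.Agent.Lib.GrpSch

variable {S : Scheme.{u}} {G X : Over S} [GrpObj G] (a : AlgGrp.Action G X)

/-- The isotropy subgroup scheme of a section; closed when the section is. -/
theorem exists_isotropy_grp (o : 𝟙_ (Over S) ⟶ X) :
    ∃ (H : Over S) (_ : GrpObj H) (i : H ⟶ G), IsMonHom i ∧ IsPullback i (toUnit H) (a.orbitMap o) o ∧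
      (IsClosedImmersion o.left → IsClosedImmersion i.left) := by
  let H : Over S := Over.mk (pullback.fst (a.orbitMap o).left o.left ≫ G.hom)
  let i : H ⟶ G := Over.homMk (pullback.fst (a.orbitMap o).left o.left) rfl
  have hu : (toUnit H).left = pullback.snd (a.orbitMap o).left o.left := by
    have h1 : (toUnit H).left = H.hom := by simp
    rw [h1]
    show pullback.fst _ _ ≫ G.hom = _
    rw [← Over.w (a.orbitMap o), pullback.condition_assoc, Over.w]
    exact Category.comp_id _
  have hpb : IsPullback i (toUnit H) (a.orbitMap o) o := by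
    refine IsPullback.of_map (Over.forget _) ?_ ?_
    · refine Over.OverMorphism.ext ?_
      show pullback.fst _ _ ≫ _ = (toUnit H).left ≫ o.left
      rw [hu]
      exact pullback.condition
    · show IsPullback i.left (toUnit H).left (a.orbitMap o).left o.left
      rw [hu]
      exact IsPullback.of_hasPullback _ _
  have : Mono o :=
    (SplitMono.mk (retraction := toUnit X) (id := toUnit_unique _ _)).mono
  have : Mono i := by
    refine ⟨fun u v h => hpb.hom_ext h (toUnit_unique _ _)⟩
  have hfac : ∀ {T : Over S} (g : T ⟶ G), lift g (toUnit T ≫ o) ≫ a.act = toUnit T ≫ o →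
      ∃ w : T ⟶ H, w ≫ i = g := fun {T} g hg =>
    ⟨hpb.lift g (toUnit T) (by rw [comp_orbit, hg]), hpb.lift_fst _ _ _⟩
  have hi : ∀ {T : Over S} (w : T ⟶ H), lift (w ≫ i) (toUnit T ≫ o) ≫ a.act = toUnit T ≫ o := by
    intro T w
    rw [← comp_orbit, Category.assoc, hpb.w, ← Category.assoc, toUnit_unique (w ≫ toUnit H) (toUnit T)]
  obtain ⟨_, hmon⟩ := GrpQ.InfSub.exists_grpObj_of_mono i
    (hfac η[G] (by
      rw [show η[G] = (1 : 𝟙_ (Over S) ⟶ G) by
        rw [Hom.one_def, toUnit_unique (toUnit (𝟙_ (Over S))) (𝟙 _), Category.id_comp]]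
      exact act_one a _))
    (hfac _ (by rw [act_mul, hi, hi]))
    (hfac i⁻¹ (by
      have h := hi (𝟙 H)
      rw [Category.id_comp] at h
      conv_lhs => rw [← h]
      exact act_inv_act a i _))
  exact ⟨H, _, i, hmon, hpb, fun h => MorphismProperty.of_isPullback (P := @IsClosedImmersion)
    (hpb.map (Over.forget _)).flip h⟩

end Groth.Agent.Lib.GrpSch
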