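import Mathlib.AlgebraicGeometry.GammaSpecAdjunction
import Mathlib.AlgebraicGeometry.Limits
import Mathlib.CategoryTheory.Monoidal.Cartesian.Over

/-!
# Affine schemes over `Spec k` as objects of `Over (Spec k)`

`sp R`, `spMap f`, `exists_spMap` (every morphism comes from an algebra map) and `coord`.
-/

universe u

open CategoryTheory AlgebraicGeometry

namespace Groth.Agent.Lib.GrpSch.AffPts

variable {k : Type u} [CommRing k]

/-- The affine scheme over `Spec k` of a `k`-algebra. -/
noncomputable abbrev sp (R : Type u) [CommRing R] [Algebra k R] : Over (Spec (CommRingCat.of k)) :=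
  Over.mk (Spec.map (CommRingCat.ofHom (algebraMap k R)))

/-- The morphism of a map of `k`-algebras. -/
noncomputable def spMap {A B : Type u} [CommRing A] [Algebra k A] [CommRing B] [Algebra k B] (f : A →ₐ[k] B) :
    sp (k := k) B ⟶ sp (k := k) A :=
  Over.homMk (Spec.map (CommRingCat.ofHom f.toRingHom))
    (by dsimp; rw [← Spec.map_comp, ← CommRingCat.ofHom_comp, f.comp_algebraMap])

theorem spMap_comp {A B C : Type u} [CommRing A] [Algebra k A] [CommRing B] [Algebra k B] [CommRing C]
    [Algebra k C] (f : A →ₐ[k] B) (g : B →ₐ[k] C) : spMap g ≫ spMap f = spMap (g.comp f) := by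
  apply Over.OverMorphism.ext
  change Spec.map (CommRingCat.ofHom g.toRingHom) ≫ Spec.map (CommRingCat.ofHom f.toRingHom) = _
  rw [← Spec.map_comp, ← CommRingCat.ofHom_comp]
  rfl

theorem spMap_id (A : Type u) [CommRing A] [Algebra k A] : spMap (AlgHom.id k A) = 𝟙 (sp (k := k) A) :=
  Over.OverMorphism.ext (Spec.map_id _)

theorem exists_spMap {A B : Type u} [CommRing A] [Algebra k A] [CommRing B] [Algebra k B]
    (g : sp (k := k) B ⟶ sp (k := k) A) : ∃ f : A →ₐ[k] B, spMap f = g := by
  obtain ⟨f, hf⟩ := Spec.map_surjective g.left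
  have w : Spec.map f ≫ Spec.map (CommRingCat.ofHom (algebraMap k A)) =
      Spec.map (CommRingCat.ofHom (algebraMap k B)) := by rw [hf]; exact Over.w g
  rw [← Spec.map_comp] at w
  exact ⟨⟨f.hom, fun r => congr($((Spec.map_injective w)) r)⟩, Over.OverMorphism.ext hf⟩

/-- A global function on an affine scheme as an element of the ring. -/
noncomputable def coord (R : Type u) [CommRing R] [Algebra k R] : Γ((sp (k := k) R).left, ⊤) →+* R :=
  (Scheme.ΓSpecIso (CommRingCat.of R)).hom.hom

/-- An element of the ring as a global function. -/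
noncomputable def coordInv (R : Type u) [CommRing R] [Algebra k R] : R →+* Γ((sp (k := k) R).left, ⊤) :=
  (Scheme.ΓSpecIso (CommRingCat.of R)).inv.hom

@[simp] theorem coord_coordInv (R : Type u) [CommRing R] [Algebra k R] (r : R) :
    coord (k := k) R (coordInv R r) = r := by
  change ((Scheme.ΓSpecIso (CommRingCat.of R)).inv ≫ (Scheme.ΓSpecIso (CommRingCat.of R)).hom) r = r
  rw [Iso.inv_hom_id]; rfl

theorem coord_injective (R : Type u) [CommRing R] [Algebra k R] : Function.Injective (coord (k := k) R) := by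
  intro a b h
  have h1 := congrArg (Scheme.ΓSpecIso (CommRingCat.of R)).inv.hom h
  change ((Scheme.ΓSpecIso (CommRingCat.of R)).hom ≫ (Scheme.ΓSpecIso (CommRingCat.of R)).inv) a =
    ((Scheme.ΓSpecIso (CommRingCat.of R)).hom ≫ (Scheme.ΓSpecIso (CommRingCat.of R)).inv) b at h1
  rwa [Iso.hom_inv_id] at h1

theorem coord_appTop {A B : Type u} [CommRing A] [Algebra k A] [CommRing B] [Algebra k B] (f : A →ₐ[k] B)
    (c : Γ((sp (k := k) A).left, ⊤)) :
    coord (k := k) B ((spMap f).left.appTop c) = f (coord (k := k) A c) :=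
  congr($(Scheme.ΓSpecIso_naturality (CommRingCat.ofHom f.toRingHom)) c)

end Groth.Agent.Lib.GrpSch.AffPts
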