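import Groth.Prelude.Def_AlgGrp
import Groth.Agent.Lib.GrpSch.Basic
import Groth.Agent.Lib.FFDesc.Effective

/-!
# Associated bundles with affine fibre
-/

set_option autoImplicit false
universe u
open CategoryTheory CategoryTheory.Limits MonoidalCategory CartesianMonoidalCategory MonObj AlgebraicGeometry

namespace Groth.Agent.Lib.GrpSch

variable {S : Scheme.{u}} {G X Y Z : Over S} [GrpObj G]

/-- The diagonal action on a product. -/
noncomputable def diagAct (a : AlgGrp.Action G X) (b : AlgGrp.Action G Z) : AlgGrp.Action G (X ⊗ Z) where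
  act := lift ((G ◁ fst X Z) ≫ a.act) ((G ◁ snd X Z) ≫ b.act)
  one_act := by
    refine CartesianMonoidalCategory.hom_ext _ _ ?_ ?_
    · rw [Category.assoc, lift_fst, ← whisker_exchange_assoc, a.one_act]; simp
    · rw [Category.assoc, lift_snd, ← whisker_exchange_assoc, b.one_act]; simp
  mul_act := by
    refine CartesianMonoidalCategory.hom_ext _ _ ?_ ?_
    · rw [Category.assoc, lift_fst, ← whisker_exchange_assoc, a.mul_act, MonoidalCategory.tensor_whiskerLeft]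
      simp only [Category.assoc, Iso.inv_hom_id_assoc, lift_fst, ← MonoidalCategory.whiskerLeft_comp_assoc]
    · rw [Category.assoc, lift_snd, ← whisker_exchange_assoc, b.mul_act, MonoidalCategory.tensor_whiskerLeft]
      simp only [Category.assoc, Iso.inv_hom_id_assoc, lift_snd, ← MonoidalCategory.whiskerLeft_comp_assoc]

theorem diagAct_apply {T : Over S} (a : AlgGrp.Action G X) (b : AlgGrp.Action G Z) (g : T ⟶ G) (v : T ⟶ X ⊗ Z) :
    lift g v ≫ (diagAct a b).act = lift (lift g (v ≫ fst X Z) ≫ a.act) (lift g (v ≫ snd X Z) ≫ b.act) := by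
  simp [diagAct, lift_whiskerLeft_assoc]

/-- The associated bundle `X ×^G Z` of a torsor `f : X ⟶ Y` with affine fibre `Z`. -/
theorem exists_associatedBundle (a : AlgGrp.Action G X) (f : X ⟶ Y) (hcov : FFDesc.fpqcCover f.left)
    (hsq : IsPullback a.act.left (snd G X).left f.left f.left) (b : AlgGrp.Action G Z) [IsAffineHom Z.hom] :
    ∃ (W : Over S) (φ : X ⊗ Z ⟶ W) (ψ : W ⟶ Y), IsAffineHom ψ.left ∧
      lift ((G ◁ fst X Z) ≫ a.act) ((G ◁ snd X Z) ≫ b.act) ≫ φ = snd G (X ⊗ Z) ≫ φ ∧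
      IsPullback (fst X Z).left φ.left f.left ψ.left ∧ FFDesc.fpqcCover φ.left := by
  let d := diagAct a b
  let π : (X ⊗ Z).left ⟶ X.left := (fst X Z).left
  have hd : d.act ≫ fst X Z = (G ◁ fst X Z) ≫ a.act := lift_fst _ _
  have P : IsPullback (d.act.left ≫ π) (snd G (X ⊗ Z)).left f.left (π ≫ f.left) := by
    have := (isPullback_whiskerLeft G (fst X Z)).paste_horiz hsq
    rw [← Over.comp_left, ← hd, Over.comp_left] at this
    exact this.flip.flip
  -- transport of a point along the torsor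
  let mv : ∀ {T : Scheme.{u}} (x : T ⟶ X.left) (v : T ⟶ (X ⊗ Z).left),
      x ≫ f.left = v ≫ π ≫ f.left → (T ⟶ (X ⊗ Z).left) := fun x v h => P.lift x v h ≫ d.act.left
  have mv_hom : ∀ {T : Scheme.{u}} (x : T ⟶ X.left) (v : T ⟶ (X ⊗ Z).left) (h : x ≫ f.left = v ≫ π ≫ f.left),
      mv x v h ≫ π = x := fun x v h => (Category.assoc _ _ _).trans (P.lift_fst x v h)
  have mv_congr : ∀ {T : Scheme.{u}} (x x' : T ⟶ X.left) (v v' : T ⟶ (X ⊗ Z).left) (h) (h'),
      x = x' → v = v' → mv x v h = mv x' v' h' := by rintro T x x' v v' h h' rfl rfl; rfl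
  have mv_nat : ∀ {T T' : Scheme.{u}} (g : T' ⟶ T) (x : T ⟶ X.left) (v : T ⟶ (X ⊗ Z).left) (h) (h'),
      mv (g ≫ x) (g ≫ v) h' = g ≫ mv x v h := by
    intro T T' g x v h h'
    change P.lift _ _ _ ≫ _ = g ≫ P.lift _ _ _ ≫ _
    rw [← Category.assoc g]
    congr 1
    apply P.hom_ext
    · rw [P.lift_fst, Category.assoc, P.lift_fst]
    · rw [P.lift_snd, Category.assoc, P.lift_snd]
  have mv_self : ∀ {T : Scheme.{u}} (x : T ⟶ X.left) (v : T ⟶ (X ⊗ Z).left) (h), v ≫ π = x → mv x v h = v := by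
    intro T x v h hv
    let T₀ : Over S := Over.mk (v ≫ (X ⊗ Z).hom)
    let v₀ : T₀ ⟶ X ⊗ Z := Over.homMk v
    have h1 : (lift (1 : T₀ ⟶ G) v₀).left ≫ d.act.left = v := congrArg (fun m => m.left) (act_one d v₀)
    have hl : P.lift x v h = (lift (1 : T₀ ⟶ G) v₀).left := by
      apply P.hom_ext
      · rw [P.lift_fst, ← Category.assoc, h1]; exact hv.symm
      · rw [P.lift_snd]; exact (congrArg (fun m => m.left) (lift_snd (1 : T₀ ⟶ G) v₀)).symm
    change P.lift x v h ≫ d.act.left = v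
    rw [hl]
    exact h1
  have mv_mv : ∀ {T : Scheme.{u}} (x₁ x₂ : T ⟶ X.left) (v : T ⟶ (X ⊗ Z).left) (h₁) (h₂) (h),
      mv x₂ (mv x₁ v h₁) h₂ = mv x₂ v h := by
    intro T x₁ x₂ v h₁ h₂ h
    let T₀ : Over S := Over.mk (v ≫ (X ⊗ Z).hom)
    let v₀ : T₀ ⟶ X ⊗ Z := Over.homMk v
    let L₁ : T₀ ⟶ G ⊗ (X ⊗ Z) := Over.homMk (P.lift x₁ v h₁) (by
      rw [← Over.w (snd G (X ⊗ Z)), P.lift_snd_assoc]; rfl)
    let L₂ : T₀ ⟶ G ⊗ (X ⊗ Z) := Over.homMk (P.lift x₂ (mv x₁ v h₁) h₂) (by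
      rw [← Over.w (snd G (X ⊗ Z)), P.lift_snd_assoc]
      change (P.lift x₁ v h₁ ≫ d.act.left) ≫ (X ⊗ Z).hom = _
      rw [Category.assoc, Over.w d.act, ← Over.w (snd G (X ⊗ Z)), P.lift_snd_assoc]; rfl)
    let g₁ := L₁ ≫ fst G (X ⊗ Z)
    let g₂ := L₂ ≫ fst G (X ⊗ Z)
    have e₁ : L₁ = lift g₁ v₀ := CartesianMonoidalCategory.hom_ext _ _ (lift_fst _ _).symm
      ((Over.OverMorphism.ext (P.lift_snd _ _ _)).trans (lift_snd _ _).symm)
    have e₂ : L₂ = lift g₂ (lift g₁ v₀ ≫ d.act) := CartesianMonoidalCategory.hom_ext _ _ (lift_fst _ _).symm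
      ((Over.OverMorphism.ext ((P.lift_snd _ _ _).trans (congrArg (fun m : T₀ ⟶ G ⊗ (X ⊗ Z) =>
        (m ≫ d.act).left) e₁))).trans (lift_snd _ _).symm)
    have hact : lift (g₂ * g₁) v₀ ≫ d.act = L₂ ≫ d.act := by rw [e₂, act_mul]
    have hlift : P.lift x₂ v h = (lift (g₂ * g₁) v₀).left := by
      apply P.hom_ext
      · rw [P.lift_fst, ← Category.assoc,
          show (lift (g₂ * g₁) v₀).left ≫ d.act.left = L₂.left ≫ d.act.left from congrArg (fun m => m.left) hact,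
          Category.assoc]
        exact (P.lift_fst _ _ _).symm
      · rw [P.lift_snd]; exact (congrArg (fun m => m.left) (lift_snd (g₂ * g₁) v₀)).symm
    change P.lift x₂ _ h₂ ≫ d.act.left = P.lift x₂ v h ≫ d.act.left
    rw [hlift]
    exact (congrArg (fun m => m.left) hact).symm
  have hlift : ∀ {T : Scheme.{u}} {x₀ x₁ : T ⟶ X.left}, x₀ ≫ f.left = x₁ ≫ f.left →
      ∀ v : Desc.Lifts (Over.mk π) x₀, x₁ ≫ f.left = v.1 ≫ π ≫ f.left := fun h v => by
    have := v.2; change v.1 ≫ π = _ at this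
    rw [reassoc_of% this, h]
  let D : Desc.SchDD f.left :=
    { obj := Over.mk π
      φ := fun T x₀ x₁ h =>
        { toFun := fun v => ⟨mv x₁ v.1 (hlift h v), mv_hom _ _ _⟩
          invFun := fun v => ⟨mv x₀ v.1 (hlift h.symm v), mv_hom _ _ _⟩
          left_inv := fun v => Subtype.ext ((mv_mv _ _ _ _ _ (hlift rfl v)).trans (mv_self _ _ _ v.2))
          right_inv := fun v => Subtype.ext ((mv_mv _ _ _ _ _ (hlift rfl v)).trans (mv_self _ _ _ v.2)) }
      φ_natural := fun T T' g x₀ x₁ h h' v v' e =>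
        (mv_congr _ _ _ _ _ (by rw [Category.assoc, Category.assoc, ← hlift h v]) rfl e).trans (mv_nat g _ _ (hlift h v) _)
      φ_self := fun T x v => Subtype.ext (mv_self _ _ _ v.2)
      φ_comp := fun T x₀ x₁ x₂ h₀₁ h₁₂ v => Subtype.ext (mv_mv _ _ _ _ _ _) }
  have haff : IsAffineHom π := fst_left_of (P := @IsAffineHom) X ‹_›
  have hD : Mor2.IsQuasiAffine D.obj.hom := ⟨inferInstanceAs (QuasiCompact π), fun V hV => by
    have : IsAffine (π ⁻¹ᵁ V : Scheme.{u}) := hV.preimage π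
    change Scheme.IsQuasiAffine (π ⁻¹ᵁ V : Scheme.{u})
    infer_instance⟩
  obtain ⟨U, q, hq, -, hUaff⟩ := FFDesc.exists_isDescended D hcov hD
  let W : Over S := Over.mk (U.hom ≫ Y.hom)
  have hw : π ≫ f.left = q ≫ U.hom := hq.isPullback.w
  let φ : X ⊗ Z ⟶ W := Over.homMk q (by
    change q ≫ U.hom ≫ Y.hom = _
    rw [← reassoc_of% hw, Over.w f, Over.w (fst X Z)])
  refine ⟨W, φ, Over.homMk U.hom, hUaff haff, ?_, hq.isPullback, hq.cover hcov⟩
  refine Over.OverMorphism.ext ?_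
  change d.act.left ≫ q = (snd G (X ⊗ Z)).left ≫ q
  let x₁ := d.act.left ≫ π
  have h₁ : (snd G (X ⊗ Z)).left ≫ π ≫ f.left = x₁ ≫ f.left := P.w.symm
  have key : mv x₁ (snd G (X ⊗ Z)).left h₁.symm = FFDesc.tr D (snd G (X ⊗ Z)).left x₁ h₁ :=
    FFDesc.φ_eq_tr D ((snd G (X ⊗ Z)).left ≫ π) x₁ ((Category.assoc _ _ _).trans h₁) ⟨(snd G (X ⊗ Z)).left, rfl⟩
  have hone : P.lift x₁ (snd G (X ⊗ Z)).left h₁.symm = 𝟙 _ :=
    P.hom_ext ((P.lift_fst _ _ _).trans (Category.id_comp _).symm) ((P.lift_snd _ _ _).trans (Category.id_comp _).symm)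
  rw [← FFDesc.IsDescended.tr_comp D hq (snd G (X ⊗ Z)).left x₁ h₁, ← key]
  change _ = (P.lift _ _ _ ≫ _) ≫ q
  rw [hone, Category.id_comp]

end Groth.Agent.Lib.GrpSch
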