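import Groth.Agent.Lib.GrpSch.ClosedLocal
import Mathlib.AlgebraicGeometry.Morphisms.ClosedImmersion
import Mathlib.AlgebraicGeometry.Pullbacks
import Mathlib.RingTheory.TensorProduct.Free

/-!
# Weil restriction of closed subschemes along locally free morphisms

`Restr π e x` says that the preimage of `x : T ⟶ X` under `π : Y ⟶ X` factors through `e : E ⟶ Y`.
If `π` is covered by spectra of algebras which are free modules, this is a closed condition.
-/

set_option autoImplicit false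
universe u
open CategoryTheory CategoryTheory.Limits AlgebraicGeometry TensorProduct

namespace Groth.Agent.Lib.GrpSch.FreeRestr

variable {E Y X : Scheme.{u}}

/-- The preimage of `x` under `π` factors through `e`. -/
def Restr (π : Y ⟶ X) (e : E ⟶ Y) {T : Scheme.{u}} (x : T ⟶ X) : Prop :=
  ∀ (W : Scheme.{u}) (p : W ⟶ Y) (q : W ⟶ T), p ≫ π = q ≫ x → ∃ w, w ≫ e = p

theorem Restr.precomp {π : Y ⟶ X} {e : E ⟶ Y} {T T' : Scheme.{u}} {x : T ⟶ X} (h : Restr π e x)
    (g : T' ⟶ T) : Restr π e (g ≫ x) := fun W p q hpq =>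
  h W p (q ≫ g) (by rw [hpq, Category.assoc])

/-- Factoring through a monomorphism is Zariski local on the source. -/
theorem exists_factor_of_openCover {T W : Scheme.{u}} (j : W ⟶ X) [Mono j] (x : T ⟶ X) (𝒰 : T.OpenCover)
    (h : ∀ k, ∃ w, w ≫ j = 𝒰.f k ≫ x) : ∃ w, w ≫ j = x := by
  choose w hw using h
  refine ⟨𝒰.glueMorphisms w (fun a b => (cancel_mono j).1 ?_), 𝒰.hom_ext _ _ fun k => ?_⟩
  · simp only [Category.assoc, hw, pullback.condition_assoc]
  · rw [Scheme.Cover.ι_glueMorphisms_assoc, hw]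

theorem exists_factor_of_opens {T W : Scheme.{u}} (j : W ⟶ X) [Mono j] (x : T ⟶ X)
    (h : ∀ t : T, ∃ V : T.Opens, t ∈ V ∧ ∃ w, w ≫ j = V.ι ≫ x) : ∃ w, w ≫ j = x := by
  choose V hV hw using h
  exact exists_factor_of_openCover j x (T.openCoverOfIsOpenCover V
    (TopologicalSpace.IsOpenCover.mk (top_le_iff.mp fun t _ => TopologicalSpace.Opens.mem_iSup.mpr ⟨t, hV t⟩))) hw

theorem Restr.of_local {π : Y ⟶ X} {e : E ⟶ Y} [Mono e] {T : Scheme.{u}} (x : T ⟶ X)
    (h : ∀ t : T, ∃ V : T.Opens, t ∈ V ∧ Restr π e (V.ι ≫ x)) : Restr π e x := by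
  intro W p q hpq
  refine exists_factor_of_opens e p fun w => ?_
  obtain ⟨V, hV, hr⟩ := h (q.base w)
  exact ⟨q ⁻¹ᵁ V, hV, hr _ _ (q ∣_ V) (by rw [Category.assoc, hpq, morphismRestrict_ι_assoc])⟩

section Ring

variable {A : Type u} [CommRing A]

/-- The ideal of coordinates of a subset of a free module. -/
noncomputable def coordIdeal (B : Type u) [AddCommGroup B] [Module A B] [Module.Free A B] (s : Set B) :
    Ideal A :=
  Ideal.span (Set.range fun p : s × Module.Free.ChooseBasisIndex A B =>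
    (Module.Free.chooseBasis A B).repr p.1.1 p.2)

theorem tmul_eq_zero_iff (B : Type u) [CommRing B] [Algebra A B] [Module.Free A B] (s : Set B)
    (C : Type u) [CommRing C] [Algebra A C] :
    (∀ b ∈ s, b ⊗ₜ[A] (1 : C) = 0) ↔ coordIdeal B s ≤ RingHom.ker (algebraMap A C) := by
  let β := Algebra.TensorProduct.basis C (Module.Free.chooseBasis A B)
  have key : ∀ b : B, (b ⊗ₜ[A] (1 : C) = 0 ↔ ∀ i, algebraMap A C ((Module.Free.chooseBasis A B).repr b i) = 0) := by
    intro b
    have h1 : (1 : C) ⊗ₜ[A] b = 0 ↔ ∀ i, algebraMap A C ((Module.Free.chooseBasis A B).repr b i) = 0 := by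
      rw [← β.repr.map_eq_zero_iff, Finsupp.ext_iff]
      simp [β, Algebra.TensorProduct.basis_repr_tmul]
    rw [← (TensorProduct.comm A B C).map_eq_zero_iff]
    simpa using h1
  simp only [key]
  rw [coordIdeal, Ideal.span_le]
  constructor
  · rintro h _ ⟨⟨⟨b, hb⟩, i⟩, rfl⟩
    exact h b hb i
  · intro h b hb i
    exact h ⟨(⟨b, hb⟩, i), rfl⟩

/-- Over an affine base, the preimage condition along a free affine cover is a closed condition. -/
theorem exists_restr_affine (π : Y ⟶ Spec (.of A)) (e : E ⟶ Y) [IsClosedImmersion e]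
    {ι : Type*} (B : ι → Type u) [∀ i, CommRing (B i)] [∀ i, Algebra A (B i)] [∀ i, Module.Free A (B i)]
    (q : ∀ i, Spec (.of (B i)) ⟶ Y) [∀ i, IsOpenImmersion (q i)]
    (hq : ∀ y, ∃ i z, (q i).base z = y)
    (hπ : ∀ i, q i ≫ π = Spec.map (CommRingCat.ofHom (algebraMap A (B i)))) :
    ∃ (Z : Scheme.{u}) (j : Z ⟶ Spec (.of A)), IsClosedImmersion j ∧
      ∀ (T : Scheme.{u}) (x : T ⟶ Spec (.of A)), (∃ w, w ≫ j = x) ↔ Restr π e x := by
  have hI : ∀ i, ∃ I : Ideal (B i), ∀ (W : Scheme.{u}) (p : W ⟶ Spec (.of (B i))),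
      (∃ w, w ≫ e = p ≫ q i) ↔ ∃ w, w ≫ Spec.map (CommRingCat.ofHom (Ideal.Quotient.mk I)) = p := by
    intro i
    obtain ⟨I, θ, hθ⟩ := (IsClosedImmersion.Spec_iff (f := pullback.snd e (q i))).mp inferInstance
    refine ⟨I, fun W p => ⟨?_, ?_⟩⟩
    · rintro ⟨w, hw⟩
      refine ⟨pullback.lift w p hw ≫ θ.hom, ?_⟩
      calc (pullback.lift w p hw ≫ θ.hom) ≫ Spec.map (CommRingCat.ofHom (Ideal.Quotient.mk I))
          = pullback.lift w p hw ≫ pullback.snd e (q i) := by rw [hθ, Category.assoc]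
        _ = p := pullback.lift_snd _ _ _
    · rintro ⟨w, rfl⟩
      refine ⟨w ≫ θ.inv ≫ pullback.fst e (q i), ?_⟩
      simp only [Category.assoc]
      rw [pullback.condition, hθ, Category.assoc, Iso.inv_hom_id_assoc]
  choose I hI using hI
  have hspec : ∀ i (C : Type u) [CommRing C] (φ : B i →+* C),
      (∃ w, w ≫ Spec.map (CommRingCat.ofHom (Ideal.Quotient.mk (I i))) = Spec.map (CommRingCat.ofHom φ)) ↔
        I i ≤ RingHom.ker φ := by
    intro i C _ φ
    constructor
    · rintro ⟨w, hw⟩ b hb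
      obtain ⟨ψ, rfl⟩ := Spec.map_surjective w
      rw [← Spec.map_comp] at hw
      have := RingHom.congr_fun (congrArg CommRingCat.Hom.hom (Spec.map_injective hw)) b
      simpa [Ideal.Quotient.eq_zero_iff_mem.mpr hb] using this.symm
    · intro h
      refine ⟨Spec.map (CommRingCat.ofHom (Ideal.Quotient.lift (I i) φ h)), ?_⟩
      rw [← Spec.map_comp]
      congr 1
  let J : Ideal A := ⨆ i, coordIdeal (B i) (I i : Set (B i))
  have hjc : IsClosedImmersion (Spec.map (CommRingCat.ofHom (Ideal.Quotient.mk J))) :=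
    IsClosedImmersion.spec_of_surjective _ Ideal.Quotient.mk_surjective
  refine ⟨_, Spec.map (CommRingCat.ofHom (Ideal.Quotient.mk J)), hjc, fun T x => ⟨?_, ?_⟩⟩
  · rintro ⟨w, rfl⟩
    refine Restr.precomp ?_ w
    intro W p r hpr
    refine exists_factor_of_opens e p fun y => ?_
    obtain ⟨i, z, hz⟩ := hq (p.base y)
    refine ⟨p ⁻¹ᵁ (q i).opensRange, ⟨z, hz⟩, ?_⟩
    have hr : Set.range ((p ⁻¹ᵁ (q i).opensRange).ι ≫ p).base ⊆ Set.range (q i).base := by
      rintro _ ⟨v, rfl⟩; exact v.2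
    set p' := IsOpenImmersion.lift (q i) _ hr
    have hp' : p' ≫ q i = (p ⁻¹ᵁ (q i).opensRange).ι ≫ p := IsOpenImmersion.lift_fac _ _ hr
    rw [← hp']
    refine (hI i _ _).2 ?_
    let C := B i ⊗[A] (A ⧸ J)
    have hsq : p' ≫ Spec.map (CommRingCat.ofHom (algebraMap A (B i))) =
        ((p ⁻¹ᵁ (q i).opensRange).ι ≫ r) ≫ Spec.map (CommRingCat.ofHom (algebraMap A (A ⧸ J))) := by
      rw [← hπ i, reassoc_of% hp', hpr, Category.assoc]
    obtain ⟨v, hv⟩ := (hspec i C Algebra.TensorProduct.includeLeftRingHom).2 (by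
      intro b hb
      exact (tmul_eq_zero_iff (B i) (I i : Set (B i)) (A ⧸ J)).2
        (by rw [Ideal.Quotient.algebraMap_eq, Ideal.mk_ker]; exact le_iSup (fun i => coordIdeal (B i) (I i : Set (B i))) i)
        b hb)
    refine ⟨pullback.lift p' _ hsq ≫ (pullbackSpecIso A (B i) (A ⧸ J)).hom ≫ v, ?_⟩
    simp only [Category.assoc]
    rw [hv, pullbackSpecIso_hom_fst, pullback.lift_fst]
  · intro hx
    refine exists_factor_of_openCover _ x T.affineCover fun k => ?_
    refine ((?_ : ∀ (C : CommRingCat.{u}) (g : Spec C ⟶ T),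
      ∃ w, w ≫ Spec.map (CommRingCat.ofHom (Ideal.Quotient.mk J)) = g ≫ x) _ (T.affineCover.f k))
    intro C g
    obtain ⟨φ, hφ⟩ := Spec.map_surjective (g ≫ x)
    rw [← hφ]
    let := φ.hom.toAlgebra
    have hle : J ≤ RingHom.ker φ.hom := by
      refine iSup_le fun i => ?_
      refine (tmul_eq_zero_iff (B i) (I i : Set (B i)) _).1 fun b hb => ?_
      refine (hspec i (B i ⊗[A] (C : Type u)) Algebra.TensorProduct.includeLeftRingHom).1 ((hI i _ _).1 ?_) hb
      refine (hx.precomp g) _ _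
        (Spec.map (CommRingCat.ofHom (Algebra.TensorProduct.includeRight (R := A) (A := B i) (B := (C : Type u))).toRingHom)) ?_
      rw [Category.assoc, hπ, ← hφ, ← Spec.map_comp, ← Spec.map_comp]
      congr 1
      ext a
      exact ((Algebra.TensorProduct.includeLeft (R := A) (S := A) (A := B i) (B := (C : Type u))).commutes a).trans
        ((Algebra.TensorProduct.includeRight (R := A) (A := B i) (B := (C : Type u))).commutes a).symm
    refine ⟨Spec.map (CommRingCat.ofHom (Ideal.Quotient.lift J φ.hom hle)), ?_⟩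
    rw [← Spec.map_comp]
    congr 1

end Ring

end Groth.Agent.Lib.GrpSch.FreeRestr
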