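import Groth.Agent.Lib.GrpSch.AttrAffine
import Groth.Agent.Lib.GrpSch.FreeRestr

/-!
# Representability of attractors of relatively affine schemes by closed subschemes
-/

set_option autoImplicit false
universe u

open CategoryTheory Limits MonoidalCategory CartesianMonoidalCategory MonObj AlgebraicGeometry Opposite TensorProduct

namespace Groth.Agent.Lib.GrpSch.AttrAffine

section Ring

variable (R : Type u) [CommRing R] (M : Type) [AddCommMonoid M] {N : Type} [AddCommMonoid N]
variable (B : CommRingCat.{u}) [Algebra R B]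

/-- `B ⊗ R[M]`. -/
noncomputable def bcRing : CommRingCat.{u} := .of ((B : Type u) ⊗[R] MonoidAlgebra R (Multiplicative M))

/-- `B → B ⊗ R[M]`. -/
noncomputable def bcInl : B ⟶ bcRing R M B := CommRingCat.ofHom Algebra.TensorProduct.includeLeftRingHom

/-- `R[M] → B ⊗ R[M]`. -/
noncomputable def bcInr : CommRingCat.of (MonoidAlgebra R (Multiplicative M)) ⟶ bcRing R M B :=
  CommRingCat.ofHom (Algebra.TensorProduct.includeRight :
    MonoidAlgebra R (Multiplicative M) →ₐ[R] (B : Type u) ⊗[R] MonoidAlgebra R (Multiplicative M)).toRingHom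

theorem isPullback_spec :
    IsPullback (Spec.map (bcInl R M B)) (Spec.map (bcInr R M B))
      (Spec.map (CommRingCat.ofHom (algebraMap R B))) (Magnet.AMon R M).hom :=
  isPullback_SpecMap_of_isPushout _ _ _ _
    (CommRingCat.isPushout_tensorProduct R B (MonoidAlgebra R (Multiplicative M)))

variable {M}

/-- `B ⊗ R[N] → B ⊗ R[M]`. -/
noncomputable def bcMap (f : N →+ M) : bcRing R N B ⟶ bcRing R M B :=
  CommRingCat.ofHom (Algebra.TensorProduct.map (AlgHom.id R B)
    (MonoidAlgebra.mapDomainBialgHom R (AddMonoidHom.toMultiplicative f)).toAlgHom).toRingHom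

theorem bcInl_bcMap (f : N →+ M) : bcInl R N B ≫ bcMap R B f = bcInl R M B := by
  ext b
  change Algebra.TensorProduct.map _ _ (b ⊗ₜ[R] (1 : MonoidAlgebra R (Multiplicative N))) = b ⊗ₜ[R] 1
  simp

theorem bcInr_bcMap (f : N →+ M) : bcInr R N B ≫ bcMap R B f =
    CommRingCat.ofHom (MonoidAlgebra.mapDomainBialgHom R (AddMonoidHom.toMultiplicative f)).toAlgHom.toRingHom ≫
      bcInr R M B := by
  refine CommRingCat.hom_ext (RingHom.ext fun a => ?_)
  change Algebra.TensorProduct.map _ _ ((1 : B) ⊗ₜ[R] a) = (1 : B) ⊗ₜ[R] _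
  simp
  rfl

theorem bcMap_injective (f : N →+ M) (hf : Function.Injective f) : Function.Injective (bcMap R B f).hom := by
  obtain ⟨ψ, hψ⟩ := exists_retraction R f hf
  refine Function.LeftInverse.injective (g := ψ.lTensor B) fun x => ?_
  change ψ.lTensor B (Algebra.TensorProduct.map (AlgHom.id R B)
    (MonoidAlgebra.mapDomainBialgHom R (AddMonoidHom.toMultiplicative f)).toAlgHom x) = x
  induction x using TensorProduct.induction_on with
  | zero => simp
  | tmul b a => exact congrArg (b ⊗ₜ[R] ·) (hψ a)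
  | add x y hx hy => simp [hx, hy]

/-- Coordinates in `B ⊗ R[M]`. -/
noncomputable def coord (z : bcRing R M B) (m : Multiplicative M) : B :=
  (Algebra.TensorProduct.basis (B : Type u) (MonoidAlgebra.basis (Multiplicative M) R)).repr z m

theorem mem_range_bcMap_iff (f : N →+ M) (z : bcRing R M B) :
    z ∈ Set.range (bcMap R B f).hom ↔
      ∀ m, m ∉ Set.range (AddMonoidHom.toMultiplicative f) → coord R B z m = 0 := by
  classical
  let β := Algebra.TensorProduct.basis (B : Type u) (MonoidAlgebra.basis (Multiplicative M) R)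
  let Φ := Algebra.TensorProduct.map (AlgHom.id R B)
    (MonoidAlgebra.mapDomainBialgHom R (AddMonoidHom.toMultiplicative f)).toAlgHom
  change (∃ w, Φ w = z) ↔ ∀ m, m ∉ Set.range (AddMonoidHom.toMultiplicative f) → β.repr z m = 0
  constructor
  · rintro ⟨w, rfl⟩ m hm
    induction w using TensorProduct.induction_on with
    | zero => simp
    | tmul b a =>
      simp only [Φ, Algebra.TensorProduct.map_tmul, AlgHom.coe_id, id_eq, β]
      rw [Algebra.TensorProduct.basis_repr_tmul]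
      have h0 : (MonoidAlgebra.basis (Multiplicative M) R).repr
          ((MonoidAlgebra.mapDomainBialgHom R (AddMonoidHom.toMultiplicative f)).toAlgHom a) m = 0 :=
        Finsupp.mapDomain_notin_range _ _ hm
      rw [Finsupp.smul_apply, Finsupp.mapRange_apply]
      erw [h0]
      simp
    | add x y hx hy => simp [hx, hy]
  · intro h
    let z' : (B : Type u) ⊗[R] MonoidAlgebra R (Multiplicative M) := z
    change z' ∈ Φ.range
    have hsm : ∀ (b : B) (m : Multiplicative M), m ∈ Set.range (AddMonoidHom.toMultiplicative f) →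
        b • β m ∈ Φ.range := by
      rintro b _ ⟨n, rfl⟩
      refine ⟨b ⊗ₜ MonoidAlgebra.single n 1, ?_⟩
      simp [Φ, β, Algebra.TensorProduct.basis_apply, MonoidAlgebra.basis_apply, TensorProduct.smul_tmul']
    rw [← β.linearCombination_repr z', Finsupp.linearCombination_apply, Finsupp.sum]
    refine sum_mem fun m hm => hsm _ _ ?_
    by_contra hc
    exact (Finsupp.mem_support_iff.mp hm) (h m hc)

variable {B} {C : CommRingCat.{u}} [Algebra R C]

/-- Functoriality in `B`. -/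
noncomputable def bcNat (τ : (C : Type u) →ₐ[R] B) : bcRing R M C ⟶ bcRing R M B :=
  CommRingCat.ofHom (Algebra.TensorProduct.map τ (AlgHom.id R (MonoidAlgebra R (Multiplicative M)))).toRingHom

theorem bcInl_bcNat (τ : (C : Type u) →ₐ[R] B) :
    bcInl R M C ≫ bcNat R τ = CommRingCat.ofHom τ.toRingHom ≫ bcInl R M B := by
  ext b
  change Algebra.TensorProduct.map _ _ (b ⊗ₜ[R] (1 : MonoidAlgebra R (Multiplicative M))) = τ b ⊗ₜ[R] 1
  simp

theorem bcInr_bcNat (τ : (C : Type u) →ₐ[R] B) : bcInr R M C ≫ bcNat R τ = bcInr R M B := by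
  refine CommRingCat.hom_ext (RingHom.ext fun a => ?_)
  change Algebra.TensorProduct.map _ _ ((1 : C) ⊗ₜ[R] a) = (1 : B) ⊗ₜ[R] a
  simp

theorem coord_bcNat (τ : (C : Type u) →ₐ[R] B) (z : bcRing R M C) (m : Multiplicative M) :
    coord R B ((bcNat R τ).hom z) m = τ (coord R C z m) := by
  let Φ := Algebra.TensorProduct.map τ (AlgHom.id R (MonoidAlgebra R (Multiplicative M)))
  let βB := Algebra.TensorProduct.basis (B : Type u) (MonoidAlgebra.basis (Multiplicative M) R)
  let βC := Algebra.TensorProduct.basis (C : Type u) (MonoidAlgebra.basis (Multiplicative M) R)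
  let z' : (C : Type u) ⊗[R] MonoidAlgebra R (Multiplicative M) := z
  change βB.repr (Φ z') m = τ (βC.repr z' m)
  induction z' using TensorProduct.induction_on with
  | zero => simp
  | tmul c a => simp [Φ, βB, βC, Algebra.smul_def]
  | add x y hx hy => simp [hx, hy]

end Ring

section Scheme

/-- The base ring of the monoid schemes. -/
abbrev R0 : Type u := ULift.{u} ℤ

/-- The unique algebra structure over the base ring. -/
@[reducible] noncomputable def baseAlg (B : CommRingCat.{u}) : Algebra R0.{u} B :=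
  ((Int.castRingHom B).comp ULift.ringEquiv.toRingHom).toAlgebra

attribute [local instance] baseAlg

/-- Every ring map is a map of algebras over the base ring. -/
noncomputable def toAlgHom' {B C : CommRingCat.{u}} (τ : C ⟶ B) : (C : Type u) →ₐ[R0.{u}] B :=
  { τ.hom with
    commutes' := fun r => by
      show τ.hom ((Int.castRingHom C) (ULift.ringEquiv r)) = (Int.castRingHom B) (ULift.ringEquiv r)
      exact map_intCast τ.hom _ }

variable {S : Scheme.{u}} {M : Type} [AddCommMonoid M]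

/-- `Spec B` as a scheme over `S`. -/
noncomputable abbrev specOver (B : CommRingCat.{u}) (t : Spec B ⟶ S) : Over S := Over.mk t

variable (M) in
theorem isPullback_AMonS_spec (B : CommRingCat.{u}) (t : Spec B ⟶ S) :
    IsPullback (snd (Magnet.AMonS S M) (specOver B t)).left
      ((fst (Magnet.AMonS S M) (specOver B t)).left ≫ bcProj _ (Magnet.AMon R0.{u} M))
      (Spec.map (CommRingCat.ofHom (algebraMap R0.{u} B))) (Magnet.AMon R0.{u} M).hom := by
  have e : (specOver B t).hom ≫ Limits.IsTerminal.from specULiftZIsTerminal S =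
      Spec.map (CommRingCat.ofHom (algebraMap R0.{u} B)) := specULiftZIsTerminal.hom_ext _ _
  rw [← e]
  exact isPullback_AMonS_snd (specOver B t) M

/-- `A(M) × Spec B` is the spectrum of `B ⊗ R₀[M]`. -/
noncomputable def prodIso (B : CommRingCat.{u}) (t : Spec B ⟶ S) :
    Spec (bcRing R0.{u} M B) ≅ (Magnet.AMonS S M ⊗ specOver B t).left :=
  (isPullback_spec R0.{u} M B).isoIsPullback _ _ (isPullback_AMonS_spec M B t)

theorem prodIso_snd (B : CommRingCat.{u}) (t : Spec B ⟶ S) :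
    (prodIso B t).hom ≫ (snd (Magnet.AMonS S M) (specOver B t)).left = Spec.map (bcInl R0.{u} M B) :=
  IsPullback.isoIsPullback_hom_fst _ _ _ _

theorem prodIso_fst (B : CommRingCat.{u}) (t : Spec B ⟶ S) :
    (prodIso B t).hom ≫ (fst (Magnet.AMonS S M) (specOver B t)).left ≫ bcProj _ (Magnet.AMon R0.{u} M) =
      Spec.map (bcInr R0.{u} M B) :=
  IsPullback.isoIsPullback_hom_snd _ _ _ _

theorem prodIso_map {N : Type} [AddCommMonoid N] (f : N →+ M) (B : CommRingCat.{u})
    (t : Spec B ⟶ S) :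
    (prodIso B t).hom ≫ (Magnet.AMonS.map S f ▷ specOver B t).left =
      Spec.map (bcMap R0.{u} B f) ≫ (prodIso B t).hom := by
  refine (isPullback_AMonS_spec N B t).hom_ext ?_ ?_
  · rw [Category.assoc, Category.assoc, ← Over.comp_left, whiskerRight_snd, prodIso_snd, prodIso_snd,
      ← Spec.map_comp, bcInl_bcMap]
  · rw [Category.assoc, Category.assoc, (isPullback_AMonS_map_whiskerRight f (specOver B t)).w, prodIso_fst,
      ← Category.assoc, prodIso_fst]
    exact (Spec.map_comp _ _).symm.trans ((congrArg Spec.map (bcInr_bcMap R0.{u} B f).symm).trans (Spec.map_comp _ _))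

theorem prodIso_natural {B C : CommRingCat.{u}} (τ : C ⟶ B) (t : Spec C ⟶ S) {t' : Spec B ⟶ S}
    (g : specOver B t' ⟶ specOver C t) (hg : g.left = Spec.map τ) :
    (prodIso B _).hom ≫ (Magnet.AMonS S M ◁ g).left =
      Spec.map (bcNat R0.{u} (toAlgHom' τ)) ≫ (prodIso (M := M) C t).hom := by
  refine (isPullback_AMonS_spec M C t).hom_ext ?_ ?_
  · rw [Category.assoc, Category.assoc, ← Over.comp_left, whiskerLeft_snd, Over.comp_left, prodIso_snd,
      reassoc_of% prodIso_snd (M := M) B, hg, ← Spec.map_comp, ← Spec.map_comp, bcInl_bcNat]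
    rfl
  · rw [Category.assoc, Category.assoc, ← Category.assoc (Magnet.AMonS S M ◁ g).left, ← Over.comp_left,
      whiskerLeft_fst, prodIso_fst, prodIso_fst]
    exact (congrArg Spec.map (bcInr_bcNat R0.{u} (toAlgHom' τ)).symm).trans (Spec.map_comp _ _)

variable {X : Over S}

/-- The orbit map of the affine chart over `V`. -/
noncomputable def chartOrbit (a : Magnet.MonAct (Magnet.AMonS S M) X) {U : X.left.Opens} (hU : IsAffineOpen U) :
    Spec (bcRing R0.{u} M Γ(X.left, U)) ⟶ X.left :=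
  (prodIso (M := M) Γ(X.left, U) (hU.fromSpec ≫ X.hom)).hom ≫
    ((Magnet.AMonS S M ◁ (Over.homMk hU.fromSpec : specOver Γ(X.left, U) (hU.fromSpec ≫ X.hom) ⟶ X)) ≫ a.act).left

theorem chartOrbit_comp_hom (a : Magnet.MonAct (Magnet.AMonS S M) X) {U : X.left.Opens} (hU : IsAffineOpen U) :
    chartOrbit a hU ≫ X.hom = Spec.map (bcInl R0.{u} M Γ(X.left, U)) ≫ hU.fromSpec ≫ X.hom := by
  rw [chartOrbit, Category.assoc, Over.w, ← prodIso_snd Γ(X.left, U) (hU.fromSpec ≫ X.hom), Category.assoc]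
  exact congrArg ((prodIso (M := M) Γ(X.left, U) (hU.fromSpec ≫ X.hom)).hom ≫ ·)
    (Over.w (snd (Magnet.AMonS S M) (specOver Γ(X.left, U) (hU.fromSpec ≫ X.hom)))).symm

theorem range_subset_chart [IsAffineHom X.hom] {V : S.Opens} (hV : IsAffineOpen V) {Y : Scheme.{u}}
    (ψ : Y ⟶ X.left) (q : Y ⟶ Spec Γ(X.left, X.hom ⁻¹ᵁ V))
    (h : ψ ≫ X.hom = q ≫ (hV.preimage X.hom).fromSpec ≫ X.hom) :
    Set.range ψ.base ⊆ Set.range (hV.preimage X.hom).fromSpec.base := by
  rintro _ ⟨y, rfl⟩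
  rw [(hV.preimage X.hom).range_fromSpec]
  show X.hom.base (ψ.base y) ∈ V
  rw [← Scheme.Hom.comp_apply, h]
  have : (hV.preimage X.hom).fromSpec.base (q.base y) ∈ X.hom ⁻¹ᵁ V := by
    rw [← SetLike.mem_coe, ← (hV.preimage X.hom).range_fromSpec]; exact ⟨_, rfl⟩
  exact this

/-- The coaction of the affine chart over `V`. -/
theorem exists_coaction [IsAffineHom X.hom] (a : Magnet.MonAct (Magnet.AMonS S M) X)
    {V : S.Opens} (hV : IsAffineOpen V) :
    ∃ ρ : Γ(X.left, X.hom ⁻¹ᵁ V) ⟶ bcRing R0.{u} M Γ(X.left, X.hom ⁻¹ᵁ V),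
      Spec.map ρ ≫ (hV.preimage X.hom).fromSpec = chartOrbit a (hV.preimage X.hom) := by
  obtain ⟨ρ, hρ⟩ := Spec.map_surjective (IsOpenImmersion.lift (hV.preimage X.hom).fromSpec _
    (range_subset_chart hV _ _ (chartOrbit_comp_hom a (hV.preimage X.hom))))
  exact ⟨ρ, by rw [hρ, IsOpenImmersion.lift_fac]⟩

/-- The ideal of components of weights outside `N`. -/
noncomputable def chartIdeal {C : CommRingCat.{u}} (ρ : C ⟶ bcRing R0.{u} M C) (N : AddSubmonoid M) : Ideal C :=
  Ideal.span {z | ∃ (b : C) (m : Multiplicative M),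
    m ∉ Set.range (AddMonoidHom.toMultiplicative N.subtype) ∧ coord R0.{u} C (ρ.hom b) m = z}

/-- The orbit of a point of the chart factors through `A(N)` iff the point kills the weights outside `N`. -/
theorem chart_iff [IsAffineHom X.hom] (a : Magnet.MonAct (Magnet.AMonS S M) X) (N : AddSubmonoid M)
    {V : S.Opens} (hV : IsAffineOpen V) (ρ : Γ(X.left, X.hom ⁻¹ᵁ V) ⟶ bcRing R0.{u} M Γ(X.left, X.hom ⁻¹ᵁ V))
    (hρc : Spec.map ρ ≫ (hV.preimage X.hom).fromSpec = chartOrbit a (hV.preimage X.hom))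
    (B : CommRingCat.{u}) (τ : Γ(X.left, X.hom ⁻¹ᵁ V) ⟶ B) :
    chartIdeal ρ N ≤ RingHom.ker τ.hom ↔ OrbitFactors a N
      (Over.homMk (U := Over.mk ((Spec.map τ ≫ (hV.preimage X.hom).fromSpec) ≫ X.hom))
        (Spec.map τ ≫ (hV.preimage X.hom).fromSpec) rfl) := by
  have hU : IsAffineOpen (X.hom ⁻¹ᵁ V) := hV.preimage X.hom
  let U := X.hom ⁻¹ᵁ V
  let C := Γ(X.left, U)
  let c : Spec C ⟶ X.left := hU.fromSpec
  let t₀ : Spec C ⟶ S := c ≫ X.hom
  let xU : specOver C t₀ ⟶ X := Over.homMk c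
  have hrange : ∀ {Y : Scheme.{u}} (ψ : Y ⟶ X.left) (q : Y ⟶ Spec C), ψ ≫ X.hom = q ≫ t₀ →
      Set.range ψ.base ⊆ Set.range c.base := fun ψ q h => range_subset_chart hV ψ q h
  let Ψ := chartOrbit a hU
  have hΨ : Ψ = (prodIso (M := M) C t₀).hom ≫ ((Magnet.AMonS S M ◁ xU) ≫ a.act).left := rfl
  change Spec.map ρ ≫ c = Ψ at hρc
  let J : Ideal C := chartIdeal ρ N
  change J ≤ RingHom.ker τ.hom ↔ _
  let τ' : (C : Type u) →ₐ[R0.{u}] B := toAlgHom' τ
  let g : specOver B (Spec.map (τ) ≫ t₀) ⟶ specOver C t₀ :=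
    Over.homMk (Spec.map τ)
  let x : specOver B (Spec.map (τ) ≫ t₀) ⟶ X := g ≫ xU
  have hx : OrbitFactors a N (Over.homMk (U := Over.mk ((Spec.map τ ≫ c) ≫ X.hom)) (Spec.map τ ≫ c) rfl) ↔
      OrbitFactors a N x := by
    let e : specOver B (Spec.map (τ) ≫ t₀) ≅
        Over.mk ((Spec.map τ ≫ c) ≫ X.hom) := Over.isoMk (Iso.refl _) (by
      simp [t₀])
    have hxe : e.hom ≫ (Over.homMk (U := Over.mk ((Spec.map τ ≫ c) ≫ X.hom)) (Spec.map τ ≫ c) rfl :
        Over.mk ((Spec.map τ ≫ c) ≫ X.hom) ⟶ X) = x := by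
      apply Over.OverMorphism.ext
      simp [x, g, e, xU]
    refine ⟨fun h => hxe ▸ h.precomp e.hom, fun h => ?_⟩
    have := h.precomp e.inv
    rwa [← hxe, Iso.inv_hom_id_assoc] at this
  rw [hx]
  -- the orbit map of `x`
  have horb : (prodIso (M := M) B _).hom ≫ ((Magnet.AMonS S M ◁ x) ≫ a.act).left =
      Spec.map (ρ ≫ bcNat R0.{u} τ') ≫ c := by
    rw [Spec.map_comp, Category.assoc, hρc, hΨ]
    simp only [x, MonoidalCategory.whiskerLeft_comp, Over.comp_left, Category.assoc]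
    rw [reassoc_of% prodIso_natural τ t₀ g rfl]
  have hker : J ≤ RingHom.ker τ.hom ↔ ∀ b : C, (bcNat R0.{u} τ').hom (ρ.hom b) ∈
      Set.range (bcMap R0.{u} B N.subtype).hom := by
    simp only [mem_range_bcMap_iff, coord_bcNat, J, chartIdeal, Ideal.span_le]
    constructor
    · intro h b m hm
      exact h ⟨b, m, hm, rfl⟩
    · rintro h _ ⟨b, m, hm, rfl⟩
      exact h b m hm
  rw [hker]
  constructor
  · intro h
    have hinj := bcMap_injective R0.{u} B N.subtype Subtype.val_injective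
    choose σ hσ using h
    obtain ⟨σh, hσh⟩ : ∃ σh : C ⟶ bcRing R0.{u} ↥N B, σh ≫ bcMap R0.{u} B N.subtype = ρ ≫ bcNat R0.{u} τ' :=
      ⟨CommRingCat.ofHom (R := (C : Type u)) (S := (bcRing R0.{u} ↥N B : Type u))
        { toFun := σ
          map_one' := hinj (by rw [hσ, map_one, map_one, map_one])
          map_mul' := fun p q => hinj (by rw [hσ, map_mul, map_mul, map_mul, hσ, hσ])
          map_zero' := hinj (by rw [hσ, map_zero, map_zero, map_zero])
          map_add' := fun p q => hinj (by rw [hσ, map_add, map_add, map_add, hσ, hσ]) }, CommRingCat.hom_ext (RingHom.ext hσ)⟩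
    have hσe : Spec.map (bcMap R0.{u} B N.subtype) ≫ Spec.map σh = Spec.map (ρ ≫ bcNat R0.{u} τ') := by
      rw [← Spec.map_comp, hσh]
    -- compatibility with the base
    have hover : Spec.map σh ≫ t₀ =
        Spec.map (bcInl R0.{u} ↥N B) ≫ Spec.map (τ) ≫ t₀ := by
      have hrV : Set.range t₀.base ⊆ Set.range hV.fromSpec.base := by
        rintro _ ⟨y, rfl⟩
        rw [hV.range_fromSpec]
        have : c.base y ∈ U := by rw [← SetLike.mem_coe, ← hU.range_fromSpec]; exact ⟨y, rfl⟩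
        exact this
      obtain ⟨γ, hγ⟩ := Spec.map_surjective (IsOpenImmersion.lift hV.fromSpec t₀ hrV)
      have hγc : Spec.map γ ≫ hV.fromSpec = t₀ := by rw [hγ, IsOpenImmersion.lift_fac]
      have h2 : Spec.map (ρ ≫ bcNat R0.{u} τ') ≫ c ≫ X.hom =
          Spec.map (bcInl R0.{u} M B) ≫ Spec.map (τ) ≫ t₀ := by
        rw [← reassoc_of% horb, Over.w, ← reassoc_of% prodIso_snd (M := M) B (Spec.map (τ) ≫ t₀)]
        exact congrArg ((prodIso (M := M) B _).hom ≫ ·)
          (Over.w (snd (Magnet.AMonS S M) (specOver B (Spec.map (τ) ≫ t₀)))).symm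
      rw [← hσe, Category.assoc, show c ≫ X.hom = t₀ from rfl, ← hγc, ← Spec.map_comp_assoc, ← Spec.map_comp_assoc,
        ← Spec.map_comp_assoc, ← Spec.map_comp_assoc, cancel_mono] at h2
      rw [← hγc, ← Spec.map_comp_assoc, ← Spec.map_comp_assoc, ← Spec.map_comp_assoc, cancel_mono]
      congr 1
      ext r
      apply hinj
      have h3 := RingHom.congr_fun (congrArg CommRingCat.Hom.hom (Spec.map_injective h2)) r
      simpa [← bcInl_bcMap R0.{u} B N.subtype] using h3
    refine ⟨Over.homMk ((prodIso (M := ↥N) B _).inv ≫ Spec.map σh ≫ c) ?_, ?_⟩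
    · simp only [Category.assoc]
      rw [show c ≫ X.hom = t₀ from rfl, hover, ← reassoc_of% prodIso_snd (M := ↥N) B (Spec.map (τ) ≫ t₀)]
      rw [Iso.inv_hom_id_assoc]
      exact Over.w (snd (Magnet.AMonS S N) (specOver B (Spec.map (τ) ≫ t₀)))
    · apply Over.OverMorphism.ext
      rw [← cancel_epi (prodIso (M := M) B _).hom, Over.comp_left, horb]
      change _ ≫ _ ≫ ((prodIso (M := ↥N) B _).inv ≫ Spec.map σh ≫ c) = _
      rw [reassoc_of% prodIso_map (M := M) N.subtype B, Iso.hom_inv_id_assoc, reassoc_of% hσe]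
  · rintro ⟨φ, hφ⟩ b
    have hr : Set.range ((prodIso (M := ↥N) B _).hom ≫ φ.left).base ⊆ Set.range c.base :=
      hrange _ ((prodIso (M := ↥N) B _).hom ≫ (snd (Magnet.AMonS S N) _).left ≫ g.left) (by
        simp only [Category.assoc, Over.w φ]
        exact congrArg ((prodIso (M := ↥N) B _).hom ≫ ·) ((Over.w (snd (Magnet.AMonS S N) _)).symm.trans
          (congrArg ((snd (Magnet.AMonS S N) _).left ≫ ·) (Over.w g).symm)))
    obtain ⟨σ, hσ⟩ := Spec.map_surjective (IsOpenImmersion.lift c _ hr)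
    have h1 : Spec.map σ ≫ c = (prodIso (M := ↥N) B _).hom ≫ φ.left := by rw [hσ, IsOpenImmersion.lift_fac]
    have h2 := congrArg (fun ψ => (prodIso (M := M) B _).hom ≫ CommaMorphism.left ψ) hφ
    simp only [Over.comp_left] at h2 horb
    rw [horb, reassoc_of% prodIso_map (M := M) N.subtype B, ← h1, ← Spec.map_comp_assoc, cancel_mono] at h2
    exact ⟨σ.hom b, RingHom.congr_fun (congrArg CommRingCat.Hom.hom (Spec.map_injective h2)) b⟩

/-- On a relatively affine chart the orbit condition is a closed condition. -/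
theorem exists_closed_chart [IsAffineHom X.hom] (a : Magnet.MonAct (Magnet.AMonS S M) X) (N : AddSubmonoid M)
    {V : S.Opens} (hV : IsAffineOpen V) :
    ∃ (Z : Scheme.{u}) (j : Z ⟶ (X.hom ⁻¹ᵁ V).toScheme), IsClosedImmersion j ∧
      ∀ (T : Scheme.{u}) (t : T ⟶ (X.hom ⁻¹ᵁ V).toScheme),
        (∃ w, w ≫ j = t) ↔
          OrbitFactors a N (Over.homMk (U := Over.mk ((t ≫ (X.hom ⁻¹ᵁ V).ι) ≫ X.hom)) (t ≫ (X.hom ⁻¹ᵁ V).ι) rfl) := by
  obtain ⟨ρ, hρ⟩ := exists_coaction a hV
  have hU : IsAffineOpen (X.hom ⁻¹ᵁ V) := hV.preimage X.hom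
  let U := X.hom ⁻¹ᵁ V
  let C := Γ(X.left, U)
  let c : Spec C ⟶ X.left := hU.fromSpec
  let J : Ideal C := chartIdeal ρ N
  have hjc : IsClosedImmersion (Spec.map (CommRingCat.ofHom (Ideal.Quotient.mk J))) :=
    IsClosedImmersion.spec_of_surjective _ Ideal.Quotient.mk_surjective
  have main : ∀ (B : CommRingCat.{u}) (τ : C ⟶ B),
      J ≤ RingHom.ker τ.hom ↔ OrbitFactors a N
        (Over.homMk (U := Over.mk ((Spec.map τ ≫ c) ≫ X.hom)) (Spec.map τ ≫ c) rfl) := chart_iff a N hV ρ hρ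
  refine ⟨_, Spec.map (CommRingCat.ofHom (Ideal.Quotient.mk J)) ≫ hU.isoSpec.inv, inferInstance, fun T t => ?_⟩
  have e2 : t ≫ U.ι = (t ≫ hU.isoSpec.hom) ≫ c := by
    rw [Category.assoc, IsAffineOpen.isoSpec_hom, IsAffineOpen.toSpecΓ_fromSpec]
  constructor
  · rintro ⟨w, rfl⟩
    have hQ := (main (.of (C ⧸ J)) (CommRingCat.ofHom (Ideal.Quotient.mk J))).1 (by simp [Ideal.mk_ker])
    have e3 : ((w ≫ Spec.map (CommRingCat.ofHom (Ideal.Quotient.mk J)) ≫ hU.isoSpec.inv) ≫ U.ι) =
        w ≫ Spec.map (CommRingCat.ofHom (Ideal.Quotient.mk J)) ≫ c := by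
      rw [e2]; simp
    let wo : Over.mk (((w ≫ Spec.map (CommRingCat.ofHom (Ideal.Quotient.mk J)) ≫ hU.isoSpec.inv) ≫ U.ι) ≫ X.hom) ⟶
        Over.mk ((Spec.map (CommRingCat.ofHom (Ideal.Quotient.mk J)) ≫ c) ≫ X.hom) :=
      Over.homMk w (by change w ≫ _ = _ ≫ X.hom; rw [e3]; simp)
    have := hQ.precomp wo
    convert this using 1
    apply Over.OverMorphism.ext
    exact e3.trans (by simp [wo])
  · intro h
    have hmono : Mono (Spec.map (CommRingCat.ofHom (Ideal.Quotient.mk J)) ≫ hU.isoSpec.inv) := inferInstance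
    have step : ∀ (B : CommRingCat.{u}) (f : Spec B ⟶ T), ∃ w,
        w ≫ Spec.map (CommRingCat.ofHom (Ideal.Quotient.mk J)) ≫ hU.isoSpec.inv = f ≫ t := by
      intro B f
      obtain ⟨τ, hτ⟩ := Spec.map_surjective (f ≫ t ≫ hU.isoSpec.hom)
      have e4 : Spec.map τ ≫ c = f ≫ t ≫ U.ι := by rw [hτ, Category.assoc, ← e2]
      have hfac := h.precomp (Over.homMk f (by change f ≫ (t ≫ U.ι) ≫ X.hom = (Spec.map τ ≫ c) ≫ X.hom; rw [e4]; simp) :
        Over.mk ((Spec.map τ ≫ c) ≫ X.hom) ⟶ Over.mk ((t ≫ U.ι) ≫ X.hom))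
      have hle := (main B τ).2 (by
        convert hfac using 1
        apply Over.OverMorphism.ext
        simpa using e4)
      refine ⟨Spec.map (CommRingCat.ofHom (Ideal.Quotient.lift J τ.hom hle)), ?_⟩
      rw [← Spec.map_comp_assoc]
      have : CommRingCat.ofHom (Ideal.Quotient.mk J) ≫ CommRingCat.ofHom (Ideal.Quotient.lift J τ.hom hle) = τ := rfl
      rw [this, hτ, Category.assoc, Category.assoc]
      exact congrArg (f ≫ ·) ((congrArg (t ≫ ·) hU.isoSpec.hom_inv_id).trans (Category.comp_id t))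
    exact FreeRestr.exists_factor_of_openCover _ t T.affineCover fun k => step _ (T.affineCover.f k)

/-- Implications between orbit conditions can be checked on the points of affine charts. -/
theorem orbitFactors_of_charts [IsAffineHom X.hom] {Z : Type} [AddCommMonoid Z]
    (a : Magnet.MonAct (Magnet.AMonS S M) X) (N : AddSubmonoid M)
    (a' : Magnet.MonAct (Magnet.AMonS S Z) X) (N' : AddSubmonoid Z)
    {J : Type*} (V : J → S.Opens) (hV : ∀ i, IsAffineOpen (V i)) (hcov : ∀ s, ∃ i, s ∈ V i)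
    (hstep : ∀ (i : J) (B : CommRingCat.{u}) (τ : Γ(X.left, X.hom ⁻¹ᵁ V i) ⟶ B),
      OrbitFactors a' N' (Over.homMk (U := Over.mk ((Spec.map τ ≫ ((hV i).preimage X.hom).fromSpec) ≫ X.hom))
        (Spec.map τ ≫ ((hV i).preimage X.hom).fromSpec) rfl) →
      OrbitFactors a N (Over.homMk (U := Over.mk ((Spec.map τ ≫ ((hV i).preimage X.hom).fromSpec) ≫ X.hom))
        (Spec.map τ ≫ ((hV i).preimage X.hom).fromSpec) rfl))
    {T : Over S} (x : T ⟶ X) (h : OrbitFactors a' N' x) : OrbitFactors a N x := by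
  have hex : ∀ t : T.left, ∃ (i : J) (W : T.left.Opens),
      IsAffineOpen W ∧ t ∈ W ∧ W ≤ x.left ⁻¹ᵁ (X.hom ⁻¹ᵁ V i) := by
    intro t
    obtain ⟨i, hi⟩ := hcov (X.hom.base (x.left.base t))
    obtain ⟨W, hW, htW, hle⟩ :=
      exists_isAffineOpen_mem_and_subset (X := T.left) (x := t) (U := x.left ⁻¹ᵁ (X.hom ⁻¹ᵁ V i)) hi
    exact ⟨i, W, hW, htW, hle⟩
  choose i W hW htW hle using hex
  refine OrbitFactors.of_openCover x (T.left.openCoverOfIsOpenCover W
    (TopologicalSpace.IsOpenCover.mk (top_le_iff.mp fun t _ => TopologicalSpace.Opens.mem_iSup.mpr ⟨t, htW t⟩)))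
    fun k => ?_
  change T.left at k
  let xk : Over.mk ((W k).ι ≫ T.hom) ⟶ T := Over.homMk (W k).ι
  change OrbitFactors a N (xk ≫ x)
  have hr : Set.range ((hW k).isoSpec.inv ≫ (W k).ι ≫ x.left).base ⊆
      Set.range ((hV (i k)).preimage X.hom).fromSpec.base := by
    rintro _ ⟨y, rfl⟩
    rw [((hV (i k)).preimage X.hom).range_fromSpec]
    exact hle k ((hW k).isoSpec.inv.base y).2
  obtain ⟨τ, hτ⟩ := Spec.map_surjective (IsOpenImmersion.lift _ _ hr)
  have hτc : Spec.map τ ≫ ((hV (i k)).preimage X.hom).fromSpec = (hW k).isoSpec.inv ≫ (W k).ι ≫ x.left := by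
    rw [hτ, IsOpenImmersion.lift_fac]
  let e : Over.mk ((Spec.map τ ≫ ((hV (i k)).preimage X.hom).fromSpec) ≫ X.hom) ≅ Over.mk ((W k).ι ≫ T.hom) :=
    Over.isoMk (hW k).isoSpec.symm (by
      show (hW k).isoSpec.inv ≫ (W k).ι ≫ T.hom = _
      rw [hτc, ← Over.w x]; simp)
  have he : e.hom ≫ xk ≫ x = Over.homMk (Spec.map τ ≫ ((hV (i k)).preimage X.hom).fromSpec) rfl :=
    Over.OverMorphism.ext hτc.symm
  have key := (hstep (i k) _ τ (by rw [← he]; exact (h.precomp xk).precomp e.hom)).precomp e.inv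
  rwa [← he, Iso.inv_hom_id_assoc] at key

/-- The attractor of a relatively affine scheme is a closed subscheme. -/
theorem exists_attr_closed [IsAffineHom X.hom] (a : Magnet.MonAct (Magnet.AMonS S M) X) (N : AddSubmonoid M) :
    ∃ (Z : Over S) (i : Z ⟶ X), IsClosedImmersion i.left ∧
      ∀ (T : Over S) (x : T ⟶ X), (∃ z : T ⟶ Z, z ≫ i = x) ↔ OrbitFactors a N x := by
  let P : ∀ {T : Scheme.{u}}, (T ⟶ X.left) → Prop := fun {T} x =>
    OrbitFactors a N (Over.homMk (U := Over.mk (x ≫ X.hom)) x rfl : Over.mk (x ≫ X.hom) ⟶ X)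
  obtain ⟨Z, j, hj, hZ⟩ := exists_closed_of_local (X := X.left) (fun {T} x => P x)
    (fun {T T'} g x h => by
      have := h.precomp (Over.homMk g (Category.assoc _ _ _).symm : Over.mk ((g ≫ x) ≫ X.hom) ⟶ Over.mk (x ≫ X.hom))
      convert this using 1
      apply Over.OverMorphism.ext
      rfl)
    (fun {T} x h => by
      choose W hW hP using h
      refine OrbitFactors.of_openCover _ (T.openCoverOfIsOpenCover W
        (TopologicalSpace.IsOpenCover.mk (top_le_iff.mp fun w _ => TopologicalSpace.Opens.mem_iSup.mpr ⟨w, hW w⟩)))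
        fun k => ?_
      have := (hP k).precomp (Over.homMk (𝟙 _) (by simp) :
        Over.mk ((W k).ι ≫ (Over.mk (x ≫ X.hom)).hom) ⟶ Over.mk (((W k).ι ≫ x) ≫ X.hom))
      exact this)
    (fun x => by
      obtain ⟨V, hV, hxV, -⟩ := exists_isAffineOpen_mem_and_subset (X := S) (x := X.hom.base x) (U := ⊤) trivial
      obtain ⟨Z, j, hj, hZ⟩ := exists_closed_chart a N hV
      exact ⟨X.hom ⁻¹ᵁ V, hxV, Z, j, hj, fun T t => hZ T t⟩)
  refine ⟨Over.mk (j ≫ X.hom), Over.homMk j, hj, fun T x => ?_⟩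
  have e : OrbitFactors a N x ↔ P x.left := by
    let e : Over.mk (x.left ≫ X.hom) ≅ T := Over.isoMk (Iso.refl _) (by simp)
    constructor
    · intro h
      convert h.precomp e.hom using 1
      apply Over.OverMorphism.ext
      simp [e]
    · intro h
      convert h.precomp e.inv using 1
      apply Over.OverMorphism.ext
      simp [e]
  rw [e, ← hZ]
  constructor
  · rintro ⟨z, rfl⟩
    exact ⟨z.left, rfl⟩
  · rintro ⟨w, hw⟩
    exact ⟨Over.homMk w (by show w ≫ j ≫ X.hom = T.hom; rw [reassoc_of% hw, Over.w]), Over.OverMorphism.ext hw⟩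

end Scheme

end Groth.Agent.Lib.GrpSch.AttrAffine
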