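import Groth.Agent.Lib.GrpSch.FaceCartesian
import Groth.Agent.Lib.AlgSpace.DescendRep
import Groth.Agent.Lib.AlgSpMor.AffineDescent
import Groth.Agent.S18289
import Groth.Agent.S18295
import Groth.Agent.S18299

/-!
# Representability of attractors from an atlas

Given an affine étale atlas `U → X` which is cartesian on the attractors of a face, the attractor
`X^N` is representable and affine over the representable `X^Q`.
-/

set_option autoImplicit false
universe u

open CategoryTheory Limits MonoidalCategory CartesianMonoidalCategory MonObj AlgebraicGeometry Opposite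
open Groth.Agent.Lib

namespace Groth.Agent.Lib.GrpSch.AttrAtlas

variable {S : Scheme.{u}} {M : Type} [AddCommGroup M] {X U : Over S}
  {aX : Magnet.MonAct (Magnet.AMonS S M) X} {aU : Magnet.MonAct (Magnet.AMonS S M) U}
  {f : U ⟶ X}

/-- The representable attractor of a subgroup, from an atlas reflecting fixed points. -/
theorem exists_rep_subgroup [AddGroup.FG M] [IsAffineHom U.hom] [Etale f.left] [Surjective f.left]
    (hf : Magnet.MonAct.IsEquivariant aU aX f) (Z : AddSubgroup M)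
    (hfZ : Magnet.MonAct.IsEquivariant
      (aU.restrict (Magnet.AMonS.map S (QuotientAddGroup.mk' Z)))
      (aX.restrict (Magnet.AMonS.map S (QuotientAddGroup.mk' Z))) f)
    (hfpr : IsPullback (Magnet.MonAct.fixedPsh.map f hfZ)
      (Magnet.MonAct.fixedPshι (aU.restrict (Magnet.AMonS.map S (QuotientAddGroup.mk' Z))))
      (Magnet.MonAct.fixedPshι (aX.restrict (Magnet.AMonS.map S (QuotientAddGroup.mk' Z))))
      (yoneda.map f)) :
    ∃ (W W₀ : Over S) (es : (Magnet.attr aX Z.toAddSubmonoid).RepresentableBy W)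
      (e₀ : (Magnet.attr aU Z.toAddSubmonoid).RepresentableBy W₀) (p : W₀ ⟶ W),
      IsAffineHom W₀.hom ∧ Etale p.left ∧ Surjective p.left ∧
      ∀ (T : Over S) (z : T ⟶ W₀), (es.homEquiv (z ≫ p)).1 = (e₀.homEquiv z).1 ≫ f := by
  obtain ⟨W₀, i₀, e₀, hi₀, he₀⟩ := Groth.Agent.S18295.result S M Z.toAddSubmonoid U aU
  obtain ⟨εU, hεU⟩ := Groth.Agent.S18289.result S M Z U aU.toAction
  obtain ⟨εX, hεX⟩ := Groth.Agent.S18289.result S M Z X aX.toAction
  have hU' : ∀ (T : Over S) (y : (Magnet.attr aU Z.toAddSubmonoid).obj (op T)),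
      (Magnet.MonAct.fixedPshι (aU.restrict (Magnet.AMonS.map S (QuotientAddGroup.mk' Z)))).app (op T)
        (εU.hom.app (op T) y) = (Magnet.attrToX aU Z.toAddSubmonoid).app (op T) y := fun T y =>
    congr($(hεU).app (op T) y)
  let bX : AlgGrp.Action (Red.DS S (M ⧸ Z)) X :=
    (aX.restrict (Magnet.AMonS.map S (QuotientAddGroup.mk' Z))).toAction
  let bU : AlgGrp.Action (Red.DS S (M ⧸ Z)) U :=
    (aU.restrict (Magnet.AMonS.map S (QuotientAddGroup.mk' Z))).toAction
  have hfb : Magnet.MonAct.IsEquivariant (Magnet.MonAct.ofAction bU) (Magnet.MonAct.ofAction bX) f := by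
    exact hfZ
  have hfprb : IsPullback (Magnet.MonAct.fixedPsh.map f hfb)
      (Magnet.MonAct.fixedPshι (Magnet.MonAct.ofAction bU))
      (Magnet.MonAct.fixedPshι (Magnet.MonAct.ofAction bX)) (yoneda.map f) := by
    exact hfpr
  have hU'' : ∃ (W' : Over S) (i' : W' ⟶ U)
      (e' : (Magnet.MonAct.fixedPsh (Magnet.MonAct.ofAction bU)).RepresentableBy W'),
      IsClosedImmersion i'.left ∧ ∀ (T : Over S) (w : T ⟶ W'),
        (Magnet.MonAct.fixedPshι (Magnet.MonAct.ofAction bU)).app (op T) (e'.homEquiv w) = w ≫ i' := by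
    exact ⟨W₀, i₀, e₀.ofIso εU, hi₀, fun T w => (hU' T (e₀.homEquiv w)).trans (he₀ T w)⟩
  obtain ⟨W, i, e, hi, he⟩ := Groth.Agent.S18299.result S (M ⧸ Z) X U bX bU f hfb hfprb hU''
  let es : (Magnet.attr aX Z.toAddSubmonoid).RepresentableBy W := e.ofIso εX.symm
  have hes : ∀ (T : Over S) (w : T ⟶ W),
      (Magnet.attrToX aX Z.toAddSubmonoid).app (op T) (es.homEquiv w) = w ≫ i := by
    intro T w
    refine (congr($(hεX).app (op T) (es.homEquiv w))).symm.trans (Eq.trans ?_ (he T w))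
    change (Magnet.MonAct.fixedPshι _).app (op T) (εX.hom.app (op T) (εX.inv.app (op T) (e.homEquiv w))) = _
    rw [FunctorToTypes.inv_hom_id_app_apply]
    rfl
  let post : ∀ T : Over S, (Magnet.attr aU Z.toAddSubmonoid).obj (op T) →
      (Magnet.attr aX Z.toAddSubmonoid).obj (op T) := fun T y => ⟨y.1 ≫ f, y.2.comp hf⟩
  let p : W₀ ⟶ W := es.homEquiv.symm (post W₀ (e₀.homEquiv (𝟙 W₀)))
  have hp : ∀ (T : Over S) (z : T ⟶ W₀), (es.homEquiv (z ≫ p)).1 = (e₀.homEquiv z).1 ≫ f := by
    intro T z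
    rw [es.homEquiv_comp, Equiv.apply_symm_apply]
    conv_rhs => rw [← Category.comp_id z, e₀.homEquiv_comp]
    exact (Category.assoc _ _ _).symm
  have hmi : Mono i := Over.mono_of_mono_left i
  have hmi₀ : Mono i₀ := Over.mono_of_mono_left i₀
  have hsq : p ≫ i = i₀ ≫ f := by
    rw [← hes W₀ p, show i₀ = (Magnet.attrToX aU Z.toAddSubmonoid).app (op W₀) (e₀.homEquiv (𝟙 W₀)) from
      ((he₀ W₀ (𝟙 W₀)).trans (Category.id_comp _)).symm]
    have h1 := hp W₀ (𝟙 W₀)
    rw [Category.id_comp] at h1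
    change lift _ _ ≫ _ = (lift _ _ ≫ _) ≫ f
    rw [h1, Category.assoc]
  have hex : ∀ {T : Over S} (w : T ⟶ W) (u : T ⟶ U), w ≫ i = u ≫ f → ∃ z : T ⟶ W₀, z ≫ i₀ = u := by
    intro T w u h
    obtain ⟨v, -, hv⟩ := Limits.Types.exists_of_isPullback (hfpr.map ((evaluation _ _).obj (op T)))
      (e.homEquiv w) u ((he T w).trans h)
    refine ⟨e₀.homEquiv.symm (εU.inv.app (op T) v), ?_⟩
    rw [← he₀, Equiv.apply_symm_apply, ← hU' T]
    refine Eq.trans ?_ hv
    rw [FunctorToTypes.inv_hom_id_app_apply]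
    rfl
  have hpb : IsPullback i₀ p f i := ⟨⟨hsq.symm⟩, ⟨PullbackCone.IsLimit.mk hsq.symm
    (fun s => (hex s.snd s.fst s.condition.symm).choose)
    (fun s => (hex s.snd s.fst s.condition.symm).choose_spec)
    (fun s => by
      rw [← cancel_mono i, Category.assoc, hsq, reassoc_of% (hex s.snd s.fst s.condition.symm).choose_spec,
        s.condition])
    (fun s m h1 h2 => (cancel_mono i₀).1 (h1.trans (hex s.snd s.fst s.condition.symm).choose_spec.symm))⟩⟩
  have hpb' : IsPullback i₀.left p.left f.left i.left := hpb.map (Over.forget S)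
  refine ⟨W, W₀, es, e₀, p, ?_, MorphismProperty.of_isPullback (P := @Etale) hpb' ‹_›,
    MorphismProperty.of_isPullback (P := @Surjective) hpb' ‹_›, hp⟩
  rw [← Over.w i₀]
  infer_instance

open AlgSp (Sp yon RepWith) in
/-- Representability of `X^N` over a representable `X^Q`, from a cartesian atlas. -/
theorem exists_rep_face [IsAffineHom U.hom] {N Q : AddSubmonoid M} {hQ : Magnet.IsFace N Q}
    (hf : Magnet.MonAct.IsEquivariant aU aX f)
    {W W₀ : Over S} (es : (Magnet.attr aX Q).RepresentableBy W) (e₀ : (Magnet.attr aU Q).RepresentableBy W₀)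
    (p : W₀ ⟶ W) [IsAffineHom W₀.hom] [Etale p.left] [Surjective p.left]
    (hp : ∀ (T : Over S) (z : T ⟶ W₀), (es.homEquiv (z ≫ p)).1 = (e₀.homEquiv z).1 ≫ f)
    (hc : ∀ T, FaceCartesian.Cart aX aU f N Q hQ T) :
    ∃ (ZN : Over S) (eN : (Magnet.attr aX N).RepresentableBy ZN) (j : ZN ⟶ W),
      IsAffineHom j.left ∧ ∀ (T : Over S) (z : T ⟶ ZN),
        es.homEquiv (z ≫ j) = (Magnet.attrFace aX hQ).app (op T) (eN.homEquiv z) := by
  obtain ⟨Z₁, i₁, e₁, hi₁, -⟩ := Groth.Agent.S18295.result S M N U aU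
  let g₁ : Z₁ ⟶ W₀ := e₀.homEquiv.symm ((Magnet.attrFace aU hQ).app (op Z₁) (e₁.homEquiv (𝟙 Z₁)))
  have hg₁ : ∀ (T : Over S) (z : T ⟶ Z₁),
      (e₀.homEquiv (z ≫ g₁)).1 = (Magnet.AMonS.faceMap S hQ ▷ T) ≫ (e₁.homEquiv z).1 := by
    intro T z
    rw [e₀.homEquiv_comp, Equiv.apply_symm_apply]
    conv_rhs => rw [← Category.comp_id z, e₁.homEquiv_comp]
    exact whisker_exchange_assoc _ _ _
  have hZ₁ : IsAffineHom Z₁.hom := by rw [← Over.w i₁]; infer_instance
  have hg₁' : IsAffineHom g₁.left := by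
    have : IsAffineHom (g₁.left ≫ W₀.hom) := by rw [Over.w g₁]; exact hZ₁
    exact MorphismProperty.of_postcomp (W := @IsAffineHom) (W' := @IsSeparated) g₁.left W₀.hom
      inferInstance this
  let F : Sp S := ⟨Magnet.attr aX N ⋙ CategoryTheory.uliftFunctor.{u + 1, u},
    GrothendieckTopology.HasSheafCompose.isSheaf _ (isSheaf_eqvHom (AlgSp.J S) _ aX)⟩
  let val : ∀ {T : Over S}, ((yon S).obj T ⟶ F) → (Magnet.attr aX N).obj (op T) :=
    fun {T} a => (AlgSpace.secEquiv T a).down
  have hval : ∀ {T T' : Over S} (g : T' ⟶ T) (a : (yon S).obj T ⟶ F),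
      val ((yon S).map g ≫ a) = (Magnet.attr aX N).map g.op (val a) := fun g a =>
    congrArg ULift.down (AlgSpace.secEquiv_map g a)
  have hvalinj : ∀ {T : Over S}, Function.Injective (val (T := T)) := fun {T} a b h =>
    (AlgSpace.secEquiv T).injective (ULift.down_injective h)
  let toW : ∀ T : Over S, ((yon S).obj T ⟶ F) → ((yon S).obj T ⟶ (yon S).obj W) := fun T a =>
    (yon S).map (es.homEquiv.symm ((Magnet.attrFace aX hQ).app (op T) (val a)))
  let a : F ⟶ (yon S).obj W := AlgSpace.homMkYon toW (by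
    intro T T' g b
    change (yon S).map _ = (yon S).map g ≫ (yon S).map _
    rw [← Functor.map_comp, hval, NatTrans.naturality_apply]
    congr 1
    apply es.homEquiv.injective
    rw [es.homEquiv_comp, Equiv.apply_symm_apply, Equiv.apply_symm_apply])
  let η₁ : (Magnet.attr aX N).obj (op Z₁) := ⟨(e₁.homEquiv (𝟙 Z₁)).1 ≫ f, (e₁.homEquiv (𝟙 Z₁)).2.comp hf⟩
  let fst₁ : (yon S).obj Z₁ ⟶ F := (AlgSpace.secEquiv Z₁).symm (ULift.up η₁)
  have hfst : ∀ {T : Over S} (z : T ⟶ Z₁),
      (val ((yon S).map z ≫ fst₁)).1 = (e₁.homEquiv z).1 ≫ f := by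
    intro T z
    rw [hval, show val fst₁ = η₁ from congrArg ULift.down (Equiv.apply_symm_apply _ _)]
    conv_rhs => rw [← Category.comp_id z, e₁.homEquiv_comp]
    exact (Category.assoc _ _ _).symm
  have hcomm : ∀ {T : Over S} (z : T ⟶ Z₁),
      es.homEquiv (z ≫ g₁ ≫ p) = (Magnet.attrFace aX hQ).app (op T) (val ((yon S).map z ≫ fst₁)) := by
    intro T z
    refine Subtype.ext ?_
    rw [← Category.assoc, hp, hg₁, Category.assoc]
    exact congrArg (_ ≫ ·) (hfst z).symm
  have sq : IsPullback fst₁ ((yon S).map g₁) a ((yon S).map p) := by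
    refine AlgSpace.isPullback_of_yon ?_ ?_ ?_
    · rw [AlgSpace.comp_homMkYon, ← Functor.map_comp]
      change (yon S).map _ = _
      congr 1
      rw [Equiv.symm_apply_eq]
      have h := hcomm (𝟙 Z₁)
      rw [Category.id_comp, CategoryTheory.Functor.map_id, Category.id_comp] at h
      exact h.symm
    · intro T c c' h1 h2
      obtain ⟨z, rfl⟩ := (yon S).map_surjective c
      obtain ⟨z', rfl⟩ := (yon S).map_surjective c'
      rw [← Functor.map_comp, ← Functor.map_comp] at h2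
      have h2' := (yon S).map_injective h2
      have e1 : (e₁.homEquiv z).1 ≫ f = (e₁.homEquiv z').1 ≫ f :=
        (hfst z).symm.trans ((congrArg (fun b => (val b).1) h1).trans (hfst z'))
      have e2 : (Magnet.AMonS.faceMap S hQ ▷ T) ≫ (e₁.homEquiv z).1 =
          (Magnet.AMonS.faceMap S hQ ▷ T) ≫ (e₁.homEquiv z').1 := by
        rw [← hg₁, ← hg₁, h2']
      obtain ⟨l, -, hl⟩ := hc T ⟨(e₁.homEquiv z).1 ≫ f, (e₁.homEquiv z).2.comp hf⟩
        ((Magnet.attrFace aU hQ).app (op T) (e₁.homEquiv z)) (Category.assoc _ _ _)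
      exact congrArg (yon S).map (e₁.homEquiv.injective
        ((hl _ ⟨rfl, rfl⟩).trans (hl _ ⟨e1.symm, e2.symm⟩).symm))
    · intro T b c h
      obtain ⟨w, rfl⟩ := (yon S).map_surjective c
      rw [AlgSpace.comp_homMkYon, ← Functor.map_comp] at h
      have h' := congrArg Subtype.val ((Equiv.symm_apply_eq es.homEquiv).1 ((yon S).map_injective h))
      rw [hp] at h'
      obtain ⟨l, ⟨hl1, hl2⟩, -⟩ := hc T (val b) (e₀.homEquiv w) h'.symm
      refine ⟨(yon S).map (e₁.homEquiv.symm l), hvalinj (Subtype.ext ?_), ?_⟩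
      · rw [hfst, Equiv.apply_symm_apply, hl1]
      · rw [← Functor.map_comp]
        congr 1
        refine e₀.homEquiv.injective (Subtype.ext ?_)
        rw [hg₁, Equiv.apply_symm_apply, hl2]
  haveI := AlgSpace.isLocallySurjective_yon_map p ⟨⟨‹Surjective p.left›, inferInstance⟩, inferInstance⟩
  haveI := AlgSpMor.AffineDescent.isLocalAtTarget_isAffineHom.{u}
  have hrep : RepWith @IsAffineHom a := AlgSpace.repWith_of_effective ((yon S).map p) sq
    AlgSpMor.RepDescent.effective_isAffineHom ((AlgSp.repWith_yon_map_iff _ g₁).2 hg₁')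
  obtain ⟨ZN, j, fst, sqN, hj⟩ := AlgSpace.repWith_exists hrep (𝟙 ((yon S).obj W))
  haveI : IsIso fst := sqN.isIso_fst_of_isIso
  let eN : (Magnet.attr aX N).RepresentableBy ZN :=
    { homEquiv := fun {T} => Equiv.ofBijective (fun z => val ((yon S).map z ≫ fst))
        ⟨fun z z' h => (yon S).map_injective ((cancel_mono fst).1 (hvalinj h)), fun x => by
          obtain ⟨z, hz⟩ := (yon S).map_surjective ((AlgSpace.secEquiv T).symm (ULift.up x) ≫ inv fst)
          refine ⟨z, ?_⟩
          simp only [hz, Category.assoc, IsIso.inv_hom_id, Category.comp_id]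
          exact congrArg ULift.down (Equiv.apply_symm_apply _ _)⟩
      homEquiv_comp := fun g z => by
        simp only [Equiv.ofBijective_apply]
        rw [Functor.map_comp, Category.assoc, hval] }
  refine ⟨ZN, eN, j, hj, fun T z => ?_⟩
  have h : ((yon S).map z ≫ fst) ≫ a = (yon S).map (z ≫ j) := by
    rw [Category.assoc, sqN.w, Category.comp_id, Functor.map_comp]
  rw [AlgSpace.comp_homMkYon] at h
  exact ((Equiv.symm_apply_eq es.homEquiv).1 ((yon S).map_injective h)).symm

end Groth.Agent.Lib.GrpSch.AttrAtlas
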