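import Groth.Agent.Lib.GrpSch.AttrAtlas
import Mathlib.RingTheory.FiniteType

/-!
# Images of attractors and atlases

* membership in the image of an attractor is fppf local;
* images of attractors can be compared on an atlas reflecting fixed points;
* on an affine scheme of finite type over a quasi-compact base finitely many weights occur.
-/

set_option autoImplicit false
universe u

open CategoryTheory Limits MonoidalCategory CartesianMonoidalCategory MonObj AlgebraicGeometry Opposite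
open Groth.Agent.Lib

namespace Groth.Agent.Lib.GrpSch.AttrRange

attribute [local instance] AttrAffine.baseAlg

variable {S : Scheme.{u}} {M : Type} [AddCommGroup M] {X : Over S}

theorem exists_attr_descend [IsSeparated X.hom] (a : Magnet.MonAct (Magnet.AMonS S M) X) (L : AddSubmonoid M)
    {T T' : Over S} (pr : T' ⟶ T) (hpr : AlgSpace.fppfCover pr.left) (x : T ⟶ X)
    (ζ : (Magnet.attr a L).obj (op T')) (hζ : (Magnet.attrToX a L).app (op T') ζ = pr ≫ x) :
    ∃ ξ : (Magnet.attr a L).obj (op T), (Magnet.attrToX a L).app (op T) ξ = x := by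
  have hcov := AlgSpace.singleton_mem_J pr hpr
  have hsh : Presieve.IsSheafFor (Magnet.attr a L) (Presieve.ofArrows (fun _ : PUnit.{1} => T') (fun _ => pr)) :=
    ((isSheaf_iff_isSheaf_of_type _ _).1 (isSheaf_eqvHom (AlgSp.J S) _ a)).isSheafFor _ hcov
  obtain ⟨ξ, hξ, -⟩ := (Presieve.isSheafFor_arrows_iff _ _).1 hsh (fun _ => ζ) (by
    intro i j W gi gj e
    refine attrToX_injective a L W ?_
    rw [NatTrans.naturality_apply, NatTrans.naturality_apply, hζ]
    change gi ≫ pr ≫ x = gj ≫ pr ≫ x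
    rw [reassoc_of% e])
  refine ⟨ξ, hom_ext_of_sieve (AlgSp.J S) _ hcov _ _ fun Z q hq => ?_⟩
  obtain ⟨V, r, g, ⟨⟩, rfl⟩ := hq
  rw [Category.assoc, Category.assoc]
  refine congrArg (r ≫ ·) (Eq.trans ?_ hζ)
  rw [← hξ ⟨⟩, NatTrans.naturality_apply]
  rfl

theorem attrToX_attrMap (a : Magnet.MonAct (Magnet.AMonS S M) X) {N L : AddSubmonoid M} (h : N ≤ L) {T : Over S}
    (φ : (Magnet.attr a N).obj (op T)) :
    (Magnet.attrToX a L).app (op T) ((Magnet.attrMap a h).app (op T) φ) = (Magnet.attrToX a N).app (op T) φ := by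
  change lift (toUnit T ≫ η[Magnet.AMonS S L]) (𝟙 T) ≫ (Magnet.AMonS.map S (AddSubmonoid.inclusion h) ▷ T) ≫ φ.1 =
    lift (toUnit T ≫ η[Magnet.AMonS S N]) (𝟙 T) ≫ φ.1
  rw [lift_whiskerRight_assoc, Category.assoc, IsMonHom.one_hom]

variable {U : Over S} {a : Magnet.MonAct (Magnet.AMonS S M) X} {aU : Magnet.MonAct (Magnet.AMonS S M) U}
  {g : U ⟶ X}

theorem attrToX_postcomp (hg : Magnet.MonAct.IsEquivariant aU a g) {N : AddSubmonoid M} {T : Over S}
    (l : (Magnet.attr aU N).obj (op T)) :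
    (Magnet.attrToX a N).app (op T) ⟨l.1 ≫ g, l.2.comp hg⟩ = (Magnet.attrToX aU N).app (op T) l ≫ g := by
  change lift _ _ ≫ l.1 ≫ g = (lift _ _ ≫ l.1) ≫ g
  rw [Category.assoc]

/-- Images of attractors can be compared on an atlas. -/
theorem range_subset_of_atlas [AddGroup.FG M] [IsSeparated X.hom] [LocallyOfFinitePresentation X.hom]
    [IsAffineHom U.hom] [Etale g.left] [Surjective g.left] (hg : Magnet.MonAct.IsEquivariant aU a g)
    (N L : AddSubmonoid M) (Z : AddSubgroup M) (hQ : Magnet.IsFace N Z.toAddSubmonoid)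
    (hgZ : Magnet.MonAct.IsEquivariant
      (aU.restrict (Magnet.AMonS.map S (QuotientAddGroup.mk' Z)))
      (a.restrict (Magnet.AMonS.map S (QuotientAddGroup.mk' Z))) g)
    (hfpr : IsPullback (Magnet.MonAct.fixedPsh.map g hgZ)
      (Magnet.MonAct.fixedPshι (aU.restrict (Magnet.AMonS.map S (QuotientAddGroup.mk' Z))))
      (Magnet.MonAct.fixedPshι (a.restrict (Magnet.AMonS.map S (QuotientAddGroup.mk' Z))))
      (yoneda.map g))
    (hU : ∀ T : Over S, Set.range ((Magnet.attrToX aU N).app (op T)) ⊆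
      Set.range ((Magnet.attrToX aU L).app (op T))) (T : Over S) :
    Set.range ((Magnet.attrToX a N).app (op T)) ⊆ Set.range ((Magnet.attrToX a L).app (op T)) := by
  obtain ⟨εU, hεU⟩ := Groth.Agent.S18289.result S M Z U aU.toAction
  obtain ⟨εX, hεX⟩ := Groth.Agent.S18289.result S M Z X a.toAction
  rintro _ ⟨ξ, rfl⟩
  let ξ₀ := (Magnet.attrFace a hQ).app (op T) ξ
  let x₀ : T ⟶ X := (Magnet.attrToX a Z.toAddSubmonoid).app (op T) ξ₀
  let T' : Over S := Over.mk (pullback.fst x₀.left g.left ≫ T.hom)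
  let pr : T' ⟶ T := Over.homMk (pullback.fst x₀.left g.left)
  let u : T' ⟶ U := Over.homMk (pullback.snd x₀.left g.left) (by
    change pullback.snd x₀.left g.left ≫ U.hom = pullback.fst x₀.left g.left ≫ T.hom
    rw [← Over.w g, ← Over.w x₀, pullback.condition_assoc])
  have hu : u ≫ g = pr ≫ x₀ := Over.OverMorphism.ext pullback.condition.symm
  let ξ' := (Magnet.attr a N).map pr.op ξ
  let ξ₀' := (Magnet.attrFace a hQ).app (op T') ξ'
  have hξ₀' : (Magnet.attrToX a Z.toAddSubmonoid).app (op T') ξ₀' = pr ≫ x₀ := by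
    simp only [ξ₀', ξ', NatTrans.naturality_apply]
    rfl
  have hx' : (Magnet.attrToX a N).app (op T') ξ' = pr ≫ (Magnet.attrToX a N).app (op T) ξ := by
    simp only [ξ', NatTrans.naturality_apply]
    rfl
  obtain ⟨v, -, hv⟩ := Limits.Types.exists_of_isPullback (hfpr.map ((evaluation _ _).obj (op T')))
    (εX.hom.app (op T') ξ₀') u
    (((congr($(hεX).app (op T') ξ₀')) : _ = (Magnet.attrToX a Z.toAddSubmonoid).app (op T') ξ₀').trans
      (hξ₀'.trans hu.symm))
  let υ : (Magnet.attr aU Z.toAddSubmonoid).obj (op T') := εU.inv.app (op T') v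
  have hυ : (Magnet.attrToX aU Z.toAddSubmonoid).app (op T') υ = u := by
    refine (congr($(hεU).app (op T') υ)).symm.trans (Eq.trans ?_ hv)
    change (Magnet.MonAct.fixedPshι _).app (op T') (εU.hom.app (op T') (εU.inv.app (op T') v)) = _
    rw [FunctorToTypes.inv_hom_id_app_apply]
    rfl
  have hc : υ.1 ≫ g = (Magnet.AMonS.faceMap S hQ ▷ T') ≫ ξ'.1 := by
    refine congrArg Subtype.val (attrToX_injective a Z.toAddSubmonoid T'
      (a₁ := ⟨υ.1 ≫ g, υ.2.comp hg⟩) (a₂ := ξ₀') ?_)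
    rw [attrToX_postcomp hg υ, hυ, hu, hξ₀']
  obtain ⟨l, ⟨hl, -⟩, -⟩ := FaceCartesian.cart_of_lfp (hQ := hQ) hg T' ξ' υ hc
  obtain ⟨l', hl'⟩ := hU T' ⟨l, rfl⟩
  obtain ⟨ξL, hξL⟩ := exists_attr_descend a L pr
    (AlgSpace.fppfCover_mk (pullback.fst x₀.left g.left)) ((Magnet.attrToX a N).app (op T) ξ)
    ⟨l'.1 ≫ g, l'.2.comp hg⟩ (by
      rw [attrToX_postcomp hg l', hl', ← attrToX_postcomp hg l,
        show (⟨l.1 ≫ g, l.2.comp hg⟩ : (Magnet.attr a N).obj (op T')) = ξ' from Subtype.ext hl, hx'])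
  exact ⟨ξL, hξL⟩

open AttrAffine in
/-- Finitely many weights occur on an affine scheme of finite type over a quasi-compact base. -/
theorem exists_finset_weights [CompactSpace S] [IsAffineHom U.hom] [LocallyOfFiniteType U.hom]
    (aU : Magnet.MonAct (Magnet.AMonS S M) U) :
    ∃ E : Finset M, ∀ (N L : AddSubmonoid M), (↑E ∩ (N : Set M) ⊆ L) → ∀ {T : Over S} (x : T ⟶ U),
      OrbitFactors aU N x → OrbitFactors aU L x := by
  classical
  let 𝒱 := S.affineCover.finiteSubcover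
  let V : 𝒱.I₀ → S.Opens := fun i => (𝒱.f i).opensRange
  have hV : ∀ i, IsAffineOpen (V i) := fun i =>
    haveI : IsAffine (𝒱.X i) := S.isAffine_affineCover _
    isAffineOpen_opensRange _
  have hcov : ∀ s : S, ∃ i, s ∈ V i := fun s =>
    ⟨_, 𝒱.exists_eq s |>.choose_spec.choose, 𝒱.exists_eq s |>.choose_spec.choose_spec⟩
  let ρ := fun i => (exists_coaction aU (hV i)).choose
  have hρ := fun i => (exists_coaction aU (hV i)).choose_spec
  let φ := fun i => U.hom.appLE (V i) (U.hom ⁻¹ᵁ V i) le_rfl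
  have hbase : ∀ (i : 𝒱.I₀) (r), (ρ i).hom ((φ i).hom r) = (bcInl R0.{u} M _).hom ((φ i).hom r) := by
    intro i
    have h := chartOrbit_comp_hom aU ((hV i).preimage U.hom)
    rw [← hρ i, Category.assoc, ← (hV i).SpecMap_appLE_fromSpec U.hom ((hV i).preimage U.hom) le_rfl,
      ← Spec.map_comp_assoc, ← Spec.map_comp_assoc, cancel_mono] at h
    exact fun r => RingHom.congr_fun (congrArg CommRingCat.Hom.hom (Spec.map_injective h)) r
  have hgen : ∀ i, ∃ s : Finset Γ(U.left, U.hom ⁻¹ᵁ V i),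
      Subring.closure (Set.range (φ i).hom ∪ ↑s) = ⊤ := by
    intro i
    letI := (φ i).hom.toAlgebra
    obtain ⟨s, hs⟩ := (U.hom.finiteType_appLE (hV i) ((hV i).preimage U.hom) le_rfl :
      Algebra.FiniteType Γ(S, V i) Γ(U.left, U.hom ⁻¹ᵁ V i)).out
    refine ⟨s, ?_⟩
    have h := congrArg Subalgebra.toSubring hs
    rw [Algebra.adjoin_eq_ring_closure, Algebra.top_toSubring] at h
    exact h
  choose s hs using hgen
  let E : Finset M := Finset.univ.biUnion fun i => (s i).biUnion fun c =>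
    ((Algebra.TensorProduct.basis (Γ(U.left, U.hom ⁻¹ᵁ V i) : Type u)
      (MonoidAlgebra.basis (Multiplicative M) R0.{u})).repr ((ρ i).hom c)).support.image Multiplicative.toAdd
  refine ⟨E, fun N L hEL T x hx => orbitFactors_of_charts aU L aU N V hV hcov (fun i B τ h => ?_) x hx⟩
  rw [← chart_iff aU L (hV i) (ρ i) (hρ i) B τ]
  rw [← chart_iff aU N (hV i) (ρ i) (hρ i) B τ] at h
  let C := Γ(U.left, U.hom ⁻¹ᵁ V i)
  let τ' : (C : Type u) →ₐ[R0.{u}] B := toAlgHom' τ
  let σ : (C : Type u) →+* (bcRing R0.{u} M B : Type u) := (ρ i ≫ bcNat R0.{u} τ').hom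
  let P : Subring C := (bcMap R0.{u} B L.subtype).hom.range.comap σ
  have hP : P = ⊤ := by
    rw [eq_top_iff, ← hs i, Subring.closure_le]
    rintro c (⟨r, rfl⟩ | hc)
    · change σ _ ∈ (bcMap R0.{u} B L.subtype).hom.range
      refine ⟨(bcInl R0.{u} ↥L B).hom (τ' ((φ i).hom r)), ?_⟩
      change (bcMap R0.{u} B L.subtype).hom _ = (bcNat R0.{u} τ').hom ((ρ i).hom _)
      rw [hbase]
      exact (RingHom.congr_fun (congrArg CommRingCat.Hom.hom (bcInl_bcMap R0.{u} B L.subtype)) _).trans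
        (RingHom.congr_fun (congrArg CommRingCat.Hom.hom (bcInl_bcNat R0.{u} τ')) _).symm
    · change (bcNat R0.{u} τ').hom ((ρ i).hom c) ∈ Set.range (bcMap R0.{u} B L.subtype).hom
      rw [mem_range_bcMap_iff]
      intro m hm
      rw [coord_bcNat]
      by_cases hmN : m ∈ Set.range (AddMonoidHom.toMultiplicative N.subtype)
      · suffices h0 : coord R0.{u} C ((ρ i).hom c) m = 0 by rw [h0, map_zero]
        by_contra hne
        refine hm ⟨Multiplicative.ofAdd ⟨m.toAdd, hEL ⟨?_, ?_⟩⟩, rfl⟩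
        · exact Finset.mem_biUnion.2 ⟨i, Finset.mem_univ _, Finset.mem_biUnion.2 ⟨c, hc,
            Finset.mem_image.2 ⟨m, Finsupp.mem_support_iff.2 hne, rfl⟩⟩⟩
        · obtain ⟨n, rfl⟩ := hmN
          exact n.toAdd.2
      · exact h (Ideal.subset_span ⟨c, m, hmN, rfl⟩)
  rw [chartIdeal, Ideal.span_le]
  rintro _ ⟨b, m, hm, rfl⟩
  have hb : b ∈ P := hP ▸ Subring.mem_top b
  have h2 := (mem_range_bcMap_iff R0.{u} B L.subtype ((bcNat R0.{u} τ').hom ((ρ i).hom b))).1 hb m hm
  rwa [coord_bcNat] at h2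

end Groth.Agent.Lib.GrpSch.AttrRange
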