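import Mathlib.LinearAlgebra.SymmetricAlgebra.Basic
import Mathlib.RingTheory.Smooth.Basic
import Mathlib.RingTheory.Finiteness.Ideal
import Mathlib.RingTheory.Ideal.Cotangent
import Mathlib.Algebra.Module.Projective
import Mathlib.Algebra.TrivSqZeroExt.Basic
import Mathlib.Algebra.Polynomial.Eval.Coeff
import Mathlib.RingTheory.Nilpotent.Lemmas

/-!
# Smooth algebras with a contracting grading are symmetric algebras

Let `C` be a smooth `B`-algebra with an action of the multiplicative monoid line, given by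
`θ : C →ₐ[B] C[X]`, whose limit at `0` is a retraction `ε : C →ₐ[B] B`. Then `C` is the symmetric
algebra of the finite projective `B`-module `ker ε / (ker ε)²`.
-/

set_option autoImplicit false
universe u

open Polynomial

namespace Groth.Agent.Lib.GrpSch.GradedSym

section Sym

variable (B : Type u) [CommRing B] (P : Type u) [AddCommGroup P] [Module B P]

/-- The ideal generated by `P` in its symmetric algebra. -/
noncomputable def plus : Ideal (SymmetricAlgebra B P) := Ideal.span (Set.range (SymmetricAlgebra.ι B P))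

theorem ι_mem_plus (p : P) : SymmetricAlgebra.ι B P p ∈ plus B P := Ideal.subset_span ⟨p, rfl⟩

theorem eq_zero_of_forall_mem {z : SymmetricAlgebra B P} (h : ∀ n, z ∈ plus B P ^ n) : z = 0 := by
  let G : SymmetricAlgebra B P →ₐ[B] (SymmetricAlgebra B P)[X] := SymmetricAlgebra.lift
    { toFun := fun p => C (SymmetricAlgebra.ι B P p) * X
      map_add' := fun p q => by rw [map_add, map_add, add_mul]
      map_smul' := fun b p => by
        rw [map_smul, RingHom.id_apply, Algebra.smul_def, map_mul, Algebra.smul_def, mul_assoc]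
        rfl }
  have h1 : ∀ a, (G a).eval 1 = a := by
    intro a
    induction a using SymmetricAlgebra.induction with
    | algebraMap r =>
      rw [AlgHom.commutes]
      exact eval_C
    | ι x => simp [G]
    | mul a b ha hb => rw [map_mul, eval_mul, ha, hb]
    | add a b ha hb => rw [map_add, eval_add, ha, hb]
  have hX : (plus B P).map G.toRingHom ≤ Ideal.span {X} := by
    rw [plus, Ideal.map_span, Ideal.span_le]
    rintro _ ⟨_, ⟨p, rfl⟩, rfl⟩
    exact Ideal.mem_span_singleton.2 ⟨C (SymmetricAlgebra.ι B P p),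
      (SymmetricAlgebra.lift_ι_apply _ p).trans (mul_comm _ _)⟩
  have h0 : G z = 0 := by
    ext n
    have h2 : G z ∈ Ideal.span {(X : (SymmetricAlgebra B P)[X])} ^ (n + 1) := by
      refine Ideal.pow_right_mono hX _ ?_
      rw [← Ideal.map_pow]
      exact Ideal.mem_map_of_mem _ (h (n + 1))
    rw [Ideal.span_singleton_pow, Ideal.mem_span_singleton, X_pow_dvd_iff] at h2
    rw [h2 n (Nat.lt_succ_self n), coeff_zero]
  rw [← h1 z, h0, eval_zero]

variable {B P} {Q : Type u} [CommRing Q] [Algebra B Q]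

theorem sub_mem_of_congr (J : Ideal Q) (F G : SymmetricAlgebra B P →ₐ[B] Q)
    (h : ∀ p, F (SymmetricAlgebra.ι B P p) - G (SymmetricAlgebra.ι B P p) ∈ J) (a : SymmetricAlgebra B P) :
    F a - G a ∈ J := by
  induction a using SymmetricAlgebra.induction with
  | algebraMap r => simp
  | ι x => exact h x
  | mul a b ha hb =>
    rw [map_mul, map_mul, show F a * F b - G a * G b = (F a - G a) * F b + G a * (F b - G b) by ring]
    exact J.add_mem (J.mul_mem_right _ ha) (J.mul_mem_left _ hb)
  | add a b ha hb =>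
    rw [map_add, map_add, add_sub_add_comm]
    exact J.add_mem ha hb

theorem sub_mem_pow_succ (J : Ideal Q) (F G : SymmetricAlgebra B P →ₐ[B] Q)
    (hG : ∀ p, G (SymmetricAlgebra.ι B P p) ∈ J)
    (h : ∀ p, F (SymmetricAlgebra.ι B P p) - G (SymmetricAlgebra.ι B P p) ∈ J ^ 2) :
    ∀ (j : ℕ) (z : SymmetricAlgebra B P), z ∈ plus B P ^ j → G z ∈ J ^ j ∧ F z - G z ∈ J ^ (j + 1) := by
  have h2J : J ^ 2 ≤ J := Ideal.pow_le_self two_ne_zero
  intro j
  induction j with
  | zero =>
    intro z _
    rw [pow_zero, Ideal.one_eq_top, zero_add, pow_one]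
    exact ⟨trivial, sub_mem_of_congr J F G (fun p => h2J (h p)) z⟩
  | succ j ih =>
    intro z hz
    rw [pow_succ] at hz
    refine Submodule.mul_induction_on (C := fun z => G z ∈ J ^ (j + 1) ∧ F z - G z ∈ J ^ (j + 1 + 1)) hz
      (fun a ha b hb => ?_) (fun x y hx hy => ?_)
    ·
      obtain ⟨ha1, ha2⟩ := ih a ha
      have hb' : G b ∈ J ∧ F b - G b ∈ J ^ 2 := by
        induction hb using Submodule.span_induction with
        | mem y hy => obtain ⟨p, rfl⟩ := hy; exact ⟨hG p, h p⟩
        | zero => simp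
        | add x y _ _ hx hy =>
          rw [map_add, map_add, add_sub_add_comm]
          exact ⟨J.add_mem hx.1 hy.1, (J ^ 2).add_mem hx.2 hy.2⟩
        | smul r x _ hx =>
          rw [smul_eq_mul, map_mul, map_mul]
          refine ⟨J.mul_mem_left _ hx.1, ?_⟩
          rw [show F r * F x - G r * G x = F r * (F x - G x) + (F r - G r) * G x by ring]
          refine (J ^ 2).add_mem ((J ^ 2).mul_mem_left _ hx.2) ?_
          rw [pow_two]
          exact Ideal.mul_mem_mul (sub_mem_of_congr J F G (fun p => h2J (h p)) r) hx.1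
      rw [map_mul, map_mul, pow_succ]
      refine ⟨Ideal.mul_mem_mul ha1 hb'.1, ?_⟩
      rw [show F a * F b - G a * G b = (F a - G a) * G b + F a * (F b - G b) by ring]
      refine (J ^ (j + 1 + 1)).add_mem ?_ ?_
      · rw [pow_succ]; exact Ideal.mul_mem_mul ha2 hb'.1
      · rw [show j + 1 + 1 = j + 2 from rfl, pow_add]
        refine Ideal.mul_mem_mul ?_ hb'.2
        rw [show F a = (F a - G a) + G a by ring]
        exact (J ^ j).add_mem (Ideal.pow_le_pow_right (Nat.le_succ j) ha2) ha1
    ·
      rw [map_add, map_add, add_sub_add_comm]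
      exact ⟨Ideal.add_mem _ hx.1 hy.1, Ideal.add_mem _ hx.2 hy.2⟩

end Sym

section Main

variable {B C : Type u} [CommRing B] [CommRing C] [Algebra B C]

/-- Derivations along `ε` lift along surjections. -/
theorem exists_lift_deriv [Algebra.FormallySmooth B C] (ε : C →ₐ[B] B) {M N : Type u} [AddCommGroup M]
    [Module B M] [AddCommGroup N] [Module B N] (g : M →ₗ[B] N) (hg : Function.Surjective g) (f : C →ₗ[B] N)
    (hf : ∀ c d, f (c * d) = ε c • f d + ε d • f c) :
    ∃ L : C →ₗ[B] M, (∀ c d, L (c * d) = ε c • L d + ε d • L c) ∧ g.comp L = f := by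
  letI : Module Bᵐᵒᵖ M := Module.compHom M ((RingHom.id B).fromOpposite mul_comm)
  letI : Module Bᵐᵒᵖ N := Module.compHom N ((RingHom.id B).fromOpposite mul_comm)
  haveI : IsCentralScalar B M := ⟨fun _ _ => rfl⟩
  haveI : IsCentralScalar B N := ⟨fun _ _ => rfl⟩
  let π : TrivSqZeroExt B M →ₐ[B] TrivSqZeroExt B N := TrivSqZeroExt.map g
  have hf1 : f 1 = 0 := by
    have h := hf 1 1
    rw [show (1 : C) * 1 = 1 from mul_one 1, show ε 1 = 1 from map_one ε, one_smul] at h
    simpa using h
  have hf0 : ∀ b, f (algebraMap B C b) = 0 := fun b => by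
    rw [Algebra.algebraMap_eq_smul_one, map_smul, hf1, smul_zero]
  let h : C →ₐ[B] TrivSqZeroExt B N :=
    { toFun := fun c => TrivSqZeroExt.inl (ε c) + TrivSqZeroExt.inr (f c)
      map_one' := by simp [hf1]
      map_mul' := fun c d => by
        refine TrivSqZeroExt.ext ?_ ?_ <;> simp [hf, op_smul_eq_smul, add_comm]
      map_zero' := by simp
      map_add' := fun c d => by
        refine TrivSqZeroExt.ext ?_ ?_ <;> simp
      commutes' := fun b => by
        refine TrivSqZeroExt.ext ?_ ?_ <;> simp [hf0, TrivSqZeroExt.algebraMap_eq_inl] }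
  have hπs : Function.Surjective π := fun z => by
    obtain ⟨m, hm⟩ := hg z.snd
    exact ⟨TrivSqZeroExt.inl z.fst + TrivSqZeroExt.inr m,
      TrivSqZeroExt.ext (by simp [π]) (by simp [π, hm])⟩
  have hπn : IsNilpotent (RingHom.ker (π : TrivSqZeroExt B M →+* TrivSqZeroExt B N)) := by
    refine ⟨2, ?_⟩
    rw [pow_two, Ideal.zero_eq_bot, eq_bot_iff, Ideal.mul_le]
    intro x hx y hy
    have hx0 : x.fst = 0 := by simpa [π] using congrArg TrivSqZeroExt.fst (RingHom.mem_ker.1 hx)
    have hy0 : y.fst = 0 := by simpa [π] using congrArg TrivSqZeroExt.fst (RingHom.mem_ker.1 hy)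
    rw [Ideal.mem_bot]
    refine TrivSqZeroExt.ext ?_ ?_ <;> simp [hx0, hy0]
  obtain ⟨l, hl⟩ : ∃ l : C →ₐ[B] TrivSqZeroExt B M, ∀ c, π (l c) = h c :=
    ⟨_, Algebra.FormallySmooth.liftOfSurjective_apply h π hπs hπn⟩
  have hfst : ∀ c, (l c).fst = ε c := fun c => by
    simpa [π, h] using congrArg TrivSqZeroExt.fst (hl c)
  refine ⟨{ toFun := fun c => (l c).snd
            map_add' := fun a b => by simp
            map_smul' := fun b a => by simp [map_smul] }, fun c d => ?_, LinearMap.ext fun c => ?_⟩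
  · simp [hfst, op_smul_eq_smul]
  · simpa [π, h] using congrArg TrivSqZeroExt.snd (hl c)

/-- An algebra map into a square-zero situation from a derivation along `ε`. -/
theorem exists_algHom_sq (ε : C →ₐ[B] B) {R : Type u} [CommRing R] [Algebra B R] (v : C →ₗ[B] R)
    (hv : ∀ c d, v c * v d = 0) (hd : ∀ c d, v (c * d) = ε c • v d + ε d • v c) :
    ∃ α : C →ₐ[B] R, ∀ c, α c = algebraMap B R (ε c) + v c := by
  have hv1 : v 1 = 0 := by
    have h := hd 1 1
    rw [show (1 : C) * 1 = 1 from mul_one 1, show ε 1 = 1 from map_one ε, one_smul] at h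
    simpa using h
  refine ⟨{ toFun := fun c => algebraMap B R (ε c) + v c
            map_one' := by simp [hv1]
            map_mul' := fun c d => by
              rw [hd, map_mul, map_mul, Algebra.smul_def, Algebra.smul_def]
              linear_combination -(hv c d)
            map_zero' := by simp
            map_add' := fun c d => by simp only [map_add]; ring
            commutes' := fun b => by
              simp [Algebra.algebraMap_eq_smul_one, hv1] }, fun c => rfl⟩

theorem eq_zero_step [Algebra.FormallySmooth B C] {P : Type u} [AddCommGroup P] [Module B P]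
    (ε : C →ₐ[B] B) (q : C →ₗ[B] P) (hqmul : ∀ c d, q (c * d) = ε c • q d + ε d • q c)
    (φ : SymmetricAlgebra B P →ₐ[B] C)
    (hε : ∀ p, ε (φ (SymmetricAlgebra.ι B P p)) = 0) (hq : ∀ p, q (φ (SymmetricAlgebra.ι B P p)) = p)
    {Q : Type u} [CommRing Q] [Algebra B Q] (J : Ideal Q) (mk : SymmetricAlgebra B P →ₐ[B] Q) (j : ℕ)
    (hJ : ∀ p, mk (SymmetricAlgebra.ι B P p) ∈ J) (hJn : J ^ (j + 1) = ⊥)
    (z : SymmetricAlgebra B P) (hz : φ z = 0) (hzj : z ∈ plus B P ^ j) : mk z = 0 := by
  have hJn2 : IsNilpotent (J ^ 2) := ⟨j + 1, by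
    rw [← pow_mul, Ideal.zero_eq_bot, eq_bot_iff]
    exact (Ideal.pow_le_pow_right (show j + 1 ≤ 2 * (j + 1) by omega)).trans hJn.le⟩
  let v : C →ₗ[B] Q ⧸ J ^ 2 :=
    { toFun := fun c => Ideal.Quotient.mk (J ^ 2) (mk (SymmetricAlgebra.ι B P (q c)))
      map_add' := fun c d => by simp only [map_add]
      map_smul' := fun b c => by
        simp only [map_smul, RingHom.id_apply]
        exact map_smul (Ideal.Quotient.mkₐ B (J ^ 2)) b _ }
  have hv : ∀ c d, v c * v d = 0 := fun c d => by
    change Ideal.Quotient.mk (J ^ 2) _ * Ideal.Quotient.mk (J ^ 2) _ = 0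
    rw [← map_mul, Ideal.Quotient.eq_zero_iff_mem, pow_two]
    exact Ideal.mul_mem_mul (hJ _) (hJ _)
  have hd : ∀ c d, v (c * d) = ε c • v d + ε d • v c := fun c d => by
    change Ideal.Quotient.mkₐ B (J ^ 2) (mk (SymmetricAlgebra.ι B P (q (c * d)))) =
      ε c • Ideal.Quotient.mkₐ B (J ^ 2) (mk (SymmetricAlgebra.ι B P (q d))) +
        ε d • Ideal.Quotient.mkₐ B (J ^ 2) (mk (SymmetricAlgebra.ι B P (q c)))
    simp only [hqmul, map_add, map_smul]
  obtain ⟨α, hα⟩ := exists_algHom_sq ε v hv hd
  obtain ⟨ψ, hψ⟩ := Algebra.FormallySmooth.exists_lift (J ^ 2) hJn2 α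
  have hcong : ∀ p, ψ (φ (SymmetricAlgebra.ι B P p)) - mk (SymmetricAlgebra.ι B P p) ∈ J ^ 2 := by
    intro p
    rw [← Ideal.Quotient.eq]
    refine (AlgHom.congr_fun hψ (φ (SymmetricAlgebra.ι B P p))).trans ?_
    rw [hα, hε, map_zero, zero_add]
    change Ideal.Quotient.mk (J ^ 2) (mk (SymmetricAlgebra.ι B P (q _))) = _
    rw [hq]
  obtain ⟨-, h5⟩ := sub_mem_pow_succ J (ψ.comp φ) mk hJ hcong j z hzj
  rwa [AlgHom.comp_apply, hz, map_zero, zero_sub, neg_mem_iff, hJn, Ideal.mem_bot] at h5

/-- Injectivity from a map inverse to first order. -/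
theorem injective_of_first_order [Algebra.FormallySmooth B C] {P : Type u} [AddCommGroup P] [Module B P]
    (ε : C →ₐ[B] B) (q : C →ₗ[B] P) (hqmul : ∀ c d, q (c * d) = ε c • q d + ε d • q c)
    (φ : SymmetricAlgebra B P →ₐ[B] C)
    (hε : ∀ p, ε (φ (SymmetricAlgebra.ι B P p)) = 0) (hq : ∀ p, q (φ (SymmetricAlgebra.ι B P p)) = p) :
    Function.Injective φ := by
  rw [injective_iff_map_eq_zero]
  intro z hz
  refine eq_zero_of_forall_mem B P fun j => ?_
  induction j with
  | zero => simp
  | succ j ih =>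
    exact Ideal.Quotient.eq_zero_iff_mem.1 (eq_zero_step ε q hqmul φ hε hq
      ((plus B P).map (Ideal.Quotient.mk (plus B P ^ (j + 1)))) (Ideal.Quotient.mkₐ B _) j
      (fun p => Ideal.mem_map_of_mem _ (ι_mem_plus B P p))
      (by rw [← Ideal.map_pow]; exact Ideal.map_quotient_self _) z hz ih)

/-- A smooth algebra with a contracting action of the line is a symmetric algebra. -/
theorem exists_symmetricAlgebra [Algebra.FormallySmooth B C] [Algebra.FinitePresentation B C]
    (ε : C →ₐ[B] B) (θ : C →ₐ[B] C[X]) (h1 : ∀ c, (θ c).eval 1 = c)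
    (h0 : ∀ c, (θ c).eval 0 = algebraMap B C (ε c))
    (hθ : ∀ c n, θ ((θ c).coeff n) = Polynomial.C ((θ c).coeff n) * X ^ n) :
    ∃ (P : Type u) (_ : AddCommGroup P) (_ : Module B P), Module.Finite B P ∧ Module.Projective B P ∧
      Nonempty (SymmetricAlgebra B P ≃ₐ[B] C) := by
  classical
  let I : Ideal C := RingHom.ker ε.toRingHom
  have hI : ∀ {c : C}, c ∈ I ↔ ε c = 0 := RingHom.mem_ker
  have hεs : Function.Surjective ε := fun b => ⟨algebraMap B C b, ε.commutes b⟩
  let I₂ : Submodule B C := (I ^ 2).restrictScalars B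
  let I₁ : Submodule B C := I.restrictScalars B
  let P := ↥I₁ ⧸ I₂.comap I₁.subtype
  let cl : ↥I₁ →ₗ[B] P := Submodule.mkQ _
  have hcl : ∀ {a b : ↥I₁}, cl a = cl b ↔ (a : C) - (b : C) ∈ I ^ 2 := fun {a b} =>
    (Submodule.Quotient.eq _).trans Iff.rfl
  have hcl0 : ∀ {a : ↥I₁}, cl a = 0 ↔ (a : C) ∈ I ^ 2 := fun {a} =>
    (Submodule.Quotient.mk_eq_zero _).trans Iff.rfl
  let aug : C →ₗ[B] C := LinearMap.id - (Algebra.linearMap B C).comp ε.toLinearMap
  have haug : ∀ c, aug c ∈ I₁ := fun c => hI.2 (by simp [aug])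
  have haug' : ∀ {c}, c ∈ I → aug c = c := fun {c} hc => by simp [aug, hI.1 hc]
  -- the class of `c - ε c`
  let q : C →ₗ[B] P := cl.comp (aug.codRestrict I₁ haug)
  have hq : ∀ a : ↥I₁, q a = cl a := fun a => congrArg cl (Subtype.ext (haug' a.2))
  -- finiteness
  have hker : I.FG := Algebra.FinitePresentation.ker_fG_of_surjective ε hεs
  obtain ⟨gs, hgs⟩ := hker
  have hgsI : ∀ g ∈ gs, g ∈ I := fun g hg => hgs ▸ Ideal.subset_span hg
  have hfin : Module.Finite B P := by
    refine ⟨⟨gs.image q, ?_⟩⟩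
    rw [eq_top_iff]
    rintro p -
    obtain ⟨a, rfl⟩ := Submodule.mkQ_surjective _ p
    have key : ∀ c ∈ I, q c ∈ Submodule.span B (↑(gs.image q) : Set P) := by
      intro c hc
      rw [← hgs] at hc
      induction hc using Submodule.span_induction with
      | mem y hy => exact Submodule.subset_span (Finset.mem_image_of_mem q hy)
      | zero => rw [map_zero]; exact zero_mem _
      | add x y _ _ hx hy => rw [map_add]; exact add_mem hx hy
      | smul r x hx' hx =>
        have hxI : x ∈ I := hgs ▸ hx'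
        have e : q (r • x) = ε r • q x := by
          have h3 : ε r • q x = q (ε r • x) := (map_smul q _ _).symm
          rw [h3]
          refine hcl.2 ?_
          show aug (r • x) - aug (ε r • x) ∈ I ^ 2
          rw [smul_eq_mul, haug' (I.mul_mem_left r hxI), haug' (Submodule.smul_of_tower_mem I _ hxI),
            Algebra.smul_def, ← sub_mul, pow_two]
          exact Ideal.mul_mem_mul (hI.2 (by simp)) hxI
        rw [e]
        exact Submodule.smul_mem _ _ hx
    exact hq a ▸ key a a.2
  -- projectivity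
  have hqmul : ∀ c d, q (c * d) = ε c • q d + ε d • q c := by
    intro c d
    rw [← map_smul, ← map_smul, ← map_add]
    refine hcl.2 ?_
    show aug (c * d) - aug (ε c • d + ε d • c) ∈ I ^ 2
    have e : aug (c * d) - aug (ε c • d + ε d • c) = aug c * aug d := by
      simp [aug, Algebra.smul_def]
      ring
    rw [e, pow_two]
    exact Ideal.mul_mem_mul (haug c) (haug d)
  have hproj : Module.Projective B P := by
    refine Module.Projective.of_lifting_property (R := B) fun {M N} _ _ _ _ g f hg => ?_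
    obtain ⟨L, hLd, hL⟩ := exists_lift_deriv ε g hg (f.comp q) (fun c d => by
      simp [hqmul])
    have hLI : I₂.comap I₁.subtype ≤ LinearMap.ker (L.comp I₁.subtype) := by
      intro a ha
      change (a : C) ∈ I ^ 2 at ha
      change L a = 0
      rw [pow_two] at ha
      refine Submodule.mul_induction_on (C := fun z => L z = 0) ha (fun x hx y hy => ?_) (fun x y hx hy => ?_)
      · rw [hLd, hI.1 hx, hI.1 hy, zero_smul, zero_smul, add_zero]
      · rw [map_add, hx, hy, add_zero]
    refine ⟨Submodule.liftQ _ _ hLI, LinearMap.ext fun p => ?_⟩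
    obtain ⟨a, rfl⟩ := Submodule.mkQ_surjective _ p
    exact (LinearMap.congr_fun hL a).trans (congrArg f (hq a))
  -- the grading
  let pr : ℕ → (C →ₗ[B] C) := fun n => ((Polynomial.lcoeff C n).restrictScalars B).comp θ.toLinearMap
  have hpr : ∀ n c, pr n c = (θ c).coeff n := fun n c => rfl
  have hpr0 : ∀ c, pr 0 c = algebraMap B C (ε c) := fun c => by rw [hpr, coeff_zero_eq_eval_zero, h0]
  have hprpr : ∀ n m c, pr n (pr m c) = if n = m then pr m c else 0 := fun n m c => by
    rw [hpr n, hpr m, hθ, coeff_C_mul_X_pow]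
  have hprI : ∀ n c, c ∈ I → pr n c ∈ I := by
    intro n c hc
    rcases eq_or_ne n 0 with rfl | hn
    · rw [hpr0, hI.1 hc, map_zero]; exact zero_mem _
    · refine hI.2 ?_
      have h2 : algebraMap B C (ε (pr n c)) = 0 := by rw [← hpr0, hprpr, if_neg (Ne.symm hn)]
      have := congrArg ε h2
      rwa [ε.commutes, map_zero] at this
  have hmul : ∀ n a b, pr n (a * b) = ∑ x ∈ Finset.antidiagonal n, pr x.1 a * pr x.2 b := fun n a b => by
    rw [hpr, map_mul, coeff_mul]
    rfl
  have hprI2 : ∀ n, I₂ ≤ I₂.comap (pr n) := by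
    intro n c hc
    change c ∈ I ^ 2 at hc
    change pr n c ∈ I ^ 2
    rw [pow_two] at hc ⊢
    refine Submodule.mul_induction_on (C := fun z => pr n z ∈ I * I) hc (fun x hx y hy => ?_) (fun x y hx hy => ?_)
    · rw [hmul]
      exact sum_mem fun i _ => Ideal.mul_mem_mul (hprI _ x hx) (hprI _ y hy)
    · rw [map_add]; exact add_mem hx hy
  -- the grading on `P`
  let prI : ℕ → (↥I₁ →ₗ[B] ↥I₁) := fun n => (pr n).restrict (fun c hc => hprI n c hc)
  let prP : ℕ → (P →ₗ[B] P) := fun n => Submodule.mapQ _ _ (prI n) (fun a ha => hprI2 n ha)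
  have hprP : ∀ n a, prP n (cl a) = cl (prI n a) := fun n a => rfl
  obtain ⟨σ₀, hσ₀⟩ := Module.projective_lifting_property cl LinearMap.id (Submodule.mkQ_surjective _)
  have hσ₀' : ∀ p, cl (σ₀ p) = p := LinearMap.congr_fun hσ₀
  have hsum : ∀ c : C, ∀ D, (θ c).natDegree < D → ∑ n ∈ Finset.range D, pr n c = c := fun c D hD => by
    simp only [hpr]
    conv_rhs => rw [← h1 c, eval_eq_sum_range' hD]
    simp
  obtain ⟨ps, hps⟩ := hfin.1
  let D : ℕ := ps.sup (fun p => (θ (σ₀ p : C)).natDegree) + 1
  have hD : ∀ n, D ≤ n → prP n = 0 := by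
    intro n hn
    refine LinearMap.ext_on hps fun p hp => ?_
    rw [LinearMap.zero_apply, ← hσ₀' p, hprP]
    refine hcl0.2 ?_
    show pr n (σ₀ p : C) ∈ I ^ 2
    rw [hpr, coeff_eq_zero_of_natDegree_lt]
    · exact zero_mem _
    · exact lt_of_le_of_lt (Finset.le_sup (f := fun p => (θ (σ₀ p : C)).natDegree) hp) (by omega)
  have hPsum : ∀ p, ∑ n ∈ Finset.range D, prP n p = p := by
    intro p
    obtain ⟨a, rfl⟩ := Submodule.mkQ_surjective _ p
    let D' := max D ((θ (a : C)).natDegree + 1)
    have e1 : ∑ n ∈ Finset.range D', prP n (cl a) = cl a := by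
      simp only [hprP]
      rw [← map_sum]
      refine congrArg cl (Subtype.ext ?_)
      rw [Submodule.coe_sum]
      exact hsum a D' (by omega)
    refine Eq.trans ?_ e1
    exact Finset.sum_subset (Finset.range_subset_range.2 (le_max_left _ _)) fun n _ hn => by
      rw [hD n (by simpa using hn), LinearMap.zero_apply]
  -- homogeneous lifts
  let σ : P →ₗ[B] ↥I₁ := ∑ n ∈ Finset.range D, (prI n).comp (σ₀.comp (prP n))
  have hσ : ∀ p, cl (σ p) = p := fun p => by
    conv_rhs => rw [← hPsum p]
    simp only [σ, LinearMap.sum_apply, map_sum, LinearMap.comp_apply]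
    refine Finset.sum_congr rfl fun n _ => ?_
    rw [← hprP, hσ₀']
    obtain ⟨a, rfl⟩ := Submodule.mkQ_surjective _ p
    rw [hprP, hprP]
    refine congrArg cl (Subtype.ext ?_)
    change pr n (pr n (a : C)) = pr n (a : C)
    rw [hprpr, if_pos rfl]
  let φ : SymmetricAlgebra B P →ₐ[B] C := SymmetricAlgebra.lift (I₁.subtype.comp σ)
  have hφι : ∀ p, φ (SymmetricAlgebra.ι B P p) = σ p := fun p => SymmetricAlgebra.lift_ι_apply _ p
  have hsurj : ∀ n c, pr n c ∈ φ.range := by
    intro n
    induction n using Nat.strong_induction_on with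
    | _ n ih =>
      intro c
      rcases eq_or_ne n 0 with rfl | hn
      · rw [hpr0]; exact Subalgebra.algebraMap_mem _ _
      · set d := pr n c with hd
        have hdI : d ∈ I := by
          refine hI.2 ?_
          have h2 : algebraMap B C (ε d) = 0 := by rw [← hpr0, hd, hprpr, if_neg (Ne.symm hn)]
          have := congrArg ε h2
          rwa [ε.commutes, map_zero] at this
        have hdd : ∀ m, pr m d = if m = n then d else 0 := fun m => by rw [hd, hprpr]
        have hσd : ∀ m, pr m (σ (cl ⟨d, hdI⟩) : C) = if m = n then (σ (cl ⟨d, hdI⟩) : C) else 0 := by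
          intro m
          have e : (σ (cl ⟨d, hdI⟩) : C) = if n ∈ Finset.range D then pr n (σ₀ (cl ⟨d, hdI⟩) : C) else 0 := by
            simp only [σ, LinearMap.sum_apply, Submodule.coe_sum, LinearMap.comp_apply]
            have h3 : ∀ i, prP i (cl ⟨d, hdI⟩) = if i = n then cl ⟨d, hdI⟩ else 0 := fun i => by
              rw [hprP]
              split_ifs with hi
              · exact congrArg cl (Subtype.ext ((hdd i).trans (if_pos hi)))
              · exact hcl0.2 (by
                  change pr i d ∈ I ^ 2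
                  rw [hdd, if_neg hi]
                  exact zero_mem _)
            rw [← Finset.sum_ite_eq' (Finset.range D) n (fun i => pr i (σ₀ (cl ⟨d, hdI⟩) : C))]
            refine Finset.sum_congr rfl fun i _ => ?_
            rw [h3]
            split_ifs <;> simp [prI]
          rw [e]
          split_ifs with h4 h5 <;> simp_all
        let r := d - (σ (cl ⟨d, hdI⟩) : C)
        have hr : r ∈ I ^ 2 := hcl.1 (hσ (cl ⟨d, hdI⟩)).symm
        have hrn : pr n r = r := by rw [map_sub, hdd, hσd, if_pos rfl, if_pos rfl]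
        have key : ∀ z ∈ I ^ 2, pr n z ∈ φ.range := by
          intro z hz
          rw [pow_two] at hz
          refine Submodule.mul_induction_on (C := fun z => pr n z ∈ φ.range) hz (fun x hx y hy => ?_)
            (fun x y hx hy => ?_)
          · rw [hmul]
            refine sum_mem fun i hi => ?_
            rw [Finset.mem_antidiagonal] at hi
            rcases eq_or_ne i.1 0 with h5 | h5
            · rw [h5, hpr0, hI.1 hx, map_zero, zero_mul]; exact zero_mem _
            rcases eq_or_ne i.2 0 with h6 | h6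
            · rw [h6, hpr0 y, hI.1 hy, map_zero, mul_zero]; exact zero_mem _
            exact mul_mem (ih _ (by omega) x) (ih _ (by omega) y)
          · rw [map_add]; exact add_mem hx hy
        rw [show d = r + σ (cl ⟨d, hdI⟩) from (sub_add_cancel _ _).symm]
        exact add_mem (hrn ▸ key r hr) ⟨SymmetricAlgebra.ι B P _, hφι _⟩
  have hφs : Function.Surjective φ := fun c => by
    rw [← AlgHom.mem_range, ← hsum c _ (Nat.lt_succ_self _)]
    exact sum_mem fun n _ => hsurj n c
  refine ⟨P, inferInstance, inferInstance, hfin, hproj, ⟨AlgEquiv.ofBijective φ ⟨?_, hφs⟩⟩⟩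
  refine injective_of_first_order ε q hqmul φ (fun p => ?_) (fun p => ?_)
  · rw [hφι]; exact hI.1 (σ p).2
  · rw [hφι, hq, hσ]

end Main

end Groth.Agent.Lib.GrpSch.GradedSym
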