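import Groth.Agent.Lib.GrpSch.FaceGrading

/-!
# Integral linear forms cutting out faces
-/


set_option autoImplicit false
universe u

namespace Groth.Agent.Lib.GrpSch

open scoped TensorProduct

/-- A face of a finitely generated submonoid is cut out by an integral linear form on the group. -/
theorem exists_face_hom {M : Type} [AddCommGroup M] [AddGroup.FG M] {N F : AddSubmonoid M} (hN : N.FG)
    (hF : Magnet.IsFace N F) :
    ∃ k : M →+ ℤ, ∀ x ∈ N, 0 ≤ k x ∧ (k x = 0 ↔ x ∈ F) := by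
  classical
  obtain ⟨s, hs⟩ := hN
  let Q := M ⧸ AddSubgroup.closure (F : Set M)
  let π : M →+ ℚ ⊗[ℤ] Q :=
    (TensorProduct.mk ℤ ℚ Q 1).toAddMonoidHom.comp (QuotientAddGroup.mk' _)
  have hclos : ∀ x, x ∈ AddSubgroup.closure (F : Set M) → ∃ f₁ ∈ F, ∃ f₂ ∈ F, x + f₁ = f₂ := by
    intro x hx
    induction hx using AddSubgroup.closure_induction with
    | mem x hx => exact ⟨0, F.zero_mem, x, hx, add_zero x⟩
    | zero => exact ⟨0, F.zero_mem, 0, F.zero_mem, add_zero 0⟩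
    | add x y _ _ hx hy =>
      obtain ⟨a, ha, b, hb, e⟩ := hx
      obtain ⟨c, hc, d, hd, e'⟩ := hy
      exact ⟨a + c, F.add_mem ha hc, b + d, F.add_mem hb hd, by rw [← e, ← e']; abel⟩
    | neg x _ hx =>
      obtain ⟨a, ha, b, hb, e⟩ := hx
      exact ⟨b, hb, a, ha, by rw [← e]; abel⟩
  -- no element of `N` outside `F` dies in `ℚ ⊗ M/⟨F⟩`
  have hker : ∀ x ∈ N, π x = 0 → x ∈ F := by
    intro x hx h0
    obtain ⟨c, hc⟩ := (IsLocalizedModule.eq_zero_iff (nonZeroDivisors ℤ) (TensorProduct.mk ℤ ℚ Q 1)).1 h0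
    have hk : ∃ k : ℕ, k ≠ 0 ∧ k • (QuotientAddGroup.mk' (AddSubgroup.closure (F : Set M)) x) = 0 := by
      refine ⟨(c : ℤ).natAbs, Int.natAbs_ne_zero.2 (nonZeroDivisors.coe_ne_zero c), ?_⟩
      rw [← natCast_zsmul]
      rcases Int.natAbs_eq (c : ℤ) with e | e
      · rw [← e]; exact hc
      · rw [show ((c : ℤ).natAbs : ℤ) = -(c : ℤ) by omega, neg_zsmul, neg_eq_zero]; exact hc
    obtain ⟨k, hk0, hk⟩ := hk
    rw [← map_nsmul, QuotientAddGroup.mk'_apply, QuotientAddGroup.eq_zero_iff] at hk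
    obtain ⟨a, ha, b, hb, e⟩ := hclos _ hk
    have h1 := hF.mem_of_add_mem _ (N.nsmul_mem hx k) _ (hF.le ha) (by rw [e]; exact hb)
    obtain ⟨j, rfl⟩ := Nat.exists_eq_succ_of_ne_zero hk0
    rw [succ_nsmul] at h1
    exact (hF.mem_of_add_mem _ (N.nsmul_mem hx j) _ hx h1.1).2
  let G := s.filter (· ∉ F)
  have hsub : ∀ g ∈ s, g ∈ N := fun g hg => hs ▸ AddSubmonoid.subset_closure hg
  obtain ⟨φ, hφ⟩ := exists_pos_form G (fun g => π g) (fun n hn hsum i hi => by
    by_contra hne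
    -- clear denominators
    set D : ℕ := ∏ j ∈ G, (n j).den
    have hm : ∀ j ∈ G, ∃ k : ℕ, (k : ℚ) = D * n j := by
      intro j hj
      obtain ⟨e, he⟩ : (n j).den ∣ D := Finset.dvd_prod_of_mem (fun j => (n j).den) hj
      refine ⟨e * (n j).num.toNat, ?_⟩
      have h1 : ((n j).num.toNat : ℤ) = (n j).num := Int.toNat_of_nonneg (Rat.num_nonneg.2 (hn j hj))
      have h2 : ((n j).num.toNat : ℚ) = ((n j).num : ℚ) := by exact_mod_cast h1
      rw [he, Nat.cast_mul, Nat.cast_mul, h2, mul_assoc, mul_comm ((n j).den : ℚ), mul_assoc, ← Rat.mul_den_eq_num]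
    choose! k hk using hm
    have hπ : π (∑ j ∈ G, k j • j) = 0 := by
      rw [map_sum]
      calc ∑ j ∈ G, π (k j • j) = ∑ j ∈ G, (D : ℚ) • n j • π j := Finset.sum_congr rfl fun j hj => by
            rw [map_nsmul, smul_smul, ← hk j hj, Nat.cast_smul_eq_nsmul]
        _ = 0 := by rw [← Finset.smul_sum, hsum, smul_zero]
    have hsumF := hker _ (AddSubmonoid.sum_mem _ fun j hj => N.nsmul_mem (hsub j (Finset.mem_filter.1 hj).1) _) hπ
    rw [← Finset.add_sum_erase _ _ hi] at hsumF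
    have hF1 := (hF.mem_of_add_mem _ (N.nsmul_mem (hsub i (Finset.mem_filter.1 hi).1) _) _
      (AddSubmonoid.sum_mem _ fun j hj => N.nsmul_mem (hsub j (Finset.mem_filter.1 (Finset.mem_of_mem_erase hj)).1) _)
      hsumF).1
    have hki : k i ≠ 0 := fun h0 => hne (by
      have h1 := hk i hi
      rw [h0, Nat.cast_zero, eq_comm, mul_eq_zero] at h1
      exact h1.resolve_left (Nat.cast_ne_zero.2 (Finset.prod_ne_zero_iff.2 fun j _ => (n j).den_nz)))
    obtain ⟨j, hj⟩ := Nat.exists_eq_succ_of_ne_zero hki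
    rw [hj, succ_nsmul] at hF1
    exact (Finset.mem_filter.1 hi).2
      (hF.mem_of_add_mem _ (N.nsmul_mem (hsub i (Finset.mem_filter.1 hi).1) j) _ (hsub i (Finset.mem_filter.1 hi).1) hF1).2)
  let ψ : M →+ ℚ := φ.toAddMonoidHom.comp π
  have hval : ∀ x ∈ N, 0 ≤ ψ x ∧ (ψ x = 0 ↔ x ∈ F) := by
    intro x hx
    rw [← hs] at hx
    induction hx using AddSubmonoid.closure_induction with
    | mem g hg =>
      by_cases hgF : g ∈ F
      · have h0 : π g = 0 := by
          show TensorProduct.mk ℤ ℚ Q 1 _ = 0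
          rw [QuotientAddGroup.mk'_apply, (QuotientAddGroup.eq_zero_iff g).2 (AddSubgroup.subset_closure hgF), map_zero]
        simp [ψ, h0, hgF]
      · have h := hφ g (Finset.mem_filter.2 ⟨hg, hgF⟩)
        simpa [ψ, hgF, h.ne'] using h.le
    | zero => simp [F.zero_mem]
    | add x y hx hy hx' hy' =>
      rw [hF.add_mem_iff (hs ▸ hx) (hs ▸ hy), map_add, add_eq_zero_iff_of_nonneg hx'.1 hy'.1, hx'.2, hy'.2]
      exact ⟨add_nonneg hx'.1 hy'.1, Iff.rfl⟩
  obtain ⟨S, hS⟩ := AddGroup.FG.out (H := M)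
  let D : ℕ := ∏ g ∈ S, (ψ g).den
  have hint : ∀ x : M, ∃ k : ℤ, (k : ℚ) = D * ψ x := by
    intro x
    have hx : x ∈ AddSubgroup.closure (S : Set M) := hS ▸ AddSubgroup.mem_top x
    induction hx using AddSubgroup.closure_induction with
    | mem g hg =>
      obtain ⟨e, he⟩ : (ψ g).den ∣ D := Finset.dvd_prod_of_mem (fun g => (ψ g).den) hg
      refine ⟨e * (ψ g).num, ?_⟩
      rw [he, Nat.cast_mul, Int.cast_mul, Int.cast_natCast, ← Rat.mul_den_eq_num]
      ring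
    | zero => exact ⟨0, by simp⟩
    | add x y _ _ hx hy =>
      obtain ⟨a, ha⟩ := hx
      obtain ⟨b, hb⟩ := hy
      exact ⟨a + b, by rw [Int.cast_add, ha, hb, map_add]; ring⟩
    | neg x _ hx =>
      obtain ⟨a, ha⟩ := hx
      exact ⟨-a, by rw [Int.cast_neg, ha, map_neg]; ring⟩
  choose k hk using hint
  have hD : 0 < (D : ℚ) := Nat.cast_pos.2 (Finset.prod_pos fun g _ => (ψ g).den_pos)
  refine ⟨{ toFun := k, map_zero' := ?_, map_add' := fun x y => ?_ }, fun x hx => ⟨?_, ?_⟩⟩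
  · exact Int.cast_injective (α := ℚ) (by simp [hk])
  · exact Int.cast_injective (α := ℚ) (by rw [Int.cast_add, hk, hk, hk, map_add]; ring)
  · refine (Int.cast_nonneg_iff (R := ℚ)).1 ?_
    show 0 ≤ (k x : ℚ)
    rw [hk]
    exact mul_nonneg hD.le (hval x hx).1
  · rw [← (hval x hx).2, ← Int.cast_eq_zero (α := ℚ)]
    show (k x : ℚ) = 0 ↔ _
    rw [hk, mul_eq_zero, or_iff_right hD.ne']

end Groth.Agent.Lib.GrpSch
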