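import Groth.Agent.Lib.GrpSch.GradedW
import Groth.Agent.Lib.GrpSch.FaceHom
import Groth.Agent.Lib.GrpSch.AttrDescent
import Mathlib.RingTheory.Localization.FractionRing

/-!
# Attractor points landing in stable opens

A point of the attractor whose face projection (resp. whose image in `X`, for a subgroup) lands in a
stable open subscheme lands in it.
-/

set_option autoImplicit false
universe u

open CategoryTheory Limits MonoidalCategory CartesianMonoidalCategory MonObj AlgebraicGeometry Opposite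
open Groth.Agent.Lib
open Groth.Agent.Lib.GrpSch.AttrAffine

namespace Groth.Agent.Lib.GrpSch.Landing

attribute [local instance] baseAlg

variable {S : Scheme.{u}} {M : Type} [AddCommGroup M] {X : Over S}
  {a : Magnet.MonAct (Magnet.AMonS S M) X} {V : X.left.Opens}

/-- For a subgroup it is enough that the value in `X` lands in the stable open. -/
theorem range_subset_of_subgroup (hV : (snd (Magnet.AMonS S M) X).left ⁻¹ᵁ V ≤ a.act.left ⁻¹ᵁ V)
    (Z : AddSubgroup M) {T : Over S} (φ : (Magnet.attr a Z.toAddSubmonoid).obj (op T))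
    (h : ∀ t : T.left, ((Magnet.attrToX a Z.toAddSubmonoid).app (op T) φ : T ⟶ X).left.base t ∈ V)
    (y : (Magnet.AMonS S ↥Z.toAddSubmonoid ⊗ T).left) : φ.1.left.base y ∈ V := by
  have hs := (effectiveEpi_AMonS_map_whiskerRight (S := S) (Z.toAddSubmonoid.subtype)
    (flat_surjective_subgroup Z) T).2.1
  obtain ⟨w, rfl⟩ := hs.surj y
  rw [← Scheme.Hom.comp_apply, ← Over.comp_left, attr_restrict_eq a Z.toAddSubmonoid φ, Over.comp_left,
    Scheme.Hom.comp_apply]
  refine hV ?_
  change (snd (Magnet.AMonS S M) X).left.base _ ∈ V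
  rw [← Scheme.Hom.comp_apply, ← Over.comp_left, whiskerLeft_snd, Over.comp_left, Scheme.Hom.comp_apply]
  exact h _

theorem mem_of_act_mem (hV : (snd (Magnet.AMonS S M) X).left ⁻¹ᵁ V ≤ a.act.left ⁻¹ᵁ V)
    {T : Over S} (g : T ⟶ Magnet.AMonS S M) (x : T ⟶ X) (p : T.left)
    (h : (lift g x ≫ a.act).left.base p ∈ V) : x.left.base p ∈ V := by
  have hinv : GrpSch.monInv g * g = 1 := monFn_ext fun m => by rw [monFn_mul, monFn_monInv_mul, monFn_one]
  have e : lift (GrpSch.monInv g) (lift g x ≫ a.act) ≫ a.act = x := by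
    rw [← Magnet.MonAct.lift_mul_act, hinv, Magnet.MonAct.lift_one_act]
  rw [← e, Over.comp_left, Scheme.Hom.comp_apply]
  refine hV ?_
  change (snd (Magnet.AMonS S M) X).left.base _ ∈ V
  rw [← Scheme.Hom.comp_apply, ← Over.comp_left, lift_snd]
  exact h

/-- It is enough that the face projection lands in the stable open. -/
theorem range_subset_of_face [AddGroup.FG M] (hV : (snd (Magnet.AMonS S M) X).left ⁻¹ᵁ V ≤ a.act.left ⁻¹ᵁ V)
    {N Q : AddSubmonoid M} (hQ : Magnet.IsFace N Q) {T : Over S} (φ : (Magnet.attr a N).obj (op T))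
    (h : ∀ y : (Magnet.AMonS S ↥Q ⊗ T).left,
      ((Magnet.AMonS.faceMap S hQ ▷ T) ≫ φ.1).left.base y ∈ V)
    (y : (Magnet.AMonS S ↥N ⊗ T).left) : φ.1.left.base y ∈ V := by
  classical
  by_contra hy
  let A := Magnet.AMonS S ↥N
  let pr : Spec ((A ⊗ T).left.residueField y) ⟶ T.left :=
    (A ⊗ T).left.fromSpecResidueField y ≫ (snd A T).left
  let K := (A ⊗ T).left.residueField y
  let tK : Spec K ⟶ S := pr ≫ T.hom
  let πK : specOver K tK ⟶ T := Over.homMk pr
  let bK : specOver K tK ⟶ A := Over.homMk ((A ⊗ T).left.fromSpecResidueField y ≫ (fst A T).left) (by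
    change (_ ≫ (fst A T).left) ≫ A.hom = pr ≫ T.hom
    simp only [pr, Category.assoc]
    rw [Over.w (fst A T), Over.w (snd A T)])
  let zK : specOver K tK ⟶ A ⊗ specOver K tK := lift bK (𝟙 _)
  obtain ⟨ev, hev⟩ := Spec.map_surjective ((zK ≫ (dIso (M := ↥N) K tK).inv).left)
  let ψ : dOver (M := ↥N) K tK ⟶ X := (dIso K tK).hom ≫ (A ◁ πK) ≫ φ.1
  let W : (Spec (bcRing R0.{u} ↥N K)).Opens := ψ.left ⁻¹ᵁ V
  -- the point of the face below `y`
  let r : bcRing R0.{u} ↥N K ⟶ K :=
    GradedW.bcFace hQ K ≫ bcMap R0.{u} K (AddSubmonoid.inclusion hQ.le) ≫ ev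
  obtain ⟨pK⟩ : Nonempty (Spec K) := inferInstance
  have hrW : (Spec.map r).base pK ∈ W := by
    change ψ.left.base _ ∈ V
    rw [← Scheme.Hom.comp_apply]
    have e : Spec.map r ≫ ψ.left = (Spec.map (bcMap R0.{u} K (AddSubmonoid.inclusion hQ.le) ≫ ev) ≫
        (prodIso (M := ↥Q) K tK).hom ≫ (Magnet.AMonS S ↥Q ◁ πK).left) ≫
        ((Magnet.AMonS.faceMap S hQ ▷ T) ≫ φ.1).left := by
      simp only [r, ψ, Over.comp_left, Spec.map_comp, Category.assoc]
      change _ ≫ _ ≫ _ ≫ (prodIso (M := ↥N) K tK).hom ≫ _ = _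
      rw [← reassoc_of% GradedW.prodIso_face hQ K tK, ← Over.comp_left_assoc, ← Over.comp_left_assoc,
        whisker_exchange]
    rw [e, Scheme.Hom.comp_apply]
    exact h _
  obtain ⟨_, ⟨f, rfl⟩, hrf, hfW⟩ := PrimeSpectrum.isTopologicalBasis_basic_opens.exists_subset_of_mem_open
    hrW W.2
  have hrf' : r.hom f ≠ 0 := fun h0 => by
    refine hrf ?_
    change r.hom f ∈ pK.asIdeal
    rw [h0]
    exact zero_mem _
  obtain ⟨s, -, hf⟩ := exists_decomp R0.{u} K f
  let NE : AddSubmonoid M := AddSubmonoid.closure ↑(s.image fun m => ((m.toAdd : ↥N) : M))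
  have hNE : NE ≤ N := AddSubmonoid.closure_le.2 fun x hx => by
    obtain ⟨m, -, rfl⟩ := Finset.mem_image.1 hx
    exact m.toAdd.2
  have hface : Magnet.IsFace NE (NE ⊓ Q) := ⟨inf_le_left, fun x hx z hz hxz =>
    ⟨⟨hx, (hQ.mem_of_add_mem x (hNE hx) z (hNE hz) hxz.2).1⟩,
      ⟨hz, (hQ.mem_of_add_mem x (hNE hx) z (hNE hz) hxz.2).2⟩⟩⟩
  obtain ⟨k, hk⟩ := exists_face_hom (N := NE) ⟨_, rfl⟩ hface
  have hks : ∀ m ∈ s, 0 ≤ k (m.toAdd : M) ∧ (k (m.toAdd : M) = 0 ↔ ((m.toAdd : ↥N) : M) ∈ Q) := fun m hm => by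
    have hm' : ((m.toAdd : ↥N) : M) ∈ NE := AddSubmonoid.subset_closure (Finset.mem_image_of_mem _ hm)
    exact ⟨(hk _ hm').1, (hk _ hm').2.trans ⟨fun h => h.2, fun h => ⟨hm', h⟩⟩⟩
  -- the generic point of the contracting curve
  let L : CommRingCat.{u} := .of (FractionRing (Polynomial (K : Type u)))
  let em : (K : Type u) →+* (L : Type u) :=
    (algebraMap (Polynomial (K : Type u)) (FractionRing (Polynomial (K : Type u)))).comp Polynomial.C
  let Xu : (L : Type u) := algebraMap (Polynomial (K : Type u)) (FractionRing (Polynomial (K : Type u))) Polynomial.X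
  have hXu : Xu ≠ 0 := fun h0 => Polynomial.X_ne_zero
    ((IsFractionRing.injective (Polynomial (K : Type u)) (FractionRing (Polynomial (K : Type u))))
      (h0.trans (map_zero _).symm))
  let Xg : (L : Type u)ˣ := Units.mk0 Xu hXu
  let gh : Multiplicative M →* (L : Type u) :=
    { toFun := fun m => ((Xg ^ k m.toAdd : (L : Type u)ˣ) : L)
      map_one' := by simp
      map_mul' := fun m n => by simp [zpow_add] }
  let χ : Multiplicative ↥N →* (L : Type u) :=
    { toFun := fun n => gh (Multiplicative.ofAdd (n.toAdd : M)) * em (ev.hom (mono R0.{u} K n))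
      map_one' := by
        rw [toAdd_one, AddSubmonoid.coe_zero, ofAdd_zero, map_one, mono_one, map_one, _root_.one_mul, map_one]
      map_mul' := fun m n => by
        rw [toAdd_mul, AddSubmonoid.coe_add, ofAdd_add, map_mul, mono_mul R0.{u} K m n, map_mul, map_mul]
        ring }
  let e' : bcRing R0.{u} ↥N K ⟶ L := GradedW.bcDesc (CommRingCat.ofHom em) χ
  let tL : Spec L ⟶ S := Spec.map (CommRingCat.ofHom em) ≫ tK
  let π : specOver L tL ⟶ specOver K tK := Over.homMk (Spec.map (CommRingCat.ofHom em))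
  let x' : specOver L tL ⟶ dOver (M := ↥N) K tK := Over.homMk (Spec.map e') (by
    change Spec.map e' ≫ Spec.map _ ≫ tK = tL
    rw [← Spec.map_comp_assoc, GradedW.bcDesc_inl]
    rfl)
  let g : specOver L tL ⟶ Magnet.AMonS S M := monPt
    ((Scheme.ΓSpecIso L).inv.hom.toMonoidHom.comp gh)
  let b : specOver L tL ⟶ A := (g ≫ Magnet.AMonS.map S N.subtype) * (π ≫ bK)
  have hx' : x' ≫ (dIso (M := ↥N) K tK).hom = lift b π := by
    refine CartesianMonoidalCategory.hom_ext _ _ ?_ ?_
    · rw [Category.assoc, lift_fst]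
      refine monFn_ext fun n => ?_
      rw [monFn_comp, show (dIso (M := ↥N) K tK).hom ≫ fst _ _ = dCoord K tK from rfl, monFn_dCoord]
      have hbK : monFn bK n = (Scheme.ΓSpecIso K).inv.hom (ev.hom (mono R0.{u} K (Multiplicative.ofAdd n))) := by
        have hz : bK = (zK ≫ (dIso (M := ↥N) K tK).inv) ≫ dCoord K tK := by
          rw [dCoord, Category.assoc, Iso.inv_hom_id_assoc, lift_fst]
        rw [hz, monFn_comp, monFn_dCoord, ← hev]
        exact congr($(Scheme.ΓSpecIso_inv_naturality ev) (mono R0.{u} K (Multiplicative.ofAdd n))).symm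
      rw [monFn_mul, monFn_map, monFn_monPt, monFn_comp, hbK]
      refine (congr($(Scheme.ΓSpecIso_inv_naturality e') (mono R0.{u} K (Multiplicative.ofAdd n)))).symm.trans ?_
      change (Scheme.ΓSpecIso L).inv.hom (e'.hom (mono R0.{u} K (Multiplicative.ofAdd n))) = _
      rw [GradedW.bcDesc_mono]
      refine (map_mul _ _ _).trans (congrArg₂ (· * ·) rfl ?_)
      exact congr($(Scheme.ΓSpecIso_inv_naturality (CommRingCat.ofHom em)) (ev.hom (mono R0.{u} K (Multiplicative.ofAdd n))))
    · rw [Category.assoc, lift_snd]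
      apply Over.OverMorphism.ext
      refine (congrArg (Spec.map e' ≫ ·) (dProj_left K tK)).trans ?_
      rw [← Spec.map_comp, GradedW.bcDesc_inl]
      rfl
  -- it lies in `D(f)`
  obtain ⟨pL⟩ : Nonempty (Spec L) := inferInstance
  let P : Polynomial (K : Type u) :=
    ∑ m ∈ s, Polynomial.C (coord R0.{u} K f m * ev.hom (mono R0.{u} K m)) * Polynomial.X ^ (k (m.toAdd : M)).toNat
  have hinl : ∀ c, ev.hom ((bcInl R0.{u} ↥N K).hom c) = c := fun c => by
    have e : bcInl R0.{u} ↥N K ≫ ev = 𝟙 K := by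
      apply Spec.map_injective
      rw [Spec.map_comp, hev, ← dProj_left K tK, ← Over.comp_left, Spec.map_id]
      refine congrArg CommaMorphism.left (?_ : (zK ≫ (dIso (M := ↥N) K tK).inv) ≫ dProj K tK = 𝟙 _)
      rw [dProj, Category.assoc, Iso.inv_hom_id_assoc, lift_snd]
    exact congr($(e) c)
  have hP0 : P.eval 0 = r.hom f := by
    rw [hf, map_sum, Polynomial.eval_finsetSum]
    refine Finset.sum_congr rfl fun m hm => ?_
    rw [Polynomial.eval_mul, Polynomial.eval_C, Polynomial.eval_pow, Polynomial.eval_X, map_mul]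
    have hr1 : r.hom ((bcInl R0.{u} ↥N K).hom (coord R0.{u} K f m)) = coord R0.{u} K f m := by
      change ev.hom ((bcMap R0.{u} K _).hom ((GradedW.bcFace hQ K).hom _)) = _
      rw [show (GradedW.bcFace hQ K).hom ((bcInl R0.{u} ↥N K).hom (coord R0.{u} K f m)) =
        (bcInl R0.{u} ↥Q K).hom (coord R0.{u} K f m) from congr($(GradedW.bcInl_bcFace hQ K) _),
        GradedW.bcMap_inl, hinl]
    rw [hr1]
    by_cases hmQ : ((m.toAdd : ↥N) : M) ∈ Q
    · rw [((hks m hm).2).2 hmQ, Int.toNat_zero, pow_zero, _root_.mul_one]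
      refine congrArg (_ * ·) ?_
      change _ = ev.hom ((bcMap R0.{u} K _).hom ((GradedW.bcFace hQ K).hom _))
      rw [GradedW.bcFace_mono_of_mem hQ K m hmQ, GradedW.bcMap_mono]
      rfl
    · have hne : (k (m.toAdd : M)).toNat ≠ 0 := by
        have h1 := (hks m hm).1
        have h2 : k (m.toAdd : M) ≠ 0 := fun h => hmQ ((hks m hm).2.1 h)
        omega
      rw [zero_pow hne, mul_zero]
      symm
      refine mul_eq_zero_of_right _ ?_
      change ev.hom ((bcMap R0.{u} K _).hom ((GradedW.bcFace hQ K).hom _)) = 0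
      rw [GradedW.bcFace_mono_of_not_mem hQ K m hmQ, map_zero, map_zero]
  have heP : e'.hom f = algebraMap (Polynomial (K : Type u)) (FractionRing (Polynomial (K : Type u))) P := by
    rw [hf, map_sum, map_sum]
    refine Finset.sum_congr rfl fun m hm => ?_
    rw [map_mul, GradedW.bcDesc_mono,
      show e'.hom ((bcInl R0.{u} ↥N K).hom (coord R0.{u} K f m)) = em (coord R0.{u} K f m) from
        congr($(GradedW.bcDesc_inl (CommRingCat.ofHom em) χ) _)]
    obtain ⟨n, hn⟩ := Int.eq_ofNat_of_zero_le (hks m hm).1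
    change em _ * (((Xg ^ k (m.toAdd : M) : (L : Type u)ˣ) : L) * em _) = _
    rw [hn, Int.toNat_natCast, zpow_natCast, Units.val_pow_eq_pow_val, Units.val_mk0,
      map_mul Polynomial.C, map_mul, map_mul, map_pow]
    simp only [em, Xu, RingHom.comp_apply]
    ring
  have hDf : (Spec.map e').base pL ∈ W := by
    refine hfW ?_
    change e'.hom f ∉ pL.asIdeal
    intro hmem
    have h0 : e'.hom f = 0 := by
      by_contra hne
      exact pL.2.ne_top (Ideal.eq_top_of_isUnit_mem _ hmem (Ne.isUnit (a := (e'.hom f : FractionRing (Polynomial (K : Type u)))) hne))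
    rw [heP, map_eq_zero_iff _ (IsFractionRing.injective _ _)] at h0
    exact hrf' (by rw [← hP0, h0, Polynomial.eval_zero])
  -- translate back
  change ψ.left.base _ ∈ V at hDf
  rw [← Scheme.Hom.comp_apply] at hDf
  have key : x' ≫ ψ = lift g (lift (π ≫ bK) (π ≫ πK) ≫ φ.1) ≫ a.act := by
    rw [show x' ≫ ψ = (x' ≫ (dIso (M := ↥N) K tK).hom) ≫ (A ◁ πK) ≫ φ.1 from (Category.assoc _ _ _).symm,
      hx', lift_whiskerLeft_assoc, ← (Magnet.MonAct.mem_eqvHom_iff _).1 φ.2 _ g (π ≫ bK) (π ≫ πK)]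
    rw [show lift g (π ≫ bK) ≫ (Magnet.subAct S M N).act = b from
      (Magnet.MonAct.lift_restrict_act _ _ _ _).trans (Magnet.MonAct.lift_regular_act _ _)]
  have h1 : (lift g (lift (π ≫ bK) (π ≫ πK) ≫ φ.1) ≫ a.act).left.base pL ∈ V := by
    rw [← key]
    exact hDf
  have h2 := mem_of_act_mem hV g _ pL h1
  rw [← comp_lift, Category.assoc, Over.comp_left, Scheme.Hom.comp_apply] at h2
  refine hy ?_
  have hl : (lift bK πK).left = (A ⊗ T).left.fromSpecResidueField y := by
    have e : lift bK πK = (Over.homMk ((A ⊗ T).left.fromSpecResidueField y) (by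
        change _ ≫ (A ⊗ T).hom = pr ≫ T.hom
        simp only [pr, Category.assoc]
        rw [Over.w (snd A T)]) : specOver K tK ⟶ A ⊗ T) := by
      refine CartesianMonoidalCategory.hom_ext _ _ ?_ ?_
      · rw [lift_fst]; exact Over.OverMorphism.ext rfl
      · rw [lift_snd]; exact Over.OverMorphism.ext rfl
    exact congrArg CommaMorphism.left e
  rw [Over.comp_left, Scheme.Hom.comp_apply, hl, Scheme.fromSpecResidueField_apply] at h2
  exact h2

end Groth.Agent.Lib.GrpSch.Landing
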