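import Groth.Agent.Lib.GrpSch.AttrHomotopy
import Groth.Agent.Lib.GrpSch.AttrRange
import Groth.Agent.Lib.GrpSch.GradedSym
import Groth.Agent.Lib.GrpSch.Landing
import Mathlib.AlgebraicGeometry.Morphisms.Smooth

/-!
# The face projection onto the units of a magnet, locally on the base

* stable open subschemes with their action;
* on a chart only finitely many weights occur;
* the contraction gives the coordinate ring a contracting grading.
-/

set_option autoImplicit false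
universe u

open CategoryTheory Limits MonoidalCategory CartesianMonoidalCategory MonObj AlgebraicGeometry Opposite
open Groth.Agent.Lib

namespace Groth.Agent.Lib.GrpSch.AttrBundle

attribute [local instance] AttrAffine.baseAlg

variable {S : Scheme.{u}} {M : Type} [AddCommGroup M] {X U : Over S}
  {a : Magnet.MonAct (Magnet.AMonS S M) X} {f : U ⟶ X}

theorem range_comp_act {V : X.left.Opens} (hV : (snd (Magnet.AMonS S M) X).left ⁻¹ᵁ V ≤ a.act.left ⁻¹ᵁ V)
    (hf : ∀ u : U.left, f.left.base u ∈ V) (t : (Magnet.AMonS S M ⊗ U).left) :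
    ((Magnet.AMonS S M ◁ f) ≫ a.act).left.base t ∈ V := by
  rw [Over.comp_left, Scheme.Hom.comp_apply]
  refine hV ?_
  change (snd (Magnet.AMonS S M) X).left.base _ ∈ V
  rw [← Scheme.Hom.comp_apply, ← Over.comp_left, whiskerLeft_snd, Over.comp_left, Scheme.Hom.comp_apply]
  exact hf _

/-- The action on a stable open subscheme. -/
theorem exists_act_open [IsOpenImmersion f.left] {V : X.left.Opens}
    (hV : (snd (Magnet.AMonS S M) X).left ⁻¹ᵁ V ≤ a.act.left ⁻¹ᵁ V)
    (hr : Set.range f.left.base = (V : Set X.left)) :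
    ∃ aU : Magnet.MonAct (Magnet.AMonS S M) U, Magnet.MonAct.IsEquivariant aU a f := by
  haveI : Mono f := Over.mono_of_mono_left f
  have hsub : Set.range ((Magnet.AMonS S M ◁ f) ≫ a.act).left.base ⊆ Set.range f.left.base := by
    rw [hr]
    rintro _ ⟨t, rfl⟩
    exact range_comp_act hV (fun u => by rw [← SetLike.mem_coe, ← hr]; exact ⟨u, rfl⟩) t
  let act : Magnet.AMonS S M ⊗ U ⟶ U :=
    Over.homMk (IsOpenImmersion.lift f.left ((Magnet.AMonS S M ◁ f) ≫ a.act).left hsub) (by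
      rw [← Over.w f, ← Category.assoc, IsOpenImmersion.lift_fac]
      exact Over.w ((Magnet.AMonS S M ◁ f) ≫ a.act))
  have hact : act ≫ f = (Magnet.AMonS S M ◁ f) ≫ a.act :=
    Over.OverMorphism.ext (IsOpenImmersion.lift_fac _ _ _)
  refine ⟨Magnet.MonAct.mk' act (fun T x => ?_) (fun T g h x => ?_), hact⟩
  · rw [← cancel_mono f, Category.assoc, hact, lift_whiskerLeft_assoc, Magnet.MonAct.lift_one_act]
  · simp only [← cancel_mono f, Category.assoc, hact, lift_whiskerLeft_assoc, Magnet.MonAct.lift_mul_act]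

/-- Attractor points lying in a stable open subscheme lift. -/
theorem exists_lift_attr [IsOpenImmersion f.left] {aU : Magnet.MonAct (Magnet.AMonS S M) U}
    (hf : Magnet.MonAct.IsEquivariant aU a f) {L : AddSubmonoid M} {T : Over S}
    (ξ : (Magnet.attr a L).obj (op T)) (h : Set.range ξ.1.left.base ⊆ Set.range f.left.base) :
    ∃ l : (Magnet.attr aU L).obj (op T), l.1 ≫ f = ξ.1 := by
  haveI : Mono f := Over.mono_of_mono_left f
  let φ : Magnet.AMonS S ↥L ⊗ T ⟶ U := Over.homMk (IsOpenImmersion.lift f.left ξ.1.left h) (by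
    rw [← Over.w f, ← Category.assoc, IsOpenImmersion.lift_fac, Over.w])
  have hφ : φ ≫ f = ξ.1 := Over.OverMorphism.ext (IsOpenImmersion.lift_fac _ _ _)
  refine ⟨⟨φ, (Magnet.MonAct.mem_eqvHom_iff _).2 fun T' g b t => ?_⟩, hφ⟩
  rw [← cancel_mono f, Category.assoc, hφ, (Magnet.MonAct.mem_eqvHom_iff _).1 ξ.2, Category.assoc,
    show aU.act ≫ f = (Magnet.AMonS S M ◁ f) ≫ a.act from hf, lift_whiskerLeft_assoc, Category.assoc, hφ]

theorem postcomp_injective [Mono f] {aU : Magnet.MonAct (Magnet.AMonS S M) U} {L : AddSubmonoid M}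
    {T : Over S} {l l' : (Magnet.attr aU L).obj (op T)} (h : l.1 ≫ f = l'.1 ≫ f) : l = l' :=
  Subtype.ext ((cancel_mono f).1 h)

/-- Finitely many weights occur over an affine open of the base. -/
theorem exists_finset_weights_chart [IsAffineHom U.hom] [LocallyOfFiniteType U.hom]
    (aU : Magnet.MonAct (Magnet.AMonS S M) U) {V : S.Opens} (hV : IsAffineOpen V) :
    ∃ E : Finset M, ∀ (N L : AddSubmonoid M), (↑E ∩ (N : Set M) ⊆ L) → ∀ {T : Over S} (x : T ⟶ U),
      (∀ t : T.left, T.hom.base t ∈ V) →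
      AttrAffine.OrbitFactors aU N x → AttrAffine.OrbitFactors aU L x := by
  classical
  open AttrAffine in
  obtain ⟨ρ, hρ⟩ := exists_coaction aU hV
  let φ := U.hom.appLE V (U.hom ⁻¹ᵁ V) le_rfl
  have hbase : ∀ r, ρ.hom (φ.hom r) = (AttrAffine.bcInl AttrAffine.R0.{u} M _).hom (φ.hom r) := by
    have h := AttrAffine.chartOrbit_comp_hom aU (hV.preimage U.hom)
    rw [← hρ, Category.assoc, ← hV.SpecMap_appLE_fromSpec U.hom (hV.preimage U.hom) le_rfl,
      ← Spec.map_comp_assoc, ← Spec.map_comp_assoc, cancel_mono] at h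
    exact fun r => RingHom.congr_fun (congrArg CommRingCat.Hom.hom (Spec.map_injective h)) r
  obtain ⟨s, hs⟩ : ∃ s : Finset Γ(U.left, U.hom ⁻¹ᵁ V), Subring.closure (Set.range φ.hom ∪ ↑s) = ⊤ := by
    letI := φ.hom.toAlgebra
    obtain ⟨s, hs⟩ := (U.hom.finiteType_appLE hV (hV.preimage U.hom) le_rfl :
      Algebra.FiniteType Γ(S, V) Γ(U.left, U.hom ⁻¹ᵁ V)).out
    refine ⟨s, ?_⟩
    have h := congrArg Subalgebra.toSubring hs
    rw [Algebra.adjoin_eq_ring_closure, Algebra.top_toSubring] at h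
    exact h
  open AttrAffine in
  let E : Finset M := s.biUnion fun c =>
    ((Algebra.TensorProduct.basis (Γ(U.left, U.hom ⁻¹ᵁ V) : Type u)
      (MonoidAlgebra.basis (Multiplicative M) R0.{u})).repr (ρ.hom c)).support.image Multiplicative.toAdd
  refine ⟨E, fun N L hEL T x hxV hx => ?_⟩
  open AttrAffine in
  have step : ∀ (B : CommRingCat.{u}) (τ : Γ(U.left, U.hom ⁻¹ᵁ V) ⟶ B),
      chartIdeal ρ N ≤ RingHom.ker τ.hom → chartIdeal ρ L ≤ RingHom.ker τ.hom := by
    intro B τ h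
    let C := Γ(U.left, U.hom ⁻¹ᵁ V)
    let τ' : (C : Type u) →ₐ[R0.{u}] B := toAlgHom' τ
    let σ : (C : Type u) →+* (bcRing R0.{u} M B : Type u) := (ρ ≫ bcNat R0.{u} τ').hom
    let P : Subring C := (bcMap R0.{u} B L.subtype).hom.range.comap σ
    have hP : P = ⊤ := by
      rw [eq_top_iff, ← hs, Subring.closure_le]
      rintro c (⟨r, rfl⟩ | hc)
      · change σ _ ∈ (bcMap R0.{u} B L.subtype).hom.range
        refine ⟨(bcInl R0.{u} ↥L B).hom (τ' (φ.hom r)), ?_⟩
        change (bcMap R0.{u} B L.subtype).hom _ = (bcNat R0.{u} τ').hom (ρ.hom _)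
        rw [hbase]
        exact (RingHom.congr_fun (congrArg CommRingCat.Hom.hom (bcInl_bcMap R0.{u} B L.subtype)) _).trans
          (RingHom.congr_fun (congrArg CommRingCat.Hom.hom (bcInl_bcNat R0.{u} τ')) _).symm
      · change (bcNat R0.{u} τ').hom (ρ.hom c) ∈ Set.range (bcMap R0.{u} B L.subtype).hom
        rw [mem_range_bcMap_iff]
        intro m hm
        rw [coord_bcNat]
        by_cases hmN : m ∈ Set.range (AddMonoidHom.toMultiplicative N.subtype)
        · suffices h0 : coord R0.{u} C (ρ.hom c) m = 0 by rw [h0, map_zero]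
          by_contra hne
          refine hm ⟨Multiplicative.ofAdd ⟨m.toAdd, hEL ⟨?_, ?_⟩⟩, rfl⟩
          · exact Finset.mem_biUnion.2 ⟨c, hc,
              Finset.mem_image.2 ⟨m, Finsupp.mem_support_iff.2 hne, rfl⟩⟩
          · obtain ⟨n, rfl⟩ := hmN
            exact n.toAdd.2
        · exact h (Ideal.subset_span ⟨c, m, hmN, rfl⟩)
    rw [chartIdeal, Ideal.span_le]
    rintro _ ⟨b, m, hm, rfl⟩
    have hb : b ∈ P := hP ▸ Subring.mem_top b
    have h2 := (mem_range_bcMap_iff R0.{u} B L.subtype ((bcNat R0.{u} τ').hom (ρ.hom b))).1 hb m hm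
    rwa [coord_bcNat] at h2
  refine AttrAffine.OrbitFactors.of_openCover x T.left.affineCover fun k => ?_
  let Tk : Over S := Over.mk (T.left.affineCover.f k ≫ T.hom)
  let xk : Tk ⟶ T := Over.homMk (T.left.affineCover.f k)
  change AttrAffine.OrbitFactors aU L (xk ≫ x)
  haveI : IsAffine Tk.left := T.left.isAffine_affineCover k
  have hr : Set.range (Tk.left.isoSpec.inv ≫ (xk ≫ x).left).base ⊆
      Set.range (hV.preimage U.hom).fromSpec.base := by
    rintro _ ⟨y, rfl⟩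
    rw [(hV.preimage U.hom).range_fromSpec]
    show U.hom.base _ ∈ V
    rw [← Scheme.Hom.comp_apply, Category.assoc, Over.w, Scheme.Hom.comp_apply]
    change (T.left.affineCover.f k ≫ T.hom).base _ ∈ V
    rw [Scheme.Hom.comp_apply]
    exact hxV _
  obtain ⟨τ, hτ⟩ := Spec.map_surjective (IsOpenImmersion.lift _ _ hr)
  have hτc : Spec.map τ ≫ (hV.preimage U.hom).fromSpec = Tk.left.isoSpec.inv ≫ (xk ≫ x).left := by
    rw [hτ, IsOpenImmersion.lift_fac]
  let e : Over.mk ((Spec.map τ ≫ (hV.preimage U.hom).fromSpec) ≫ U.hom) ≅ Tk :=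
    Over.isoMk Tk.left.isoSpec.symm (by
      show Tk.left.isoSpec.inv ≫ Tk.hom = _
      rw [hτc, Category.assoc, Over.w]
      rfl)
  have he : e.hom ≫ xk ≫ x = Over.homMk (Spec.map τ ≫ (hV.preimage U.hom).fromSpec) rfl :=
    Over.OverMorphism.ext hτc.symm
  have h0 := (AttrAffine.chart_iff aU N hV ρ hρ _ τ).2 (by rw [← he]; exact (hx.precomp xk).precomp e.hom)
  have h1 := ((AttrAffine.chart_iff aU L hV ρ hρ _ τ).1 (step _ τ h0)).precomp e.inv
  rwa [← he, Iso.inv_hom_id_assoc] at h1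

theorem coeff_eval₂_CC {R : Type u} [CommRing R] (p : Polynomial R) (n : ℕ) :
    (p.eval₂ ((Polynomial.C : Polynomial R →+* Polynomial (Polynomial R)).comp Polynomial.C)
      (Polynomial.C Polynomial.X * Polynomial.X)).coeff n = Polynomial.C (p.coeff n) * Polynomial.X ^ n := by
  induction p using Polynomial.induction_on' with
  | add p q hp hq =>
    rw [Polynomial.eval₂_add, Polynomial.coeff_add, hp, hq, Polynomial.coeff_add, map_add, add_mul]
  | monomial i r =>
    rw [Polynomial.eval₂_monomial, RingHom.comp_apply, mul_pow, ← map_pow, ← _root_.mul_assoc, ← map_mul,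
      Polynomial.coeff_C_mul_X_pow, Polynomial.coeff_monomial]
    rcases eq_or_ne n i with rfl | hn
    · rw [if_pos rfl, if_pos rfl]
    · rw [if_neg hn, if_neg (Ne.symm hn), map_zero, zero_mul]

/-- The contracting grading of the coordinate ring of the attractor over an affine open of the base. -/
theorem exists_theta [AddGroup.FG M] {aU : Magnet.MonAct (Magnet.AMonS S M) U} {N Q : AddSubmonoid M}
    (hN : N.FG) (hQ : Magnet.IsFace N Q) {Z₁ Z0 : Over S} (e₁ : (Magnet.attr aU N).RepresentableBy Z₁)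
    (g₁ : Z₁ ⟶ Z0)
    (hg : ∀ (T : Over S) (z z' : T ⟶ Z₁), z ≫ g₁ = z' ≫ g₁ ↔
      (Magnet.attrFace aU hQ).app (op T) (e₁.homEquiv z) = (Magnet.attrFace aU hQ).app (op T) (e₁.homEquiv z'))
    {B C : CommRingCat.{u}} (b : Spec B ⟶ Z0.left) [Mono b] (c : Spec C ⟶ Z₁.left) [IsOpenImmersion c]
    (hrange : ∀ p : Z₁.left, g₁.left.base p ∈ Set.range b.base → p ∈ Set.range c.base)
    (φ : B ⟶ C) (hφ : Spec.map φ ≫ b = c ≫ g₁.left)
    (sB : Over.mk (b ≫ Z0.hom) ⟶ Z₁) (hsB : sB ≫ g₁ = Over.homMk b rfl)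
    (hsB' : (Magnet.attrMap aU hQ.le).app _ ((Magnet.attrFace aU hQ).app _ (e₁.homEquiv sB)) = e₁.homEquiv sB) :
    ∃ (ε : C ⟶ B) (θ : C ⟶ CommRingCat.of (Polynomial C)), φ ≫ ε = 𝟙 B ∧
      (∀ x, θ.hom (φ.hom x) = Polynomial.C (φ.hom x)) ∧
      (∀ x, (θ.hom x).eval 1 = x) ∧ (∀ x, (θ.hom x).eval 0 = φ.hom (ε.hom x)) ∧
      (∀ x n, θ.hom ((θ.hom x).coeff n) = Polynomial.C ((θ.hom x).coeff n) * Polynomial.X ^ n) := by
  obtain ⟨δ, hnat, h0, h1, -, h5, h6⟩ := AttrHomotopy.exists_homotopy S M aU hN hQ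
  have hland : ∀ {R : CommRingCat.{u}} {t : Spec R ⟶ S} (w : AttrAffine.specOver R t ⟶ Z₁),
      (∀ p, g₁.left.base (w.left.base p) ∈ Set.range b.base) → ∃ τ : C ⟶ R, Spec.map τ ≫ c = w.left := by
    intro R t w h
    obtain ⟨τ, hτ⟩ := Spec.map_surjective (IsOpenImmersion.lift c w.left
      (by rintro _ ⟨p, rfl⟩; exact hrange _ (h p)))
    exact ⟨τ, by rw [hτ, IsOpenImmersion.lift_fac]⟩
  have hinj : ∀ {R : CommRingCat.{u}} {τ τ' : C ⟶ R}, Spec.map τ ≫ c = Spec.map τ' ≫ c → τ = τ' :=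
    fun h => Spec.map_injective ((cancel_mono c).1 h)
  have hinjB : ∀ {R : CommRingCat.{u}} {τ τ' : B ⟶ R}, Spec.map τ ≫ b = Spec.map τ' ≫ b → τ = τ' :=
    fun h => Spec.map_injective ((cancel_mono b).1 h)
  let TB : Over S := AttrAffine.specOver B (b ≫ Z0.hom)
  obtain ⟨ε, hε⟩ := hland (R := B) (t := b ≫ Z0.hom) sB (fun p => by
    rw [← Scheme.Hom.comp_apply, ← Over.comp_left, hsB]
    exact ⟨p, rfl⟩)
  have hφε : φ ≫ ε = 𝟙 B := hinjB (by
    rw [Spec.map_comp, Category.assoc, hφ, reassoc_of% hε, Spec.map_id, Category.id_comp]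
    exact congrArg CommaMorphism.left hsB)
  let TC : Over S := AttrAffine.specOver C (c ≫ Z₁.hom)
  let cC : TC ⟶ Z₁ := Over.homMk c
  let xC := e₁.homEquiv cC
  let R1 : CommRingCat.{u} := CommRingCat.of (Polynomial C)
  let pC : C ⟶ R1 := CommRingCat.ofHom Polynomial.C
  let T1 : Over S := AttrAffine.specOver R1 (Spec.map pC ≫ c ≫ Z₁.hom)
  let π : T1 ⟶ TC := Over.homMk (Spec.map pC)
  let cX : Γ(T1.left, ⊤) := (Scheme.ΓSpecIso R1).inv.hom Polynomial.X
  let wX : T1 ⟶ Z₁ := e₁.homEquiv.symm (δ T1 (e₁.homEquiv (π ≫ cC)) cX)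
  have hwX : e₁.homEquiv wX = δ T1 (e₁.homEquiv (π ≫ cC)) cX := Equiv.apply_symm_apply _ _
  have hwg : wX ≫ g₁ = (π ≫ cC) ≫ g₁ := (hg _ _ _).2 (by rw [hwX, h5])
  obtain ⟨θ, hθ⟩ := hland (R := R1) wX (fun p => by
    rw [← Scheme.Hom.comp_apply, ← Over.comp_left, hwg, Category.assoc, Over.comp_left, Over.comp_left]
    change (Spec.map pC ≫ c ≫ g₁.left).base p ∈ _
    rw [← hφ, ← Category.assoc, Scheme.Hom.comp_apply]
    exact ⟨_, rfl⟩)
  have hθφ : φ ≫ θ = φ ≫ pC := hinjB (by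
    rw [Spec.map_comp, Spec.map_comp, Category.assoc, Category.assoc, hφ, reassoc_of% hθ]
    exact (congrArg CommaMorphism.left hwg).trans (by simp [π, cC]))
  -- evaluation
  let ev : ↑C → (TC ⟶ T1) := fun r =>
    Over.homMk (Spec.map (CommRingCat.ofHom (Polynomial.evalRingHom r) : R1 ⟶ C)) (by
      change Spec.map _ ≫ Spec.map pC ≫ c ≫ Z₁.hom = c ≫ Z₁.hom
      rw [← Spec.map_comp_assoc, ← CommRingCat.ofHom_comp,
        show (Polynomial.evalRingHom r).comp Polynomial.C = RingHom.id (C : Type u) from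
          RingHom.ext fun x => Polynomial.eval_C]
      simp)
  have hev : ∀ r, ev r ≫ π = 𝟙 TC := fun r => by
    apply Over.OverMorphism.ext
    change Spec.map _ ≫ Spec.map pC = 𝟙 (Spec C)
    rw [← Spec.map_comp, ← CommRingCat.ofHom_comp,
      show (Polynomial.evalRingHom r).comp Polynomial.C = RingHom.id (C : Type u) from
        RingHom.ext fun x => Polynomial.eval_C]
    simp
  have hevw : ∀ r, e₁.homEquiv (ev r ≫ wX) = δ TC xC ((Scheme.ΓSpecIso C).inv.hom r) := fun r => by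
    rw [e₁.homEquiv_comp, hwX, ← hnat, ← e₁.homEquiv_comp, reassoc_of% hev r]
    refine congrArg (δ TC xC) ?_
    exact (congr($(Scheme.ΓSpecIso_inv_naturality (CommRingCat.ofHom (Polynomial.evalRingHom r) : R1 ⟶ C))
      Polynomial.X)).symm.trans (congrArg (Scheme.ΓSpecIso C).inv.hom Polynomial.eval_X)
  have heval1 : θ ≫ CommRingCat.ofHom (Polynomial.evalRingHom 1) = 𝟙 C := hinj (by
    rw [Spec.map_comp, Category.assoc, hθ, Spec.map_id]
    refine Eq.trans ?_ (Category.id_comp c).symm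
    refine congrArg CommaMorphism.left (?_ : ev 1 ≫ wX = cC)
    refine e₁.homEquiv.injective ?_
    rw [hevw, map_one, h1])
  have heval0 : θ ≫ CommRingCat.ofHom (Polynomial.evalRingHom 0) = ε ≫ φ := hinj (by
    rw [Spec.map_comp, Category.assoc, hθ, Spec.map_comp, Category.assoc, hε]
    let q : TC ⟶ TB := Over.homMk (Spec.map φ) (by
      change Spec.map φ ≫ b ≫ Z0.hom = c ≫ Z₁.hom
      rw [reassoc_of% hφ, Over.w g₁])
    refine congrArg CommaMorphism.left (?_ : ev 0 ≫ wX = q ≫ sB)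
    have hq : (q ≫ sB) ≫ g₁ = cC ≫ g₁ := by
      rw [Category.assoc, hsB]
      exact Over.OverMorphism.ext hφ
    refine e₁.homEquiv.injective ?_
    rw [hevw, map_zero, h0, ← (hg _ _ _).1 hq, e₁.homEquiv_comp, NatTrans.naturality_apply,
      NatTrans.naturality_apply, hsB'])
  -- coassociativity
  let R2 : CommRingCat.{u} := CommRingCat.of (Polynomial (Polynomial C))
  let pC2 : R1 ⟶ R2 := CommRingCat.ofHom Polynomial.C
  let T2 : Over S := AttrAffine.specOver R2 (Spec.map pC2 ≫ Spec.map pC ≫ c ≫ Z₁.hom)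
  let π2 : T2 ⟶ T1 := Over.homMk (Spec.map pC2)
  let mθ : R1 ⟶ R2 := CommRingCat.ofHom (Polynomial.mapRingHom θ.hom)
  let bm : R1 ⟶ R2 := CommRingCat.ofHom (Polynomial.eval₂RingHom
    ((Polynomial.C : Polynomial C →+* Polynomial (Polynomial C)).comp Polynomial.C)
    (Polynomial.C Polynomial.X * Polynomial.X))
  have hmθ : pC ≫ mθ = θ ≫ pC2 := by
    ext x : 2
    exact Polynomial.map_C _
  have hbm : pC ≫ bm = pC ≫ pC2 := by
    ext x : 2
    exact Polynomial.eval₂_C _ _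
  let am : T2 ⟶ T1 := Over.homMk (Spec.map mθ) (by
    change Spec.map mθ ≫ Spec.map pC ≫ c ≫ Z₁.hom = Spec.map pC2 ≫ Spec.map pC ≫ c ≫ Z₁.hom
    rw [← Spec.map_comp_assoc, hmθ, Spec.map_comp_assoc, reassoc_of% hθ]
    exact congrArg (Spec.map pC2 ≫ ·) (Over.w wX))
  let bmO : T2 ⟶ T1 := Over.homMk (Spec.map bm) (by
    change Spec.map bm ≫ Spec.map pC ≫ c ≫ Z₁.hom = Spec.map pC2 ≫ Spec.map pC ≫ c ≫ Z₁.hom
    rw [← Spec.map_comp_assoc, hbm, Spec.map_comp_assoc])
  have ham : am ≫ π ≫ cC = π2 ≫ wX := Over.OverMorphism.ext (by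
    change Spec.map mθ ≫ Spec.map pC ≫ c = Spec.map pC2 ≫ wX.left
    rw [← Spec.map_comp_assoc, hmθ, Spec.map_comp_assoc, hθ])
  have hbmπ : bmO ≫ π = π2 ≫ π := Over.OverMorphism.ext (by
    change Spec.map bm ≫ Spec.map pC = Spec.map pC2 ≫ Spec.map pC
    rw [← Spec.map_comp, hbm, Spec.map_comp])
  have hγ : bmO.left.appTop cX = π2.left.appTop cX * am.left.appTop cX := by
    have e1 : ∀ (h : R1 ⟶ R2), (Spec.map h).appTop cX = (Scheme.ΓSpecIso R2).inv.hom (h.hom Polynomial.X) :=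
      fun h => (congr($(Scheme.ΓSpecIso_inv_naturality h) Polynomial.X)).symm
    change (Spec.map bm).appTop cX = (Spec.map pC2).appTop cX * (Spec.map mθ).appTop cX
    rw [e1, e1, e1, ← map_mul]
    refine congrArg (Scheme.ΓSpecIso R2).inv.hom ?_
    change Polynomial.eval₂ _ _ Polynomial.X = Polynomial.C Polynomial.X * Polynomial.map _ Polynomial.X
    rw [Polynomial.eval₂_X, Polynomial.map_X]
  have hco : θ ≫ mθ = θ ≫ bm := hinj (by
    rw [Spec.map_comp, Category.assoc, hθ, Spec.map_comp, Category.assoc, hθ]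
    refine congrArg CommaMorphism.left (?_ : am ≫ wX = bmO ≫ wX)
    refine e₁.homEquiv.injective ?_
    rw [e₁.homEquiv_comp, hwX, ← hnat, ← e₁.homEquiv_comp am, ham, e₁.homEquiv_comp π2, hwX, ← hnat,
      ← e₁.homEquiv_comp π2, h6, ← hγ, e₁.homEquiv_comp bmO, hwX, ← hnat, ← e₁.homEquiv_comp bmO,
      reassoc_of% hbmπ])
  refine ⟨ε, θ, hφε, fun x => congr($(hθφ) x), fun x => congr($(heval1) x), fun x => congr($(heval0) x),
    fun x n => ?_⟩
  have h := congrArg (fun p : Polynomial (Polynomial C) => p.coeff n) (congr($(hco) x))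
  exact (Polynomial.coeff_map θ.hom n).symm.trans (h.trans (coeff_eval₂_CC _ n))

end Groth.Agent.Lib.GrpSch.AttrBundle
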