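import Groth.Agent.Lib.GrpSch.Magnet
import Mathlib.AlgebraicGeometry.AffineTransitionLimit

/-!
# Attractors and cofiltered limits of affine schemes

Equivariant maps `A(N)_S × lim Tᵢ ⟶ X` lying over a stage map into `Y` come from a stage when
`X ⟶ Y` is locally of finite presentation.  No finiteness of `N` is needed.
-/

set_option autoImplicit false
universe u

open CategoryTheory Limits MonoidalCategory CartesianMonoidalCategory MonObj AlgebraicGeometry Opposite

namespace Groth.Agent.Lib.GrpSch.AttrStage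

variable {S : Scheme.{u}}

theorem isAffine_tensor (N : Type) [AddCommMonoid N] (T : Over S) [IsAffine T.left] :
    IsAffine (Magnet.AMonS S N ⊗ T).left := by
  have : IsAffineHom (Magnet.AMon (ULift.{u} ℤ) N).hom :=
    inferInstanceAs (IsAffineHom (Spec.map (CommRingCat.ofHom
      (algebraMap (ULift.{u} ℤ) (MonoidAlgebra (ULift.{u} ℤ) (Multiplicative N))))))
  have : IsAffineHom (snd (Magnet.AMonS S N) T).left :=
    MorphismProperty.of_isPullback (P := @IsAffineHom) (isPullback_AMonS_snd T N).flip this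
  exact isAffine_of_isAffineHom (snd (Magnet.AMonS S N) T).left

theorem isAffine_tensor₂ (M N : Type) [AddCommMonoid M] [AddCommMonoid N] (T : Over S) [IsAffine T.left] :
    IsAffine ((Magnet.AMonS S M ⊗ Magnet.AMonS S N) ⊗ T).left := by
  have := isAffine_tensor N T
  have := isAffine_tensor M (Magnet.AMonS S N ⊗ T)
  have : IsIso (α_ (Magnet.AMonS S M) (Magnet.AMonS S N) T).hom.left :=
    ((Over.forget S).mapIso (α_ (Magnet.AMonS S M) (Magnet.AMonS S N) T)).isIso_hom
  exact IsAffine.of_isIso (α_ (Magnet.AMonS S M) (Magnet.AMonS S N) T).hom.left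

variable {I : Type u} [SmallCategory I] [IsCofiltered I] {E : I ⥤ Over S} {e : Cone E}

/-- `A ×_S -` preserves cofiltered limits. -/
noncomputable def isLimitTensor (A : Over S) (he : IsLimit ((Over.forget S).mapCone e)) :
    IsLimit ((Over.forget S).mapCone ((tensorLeft A).mapCone e)) := by
  haveI : Nonempty I := IsCofiltered.nonempty
  let comp : ∀ (s : Cone ((E ⋙ tensorLeft A) ⋙ Over.forget S)) (j : I), s.pt ⟶ (A ⊗ E.obj j).left :=
    fun s j => s.π.app j
  have hcomp : ∀ (s : Cone ((E ⋙ tensorLeft A) ⋙ Over.forget S)) {j k : I} (φ : j ⟶ k),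
      comp s j ≫ (A ◁ E.map φ).left = comp s k := fun s {j k} φ => s.w φ
  let p : ∀ j, e.pt ⟶ E.obj j := fun j => e.π.app j
  have hconst : ∀ (s : Cone ((E ⋙ tensorLeft A) ⋙ Over.forget S)) (j k : I),
      comp s j ≫ (fst A (E.obj j)).left = comp s k ≫ (fst A (E.obj k)).left := by
    intro s
    have key : ∀ {j k : I} (φ : j ⟶ k),
        comp s j ≫ (fst A (E.obj j)).left = comp s k ≫ (fst A (E.obj k)).left := fun {j k} φ => by
      rw [← hcomp s φ, Category.assoc, ← Over.comp_left, whiskerLeft_fst]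
    intro j k
    rw [← key (IsCofiltered.minToLeft j k), ← key (IsCofiltered.minToRight j k)]
  let sndC : Cone ((E ⋙ tensorLeft A) ⋙ Over.forget S) → Cone (E ⋙ Over.forget S) := fun s =>
    { pt := s.pt
      π :=
        { app := fun j => comp s j ≫ (snd A (E.obj j)).left
          naturality := fun j k φ => by
            refine (Category.id_comp _).trans ?_
            change comp s k ≫ (snd A (E.obj k)).left = (comp s j ≫ (snd A (E.obj j)).left) ≫ (E.map φ).left
            rw [← hcomp s φ, Category.assoc, Category.assoc, ← Over.comp_left, whiskerLeft_snd, Over.comp_left] } }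
  let j₀ : I := Classical.arbitrary I
  let l : ∀ s : Cone ((E ⋙ tensorLeft A) ⋙ Over.forget S), s.pt ⟶ e.pt.left := fun s => he.lift (sndC s)
  have hl : ∀ s j, l s ≫ (p j).left = comp s j ≫ (snd A (E.obj j)).left := fun s j => he.fac (sndC s) j
  have hw : ∀ s, (comp s j₀ ≫ (fst A (E.obj j₀)).left) ≫ A.hom = l s ≫ e.pt.hom := fun s => by
    rw [← Over.w (p j₀), reassoc_of% hl s j₀, Category.assoc, (isPullback_left A (E.obj j₀)).w]
  refine IsLimit.ofExistsUnique fun s => ⟨(isPullback_left A e.pt).lift _ _ (hw s), fun j => ?_, fun m hm => ?_⟩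
  · change (isPullback_left A e.pt).lift _ _ (hw s) ≫ (A ◁ p j).left = comp s j
    refine (isPullback_left A (E.obj j)).hom_ext ?_ ?_
    · rw [Category.assoc, ← Over.comp_left, whiskerLeft_fst]
      exact ((isPullback_left A e.pt).lift_fst _ _ _).trans (hconst s j₀ j)
    · rw [Category.assoc, ← Over.comp_left, whiskerLeft_snd, Over.comp_left, IsPullback.lift_snd_assoc]
      exact hl s j
  · let m' : s.pt ⟶ (A ⊗ e.pt).left := m
    have hm' : ∀ j, m' ≫ (A ◁ p j).left = comp s j := hm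
    change m' = _
    refine (isPullback_left A e.pt).hom_ext ?_ ?_
    · rw [IsPullback.lift_fst, ← hm' j₀, Category.assoc, ← Over.comp_left, whiskerLeft_fst]
    · rw [IsPullback.lift_snd]
      refine he.uniq (sndC s) _ fun j => ?_
      change (m' ≫ (snd A e.pt).left) ≫ (p j).left = comp s j ≫ (snd A (E.obj j)).left
      rw [← hm' j, Category.assoc, Category.assoc, ← Over.comp_left, ← Over.comp_left, whiskerLeft_snd]

/-- Two maps from a stage which agree on the limit and over `Y` agree at a later stage. -/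
theorem exists_eq_stage (A : Over S) (he : IsLimit ((Over.forget S).mapCone e))
    (hA : ∀ i, IsAffine (A ⊗ E.obj i).left) {X Y : Over S} (f : X ⟶ Y) [LocallyOfFiniteType f.left] {i : I}
    (u v : A ⊗ E.obj i ⟶ X) (huv : u ≫ f = v ≫ f) (h : (A ◁ e.π.app i) ≫ u = (A ◁ e.π.app i) ≫ v) :
    ∃ (j : I) (φ : j ⟶ i), (A ◁ E.map φ) ≫ u = (A ◁ E.map φ) ≫ v := by
  let E' := E ⋙ tensorLeft A
  let F : CategoryTheory.Over i ⥤ Scheme.{u} := Over.forget i ⋙ E' ⋙ Over.forget S
  let c' : Cone F := ((Over.forget S).mapCone ((tensorLeft A).mapCone e)).whisker (Over.forget i)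
  let hc' : IsLimit c' := (Functor.Initial.isLimitWhiskerEquiv _ _).symm (isLimitTensor A he)
  haveI : ∀ k, IsAffine (F.obj k) := fun k => hA _
  haveI : ∀ {j k} (φ : j ⟶ k), IsAffineHom (F.map φ) := fun φ => isAffineHom_of_isAffine _
  haveI : ∀ k, CompactSpace ↥(F.obj k) := fun k => inferInstance
  let t : F ⟶ (Functor.const _).obj Y.left :=
    { app := fun k => ((A ◁ E.map k.hom) ≫ u ≫ f).left
      naturality := fun k l φ => by
        refine Eq.trans ?_ (Category.comp_id _).symm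
        change (A ◁ E.map φ.left).left ≫ _ = _
        rw [← Over.comp_left, ← MonoidalCategory.whiskerLeft_comp_assoc, ← E.map_comp, Over.w] }
  let k₀ : CategoryTheory.Over i := Over.mk (𝟙 i)
  have ht : ∀ w : A ⊗ E.obj i ⟶ X, w ≫ f = u ≫ f → t.app k₀ = w.left ≫ f.left := fun w hw => by
    change ((A ◁ E.map (𝟙 i)) ≫ u ≫ f).left = _
    rw [E.map_id, MonoidalCategory.whiskerLeft_id, Category.id_comp, ← hw, Over.comp_left]
  obtain ⟨k, φ, hk⟩ := Scheme.exists_hom_comp_eq_comp_of_locallyOfFiniteType F t f.left c' hc'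
    (i := k₀) u.left v.left (ht u rfl) (ht v huv.symm) (congrArg CommaMorphism.left h)
  exact ⟨k.left, φ.left, Over.OverMorphism.ext hk⟩

/-- A map from the limit over a stage map into `Y` comes from a stage. -/
theorem exists_lift_stage (A : Over S) (he : IsLimit ((Over.forget S).mapCone e))
    (hA : ∀ i, IsAffine (A ⊗ E.obj i).left) {X Y : Over S} (f : X ⟶ Y) [LocallyOfFinitePresentation f.left]
    {i : I} (x : A ⊗ e.pt ⟶ X) (y : A ⊗ E.obj i ⟶ Y) (hxy : x ≫ f = (A ◁ e.π.app i) ≫ y) :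
    ∃ (j : I) (φ : j ⟶ i) (x' : A ⊗ E.obj j ⟶ X),
      (A ◁ e.π.app j) ≫ x' = x ∧ x' ≫ f = (A ◁ E.map φ) ≫ y := by
  let E' := E ⋙ tensorLeft A
  let F : CategoryTheory.Over i ⥤ Scheme.{u} := Over.forget i ⋙ E' ⋙ Over.forget S
  let c' : Cone F := ((Over.forget S).mapCone ((tensorLeft A).mapCone e)).whisker (Over.forget i)
  let hc' : IsLimit c' := (Functor.Initial.isLimitWhiskerEquiv _ _).symm (isLimitTensor A he)
  haveI : ∀ k, IsAffine (F.obj k) := fun k => hA _
  haveI : ∀ {j k} (φ : j ⟶ k), IsAffineHom (F.map φ) := fun φ => isAffineHom_of_isAffine _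
  haveI : ∀ k, CompactSpace ↥(F.obj k) := fun k => inferInstance
  haveI : ∀ k, QuasiSeparatedSpace ↥(F.obj k) := fun k => inferInstance
  let t : F ⟶ (Functor.const _).obj Y.left :=
    { app := fun k => ((A ◁ E.map k.hom) ≫ y).left
      naturality := fun k l φ => by
        refine Eq.trans ?_ (Category.comp_id _).symm
        change (A ◁ E.map φ.left).left ≫ _ = _
        rw [← Over.comp_left, ← MonoidalCategory.whiskerLeft_comp_assoc, ← E.map_comp, Over.w] }
  obtain ⟨k, g, hg, hgf⟩ := Scheme.exists_π_app_comp_eq_of_locallyOfFinitePresentation F t f.left c' hc'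
    x.left (by
      ext k : 2
      change (A ◁ e.π.app k.left).left ≫ ((A ◁ E.map k.hom) ≫ y).left = x.left ≫ f.left
      rw [← Over.comp_left, ← Over.comp_left, hxy, ← MonoidalCategory.whiskerLeft_comp_assoc, e.w])
  refine ⟨k.left, k.hom, Over.homMk g ?_, Over.OverMorphism.ext hg, Over.OverMorphism.ext hgf⟩
  rw [← Over.w f, ← Category.assoc]
  exact (congrArg (· ≫ Y.hom) hgf).trans (Over.w ((A ◁ E.map k.hom) ≫ y))

variable {M : Type} [AddCommMonoid M] {X Y : Over S}

/-- Attractor elements over a stage agreeing on the limit and in `Y` agree at a later stage. -/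
theorem exists_attr_eq_stage (he : IsLimit ((Over.forget S).mapCone e)) (hE : ∀ i, IsAffine (E.obj i).left)
    (a : Magnet.MonAct (Magnet.AMonS S M) X) (N : AddSubmonoid M) (f : X ⟶ Y) [LocallyOfFiniteType f.left]
    {i : I} (u v : (Magnet.attr a N).obj (op (E.obj i))) (huv : u.1 ≫ f = v.1 ≫ f)
    (h : (Magnet.attr a N).map (e.π.app i).op u = (Magnet.attr a N).map (e.π.app i).op v) :
    ∃ (j : I) (φ : j ⟶ i), (Magnet.attr a N).map (E.map φ).op u = (Magnet.attr a N).map (E.map φ).op v := by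
  obtain ⟨j, φ, hφ⟩ := exists_eq_stage (Magnet.AMonS S N) he
    (fun i => have := hE i; isAffine_tensor N (E.obj i)) f u.1 v.1 huv (congrArg Subtype.val h)
  exact ⟨j, φ, Subtype.ext hφ⟩

/-- Attractor elements over the limit lying over a stage element come from a stage. -/
theorem exists_attr_lift_stage (he : IsLimit ((Over.forget S).mapCone e)) (hE : ∀ i, IsAffine (E.obj i).left)
    (aX : Magnet.MonAct (Magnet.AMonS S M) X) (aY : Magnet.MonAct (Magnet.AMonS S M) Y) (N : AddSubmonoid M)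
    (f : X ⟶ Y) (hf : Magnet.MonAct.IsEquivariant aX aY f) [LocallyOfFinitePresentation f.left] {i : I}
    (x : (Magnet.attr aX N).obj (op e.pt)) (y : (Magnet.attr aY N).obj (op (E.obj i)))
    (hxy : x.1 ≫ f = (Magnet.AMonS S N ◁ e.π.app i) ≫ y.1) :
    ∃ (j : I) (φ : j ⟶ i) (x' : (Magnet.attr aX N).obj (op (E.obj j))),
      (Magnet.AMonS S N ◁ e.π.app j) ≫ x'.1 = x.1 ∧ x'.1 ≫ f = (Magnet.AMonS S N ◁ E.map φ) ≫ y.1 := by
  obtain ⟨j, φ, w, hw, hwf⟩ := exists_lift_stage (Magnet.AMonS S N) he (fun i => have := hE i; isAffine_tensor N (E.obj i))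
    f x.1 y.1 hxy
  have hy := (Magnet.MonAct.mem_eqvHom_iff _).1 ((Magnet.attr aY N).map (E.map φ).op y).2
  let L : ∀ {T : Over S}, ((Magnet.AMonS S N) ⊗ T ⟶ X) → (((Magnet.AMonS S M) ⊗ (Magnet.AMonS S N)) ⊗ T ⟶ X) := fun {T} z =>
    lift (lift (fst _ _ ≫ fst (Magnet.AMonS S M) (Magnet.AMonS S N)) (fst _ _ ≫ snd (Magnet.AMonS S M) (Magnet.AMonS S N)) ≫ (Magnet.subAct S M N).act) (snd _ _) ≫ z
  let R : ∀ {T : Over S}, ((Magnet.AMonS S N) ⊗ T ⟶ X) → (((Magnet.AMonS S M) ⊗ (Magnet.AMonS S N)) ⊗ T ⟶ X) := fun {T} z =>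
    lift (fst _ _ ≫ fst (Magnet.AMonS S M) (Magnet.AMonS S N)) (lift (fst _ _ ≫ snd (Magnet.AMonS S M) (Magnet.AMonS S N)) (snd _ _) ≫ z) ≫ aX.act
  have hLR : L w ≫ f = R w ≫ f := by
    simp only [L, R, Category.assoc]
    rw [hwf]
    refine (hy _ _ _ _).trans ?_
    rw [hf, lift_whiskerLeft_assoc, Category.assoc, hwf]
    rfl
  have hnat : ∀ (z : (Magnet.AMonS S N) ⊗ E.obj j ⟶ X), (((Magnet.AMonS S M) ⊗ (Magnet.AMonS S N)) ◁ e.π.app j) ≫ L z = L (((Magnet.AMonS S N) ◁ e.π.app j) ≫ z) ∧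
      (((Magnet.AMonS S M) ⊗ (Magnet.AMonS S N)) ◁ e.π.app j) ≫ R z = R (((Magnet.AMonS S N) ◁ e.π.app j) ≫ z) := fun z => by
    constructor <;>
      simp only [L, R, comp_lift_assoc, comp_lift, whiskerLeft_fst_assoc, whiskerLeft_snd,
        lift_whiskerLeft_assoc]
  obtain ⟨k, ψ, hψ⟩ := exists_eq_stage ((Magnet.AMonS S M) ⊗ (Magnet.AMonS S N)) he (fun i => have := hE i; isAffine_tensor₂ M N (E.obj i))
    f (L w) (R w) hLR (by
      rw [(hnat w).1, (hnat w).2, hw]
      exact (Magnet.MonAct.mem_eqvHom_iff _).1 x.2 _ _ _ _)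
  refine ⟨k, ψ ≫ φ, ⟨((Magnet.AMonS S N) ◁ E.map ψ) ≫ w, (Magnet.MonAct.mem_eqvHom_iff _).2 fun T g b t => ?_⟩, ?_, ?_⟩
  · have := congrArg (lift (lift g b) t ≫ ·) hψ
    simp only [L, R, comp_lift_assoc, comp_lift, whiskerLeft_fst_assoc, whiskerLeft_snd, lift_fst_assoc, lift_fst,
      lift_snd, lift_snd_assoc, lift_whiskerLeft_assoc] at this
    rw [lift_whiskerLeft_assoc, lift_whiskerLeft_assoc]
    exact this
  · change ((Magnet.AMonS S N) ◁ e.π.app k) ≫ ((Magnet.AMonS S N) ◁ E.map ψ) ≫ w = x.1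
    rw [← MonoidalCategory.whiskerLeft_comp_assoc, e.w, hw]
  · change (((Magnet.AMonS S N) ◁ E.map ψ) ≫ w) ≫ f = _
    rw [Category.assoc, hwf, ← MonoidalCategory.whiskerLeft_comp_assoc, ← E.map_comp]

end Groth.Agent.Lib.GrpSch.AttrStage
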