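import Groth.Agent.Lib.GrpSch.SmoothCrit
import Groth.Agent.H69.SurjectiveLfp

/-!
# Smoothness of a morphism of representing objects from its functor of points
-/

set_option autoImplicit false
universe u

open CategoryTheory Limits AlgebraicGeometry Opposite

namespace Groth.Agent.Lib.GrpSch

/-- A morphism of representing schemes is smooth if the transformation of functors lifts along square-zero
thickenings of affine schemes and every point over a limit of affine schemes lying over a stage point
comes from a stage. -/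
theorem smooth_of_representable {S : Scheme.{u}} {F G : (Over S)ᵒᵖ ⥤ Type u} (α : F ⟶ G) {ZF ZG : Over S}
    (eF : F.RepresentableBy ZF) (eG : G.RepresentableBy ZG) (j : ZF ⟶ ZG)
    (hj : ∀ (T : Over S) (z : T ⟶ ZF), eG.homEquiv (z ≫ j) = α.app (op T) (eF.homEquiv z))
    (hlift : ∀ (A : Type u) [CommRing A] (I : Ideal A), I ^ 2 = ⊥ → ∀ (str : Spec (CommRingCat.of A) ⟶ S)
      (x : F.obj (op (Over.mk (Spec.map (CommRingCat.ofHom (Ideal.Quotient.mk I)) ≫ str))))
      (y : G.obj (op (Over.mk str))),
      α.app _ x = G.map (Over.homMk (Spec.map (CommRingCat.ofHom (Ideal.Quotient.mk I))) rfl :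
        Over.mk (Spec.map (CommRingCat.ofHom (Ideal.Quotient.mk I)) ≫ str) ⟶ Over.mk str).op y →
      ∃ l : F.obj (op (Over.mk str)),
        F.map (Over.homMk (Spec.map (CommRingCat.ofHom (Ideal.Quotient.mk I))) rfl :
          Over.mk (Spec.map (CommRingCat.ofHom (Ideal.Quotient.mk I)) ≫ str) ⟶ Over.mk str).op l = x ∧
          α.app _ l = y)
    (hstage : ∀ {I : Type u} [SmallCategory I] [IsCofiltered I] (E : I ⥤ Over S) (e : Cone E),
      IsLimit ((Over.forget S).mapCone e) → (∀ i, IsAffine (E.obj i).left) →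
      ∀ (i : I) (x : F.obj (op e.pt)) (y : G.obj (op (E.obj i))),
        α.app _ x = G.map (e.π.app i).op y →
        ∃ (k : I) (φ : k ⟶ i) (x' : F.obj (op (E.obj k))),
          F.map (e.π.app k).op x' = x ∧ α.app _ x' = G.map (E.map φ).op y) :
    Smooth j.left := by
  haveI : LocallyOfFinitePresentation j.left := by
    refine H69.SurjectiveLfp.lfp_of_surjective j.left fun J _ _ _ D t c hc hD i g hg => ?_
    let E : Jᵒᵖ ⥤ Over S :=
      { obj := fun k ↦ Over.mk (t.app k ≫ ZG.hom)
        map := fun {k l} φ ↦ Over.homMk (D.map φ) (by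
          show D.map φ ≫ t.app l ≫ ZG.hom = t.app k ≫ ZG.hom
          rw [← Category.assoc, t.naturality φ, Functor.const_obj_map]
          exact congrArg (· ≫ ZG.hom) (Category.comp_id _))
        map_id := fun k ↦ Over.OverMorphism.ext (D.map_id k)
        map_comp := fun φ ψ ↦ Over.OverMorphism.ext (D.map_comp φ ψ) }
    have hconst : ∀ k : Jᵒᵖ, c.π.app k ≫ t.app k = c.π.app i ≫ t.app i := by
      have key : ∀ {k l : Jᵒᵖ} (φ : k ⟶ l), c.π.app k ≫ t.app k = c.π.app l ≫ t.app l := fun {k l} φ => by
        have h1 : D.map φ ≫ t.app l = t.app k := (t.naturality φ).trans (Category.comp_id _)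
        rw [← h1, ← Category.assoc, c.w φ]
      intro k
      rw [← key (IsCofiltered.minToLeft k i), key (IsCofiltered.minToRight k i)]
    let e : Cone E :=
      { pt := Over.mk (g ≫ ZF.hom)
        π :=
          { app := fun k ↦ Over.homMk (c.π.app k) (by
              show c.π.app k ≫ t.app k ≫ ZG.hom = g ≫ ZF.hom
              rw [← Category.assoc, hconst, ← hg, Category.assoc, Over.w j])
            naturality := fun k l φ ↦ Over.OverMorphism.ext (c.π.naturality φ) } }
    let τ : E.obj i ⟶ ZG := Over.homMk (t.app i) rfl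
    let gO : e.pt ⟶ ZF := Over.homMk g rfl
    obtain ⟨k, φ, x', hx', hxy⟩ := hstage E e hc hD i (eF.homEquiv gO) (eG.homEquiv τ) (by
      rw [← hj, ← eG.homEquiv_comp]
      exact congrArg eG.homEquiv (Over.OverMorphism.ext hg))
    refine ⟨k, (eF.homEquiv.symm x').left, ?_, ?_⟩
    · have h1 : eF.homEquiv.symm x' ≫ j = E.map φ ≫ τ := eG.homEquiv.injective (by
        rw [hj, Equiv.apply_symm_apply, hxy, eG.homEquiv_comp])
      refine (congrArg CommaMorphism.left h1).trans ?_
      exact (t.naturality φ).trans (Category.comp_id _)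
    · have h2 : e.π.app k ≫ eF.homEquiv.symm x' = gO := eF.homEquiv.injective (by
        rw [eF.homEquiv_comp, Equiv.apply_symm_apply, hx'])
      exact congrArg CommaMorphism.left h2
  refine smooth_of_liftings j.left fun A J hJ t c₀ hc₀ => ?_
  let str : Spec (CommRingCat.of A) ⟶ S := t ≫ ZG.hom
  let tO : Over.mk str ⟶ ZG := Over.homMk t rfl
  let cO : Over.mk (Spec.map (CommRingCat.ofHom (Ideal.Quotient.mk J)) ≫ str) ⟶ ZF := Over.homMk c₀ (by
    change c₀ ≫ ZF.hom = Spec.map _ ≫ t ≫ ZG.hom
    rw [← Over.w j, reassoc_of% hc₀])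
  obtain ⟨l, hl, hl'⟩ := hlift A J hJ str (eF.homEquiv cO) (eG.homEquiv tO) (by
    rw [← hj, ← eG.homEquiv_comp]
    exact congrArg eG.homEquiv (Over.OverMorphism.ext hc₀))
  refine ⟨(eF.homEquiv.symm l).left, ?_, ?_⟩
  · have h1 : eF.homEquiv.symm l ≫ j = tO := eG.homEquiv.injective (by rw [hj, Equiv.apply_symm_apply, hl'])
    exact congrArg CommaMorphism.left h1
  · have h2 : (Over.homMk (Spec.map (CommRingCat.ofHom (Ideal.Quotient.mk J))) rfl :
        Over.mk (Spec.map (CommRingCat.ofHom (Ideal.Quotient.mk J)) ≫ str) ⟶ Over.mk str) ≫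
          eF.homEquiv.symm l = cO := eF.homEquiv.injective (by rw [eF.homEquiv_comp, Equiv.apply_symm_apply, hl])
    exact congrArg CommaMorphism.left h2

end Groth.Agent.Lib.GrpSch
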