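import Groth.Agent.Lib.GrpSch.EqvLift

/-!
# Auxiliary constructions for equivariant lifting to attractors

Transport of actions along isomorphisms, the action on `A(N)_S × Spec A` in affine form, and pushouts of
affine squares after multiplication with `A(M)_S`.
-/

set_option autoImplicit false
universe u

open CategoryTheory Limits MonoidalCategory CartesianMonoidalCategory MonObj AlgebraicGeometry
open Groth.Agent.Lib

namespace Groth.Agent.Lib.GrpSch.AttrAffine

attribute [local instance] baseAlg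

section Transport

variable {S : Scheme.{u}} {A X X' Y : Over S} [MonObj A]

/-- Transport of an action along an isomorphism. -/
noncomputable def transportAct (e : X' ≅ X) (a : Magnet.MonAct A X) : Magnet.MonAct A X' :=
  Magnet.MonAct.mk' ((A ◁ e.hom) ≫ a.act ≫ e.inv)
    (fun T x => by rw [lift_whiskerLeft_assoc, a.lift_one_act_assoc, Category.assoc, e.hom_inv_id, Category.comp_id])
    (fun T g h x => by
      simp only [lift_whiskerLeft_assoc, Category.assoc, e.inv_hom_id, Category.comp_id, a.lift_mul_act_assoc])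

theorem transportAct_act (e : X' ≅ X) (a : Magnet.MonAct A X) :
    (transportAct e a).act = (A ◁ e.hom) ≫ a.act ≫ e.inv := rfl

theorem isEquivariant_transport_hom (e : X' ≅ X) (a : Magnet.MonAct A X) :
    Magnet.MonAct.IsEquivariant (transportAct e a) a e.hom := by
  simp [Magnet.MonAct.IsEquivariant, transportAct_act]

theorem isEquivariant_transport_inv (e : X' ≅ X) (a : Magnet.MonAct A X) :
    Magnet.MonAct.IsEquivariant a (transportAct e a) e.inv := by
  unfold Magnet.MonAct.IsEquivariant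
  rw [transportAct_act, ← MonoidalCategory.whiskerLeft_comp_assoc, e.inv_hom_id, MonoidalCategory.whiskerLeft_id,
    Category.id_comp]

end Transport

section Spec

variable {S : Scheme.{u}} {M : Type} [AddCommMonoid M]

theorem dMap_dIso {B C : CommRingCat.{u}} (τ : C ⟶ B) {t : Spec C ⟶ S} {t' : Spec B ⟶ S}
    (e : Spec.map τ ≫ t = t') :
    dMap (M := M) τ e ≫ (dIso C t).hom = (dIso B t').hom ≫ (Magnet.AMonS S M ◁ sMap τ e) := by
  rw [← lift_dCoord_dProj, ← lift_dCoord_dProj, comp_lift, dMap_dCoord, dMap_dProj, lift_whiskerLeft]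

/-- The square-zero ideals of `C ⊗ R₀[M]`. -/
theorem ker_bcNat_sq {B C : CommRingCat.{u}} (τ : C ⟶ B) (h : RingHom.ker τ.hom ^ 2 = ⊥) :
    RingHom.ker (bcNat (M := M) R0.{u} (toAlgHom' τ)).hom ^ 2 = ⊥ := by
  rw [eq_bot_iff, pow_two, Ideal.mul_le]
  intro z hz z' hz'
  rw [Ideal.mem_bot]
  refine mul_eq_zero_of_bcNat R0.{u} (toAlgHom' τ) (fun c c' hc hc' => ?_) hz hz'
  have hm : c * c' ∈ RingHom.ker τ.hom ^ 2 := by
    rw [pow_two]
    exact Ideal.mul_mem_mul hc hc'
  rwa [h, Ideal.mem_bot] at hm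

/-- Pushouts of affine squares of schemes over `S` stay pushouts after multiplication with `A(M)_S`. -/
theorem isPushout_spec_whiskerLeft {R B A' A : CommRingCat.{u}} {r : R ⟶ B} {s : R ⟶ A'} {q : B ⟶ A}
    {p : A' ⟶ A} (h : Ferrand.IsSq r.hom s.hom q.hom p.hom) {tR : Spec R ⟶ S} {tB : Spec B ⟶ S}
    {tA' : Spec A' ⟶ S} {tA : Spec A ⟶ S} (er : Spec.map r ≫ tR = tB) (es : Spec.map s ≫ tR = tA')
    (eq : Spec.map q ≫ tB = tA) (ep : Spec.map p ≫ tA' = tA) :
    IsPushout (sMap p ep) (sMap q eq) (sMap s es) (sMap r er) ∧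
      IsPushout (Magnet.AMonS S M ◁ sMap p ep) (Magnet.AMonS S M ◁ sMap q eq)
        (Magnet.AMonS S M ◁ sMap s es) (Magnet.AMonS S M ◁ sMap r er) := by
  have hw : r ≫ q = s ≫ p := CommRingCat.hom_ext (RingHom.ext h.comm)
  constructor
  · refine isPushout_of_affSq (Ferrand.affSq_Spec hw h) (Over.OverMorphism.ext ?_)
    rw [Over.comp_left, Over.comp_left, sMap_left, sMap_left, sMap_left, sMap_left, ← Spec.map_comp,
      ← Spec.map_comp, hw]
  · have h1 := isSq_bcNat (M := M) h
    have hw1 : bcNat (M := M) R0.{u} (toAlgHom' r) ≫ bcNat R0.{u} (toAlgHom' q) =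
        bcNat R0.{u} (toAlgHom' s) ≫ bcNat R0.{u} (toAlgHom' p) := CommRingCat.hom_ext (RingHom.ext h1.comm)
    have hpo : IsPushout (dMap (M := M) p ep) (dMap q eq) (dMap s es) (dMap r er) := by
      refine isPushout_of_affSq (Ferrand.affSq_Spec hw1 h1) (Over.OverMorphism.ext ?_)
      rw [Over.comp_left, Over.comp_left, dMap_left, dMap_left, dMap_left, dMap_left, ← Spec.map_comp,
        ← Spec.map_comp, hw1]
    exact hpo.of_iso (dIso A tA) (dIso A' tA') (dIso B tB) (dIso R tR) (dMap_dIso p ep) (dMap_dIso q eq)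
      (dMap_dIso s es) (dMap_dIso r er)

end Spec

end Groth.Agent.Lib.GrpSch.AttrAffine
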