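import Groth.Agent.Lib.GrpSch.AttrBundle
import Groth.Agent.S18241

/-!
# The face projection onto the units of a magnet is a vector bundle
-/

set_option autoImplicit false
universe u

open CategoryTheory Limits MonoidalCategory CartesianMonoidalCategory MonObj AlgebraicGeometry Opposite
open Groth.Agent.Lib

namespace Groth.Agent.Lib.GrpSch.AttrBundle

variable {S : Scheme.{u}} {M : Type} [AddCommGroup M]

theorem exists_unitGroup (N : AddSubmonoid M) :
    ∃ Z : AddSubgroup M, Z.toAddSubmonoid = Magnet.unitFace N := by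
  refine ⟨{ toAddSubmonoid := Magnet.unitFace N, neg_mem' := ?_ }, rfl⟩
  rintro x ⟨hx, y, hy, hxy⟩
  obtain rfl : y = -x := (neg_eq_of_add_eq_zero_right hxy).symm
  exact ⟨hy, x, hx, by simp⟩

theorem exists_fg_magnet [AddGroup.FG M] (N : AddSubmonoid M) (E : Finset M) :
    ∃ (Nc : AddSubmonoid M) (_ : Nc ≤ N), Nc.FG ∧ ↑E ∩ (N : Set M) ⊆ Nc ∧
      Magnet.IsFace Nc (Magnet.unitFace N) := by
  classical
  obtain ⟨Z, hZ⟩ := exists_unitGroup N
  haveI : Module.Finite ℤ M := Module.Finite.iff_addGroup_fg.2 ‹_›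
  have h1 : (AddSubgroup.toIntSubmodule Z).FG := IsNoetherian.noetherian _
  rw [Submodule.fg_iff_addSubgroup_fg] at h1
  have hfg : (Magnet.unitFace N).FG := hZ ▸ (AddSubgroup.fg_iff_addSubmonoid_fg Z).1 h1
  have hle : AddSubmonoid.closure (↑E ∩ (N : Set M)) ⊔ Magnet.unitFace N ≤ N :=
    sup_le (AddSubmonoid.closure_le.2 Set.inter_subset_right) (Magnet.unitFace_le N)
  refine ⟨_, hle, AddSubmonoid.FG.sup ⟨(E.finite_toSet.inter_of_left _).toFinset, by rw [Set.Finite.coe_toFinset]⟩ hfg,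
    fun m hm => le_sup_left (b := Magnet.unitFace N) (AddSubmonoid.subset_closure hm), ⟨le_sup_right, ?_⟩⟩
  exact fun x hx y hy hxy => (Magnet.isFace_unitFace N).mem_of_add_mem x (hle hx) y (hle hy) hxy

theorem AMonS_map_refl {L : AddSubmonoid M} (h : L ≤ L) :
    Magnet.AMonS.map S (AddSubmonoid.inclusion h) = 𝟙 _ :=
  monFn_ext fun n => by
    rw [← Category.id_comp (Magnet.AMonS.map S (AddSubmonoid.inclusion h)), monFn_map]
    rfl

/-- Local structure of the face projection onto the units. -/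
theorem exists_local_model [AddGroup.FG M] {X : Over S} [LocallyOfFinitePresentation X.hom] [Smooth X.hom]
    (a : Magnet.MonAct (Magnet.AMonS S M) X)
    (hlin : ∀ x : X.left, ∃ V : X.left.Opens, x ∈ V ∧ IsAffineHom (V.ι ≫ X.hom) ∧
      (CartesianMonoidalCategory.snd (Magnet.AMonS S M) X).left ⁻¹ᵁ V ≤ a.act.left ⁻¹ᵁ V)
    (N : AddSubmonoid M) {ZN Z0 : Over S}
    (eN : (Magnet.attr a N).RepresentableBy ZN) (e0 : (Magnet.attr a (Magnet.unitFace N)).RepresentableBy Z0)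
    (j : ZN ⟶ Z0) (hj : ∀ (T : Over S) (z : T ⟶ ZN),
      e0.homEquiv (z ≫ j) = (Magnet.attrFace a (Magnet.isFace_unitFace N)).app (op T) (eN.homEquiv z))
    (z : Z0.left) :
    ∃ (W : Z0.left.Opens) (hW : IsAffineOpen W), z ∈ W ∧
      ∃ (P : Type u) (_ : AddCommGroup P) (_ : Module Γ(Z0.left, W) P),
        Module.Finite Γ(Z0.left, W) P ∧ Module.Projective Γ(Z0.left, W) P ∧
        ∃ e : (↑(j.left ⁻¹ᵁ W) : Scheme.{u}) ≅ Spec (CommRingCat.of (SymmetricAlgebra Γ(Z0.left, W) P)),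
          e.hom ≫ Spec.map (CommRingCat.ofHom (algebraMap Γ(Z0.left, W) (SymmetricAlgebra Γ(Z0.left, W) P))) =
            (j.left ∣_ W) ≫ hW.isoSpec.hom := by
  classical
  have hF := Magnet.isFace_unitFace N
  haveI hjs : Smooth j.left := Groth.Agent.S18241.result S M hF a eN e0 j hj
  obtain ⟨Zg, hZg⟩ := exists_unitGroup N
  have land : ∀ {V : X.left.Opens}, (snd (Magnet.AMonS S M) X).left ⁻¹ᵁ V ≤ a.act.left ⁻¹ᵁ V →
      ∀ (L : AddSubmonoid M), Zg.toAddSubmonoid = L → ∀ {T : Over S} (φ : (Magnet.attr a L).obj (op T)),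
        (∀ t : T.left, ((Magnet.attrToX a L).app (op T) φ : T ⟶ X).left.base t ∈ V) →
        ∀ p, φ.1.left.base p ∈ V := by
    rintro V hV _ rfl T φ h p
    exact Landing.range_subset_of_subgroup hV Zg φ h p
  -- the base map and the stable chart
  let i₀ : Z0 ⟶ X := (Magnet.attrToX a (Magnet.unitFace N)).app (op Z0) (e0.homEquiv (𝟙 Z0))
  have hval : ∀ {T : Over S} (y : T ⟶ Z0),
      (Magnet.attrToX a (Magnet.unitFace N)).app (op T) (e0.homEquiv y) = y ≫ i₀ := by
    intro T y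
    conv_lhs => rw [← Category.comp_id y, e0.homEquiv_comp, NatTrans.naturality_apply]
    rfl
  obtain ⟨V, hxV, hVa, hVs⟩ := hlin (i₀.left.base z)
  obtain ⟨R0, hR0, hzR0, -⟩ := exists_isAffineOpen_mem_and_subset (X := S) (x := Z0.hom.base z) (U := ⊤) trivial
  let U : Over S := Over.mk (V.ι ≫ X.hom)
  let f : U ⟶ X := Over.homMk V.ι
  haveI : IsOpenImmersion f.left := inferInstanceAs (IsOpenImmersion V.ι)
  haveI : IsAffineHom U.hom := hVa
  haveI : Mono f := Over.mono_of_mono_left f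
  haveI : LocallyOfFinitePresentation U.hom :=
    inferInstanceAs (LocallyOfFinitePresentation (V.ι ≫ X.hom))
  have hfr : Set.range f.left.base = (V : Set X.left) := V.range_ι
  obtain ⟨aU, hf⟩ := exists_act_open (f := f) hVs hfr
  have hmemV : ∀ p : U.left, f.left.base p ∈ V := fun p => by
    rw [← SetLike.mem_coe, ← hfr]
    exact ⟨p, rfl⟩
  let W : Z0.left.Opens := i₀.left ⁻¹ᵁ V ⊓ Z0.hom ⁻¹ᵁ R0
  obtain ⟨W', hW', hzW', hW'W⟩ := exists_isAffineOpen_mem_and_subset (X := Z0.left) (x := z) (U := W)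
    ⟨hxV, hzR0⟩
  -- points of `W` lift
  have LQ : ∀ {T : Over S} (y : T ⟶ Z0), (∀ t, y.left.base t ∈ W) →
      ∃ υ : (Magnet.attr aU (Magnet.unitFace N)).obj (op T), υ.1 ≫ f = (e0.homEquiv y).1 := by
    intro T y hy
    refine exists_lift_attr hf _ ?_
    rintro _ ⟨p, rfl⟩
    rw [hfr]
    refine land hVs _ hZg _ (fun t => ?_) p
    rw [hval y, Over.comp_left, Scheme.Hom.comp_apply]
    exact (hy t).1
  obtain ⟨E, hE⟩ := exists_finset_weights_chart aU hR0
  obtain ⟨Nc, hle, hNc, hEN, hQc⟩ := exists_fg_magnet N E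
  obtain ⟨Z₁, i₁, e₁, hi₁, -⟩ := Groth.Agent.S18295.result S M Nc U aU
  haveI : IsAffineHom Z₁.hom := by rw [← Over.w i₁]; infer_instance
  let pc : ∀ {T : Over S}, (T ⟶ Z₁) → (Magnet.attr a N).obj (op T) := fun {T} u =>
    ⟨((Magnet.attrMap aU hle).app (op T) (e₁.homEquiv u)).1 ≫ f,
      ((Magnet.attrMap aU hle).app (op T) (e₁.homEquiv u)).2.comp hf⟩
  let m : Z₁ ⟶ ZN := eN.homEquiv.symm (pc (𝟙 Z₁))
  have hm : ∀ {T : Over S} (u : T ⟶ Z₁), eN.homEquiv (u ≫ m) = pc u := by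
    intro T u
    rw [eN.homEquiv_comp, Equiv.apply_symm_apply]
    refine Subtype.ext ?_
    conv_rhs => rw [show pc u = pc (u ≫ 𝟙 Z₁) by rw [Category.comp_id]]
    simp only [pc, e₁.homEquiv_comp, NatTrans.naturality_apply]
    exact (Category.assoc _ _ _).symm
  let g₁ : Z₁ ⟶ Z0 := m ≫ j
  have hg₁ : ∀ {T : Over S} (u : T ⟶ Z₁),
      (e0.homEquiv (u ≫ g₁)).1 = ((Magnet.attrFace aU hQc).app (op T) (e₁.homEquiv u)).1 ≫ f := by
    intro T u
    rw [show u ≫ g₁ = (u ≫ m) ≫ j from (Category.assoc _ _ _).symm, hj, hm]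
    change (Magnet.AMonS.faceMap S hF ▷ T) ≫
      ((Magnet.AMonS.map S (AddSubmonoid.inclusion hle) ▷ T) ≫ (e₁.homEquiv u).1) ≫ f =
      ((Magnet.AMonS.faceMap S hQc ▷ T) ≫ (e₁.homEquiv u).1) ≫ f
    rw [Category.assoc, Category.assoc, ← comp_whiskerRight_assoc,
      FaceCartesian.faceMap_comp_map_inclusion hF hQc hle le_rfl fun x _ hx => hx,
      AMonS_map_refl, Category.id_comp]
  have hg : ∀ (T : Over S) (u u' : T ⟶ Z₁), u ≫ g₁ = u' ≫ g₁ ↔
      (Magnet.attrFace aU hQc).app (op T) (e₁.homEquiv u) =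
        (Magnet.attrFace aU hQc).app (op T) (e₁.homEquiv u') := by
    intro T u u'
    constructor
    · intro h
      exact postcomp_injective (f := f) (by rw [← hg₁, ← hg₁, h])
    · intro h
      exact e0.homEquiv.injective (Subtype.ext (by rw [hg₁, hg₁, h]))
  haveI hmono : Mono m := ⟨fun {T} u u' h => by
    have h' : pc u = pc u' := by rw [← hm, ← hm, h]
    have h2 : (Magnet.attrMap aU hle).app (op T) (e₁.homEquiv u) =
        (Magnet.attrMap aU hle).app (op T) (e₁.homEquiv u') :=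
      postcomp_injective (f := f) (congrArg Subtype.val h')
    exact e₁.homEquiv.injective (FaceCartesian.attrMap_injective aU hle T h2)⟩
  -- the inverse of `m` over `W'`
  let O : Z₁.left.Opens := g₁.left ⁻¹ᵁ W'
  let J : ZN.left.Opens := j.left ⁻¹ᵁ W'
  let TJ : Over S := Over.mk (J.ι ≫ ZN.hom)
  let inJ : TJ ⟶ ZN := Over.homMk J.ι
  obtain ⟨uJ, huJ⟩ : ∃ uJ : TJ ⟶ Z₁, uJ ≫ m = inJ := by
    let ξ := eN.homEquiv inJ
    have hy : ∀ t, (inJ ≫ j).left.base t ∈ W' := fun t => by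
      rw [Over.comp_left, Scheme.Hom.comp_apply]
      exact t.2
    obtain ⟨υ, hυ⟩ := LQ (inJ ≫ j) fun t => hW'W (hy t)
    rw [hj] at hυ
    have hξV : Set.range ξ.1.left.base ⊆ Set.range f.left.base := by
      rintro _ ⟨p, rfl⟩
      rw [hfr]
      refine Landing.range_subset_of_face hVs hF ξ (fun q => ?_) p
      rw [show (Magnet.AMonS.faceMap S hF ▷ TJ) ≫ ξ.1 = υ.1 ≫ f from hυ.symm, Over.comp_left,
        Scheme.Hom.comp_apply]
      exact hmemV _
    obtain ⟨l, hl⟩ := exists_lift_attr hf ξ hξV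
    let xl : TJ ⟶ U := (Magnet.attrToX aU N).app (op TJ) l
    have hR : ∀ t : TJ.left, TJ.hom.base t ∈ R0 := fun t => by
      have h2 := (hW'W (hy t)).2
      change Z0.hom.base _ ∈ R0 at h2
      rwa [← Scheme.Hom.comp_apply, Over.w] at h2
    obtain ⟨l', hl'⟩ := (AttrAffine.exists_attr_iff aU Nc xl).2
      (hE N Nc hEN xl hR ((AttrAffine.exists_attr_iff aU N xl).1 ⟨l, rfl⟩))
    have hll : (Magnet.attrMap aU hle).app (op TJ) l' = l := by
      refine attrToX_injective aU N TJ ?_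
      rw [AttrRange.attrToX_attrMap aU hle l', hl']
    refine ⟨e₁.homEquiv.symm l', eN.homEquiv.injective (Subtype.ext ?_)⟩
    rw [hm]
    change ((Magnet.attrMap aU hle).app (op TJ) (e₁.homEquiv (e₁.homEquiv.symm l'))).1 ≫ f = ξ.1
    rw [Equiv.apply_symm_apply, hll, hl]
  have huJm : uJ.left ≫ m.left = J.ι := congrArg CommaMorphism.left huJ
  let toJ : (O : Scheme.{u}) ⟶ J := IsOpenImmersion.lift J.ι (O.ι ≫ m.left) (by
    rintro _ ⟨p, rfl⟩
    rw [J.range_ι]
    change j.left.base _ ∈ W'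
    rw [← Scheme.Hom.comp_apply, Category.assoc, Scheme.Hom.comp_apply]
    exact p.2)
  let toO : (J : Scheme.{u}) ⟶ O := IsOpenImmersion.lift O.ι uJ.left (by
    rintro _ ⟨p, rfl⟩
    rw [O.range_ι]
    change g₁.left.base _ ∈ W'
    rw [show g₁.left = m.left ≫ j.left from rfl, ← Scheme.Hom.comp_apply, reassoc_of% huJm,
      Scheme.Hom.comp_apply]
    exact p.2)
  have htoJ : toJ ≫ J.ι = O.ι ≫ m.left := IsOpenImmersion.lift_fac _ _ _
  have htoO : toO ≫ O.ι = uJ.left := IsOpenImmersion.lift_fac _ _ _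
  let eJO : (J : Scheme.{u}) ≅ O :=
    { hom := toO
      inv := toJ
      hom_inv_id := by
        rw [← cancel_mono J.ι, Category.assoc, htoJ, reassoc_of% htoO, huJm, Category.id_comp]
      inv_hom_id := by
        rw [← cancel_mono O.ι, Category.assoc, htoO, Category.id_comp]
        let TO : Over S := Over.mk (O.ι ≫ Z₁.hom)
        let o : TO ⟶ Z₁ := Over.homMk O.ι
        let q : TO ⟶ TJ := Over.homMk toJ (by
          change toJ ≫ J.ι ≫ ZN.hom = O.ι ≫ Z₁.hom
          rw [reassoc_of% htoJ, Over.w m])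
        have hq : q ≫ uJ = o := by
          rw [← cancel_mono m, Category.assoc, huJ]
          exact Over.OverMorphism.ext htoJ
        exact congrArg CommaMorphism.left hq }
  -- `O` is affine
  let P₁ : Z₁.left.Opens := Z₁.hom ⁻¹ᵁ R0
  have hP₁ : IsAffineOpen P₁ := hR0.preimage Z₁.hom
  have hPW : ∀ t ∈ P₁, g₁.left.base t ∈ W := by
    intro t ht
    refine ⟨?_, ?_⟩
    · change i₀.left.base _ ∈ V
      rw [← Scheme.Hom.comp_apply, ← Over.comp_left, ← hval g₁]
      have h3 : (e0.homEquiv g₁).1 = ((Magnet.attrFace aU hQc).app (op Z₁) (e₁.homEquiv (𝟙 Z₁))).1 ≫ f := by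
        rw [← hg₁, Category.id_comp]
      change (lift _ _ ≫ (e0.homEquiv g₁).1).left.base t ∈ V
      rw [h3, ← Category.assoc, Over.comp_left, Scheme.Hom.comp_apply]
      exact hmemV _
    · change Z0.hom.base _ ∈ R0
      rw [← Scheme.Hom.comp_apply, Over.w]
      exact ht
  have hO : IsAffineOpen O := by
    let UR : U.left.Opens := U.hom ⁻¹ᵁ R0
    haveI : IsAffine (UR : Scheme.{u}) := (hR0.preimage U.hom : IsAffineOpen UR)
    haveI : IsAffine (P₁ : Scheme.{u}) := hP₁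
    let TW : Over S := Over.mk (W.ι ≫ Z0.hom)
    let oW : TW ⟶ Z0 := Over.homMk W.ι
    obtain ⟨υW, hυW⟩ := LQ oW fun t => t.2
    let xW : TW ⟶ U := (Magnet.attrToX aU (Magnet.unitFace N)).app (op TW) υW
    haveI : Mono xW.left := by
      refine ⟨fun {T} p q h => ?_⟩
      let T' : Over S := Over.mk (p ≫ TW.hom)
      let p' : T' ⟶ TW := Over.homMk p rfl
      let q' : T' ⟶ TW := Over.homMk q (by
        change q ≫ TW.hom = p ≫ TW.hom
        rw [← Over.w xW, reassoc_of% h])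
      have h' : p' ≫ xW = q' ≫ xW := Over.OverMorphism.ext h
      have h4 : (Magnet.attr aU (Magnet.unitFace N)).map p'.op υW =
          (Magnet.attr aU (Magnet.unitFace N)).map q'.op υW := by
        refine attrToX_injective aU _ T' ?_
        rw [NatTrans.naturality_apply, NatTrans.naturality_apply]
        exact h'
      have h5 : p' ≫ oW = q' ≫ oW := by
        refine e0.homEquiv.injective (Subtype.ext ?_)
        rw [e0.homEquiv_comp p', e0.homEquiv_comp q']
        change _ ≫ (e0.homEquiv oW).1 = _ ≫ (e0.homEquiv oW).1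
        rw [← hυW, ← Category.assoc, ← Category.assoc]
        exact congrArg (· ≫ f) (congrArg Subtype.val h4)
      exact (cancel_mono W.ι).1 (congrArg CommaMorphism.left h5)
    let qW : (W : Scheme.{u}) ⟶ UR := IsOpenImmersion.lift UR.ι xW.left (by
      rintro _ ⟨t, rfl⟩
      rw [UR.range_ι]
      change U.hom.base _ ∈ R0
      rw [← Scheme.Hom.comp_apply, Over.w xW]
      change (W.ι ≫ Z0.hom).base t ∈ R0
      rw [Scheme.Hom.comp_apply]
      exact t.2.2)
    have hqW : qW ≫ UR.ι = xW.left := IsOpenImmersion.lift_fac _ _ _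
    haveI : Mono qW := mono_of_mono_fac hqW
    let gP : (P₁ : Scheme.{u}) ⟶ W := IsOpenImmersion.lift W.ι (P₁.ι ≫ g₁.left) (by
      rintro _ ⟨t, rfl⟩
      rw [W.range_ι, Scheme.Hom.comp_apply]
      exact hPW _ t.2)
    have hgP : gP ≫ W.ι = P₁.ι ≫ g₁.left := IsOpenImmersion.lift_fac _ _ _
    haveI : IsAffineHom gP := MorphismProperty.of_postcomp (W := @IsAffineHom) (W' := @IsSeparated) gP qW
      inferInstance (isAffineHom_of_isAffine _)
    have hW'2 : IsAffineOpen (W.ι ⁻¹ᵁ W') := hW'.preimage_of_isOpenImmersion W.ι (by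
      rw [W.opensRange_ι]; exact hW'W)
    have h5 : IsAffineOpen (P₁.ι ''ᵁ (gP ⁻¹ᵁ (W.ι ⁻¹ᵁ W'))) :=
      (hW'2.preimage gP).image_of_isOpenImmersion P₁.ι
    rw [← Scheme.Hom.comp_preimage, hgP, Scheme.Hom.comp_preimage,
      Scheme.Hom.image_preimage_eq_opensRange_inf, P₁.opensRange_ι, inf_eq_right.2] at h5
    · exact h5
    · intro t ht
      have h2 := (hW'W ht).2
      change Z0.hom.base _ ∈ R0 at h2
      rw [← Scheme.Hom.comp_apply, Over.w] at h2
      exact h2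
  -- rings
  let B : CommRingCat.{u} := Γ(Z0.left, W')
  let C : CommRingCat.{u} := Γ(Z₁.left, O)
  let φ : B ⟶ C := g₁.left.appLE W' O le_rfl
  have hφ : Spec.map φ ≫ hW'.fromSpec = hO.fromSpec ≫ g₁.left :=
    hW'.SpecMap_appLE_fromSpec g₁.left hO le_rfl
  let TB : Over S := Over.mk (hW'.fromSpec ≫ Z0.hom)
  let yB : TB ⟶ Z0 := Over.homMk hW'.fromSpec rfl
  obtain ⟨υB, hυB⟩ := LQ yB fun t => hW'W (by
    show hW'.fromSpec.base t ∈ (W' : Set Z0.left)
    rw [← hW'.range_fromSpec]; exact ⟨t, rfl⟩)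
  let sB : TB ⟶ Z₁ := e₁.homEquiv.symm ((Magnet.attrMap aU hQc.le).app (op TB) υB)
  have hsB1 : (Magnet.attrFace aU hQc).app (op TB) (e₁.homEquiv sB) = υB := by
    rw [Equiv.apply_symm_apply]
    exact congr($(Magnet.attrMap_comp_attrFace aU hQc).app (op TB) υB)
  have hsB : sB ≫ g₁ = yB := e0.homEquiv.injective (Subtype.ext (by rw [hg₁, hsB1, hυB]))
  obtain ⟨ε, θ, hφε, hθφ, h1, h0, hθ⟩ := exists_theta hNc hQc e₁ g₁ hg hW'.fromSpec hO.fromSpec
    (fun p hp => by
      rw [hW'.range_fromSpec] at hp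
      rw [hO.range_fromSpec]
      exact hp) φ hφ sB hsB (by rw [hsB1]; exact (Equiv.apply_symm_apply _ _).symm)
  have hsm : φ.hom.Smooth := by
    haveI : Smooth (Spec.map φ) := by
      haveI : Smooth (O.ι ≫ g₁.left) := by
        rw [show O.ι ≫ g₁.left = toJ ≫ J.ι ≫ j.left by rw [reassoc_of% htoJ]; rfl]
        haveI : IsIso toJ := eJO.isIso_inv
        infer_instance
      haveI : Smooth (Spec.map φ ≫ hW'.fromSpec) := by
        rw [hφ, ← hO.isoSpec_inv_ι, Category.assoc]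
        infer_instance
      exact MorphismProperty.of_postcomp (W := @Smooth) (W' := @IsOpenImmersion) (Spec.map φ) hW'.fromSpec
        inferInstance inferInstance
    exact HasRingHomProperty.Spec_iff.1 ‹Smooth (Spec.map φ)›
  letI := φ.hom.toAlgebra
  haveI : Algebra.Smooth B C := hsm
  obtain ⟨P, iP₁, iP₂, hfin, hproj, ⟨σ⟩⟩ := GradedSym.exists_symmetricAlgebra (B := B) (C := C)
    { ε.hom with commutes' := fun b => congr($(hφε) b) }
    { θ.hom with commutes' := fun b => hθφ b } h1 h0 hθ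
  refine ⟨W', hW', hzW', P, iP₁, iP₂, hfin, hproj, ?_⟩
  let σC : CommRingCat.of (SymmetricAlgebra B P) ≅ C := σ.toRingEquiv.toCommRingCatIso
  refine ⟨eJO ≪≫ hO.isoSpec ≪≫ Scheme.Spec.mapIso σC.op, ?_⟩
  rw [← cancel_mono hW'.fromSpec]
  simp only [Iso.trans_hom, Category.assoc, Functor.mapIso_hom, Iso.op_hom, Scheme.Spec_map, Quiver.Hom.unop_op]
  have hσ : CommRingCat.ofHom (algebraMap B (SymmetricAlgebra B P)) ≫ σC.hom = φ := by
    ext x
    exact σ.commutes x
  have e2 : hW'.isoSpec.hom ≫ hW'.fromSpec = W'.ι := by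
    rw [← hW'.isoSpec_inv_ι, Iso.hom_inv_id_assoc]
  have e3 : hO.isoSpec.hom ≫ hO.fromSpec = O.ι := by
    rw [← hO.isoSpec_inv_ι, Iso.hom_inv_id_assoc]
  rw [← Spec.map_comp_assoc, hσ, hφ, reassoc_of% e3, e2, morphismRestrict_ι]
  change toO ≫ O.ι ≫ m.left ≫ j.left = J.ι ≫ j.left
  rw [reassoc_of% htoO, reassoc_of% huJm]

end Groth.Agent.Lib.GrpSch.AttrBundle
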