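import Groth.Agent.Lib.GrpSch.AttrRep
import Groth.Agent.Lib.GrpSch.MonPts
import Groth.Agent.Lib.RedPts.Affine

/-!
# Coordinates in `B ⊗ R[M]` and the universal point of `A(M)_S`
-/

set_option autoImplicit false
universe u

open CategoryTheory Limits MonoidalCategory CartesianMonoidalCategory MonObj AlgebraicGeometry TensorProduct
open Groth.Agent.Lib.RedPts

namespace Groth.Agent.Lib.GrpSch.AttrAffine

section Ring

variable (R : Type u) [CommRing R] {M : Type} [AddCommMonoid M] (B : CommRingCat.{u}) [Algebra R B]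

/-- The monomial basis of `B ⊗ R[M]`. -/
noncomputable abbrev basisM : Module.Basis (Multiplicative M) B ((B : Type u) ⊗[R] MonoidAlgebra R (Multiplicative M)) :=
  Algebra.TensorProduct.basis (B : Type u) (MonoidAlgebra.basis (Multiplicative M) R)

/-- The basis monomial `t^m`. -/
noncomputable def mono (m : Multiplicative M) : bcRing R M B :=
  (bcInr R M B).hom (MonoidAlgebra.single m 1)

theorem mono_one : mono R B (1 : Multiplicative M) = 1 := map_one (bcInr R M B).hom

theorem mono_mul (m m' : Multiplicative M) : mono R B (m * m') = mono R B m * mono R B m' := by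
  rw [mono, mono, mono, ← map_mul, MonoidAlgebra.single_mul_single, _root_.mul_one]

theorem inl_mul_mono (b : B) (m : Multiplicative M) :
    (bcInl R M B).hom b * mono R B m = b • basisM R B m := by
  change (b ⊗ₜ[R] (1 : MonoidAlgebra R (Multiplicative M))) * ((1 : B) ⊗ₜ[R] MonoidAlgebra.single m 1) = _
  refine (Algebra.TensorProduct.tmul_mul_tmul b (1 : B) (1 : MonoidAlgebra R (Multiplicative M))
    (MonoidAlgebra.single m 1)).trans ?_
  simp [Algebra.TensorProduct.basis_apply, MonoidAlgebra.basis_apply, TensorProduct.smul_tmul']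

theorem coord_add (z z' : bcRing R M B) (m : Multiplicative M) :
    coord R B (z + z') m = coord R B z m + coord R B z' m :=
  congrArg (fun f : Multiplicative M →₀ B => f m) (map_add (basisM R B).repr z z')

theorem coord_zero (m : Multiplicative M) : coord R B (0 : bcRing R M B) m = 0 :=
  congrArg (fun f : Multiplicative M →₀ B => f m) (map_zero (basisM R B).repr)

theorem coord_sum {ι' : Type*} (s : Finset ι') (z : ι' → bcRing R M B) (m : Multiplicative M) :
    coord R B (∑ i ∈ s, z i) m = ∑ i ∈ s, coord R B (z i) m := by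
  classical
  induction s using Finset.induction_on with
  | empty => exact coord_zero R B m
  | insert a s ha ih => rw [Finset.sum_insert ha, Finset.sum_insert ha, coord_add, ih]

theorem coord_inl_mul (b : B) (z : bcRing R M B) (m : Multiplicative M) :
    coord R B ((bcInl R M B).hom b * z) m = b * coord R B z m := by
  let z' : (B : Type u) ⊗[R] MonoidAlgebra R (Multiplicative M) := z
  change (basisM R B).repr ((b ⊗ₜ[R] (1 : MonoidAlgebra R (Multiplicative M))) * z') m = b * (basisM R B).repr z' m
  rw [show (b ⊗ₜ[R] (1 : MonoidAlgebra R (Multiplicative M))) * z' = b • z' from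
    (Algebra.smul_def (A := (B : Type u) ⊗[R] MonoidAlgebra R (Multiplicative M)) b z').symm]
  simp

theorem coord_mono [DecidableEq M] (m m' : Multiplicative M) :
    coord R B (mono R B m) m' = if m = m' then 1 else 0 := by
  have h : mono R B m = (basisM R B) m := by
    change (1 : B) ⊗ₜ[R] MonoidAlgebra.single m 1 = _
    simp [Algebra.TensorProduct.basis_apply, MonoidAlgebra.basis_apply]
  change (basisM R B).repr (mono R B m) m' = _
  rw [h, Module.Basis.repr_self, Finsupp.single_apply]

theorem coord_inl [DecidableEq M] (b : B) (m : Multiplicative M) :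
    coord R B ((bcInl R M B).hom b) m = if 1 = m then b else 0 := by
  conv_lhs => rw [← _root_.mul_one ((bcInl R M B).hom b), ← mono_one R B, coord_inl_mul, coord_mono]
  split_ifs <;> simp

theorem coord_inl_one (b : B) : coord R B ((bcInl R M B).hom b) (1 : Multiplicative M) = b := by
  classical
  rw [coord_inl, if_pos rfl]

theorem exists_decomp (z : bcRing R M B) : ∃ s : Finset (Multiplicative M),
    (∀ m, m ∉ s → coord R B z m = 0) ∧
      z = ∑ m ∈ s, (bcInl R M B).hom (coord R B z m) * mono R B m := by
  refine ⟨((basisM R B).repr z).support, fun m hm => Finsupp.notMem_support_iff.mp hm, ?_⟩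
  conv_lhs => rw [← (basisM R B).linearCombination_repr z, Finsupp.linearCombination_apply, Finsupp.sum]
  exact Finset.sum_congr rfl fun m _ => (inl_mul_mono R B (coord R B z m) m).symm

theorem coord_ext {z z' : bcRing R M B} (h : ∀ m, coord R B z m = coord R B z' m) : z = z' :=
  (basisM R B).repr.injective (Finsupp.ext h)

variable {B} {C : CommRingCat.{u}} [Algebra R C]

theorem bcNat_mono (τ : (C : Type u) →ₐ[R] B) (m : Multiplicative M) :
    (bcNat R τ).hom (mono R C m) = mono R B m := congr($(bcInr_bcNat R τ) _)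

theorem bcNat_inl (τ : (C : Type u) →ₐ[R] B) (c : C) :
    (bcNat (M := M) R τ).hom ((bcInl R M C).hom c) = (bcInl R M B).hom (τ c) :=
  congr($(bcInl_bcNat R τ) c)

theorem bcNat_surjective (τ : (C : Type u) →ₐ[R] B) (hτ : Function.Surjective τ) :
    Function.Surjective (bcNat (M := M) R τ).hom := fun z => by
  obtain ⟨s, -, hz⟩ := exists_decomp R B z
  choose c hc using fun m => hτ (coord R B z m)
  refine ⟨∑ m ∈ s, (bcInl R M C).hom (c m) * mono R C m, ?_⟩
  rw [map_sum]
  conv_rhs => rw [hz]
  exact Finset.sum_congr rfl fun m _ => by rw [map_mul, bcNat_inl, bcNat_mono, hc]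

theorem mul_eq_zero_of_bcNat (τ : (C : Type u) →ₐ[R] B) (hsq : ∀ c c', τ c = 0 → τ c' = 0 → c * c' = 0)
    {w w' : bcRing R M C} (h : (bcNat R τ).hom w = 0) (h' : (bcNat R τ).hom w' = 0) : w * w' = 0 := by
  obtain ⟨s, -, hs⟩ := exists_decomp R C w
  obtain ⟨t, -, ht⟩ := exists_decomp R C w'
  rw [hs, ht, Finset.sum_mul_sum]
  refine Finset.sum_eq_zero fun i _ => Finset.sum_eq_zero fun j _ => ?_
  rw [_root_.mul_mul_mul_comm, ← map_mul, hsq _ _ (by rw [← coord_bcNat, h, coord_zero])
    (by rw [← coord_bcNat, h', coord_zero]), map_zero, zero_mul]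

/-- The constant coefficient is multiplicative on elements congruent to constants modulo a
square-zero ideal. -/
theorem coord_mul_one (τ : (C : Type u) →ₐ[R] B) (hsq : ∀ c c', τ c = 0 → τ c' = 0 → c * c' = 0)
    {z z' : bcRing R M C} {b b' : B} (h : (bcNat R τ).hom z = (bcInl R M B).hom b)
    (h' : (bcNat R τ).hom z' = (bcInl R M B).hom b') :
    coord R C (z * z') 1 = coord R C z 1 * coord R C z' 1 := by
  set c := coord R C z 1 with hc
  set c' := coord R C z' 1 with hc'
  set w := z - (bcInl R M C).hom c with hw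
  set w' := z' - (bcInl R M C).hom c' with hw'
  have hb : τ c = b := by rw [hc, ← coord_bcNat, h, coord_inl_one]
  have hb' : τ c' = b' := by rw [hc', ← coord_bcNat, h', coord_inl_one]
  have hw0 : (bcNat R τ).hom w = 0 := by rw [hw, map_sub, bcNat_inl, h, hb, sub_self]
  have hw0' : (bcNat R τ).hom w' = 0 := by rw [hw', map_sub, bcNat_inl, h', hb', sub_self]
  have hcw : coord R C w 1 = 0 := by
    have := coord_add R C w ((bcInl R M C).hom c) 1
    rw [hw, sub_add_cancel, coord_inl_one, ← hc] at this
    exact right_eq_add.mp this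
  have hcw' : coord R C w' 1 = 0 := by
    have := coord_add R C w' ((bcInl R M C).hom c') 1
    rw [hw', sub_add_cancel, coord_inl_one, ← hc'] at this
    exact right_eq_add.mp this
  have e : z * z' = (bcInl R M C).hom (c * c') + (bcInl R M C).hom c * w' + (bcInl R M C).hom c' * w := by
    have e1 : z = (bcInl R M C).hom c + w := by rw [hw]; ring
    have e2 : z' = (bcInl R M C).hom c' + w' := by rw [hw']; ring
    rw [e1, e2, map_mul]
    linear_combination mul_eq_zero_of_bcNat R τ hsq hw0 hw0'
  rw [e, coord_add, coord_add, coord_inl_one, coord_inl_mul, coord_inl_mul, hcw, hcw', mul_zero,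
    mul_zero, add_zero, add_zero]

end Ring

section Scheme

attribute [local instance] baseAlg

variable {S : Scheme.{u}} {M : Type} [AddCommMonoid M]

/-- `Spec (B ⊗ R₀[M])` as a scheme over `S`. -/
noncomputable abbrev dOver (B : CommRingCat.{u}) (t : Spec B ⟶ S) : Over S :=
  specOver (bcRing R0.{u} M B) (Spec.map (bcInl R0.{u} M B) ≫ t)

/-- `dOver B t ≅ A(M)_S × Spec B`. -/
noncomputable def dIso (B : CommRingCat.{u}) (t : Spec B ⟶ S) :
    dOver (M := M) B t ≅ Magnet.AMonS S M ⊗ specOver B t :=
  Over.isoMk (prodIso B t) (by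
    rw [← Over.w (snd (Magnet.AMonS S M) (specOver B t)), ← Category.assoc, prodIso_snd]
    rfl)

/-- The coordinate of `dOver`. -/
noncomputable def dCoord (B : CommRingCat.{u}) (t : Spec B ⟶ S) : dOver (M := M) B t ⟶ Magnet.AMonS S M :=
  (dIso B t).hom ≫ fst _ _

/-- The projection of `dOver`. -/
noncomputable def dProj (B : CommRingCat.{u}) (t : Spec B ⟶ S) : dOver (M := M) B t ⟶ specOver B t :=
  (dIso B t).hom ≫ snd _ _

theorem dProj_left (B : CommRingCat.{u}) (t : Spec B ⟶ S) :
    (dProj (M := M) B t).left = Spec.map (bcInl R0.{u} M B) := prodIso_snd B t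

theorem lift_dCoord_dProj (B : CommRingCat.{u}) (t : Spec B ⟶ S) :
    lift (dCoord (M := M) B t) (dProj B t) = (dIso B t).hom := by
  rw [dCoord, dProj, ← comp_lift, lift_fst_snd, Category.comp_id]

theorem monFn_dCoord (B : CommRingCat.{u}) (t : Spec B ⟶ S) (m : M) :
    monFn (dCoord (M := M) B t) m =
      (Scheme.ΓSpecIso (bcRing R0.{u} M B)).inv.hom (mono R0.{u} B (Multiplicative.ofAdd m)) := by
  have h : (BC.down _ (dCoord (M := M) B t)).left = Spec.map (bcInr R0.{u} M B) := by
    refine Eq.trans ?_ (prodIso_fst (M := M) B t)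
    exact Category.assoc _ _ _
  change Points.ringHomOf (BC.down _ (dCoord (M := M) B t)).left _ = _
  rw [h]
  have := Affine.ringHomOf_specMap (A := MonoidAlgebra (R0.{u}) (Multiplicative M)) (𝟙 (Spec (bcRing R0.{u} M B)))
  exact congr($(Scheme.ΓSpecIso_inv_naturality (bcInr R0.{u} M B)) (MonoidAlgebra.single (Multiplicative.ofAdd m) 1)).symm

theorem dNat_coord {B C : CommRingCat.{u}} (τ : C ⟶ B) {t : Spec C ⟶ S} {t' : Spec B ⟶ S}
    (g : specOver B t' ⟶ specOver C t) (hg : g.left = Spec.map τ)
    (h : dOver (M := M) B t' ⟶ dOver C t) (hh : h.left = Spec.map (bcNat R0.{u} (toAlgHom' τ))) :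
    h ≫ dCoord C t = dCoord B t' ∧ h ≫ dProj C t = dProj B t' ≫ g := by
  have e : h ≫ (dIso (M := M) C t).hom = (dIso B t').hom ≫ (Magnet.AMonS S M ◁ g) := by
    apply Over.OverMorphism.ext
    rw [Over.comp_left, Over.comp_left, hh]
    exact (prodIso_natural τ t g hg).symm
  constructor
  · rw [dCoord, dCoord, ← Category.assoc, e, Category.assoc, whiskerLeft_fst]
  · rw [dProj, dProj, ← Category.assoc, e, Category.assoc, whiskerLeft_snd, Category.assoc]

end Scheme

end Groth.Agent.Lib.GrpSch.AttrAffine
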