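import Groth.Agent.Lib.GrpSch.FaceGrading
import Groth.Agent.Lib.GrpSch.MonPts
import Groth.Prelude.Def_Magnet4
import Mathlib.AlgebraicGeometry.ResidueField
import Mathlib.RingTheory.Spectrum.Prime.Polynomial
import Mathlib.Topology.Connected.Clopen

/-!
# The contraction of `X^N` onto `X^F` over `X^F` and connectedness of its fibres
-/

set_option autoImplicit false
universe u

open CategoryTheory MonoidalCategory CartesianMonoidalCategory MonObj AlgebraicGeometry Opposite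

namespace Groth.Agent.Lib.GrpSch.AttrHomotopy

open Classical in
theorem monFn_faceMap {S : Scheme.{u}} {M : Type} [AddCommMonoid M] {N F : AddSubmonoid M}
    (hF : Magnet.IsFace N F) {W : Over S} (y : W ⟶ Magnet.AMonS S F) (n : ↥N) :
    Groth.Agent.Lib.GrpSch.monFn (y ≫ Magnet.AMonS.faceMap S hF) n =
      if h : (n : M) ∈ F then Groth.Agent.Lib.GrpSch.monFn y ⟨n, h⟩ else 0 := by
  unfold Groth.Agent.Lib.GrpSch.monFn
  rw [Magnet.AMonS.faceMap, Groth.Agent.Lib.RedPts.BC.down_map]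
  refine (Groth.Agent.Lib.RedPts.Affine.ringHomOf_specMap _ _ _).trans ?_
  change Groth.Agent.Lib.RedPts.Points.ringHomOf _ (Magnet.faceAlgHom (ULift.{u} ℤ) hF _) = _
  split_ifs with h
  · rw [Magnet.faceAlgHom_single_of_mem _ hF n h]; rfl
  · rw [Magnet.faceAlgHom_single_of_not_mem _ hF n h, map_zero]

theorem AMonS_mul_comm {S : Scheme.{u}} {M : Type} [AddCommMonoid M] {W : Over S}
    (x y : W ⟶ Magnet.AMonS S M) : x * y = y * x :=
  Groth.Agent.Lib.GrpSch.monFn_ext fun m => by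
    rw [Groth.Agent.Lib.GrpSch.monFn_mul, Groth.Agent.Lib.GrpSch.monFn_mul, _root_.mul_comm]

/-- The contraction lies over the face projection. -/
theorem exists_homotopy (S : Scheme.{u}) (M : Type) [AddCommGroup M] [AddGroup.FG M]
    {X : Over S} (a : Magnet.MonAct (Magnet.AMonS S M) X)
    {N F : AddSubmonoid M} (hN : N.FG) (hF : Magnet.IsFace N F) :
    ∃ δ : ∀ T : Over S, (Magnet.attr a N).obj (op T) → Γ(T.left, ⊤) → (Magnet.attr a N).obj (op T),
      (∀ (T T' : Over S) (t : T' ⟶ T) (x : (Magnet.attr a N).obj (op T)) (c : Γ(T.left, ⊤)),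
          δ T' ((Magnet.attr a N).map t.op x) (t.left.appTop c) = (Magnet.attr a N).map t.op (δ T x c)) ∧
      (∀ (T : Over S) (x : (Magnet.attr a N).obj (op T)),
          δ T x 0 = (Magnet.attrMap a hF.le).app (op T) ((Magnet.attrFace a hF).app (op T) x)) ∧
      (∀ (T : Over S) (x : (Magnet.attr a N).obj (op T)), δ T x 1 = x) ∧
      (∀ (T : Over S) (y : (Magnet.attr a F).obj (op T)) (c : Γ(T.left, ⊤)),
          δ T ((Magnet.attrMap a hF.le).app (op T) y) c = (Magnet.attrMap a hF.le).app (op T) y) ∧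
      (∀ (T : Over S) (x : (Magnet.attr a N).obj (op T)) (c : Γ(T.left, ⊤)),
          (Magnet.attrFace a hF).app (op T) (δ T x c) = (Magnet.attrFace a hF).app (op T) x) ∧
      (∀ (T : Over S) (x : (Magnet.attr a N).obj (op T)) (c c' : Γ(T.left, ⊤)),
          δ T (δ T x c) c' = δ T x (c * c')) := by
  classical
  obtain ⟨h, hh⟩ := Groth.Agent.Lib.GrpSch.exists_face_grading hN hF
  let χ : ∀ T : Over S, Γ(T.left, ⊤) → (Multiplicative ↥N →* Γ(T.left, ⊤)) := fun T c =>
    (powersHom _ c).comp (AddMonoidHom.toMultiplicative h)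
  let P : ∀ T : Over S, Γ(T.left, ⊤) → (T ⟶ Magnet.AMonS S ↥N) := fun T c =>
    Groth.Agent.Lib.GrpSch.monPt (χ T c)
  have hP : ∀ (T : Over S) (c : Γ(T.left, ⊤)) (n : ↥N), Groth.Agent.Lib.GrpSch.monFn (P T c) n = c ^ h n :=
    fun T c n => (Groth.Agent.Lib.GrpSch.monFn_monPt _ _).trans rfl
  let e : ∀ T : Over S, Γ(T.left, ⊤) → (Magnet.AMonS S ↥N ⊗ T ⟶ Magnet.AMonS S ↥N ⊗ T) := fun T c =>
    lift (fst _ _ * (snd _ _ ≫ P T c)) (snd _ _)
  have he : ∀ (T T' : Over S) (c : Γ(T.left, ⊤)) (b : T' ⟶ Magnet.AMonS S ↥N) (t : T' ⟶ T),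
      lift b t ≫ e T c = lift (b * (t ≫ P T c)) t := by
    intro T T' c b t
    simp [e, MonObj.comp_mul]
  refine ⟨fun T x c => ⟨e T c ≫ x.1, (Magnet.MonAct.mem_eqvHom_iff _).2 fun T' g b t => ?_⟩, ?_, ?_, ?_, ?_, ?_, ?_⟩
  · have h1 := (Magnet.MonAct.mem_eqvHom_iff _).1 x.2 T' g (b * (t ≫ P T c)) t
    simp only [reassoc_of% he]
    have hs : ∀ q : T' ⟶ Magnet.AMonS S ↥N,
        lift g q ≫ (Magnet.subAct S M N).act = (g ≫ Magnet.AMonS.map S N.subtype) * q :=
      fun q => (Magnet.MonAct.lift_restrict_act _ _ _ _).trans (Magnet.MonAct.lift_regular_act _ _)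
    rw [hs, _root_.mul_assoc]
    rw [hs] at h1
    exact h1
  · intro T T' t x c
    apply Subtype.ext
    change e T' (t.left.appTop c) ≫ (Magnet.AMonS S ↥N ◁ t) ≫ x.1 = (Magnet.AMonS S ↥N ◁ t) ≫ e T c ≫ x.1
    rw [← Category.assoc, ← Category.assoc (Magnet.AMonS S ↥N ◁ t)]
    congr 1
    apply Magnet.hom_ext_lift₂
    intro W b w
    rw [reassoc_of% he, lift_whiskerLeft, lift_whiskerLeft_assoc, he, Category.assoc]
    congr 2
    refine congrArg (w ≫ ·) (Groth.Agent.Lib.GrpSch.monFn_ext fun n => ?_)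
    rw [Groth.Agent.Lib.GrpSch.monFn_comp, hP, hP, map_pow]
  · intro T x
    apply Subtype.ext
    change e T 0 ≫ x.1 = (Magnet.AMonS.map S (AddSubmonoid.inclusion hF.le) ▷ T) ≫
      (Magnet.AMonS.faceMap S hF ▷ T) ≫ x.1
    rw [← Category.assoc (Magnet.AMonS.map S _ ▷ T)]
    congr 1
    apply Magnet.hom_ext_lift₂
    intro W b w
    rw [he, lift_whiskerRight_assoc, lift_whiskerRight]
    congr 1
    refine Groth.Agent.Lib.GrpSch.monFn_ext fun n => ?_
    rw [Groth.Agent.Lib.GrpSch.monFn_mul, Groth.Agent.Lib.GrpSch.monFn_comp, hP, monFn_faceMap]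
    split_ifs with hn
    · rw [(hh n).2 hn, pow_zero, map_one, _root_.mul_one, Groth.Agent.Lib.GrpSch.monFn_map]
      rfl
    · rw [zero_pow (fun h0 => hn ((hh n).1 h0)), map_zero, mul_zero]
  · intro T x
    apply Subtype.ext
    change e T 1 ≫ x.1 = x.1
    have : e T 1 = 𝟙 _ := by
      apply Magnet.hom_ext_lift₂
      intro W b w
      rw [he, Category.comp_id]
      congr 1
      refine Groth.Agent.Lib.GrpSch.monFn_ext fun n => ?_
      rw [Groth.Agent.Lib.GrpSch.monFn_mul, Groth.Agent.Lib.GrpSch.monFn_comp, hP, one_pow, map_one, _root_.mul_one]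
    rw [this, Category.id_comp]
  · intro T y c
    apply Subtype.ext
    change e T c ≫ (Magnet.AMonS.map S (AddSubmonoid.inclusion hF.le) ▷ T) ≫ y.1 =
      (Magnet.AMonS.map S (AddSubmonoid.inclusion hF.le) ▷ T) ≫ y.1
    rw [← Category.assoc]
    congr 1
    apply Magnet.hom_ext_lift₂
    intro W b w
    rw [reassoc_of% he, lift_whiskerRight, lift_whiskerRight]
    congr 1
    refine Groth.Agent.Lib.GrpSch.monFn_ext fun k => ?_
    rw [Groth.Agent.Lib.GrpSch.monFn_map, Groth.Agent.Lib.GrpSch.monFn_map, Groth.Agent.Lib.GrpSch.monFn_mul,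
      Groth.Agent.Lib.GrpSch.monFn_comp, hP, (hh _).2 k.2, pow_zero, map_one, _root_.mul_one]
  · intro T x c
    apply Subtype.ext
    change (Magnet.AMonS.faceMap S hF ▷ T) ≫ e T c ≫ x.1 = (Magnet.AMonS.faceMap S hF ▷ T) ≫ x.1
    rw [← Category.assoc]
    congr 1
    apply Magnet.hom_ext_lift₂
    intro W b w
    rw [lift_whiskerRight_assoc, lift_whiskerRight, he]
    congr 1
    refine Groth.Agent.Lib.GrpSch.monFn_ext fun n => ?_
    rw [Groth.Agent.Lib.GrpSch.monFn_mul, monFn_faceMap, Groth.Agent.Lib.GrpSch.monFn_comp, hP]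
    split_ifs with hn
    · rw [(hh n).2 hn, pow_zero, map_one, _root_.mul_one]
    · rw [zero_mul]
  · intro T x c c'
    apply Subtype.ext
    change e T c' ≫ e T c ≫ x.1 = e T (c * c') ≫ x.1
    rw [← Category.assoc]
    congr 1
    apply Magnet.hom_ext_lift₂
    intro W b w
    rw [reassoc_of% he, he, he]
    congr 1
    refine Groth.Agent.Lib.GrpSch.monFn_ext fun n => ?_
    simp only [Groth.Agent.Lib.GrpSch.monFn_mul, Groth.Agent.Lib.GrpSch.monFn_comp, hP, mul_pow, map_mul]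
    ring

variable {S : Scheme.{u}} {M : Type} [AddCommGroup M] [AddGroup.FG M] {X : Over S}
  {a : Magnet.MonAct (Magnet.AMonS S M) X} {N F : AddSubmonoid M} {hF : Magnet.IsFace N F}
  {ZN Z0 : Over S} {eN : (Magnet.attr a N).RepresentableBy ZN} {e0 : (Magnet.attr a F).RepresentableBy Z0}
  {j : ZN ⟶ Z0}

/-- The line joining a field-valued point to its image under the retraction. -/
theorem exists_line (hN : N.FG)
    (hj : ∀ (T : Over S) (z : T ⟶ ZN), e0.homEquiv (z ≫ j) = (Magnet.attrFace a hF).app (op T) (eN.homEquiv z)) :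
    ∃ s : Z0 ⟶ ZN, s ≫ j = 𝟙 Z0 ∧ ∀ (L : Type u) [Field L] (T : Over S) (eT : T.left ≅ Spec (.of L))
      (z : T ⟶ ZN), ∃ (T₁ : Over S) (π : T₁ ⟶ T) (σ₀ σ₁ : T ⟶ T₁) (w : T₁ ⟶ ZN),
        PreconnectedSpace T₁.left ∧ w ≫ j = π ≫ z ≫ j ∧ σ₀ ≫ π = 𝟙 T ∧ σ₁ ≫ π = 𝟙 T ∧
          σ₁ ≫ w = z ∧ σ₀ ≫ w = z ≫ j ≫ s := by
  obtain ⟨δ, hnat, h0, h1, -, h5, -⟩ := exists_homotopy S M a hN hF
  let s : Z0 ⟶ ZN := eN.homEquiv.symm ((Magnet.attrMap a hF.le).app (op Z0) (e0.homEquiv (𝟙 Z0)))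
  have hs : ∀ {T : Over S} (y : T ⟶ Z0),
      eN.homEquiv (y ≫ s) = (Magnet.attrMap a hF.le).app (op T) (e0.homEquiv y) := by
    intro T y
    rw [eN.homEquiv_comp, Equiv.apply_symm_apply, ← NatTrans.naturality_apply, ← e0.homEquiv_comp, Category.comp_id]
  refine ⟨s, e0.homEquiv.injective ?_, fun L _ T eT z => ?_⟩
  · rw [← Category.id_comp (s ≫ j), ← Category.assoc, hj, hs]
    exact congr($(Magnet.attrMap_comp_attrFace a hF).app (op Z0) (e0.homEquiv (𝟙 Z0)))
  let R := Polynomial L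
  let q : Spec (CommRingCat.of R) ⟶ T.left := Spec.map (CommRingCat.ofHom Polynomial.C) ≫ eT.inv
  let T₁ : Over S := Over.mk (q ≫ T.hom)
  let π : T₁ ⟶ T := Over.homMk q
  let ev : L → (T ⟶ T₁) := fun c =>
    Over.homMk (eT.hom ≫ Spec.map (CommRingCat.ofHom (Polynomial.evalRingHom c))) (by
      change (eT.hom ≫ Spec.map _) ≫ (Spec.map _ ≫ eT.inv) ≫ T.hom = T.hom
      simp only [Category.assoc, ← Spec.map_comp_assoc, ← CommRingCat.ofHom_comp]
      rw [show (Polynomial.evalRingHom c).comp Polynomial.C = RingHom.id L from RingHom.ext fun r => Polynomial.eval_C]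
      simp)
  have hev : ∀ c, ev c ≫ π = 𝟙 T := fun c => by
    apply Over.OverMorphism.ext
    change (eT.hom ≫ Spec.map _) ≫ (Spec.map _ ≫ eT.inv) = 𝟙 T.left
    simp only [Category.assoc, ← Spec.map_comp_assoc, ← CommRingCat.ofHom_comp]
    rw [show (Polynomial.evalRingHom c).comp Polynomial.C = RingHom.id L from RingHom.ext fun r => Polynomial.eval_C]
    simp
  let cX : Γ(T₁.left, ⊤) := (Scheme.ΓSpecIso (CommRingCat.of R)).inv.hom Polynomial.X
  have hcX : ∀ c : L, (ev c).left.appTop cX = eT.hom.appTop ((Scheme.ΓSpecIso (CommRingCat.of L)).inv.hom c) := by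
    intro c
    have h2 := RingHom.congr_fun (congrArg CommRingCat.Hom.hom
      (Scheme.ΓSpecIso_inv_naturality (CommRingCat.ofHom (Polynomial.evalRingHom c)))) Polynomial.X
    change eT.hom.appTop ((Spec.map (CommRingCat.ofHom (Polynomial.evalRingHom c))).appTop cX) = _
    refine congrArg _ (h2.symm.trans ?_)
    exact congrArg (Scheme.ΓSpecIso (CommRingCat.of L)).inv.hom Polynomial.eval_X
  let x : (Magnet.attr a N).obj (op T₁) := eN.homEquiv (π ≫ z)
  let w : T₁ ⟶ ZN := eN.homEquiv.symm (δ T₁ x cX)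
  have hw : ∀ c, eN.homEquiv (ev c ≫ w) = δ T (eN.homEquiv z) ((ev c).left.appTop cX) := fun c => by
    rw [eN.homEquiv_comp, Equiv.apply_symm_apply, ← hnat]
    congr 1
    rw [← eN.homEquiv_comp, reassoc_of% hev c]
  refine ⟨T₁, π, ev 0, ev 1, w, ?_, ?_, hev 0, hev 1, ?_, ?_⟩
  · haveI : IrreducibleSpace (Spec (CommRingCat.of R)) := inferInstanceAs (IrreducibleSpace (PrimeSpectrum R))
    exact inferInstanceAs (PreconnectedSpace (Spec (CommRingCat.of R)))
  · refine e0.homEquiv.injective ?_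
    rw [hj, Equiv.apply_symm_apply, h5, ← Category.assoc, hj]
  · refine eN.homEquiv.injective ?_
    rw [hw, hcX, map_one, map_one, h1]
  · refine eN.homEquiv.injective ?_
    rw [hw, hcX, map_zero, map_zero, h0, ← hj, ← hs, Category.assoc]

end Groth.Agent.Lib.GrpSch.AttrHomotopy
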