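import Groth.Agent.Lib.GrpSch.InfThick
import Groth.Prelude.Def_Magnet2
import Mathlib.AlgebraicGeometry.Morphisms.FormallyUnramified

/-!
# Uniqueness of infinitesimal lifts of equivariant maps
-/

set_option autoImplicit false
universe u

open CategoryTheory Limits MonoidalCategory CartesianMonoidalCategory AlgebraicGeometry Opposite

namespace Groth.Agent.Lib.GrpSch

variable {S : Scheme.{u}}

theorem eqvHom_ext_of_formallyUnramified {A B X Y : Over S} [MonObj A] (ρ : Magnet.MonAct A B)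
    {aX : Magnet.MonAct A X} {aY : Magnet.MonAct A Y} (f : X ⟶ Y)
    (hf : Magnet.MonAct.IsEquivariant aX aY f) [FormallyUnramified f.left]
    {T T' : Over S} (t : T ⟶ T') [IsClosedImmersion t.left] (ht : t.left.ker ^ 2 = ⊥)
    (l₁ l₂ : (Magnet.MonAct.eqvHom ρ aX).obj (op T'))
    (htop : (Magnet.MonAct.eqvHom ρ aX).map t.op l₁ = (Magnet.MonAct.eqvHom ρ aX).map t.op l₂)
    (hbot : (Magnet.MonAct.eqvHom.postcomp ρ f hf).app (op T') l₁ =
      (Magnet.MonAct.eqvHom.postcomp ρ f hf).app (op T') l₂) :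
    l₁ = l₂ := by
  obtain ⟨_, hk⟩ := whiskerLeft_ker_sq_eq_bot B t ht
  refine Subtype.ext (Over.OverMorphism.ext ?_)
  have h1 := congrArg (fun l => l.1.left) htop
  have h2 := congrArg (fun l => l.1.left) hbot
  refine FormallyUnramified.hom_ext (B ◁ t).left ⟨2, hk⟩ f.left ?_ ?_
  · exact h1
  · exact h2

end Groth.Agent.Lib.GrpSch
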