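import Groth.Prelude.Def_Magnet
import Groth.Agent.Lib.GrpSch.Basic
import Groth.Agent.Lib.Ferrand.Compare
import Groth.Agent.Lib.Ferrand.BaseChange
import Groth.Agent.Lib.Ferrand.Props
import Mathlib.AlgebraicGeometry.Morphisms.Flat

/-!
# Actions on pushouts of affine schemes along closed immersions
-/

set_option autoImplicit false
universe u

open CategoryTheory Limits MonoidalCategory CartesianMonoidalCategory MonObj AlgebraicGeometry

namespace Groth.Agent.Lib.GrpSch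

variable {S : Scheme.{u}}

theorem affSq_whiskerLeft [IsAffine S] (D : Over S) [IsAffine D.left] [Flat D.hom] {Z X Y P : Over S}
    {i : Z ⟶ X} {j : Z ⟶ Y} {a : X ⟶ P} {b : Y ⟶ P} (h : Ferrand.AffSq i.left j.left a.left b.left)
    (w : i ≫ a = j ≫ b) :
    Ferrand.AffSq (D ◁ i).left (D ◁ j).left (D ◁ a).left (D ◁ b).left :=
  h.baseChange P.hom D.hom (isPullback_left D P).flip (isPullback_whiskerLeft D a).flip
    (isPullback_whiskerLeft D b).flip (isPullback_whiskerLeft D i).flip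
    ((isPullback_whiskerLeft D j).w)
    (by rw [← Over.comp_left, ← Over.comp_left, ← MonoidalCategory.whiskerLeft_comp,
      ← MonoidalCategory.whiskerLeft_comp, w])
    (.inl ‹Flat D.hom›)

theorem isPushout_of_affSq {Z X Y P : Over S} {i : Z ⟶ X} {j : Z ⟶ Y} {a : X ⟶ P} {b : Y ⟶ P}
    (h : Ferrand.AffSq i.left j.left a.left b.left) (w : i ≫ a = j ≫ b) : IsPushout i j a b :=
  IsPushout.of_map (Over.forget S) w h.isPushout

/-- An action on a pushout of affine schemes along a closed immersion, from compatible actions. -/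
theorem exists_pushout_action [IsAffine S] (D : Over S) [MonObj D] [IsAffine D.left] [Flat D.hom]
    {Z X Y P : Over S} {i : Z ⟶ X} {j : Z ⟶ Y} {a : X ⟶ P} {b : Y ⟶ P}
    (h : Ferrand.AffSq i.left j.left a.left b.left) (w : i ≫ a = j ≫ b)
    {aZ : Magnet.MonAct D Z} {aX : Magnet.MonAct D X} {aY : Magnet.MonAct D Y}
    (hi : Magnet.MonAct.IsEquivariant aZ aX i) (hj : Magnet.MonAct.IsEquivariant aZ aY j) :
    ∃ aP : Magnet.MonAct D P, Magnet.MonAct.IsEquivariant aX aP a ∧ Magnet.MonAct.IsEquivariant aY aP b ∧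
      ∀ (W : Over S) (aW : Magnet.MonAct D W) (f : P ⟶ W), Magnet.MonAct.IsEquivariant aX aW (a ≫ f) →
        Magnet.MonAct.IsEquivariant aY aW (b ≫ f) → Magnet.MonAct.IsEquivariant aP aW f := by
  have h₁ := affSq_whiskerLeft D h w
  have w₁ : (D ◁ i) ≫ (D ◁ a) = (D ◁ j) ≫ (D ◁ b) := by
    rw [← MonoidalCategory.whiskerLeft_comp, ← MonoidalCategory.whiskerLeft_comp, w]
  have h₂ := affSq_whiskerLeft D h₁ w₁
  have w₂ : (D ◁ (D ◁ i)) ≫ (D ◁ (D ◁ a)) = (D ◁ (D ◁ j)) ≫ (D ◁ (D ◁ b)) := by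
    exact (MonoidalCategory.whiskerLeft_comp _ _ _).symm.trans
      ((congrArg (D ◁ ·) w₁).trans (MonoidalCategory.whiskerLeft_comp _ _ _))
  have p₀ := isPushout_of_affSq h w
  have p₁ := isPushout_of_affSq h₁ w₁
  have p₂ := isPushout_of_affSq h₂ w₂
  let act := p₁.desc (aX.act ≫ a) (aY.act ≫ b) (by
    rw [← reassoc_of% hi, w, reassoc_of% hj])
  have ea : (D ◁ a) ≫ act = aX.act ≫ a := p₁.inl_desc _ _ _
  have eb : (D ◁ b) ≫ act = aY.act ≫ b := p₁.inr_desc _ _ _
  have h1 : ∀ (U : Over S) (p : U ⟶ P), lift (1 : U ⟶ D) p ≫ act = p := by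
    have e : lift (1 : P ⟶ D) (𝟙 P) ≫ act = 𝟙 P := by
      refine p₀.hom_ext ?_ ?_
      · have := congrArg (lift (1 : X ⟶ D) (𝟙 X) ≫ ·) ea
        simpa [comp_lift_assoc, MonObj.comp_one, lift_whiskerLeft_assoc, aX.lift_one_act_assoc] using this
      · have := congrArg (lift (1 : Y ⟶ D) (𝟙 Y) ≫ ·) eb
        simpa [comp_lift_assoc, MonObj.comp_one, lift_whiskerLeft_assoc, aY.lift_one_act_assoc] using this
    intro U p
    have := congrArg (p ≫ ·) e
    simpa [comp_lift_assoc, MonObj.comp_one] using this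
  have h2 : ∀ (U : Over S) (g g' : U ⟶ D) (p : U ⟶ P),
      lift (g * g') p ≫ act = lift g (lift g' p ≫ act) ≫ act := by
    let L : D ⊗ (D ⊗ P) ⟶ P := lift (fst _ _ * (snd _ _ ≫ fst _ _)) (snd _ _ ≫ snd _ _) ≫ act
    let R : D ⊗ (D ⊗ P) ⟶ P := (D ◁ act) ≫ act
    have key : ∀ {W : Over S} (aW : Magnet.MonAct D W) (c : W ⟶ P) (ec : (D ◁ c) ≫ act = aW.act ≫ c),
        (D ◁ (D ◁ c)) ≫ L = (D ◁ (D ◁ c)) ≫ R := fun aW c ec => by
      refine Magnet.hom_ext_lift₂ fun U g z => ?_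
      obtain ⟨g', x, rfl⟩ : ∃ g' x, z = lift g' x := ⟨_, _, (lift_comp_fst_snd z).symm⟩
      simp only [L, R, lift_whiskerLeft_assoc, lift_whiskerLeft, comp_lift_assoc, MonObj.comp_mul,
        lift_fst_assoc, lift_snd_assoc, lift_fst, lift_snd]
      rw [← lift_whiskerLeft_assoc (g * g') x c, ec, ← lift_whiskerLeft_assoc g' x c, ec, aW.lift_mul_act_assoc,
        ← Category.assoc (lift g' x), ← lift_whiskerLeft_assoc g _ c, ec]
    have hLR : L = R := p₂.hom_ext (key aX a ea) (key aY b eb)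
    intro U g g' p
    have := congrArg (lift g (lift g' p) ≫ ·) hLR
    simpa only [L, R, lift_whiskerLeft_assoc, comp_lift_assoc, MonObj.comp_mul, lift_fst_assoc,
      lift_snd_assoc, lift_fst, lift_snd] using this
  refine ⟨Magnet.MonAct.mk' act h1 h2, ea.symm, eb.symm, fun W aW f hfa hfb => ?_⟩
  refine p₁.hom_ext ?_ ?_
  · change (D ◁ a) ≫ act ≫ f = (D ◁ a) ≫ (D ◁ f) ≫ aW.act
    rw [reassoc_of% ea, hfa, MonoidalCategory.whiskerLeft_comp_assoc]
  · change (D ◁ b) ≫ act ≫ f = (D ◁ b) ≫ (D ◁ f) ≫ aW.act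
    rw [reassoc_of% eb, hfb, MonoidalCategory.whiskerLeft_comp_assoc]

end Groth.Agent.Lib.GrpSch
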