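import Groth.Agent.Lib.GrpSch.AttrCoord
import Groth.Agent.Lib.GrpSch.PushoutAct
import Groth.Agent.Lib.SmoothLift.SmallExt
import Groth.Agent.Lib.Ferrand.Spec

/-!
# Equivariant lifting along square-zero thickenings for diagonalizable group schemes

Let `D = A(M)_S` with `M` a group act on an affine `W = Spec C` and let `W₀ = Spec C₀ ⊆ W` be a
stable square-zero thickening.  Given an equivariant smooth `f : X ⟶ Y`, an equivariant `x₀ : W₀ ⟶ X`
over an equivariant `y : W ⟶ Y` lifts to an equivariant `W ⟶ X`: averaging of any lift by the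
projection `C[M] ⟶ C` to the constant coefficient, defined on the fibre product `C₀ ×_{C₀[M]} C[M]`.
-/

set_option autoImplicit false
universe u

open CategoryTheory Limits MonoidalCategory CartesianMonoidalCategory MonObj AlgebraicGeometry
open Groth.Agent.Lib

namespace Groth.Agent.Lib.GrpSch.AttrAffine

attribute [local instance] baseAlg

section Sq

variable {M : Type} [AddCommMonoid M]

/-- `- ⊗ R₀[M]` preserves Cartesian squares of rings along surjections. -/
theorem isSq_bcNat {R B A' A : CommRingCat.{u}} {r : R ⟶ B} {s : R ⟶ A'} {q : B ⟶ A} {p : A' ⟶ A}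
    (h : Ferrand.IsSq r.hom s.hom q.hom p.hom) :
    Ferrand.IsSq (bcNat (M := M) R0.{u} (toAlgHom' r)).hom (bcNat R0.{u} (toAlgHom' s)).hom
      (bcNat R0.{u} (toAlgHom' q)).hom (bcNat R0.{u} (toAlgHom' p)).hom := by
  refine ⟨fun x => coord_ext R0.{u} A fun m => ?_, bcNat_surjective R0.{u} (toAlgHom' p) h.surj,
    fun x y hr hs => coord_ext R0.{u} R fun m => h.ext _ _ ?_ ?_, fun b a hba => ?_⟩
  · rw [coord_bcNat, coord_bcNat, coord_bcNat, coord_bcNat]
    exact h.comm _
  · have := congrArg (fun z => coord R0.{u} B z m) hr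
    rw [coord_bcNat, coord_bcNat] at this
    exact this
  · have := congrArg (fun z => coord R0.{u} A' z m) hs
    rw [coord_bcNat, coord_bcNat] at this
    exact this
  · classical
    obtain ⟨sb, hsb, hb⟩ := exists_decomp R0.{u} B b
    obtain ⟨sa, hsa, ha⟩ := exists_decomp R0.{u} A' a
    have hm : ∀ m, ∃ x, r.hom x = coord R0.{u} B b m ∧ s.hom x = coord R0.{u} A' a m := fun m => by
      refine h.lift _ _ ?_
      have := congrArg (fun z => coord R0.{u} A z m) hba
      rw [coord_bcNat, coord_bcNat] at this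
      exact this
    choose x hxr hxs using hm
    refine ⟨∑ m ∈ sb ∪ sa, (bcInl R0.{u} M R).hom (x m) * mono R0.{u} R m, ?_, ?_⟩
    · rw [map_sum]
      conv_rhs => rw [hb, Finset.sum_subset (Finset.subset_union_left (s₂ := sa))
        (fun m _ hm => by rw [hsb m hm, map_zero, zero_mul])]
      refine Finset.sum_congr rfl fun m _ => ?_
      rw [map_mul, bcNat_inl, bcNat_mono]
      exact congrArg (fun c => (bcInl R0.{u} M B).hom c * _) (hxr m)
    · rw [map_sum]
      conv_rhs => rw [ha, Finset.sum_subset (Finset.subset_union_right (s₁ := sb))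
        (fun m _ hm => by rw [hsa m hm, map_zero, zero_mul])]
      refine Finset.sum_congr rfl fun m _ => ?_
      rw [map_mul, bcNat_inl, bcNat_mono]
      exact congrArg (fun c => (bcInl R0.{u} M A').hom c * _) (hxs m)

end Sq

section Maps

variable {S : Scheme.{u}} {M : Type} [AddCommMonoid M]

/-- A ring map as a map of spectra over `S`. -/
noncomputable def sMap {B C : CommRingCat.{u}} (τ : C ⟶ B) {t : Spec C ⟶ S} {t' : Spec B ⟶ S}
    (e : Spec.map τ ≫ t = t') : specOver B t' ⟶ specOver C t :=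
  Over.homMk (Spec.map τ) e

@[simp] theorem sMap_left {B C : CommRingCat.{u}} (τ : C ⟶ B) {t : Spec C ⟶ S} {t' : Spec B ⟶ S}
    (e : Spec.map τ ≫ t = t') : (sMap τ e).left = Spec.map τ := rfl

/-- A ring map as a map of `A(M)_S`-bundles over the spectra. -/
noncomputable def dMap {B C : CommRingCat.{u}} (τ : C ⟶ B) {t : Spec C ⟶ S} {t' : Spec B ⟶ S}
    (e : Spec.map τ ≫ t = t') : dOver (M := M) B t' ⟶ dOver (M := M) C t :=
  Over.homMk (Spec.map (bcNat (M := M) R0.{u} (toAlgHom' τ))) (by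
    change Spec.map _ ≫ Spec.map _ ≫ t = Spec.map _ ≫ t'
    rw [← e, ← Category.assoc, ← Category.assoc, ← Spec.map_comp, ← Spec.map_comp, bcInl_bcNat]
    rfl)

@[simp] theorem dMap_left {B C : CommRingCat.{u}} (τ : C ⟶ B) {t : Spec C ⟶ S} {t' : Spec B ⟶ S}
    (e : Spec.map τ ≫ t = t') : (dMap (M := M) τ e).left = Spec.map (bcNat R0.{u} (toAlgHom' τ)) := rfl

variable {B C : CommRingCat.{u}} (τ : C ⟶ B) {t : Spec C ⟶ S} {t' : Spec B ⟶ S} (e : Spec.map τ ≫ t = t')

@[reassoc] theorem dMap_dCoord : dMap (M := M) τ e ≫ dCoord C t = dCoord B t' :=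
  (dNat_coord τ (sMap τ e) rfl (dMap τ e) rfl).1

@[reassoc] theorem dMap_dProj : dMap (M := M) τ e ≫ dProj C t = dProj B t' ≫ sMap τ e :=
  (dNat_coord τ (sMap τ e) rfl (dMap τ e) rfl).2

theorem dProj_eq_sMap (B : CommRingCat.{u}) (t : Spec B ⟶ S) :
    dProj (M := M) B t = sMap (bcInl R0.{u} M B) rfl :=
  Over.OverMorphism.ext (dProj_left B t)

theorem lift_dCoord_dProj_comp {X : Over S} (g : Magnet.AMonS S M ⊗ specOver B t' ⟶ X) :
    lift (dCoord B t') (dProj B t') ≫ g = (dIso B t').hom ≫ g := by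
  rw [lift_dCoord_dProj]

end Maps

section Inverse

variable {S : Scheme.{u}} {M : Type} [AddCommGroup M] {T T' : Over S}

/-- The inverse of a point of `A(M)_S`, `M` a group. -/
noncomputable def invPt (g : T ⟶ Magnet.AMonS S M) : T ⟶ Magnet.AMonS S M :=
  monPt
    { toFun := fun m => monFn g (-m.toAdd)
      map_one' := by simp [monFn_zero]
      map_mul' := fun m n => by rw [toAdd_mul, neg_add, monFn_add] }

theorem monFn_invPt (g : T ⟶ Magnet.AMonS S M) (m : M) : monFn (invPt g) m = monFn g (-m) := by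
  rw [invPt, monFn_monPt]
  rfl

theorem mul_invPt (g : T ⟶ Magnet.AMonS S M) : g * invPt g = 1 := monFn_ext fun m => by
  rw [monFn_mul, monFn_invPt, ← monFn_add, add_neg_cancel, monFn_zero, monFn_one]

theorem comp_invPt (h : T' ⟶ T) (g : T ⟶ Magnet.AMonS S M) : h ≫ invPt g = invPt (h ≫ g) :=
  monFn_ext fun m => by rw [monFn_comp, monFn_invPt, monFn_invPt, monFn_comp]

theorem mul_comm_pt (g g' : T ⟶ Magnet.AMonS S M) : g * g' = g' * g := monFn_ext fun m => by
  rw [monFn_mul, monFn_mul, _root_.mul_comm]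

theorem invPt_mul (g g' : T ⟶ Magnet.AMonS S M) : invPt (g * g') = invPt g * invPt g' :=
  monFn_ext fun m => by rw [monFn_invPt, monFn_mul, monFn_mul, monFn_invPt, monFn_invPt]

theorem invPt_mul_mul_self (h g : T ⟶ Magnet.AMonS S M) : invPt (h * g) * h = invPt g := by
  rw [invPt_mul, mul_comm_pt (invPt h), _root_.mul_assoc, mul_comm_pt (invPt h), mul_invPt, _root_.mul_one]

end Inverse

section Average

variable {S : Scheme.{u}} {M : Type} [AddCommGroup M] {C : CommRingCat.{u}} {t : Spec C ⟶ S}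

/-- The coaction of an action on an affine scheme. -/
noncomputable def coact (ρ : Magnet.MonAct (Magnet.AMonS S M) (specOver C t)) : C ⟶ bcRing R0.{u} M C :=
  Spec.preimage ((dIso (M := M) C t).hom ≫ ρ.act).left

theorem map_coact (ρ : Magnet.MonAct (Magnet.AMonS S M) (specOver C t)) :
    Spec.map (coact ρ) = ((dIso (M := M) C t).hom ≫ ρ.act).left := Spec.map_preimage _

/-- The action `(h, (g, w)) ↦ (h g, h w)`. -/
noncomputable def twist (ρ : Magnet.MonAct (Magnet.AMonS S M) (specOver C t)) :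
    dOver (M := M) (bcRing R0.{u} M C) (Spec.map (bcInl R0.{u} M C) ≫ t) ⟶ dOver (M := M) C t :=
  lift (dCoord _ _ * (dProj _ _ ≫ dCoord C t)) (lift (dCoord _ _) (dProj _ _ ≫ dProj C t) ≫ ρ.act) ≫
    (dIso C t).inv

theorem twist_dCoord (ρ : Magnet.MonAct (Magnet.AMonS S M) (specOver C t)) :
    twist ρ ≫ dCoord C t = dCoord _ _ * (dProj _ _ ≫ dCoord C t) := by
  rw [twist, Category.assoc]
  change _ ≫ (dIso C t).inv ≫ (dIso C t).hom ≫ fst _ _ = _
  rw [Iso.inv_hom_id_assoc, lift_fst]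

theorem twist_dProj (ρ : Magnet.MonAct (Magnet.AMonS S M) (specOver C t)) :
    twist ρ ≫ dProj C t = lift (dCoord _ _) (dProj _ _ ≫ dProj C t) ≫ ρ.act := by
  rw [twist, Category.assoc]
  change _ ≫ (dIso C t).inv ≫ (dIso C t).hom ≫ snd _ _ = _
  rw [Iso.inv_hom_id_assoc, lift_snd]

theorem twist_dProj' (ρ : Magnet.MonAct (Magnet.AMonS S M) (specOver C t)) :
    twist ρ ≫ dProj C t = dMap (bcInl R0.{u} M C) rfl ≫ (dIso C t).hom ≫ ρ.act := by
  rw [twist_dProj, ← lift_dCoord_dProj_comp ρ.act, ← Category.assoc, comp_lift, dMap_dCoord, dMap_dProj,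
    ← dProj_eq_sMap]

/-- The ring map of `twist`. -/
noncomputable def twistRing (ρ : Magnet.MonAct (Magnet.AMonS S M) (specOver C t)) :
    bcRing R0.{u} M C ⟶ bcRing R0.{u} M (bcRing R0.{u} M C) :=
  Spec.preimage (twist ρ).left

theorem map_twistRing (ρ : Magnet.MonAct (Magnet.AMonS S M) (specOver C t)) :
    Spec.map (twistRing ρ) = (twist ρ).left := Spec.map_preimage _

theorem inl_twistRing (ρ : Magnet.MonAct (Magnet.AMonS S M) (specOver C t)) :
    bcInl R0.{u} M C ≫ twistRing ρ =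
      coact ρ ≫ bcNat R0.{u} (toAlgHom' (bcInl R0.{u} M C)) := by
  apply Spec.map_injective
  rw [Spec.map_comp, Spec.map_comp, map_twistRing, map_coact]
  refine (congrArg ((twist ρ).left ≫ ·) (dProj_left C t).symm).trans ?_
  exact congrArg CommaMorphism.left (twist_dProj' ρ)

theorem twistRing_mono (ρ : Magnet.MonAct (Magnet.AMonS S M) (specOver C t)) (m : Multiplicative M) :
    (twistRing ρ).hom (mono R0.{u} C m) =
      mono R0.{u} (bcRing R0.{u} M C) m * (bcInl R0.{u} M (bcRing R0.{u} M C)).hom (mono R0.{u} C m) := by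
  have h := monFn_comp (twist ρ) (dCoord C t) m.toAdd
  rw [twist_dCoord, monFn_mul, monFn_comp, monFn_dCoord, monFn_dCoord, dProj_left, ← map_twistRing] at h
  apply (Scheme.ΓSpecIso (bcRing R0.{u} M (bcRing R0.{u} M C))).commRingCatIsoToRingEquiv.symm.injective
  change (Scheme.ΓSpecIso _).inv.hom _ = (Scheme.ΓSpecIso _).inv.hom _
  rw [map_mul]
  have e1 := congr($(Scheme.ΓSpecIso_inv_naturality (twistRing ρ)) (mono R0.{u} C m))
  have e2 := congr($(Scheme.ΓSpecIso_inv_naturality (bcInl R0.{u} M (bcRing R0.{u} M C))) (mono R0.{u} C m))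
  refine e1.trans (h.symm.trans ?_)
  erw [e2]
  rfl

theorem coord_twistRing (ρ : Magnet.MonAct (Magnet.AMonS S M) (specOver C t)) (z : bcRing R0.{u} M C)
    (n : Multiplicative M) :
    coord R0.{u} C (coord R0.{u} (bcRing R0.{u} M C) ((twistRing ρ).hom z) n) 1 =
      coord R0.{u} C ((coact ρ).hom (coord R0.{u} C z 1)) n := by
  classical
  obtain ⟨s, hs, hz⟩ := exists_decomp R0.{u} C z
  have hterm : ∀ (c : C) (m : Multiplicative M),
      coord R0.{u} C (coord R0.{u} (bcRing R0.{u} M C)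
        ((twistRing ρ).hom ((bcInl R0.{u} M C).hom c * mono R0.{u} C m)) n) 1 =
      if m = 1 then coord R0.{u} C ((coact ρ).hom c) n else 0 := fun c m => by
    let bι := toAlgHom' (bcInl R0.{u} M C)
    have e : (twistRing ρ).hom ((bcInl R0.{u} M C).hom c * mono R0.{u} C m) =
        (bcInl R0.{u} M (bcRing R0.{u} M C)).hom (mono R0.{u} C m) *
          (bcNat R0.{u} bι).hom ((coact ρ).hom c * mono R0.{u} C m) := by
      rw [map_mul, twistRing_mono, map_mul, bcNat_mono]
      refine (congrArg (fun a => a * (mono R0.{u} (bcRing R0.{u} M C) m *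
        (bcInl R0.{u} M (bcRing R0.{u} M C)).hom (mono R0.{u} C m))) congr($(inl_twistRing ρ) c)).trans ?_
      change (bcNat R0.{u} bι).hom ((coact ρ).hom c) * _ = _
      ring
    rw [e, coord_inl_mul, coord_bcNat]
    change coord R0.{u} C (mono R0.{u} C m * (bcInl R0.{u} M C).hom
      (coord R0.{u} C ((coact ρ).hom c * mono R0.{u} C m) n)) 1 = _
    rw [_root_.mul_comm, coord_inl_mul, coord_mono]
    split_ifs with hm
    · subst hm
      rw [mono_one, _root_.mul_one, _root_.mul_one]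
    · exact mul_zero _
  conv_lhs => rw [hz, map_sum, coord_sum, coord_sum]
  refine (Finset.sum_congr rfl fun m _ => hterm _ m).trans ?_
  refine (Finset.sum_ite_eq' s 1 _).trans ?_
  split_ifs with h1
  · rfl
  · rw [hs 1 h1, map_zero, coord_zero]

end Average

section Fib

variable {M : Type} [AddCommMonoid M] {C C0 : CommRingCat.{u}} (π : C ⟶ C0)

variable (M) in
/-- The fibre product `C₀ ×_{C₀[M]} C[M]`. -/
noncomputable def fibRing : CommRingCat.{u} :=
  CommRingCat.of (RingHom.eqLocus ((bcInl R0.{u} M C0).hom.comp (RingHom.fst C0 (bcRing R0.{u} M C)))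
    ((bcNat R0.{u} (toAlgHom' π)).hom.comp (RingHom.snd C0 (bcRing R0.{u} M C))))

/-- The first projection. -/
noncomputable def fibFst : fibRing M π ⟶ C0 :=
  CommRingCat.ofHom ((RingHom.fst C0 (bcRing R0.{u} M C)).comp (Subring.subtype _))

/-- The second projection. -/
noncomputable def fibSnd : fibRing M π ⟶ bcRing R0.{u} M C :=
  CommRingCat.ofHom ((RingHom.snd C0 (bcRing R0.{u} M C)).comp (Subring.subtype _))

theorem fib_eq (z : fibRing M π) :
    (bcNat R0.{u} (toAlgHom' π)).hom ((fibSnd π).hom z) = (bcInl R0.{u} M C0).hom ((fibFst π).hom z) :=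
  (z.2).symm

/-- The constants. -/
noncomputable def fibCst : C ⟶ fibRing M π :=
  CommRingCat.ofHom ((RingHom.prod π.hom (bcInl R0.{u} M C).hom).codRestrict _ fun c => by
    change (bcInl R0.{u} M C0).hom (π.hom c) = (bcNat R0.{u} (toAlgHom' π)).hom ((bcInl R0.{u} M C).hom c)
    rw [bcNat_inl]
    rfl)

theorem fibCst_fst : fibCst (M := M) π ≫ fibFst π = π := rfl

theorem fibCst_snd : fibCst (M := M) π ≫ fibSnd π = bcInl R0.{u} M C := rfl

theorem fib_isSq (hπ : Function.Surjective π.hom) :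
    Ferrand.IsSq (fibFst (M := M) π).hom (fibSnd π).hom (bcInl R0.{u} M C0).hom (bcNat R0.{u} (toAlgHom' π)).hom :=
  ⟨fun z => (fib_eq π z).symm, bcNat_surjective R0.{u} (toAlgHom' π) hπ,
    fun _ _ h₁ h₂ => Subtype.ext (Prod.ext h₁ h₂), fun b a h => ⟨⟨(b, a), h⟩, rfl, rfl⟩⟩

end Fib

section Main

variable {S : Scheme.{u}} {M : Type} [AddCommGroup M]

/-- Equivariant lifting along a square-zero thickening of affine schemes. -/
theorem exists_eqv_lift_spec {C C0 : CommRingCat.{u}} (π : C ⟶ C0) (hπ : Function.Surjective π.hom)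
    (hsq : RingHom.ker π.hom ^ 2 = ⊥) {t : Spec C ⟶ S} {t0 : Spec C0 ⟶ S} (et : Spec.map π ≫ t = t0)
    {X Y : Over S} (aX : Magnet.MonAct (Magnet.AMonS S M) X) (aY : Magnet.MonAct (Magnet.AMonS S M) Y)
    (f : X ⟶ Y) (hf : Magnet.MonAct.IsEquivariant aX aY f) [Smooth f.left]
    (ρ : Magnet.MonAct (Magnet.AMonS S M) (specOver C t))
    (ρ0 : Magnet.AMonS S M ⊗ specOver C0 t0 ⟶ specOver C0 t0)
    (hρ0 : ρ0 ≫ sMap π et = (Magnet.AMonS S M ◁ sMap π et) ≫ ρ.act)
    (x0 : specOver C0 t0 ⟶ X) (hx : ρ0 ≫ x0 = (Magnet.AMonS S M ◁ x0) ≫ aX.act)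
    (y : specOver C t ⟶ Y) (hy : Magnet.MonAct.IsEquivariant ρ aY y) (hw : x0 ≫ f = sMap π et ≫ y) :
    ∃ l : specOver C t ⟶ X, Magnet.MonAct.IsEquivariant ρ aX l ∧ sMap π et ≫ l = x0 ∧ l ≫ f = y := by
  have hsq' : ∀ c c', π.hom c = 0 → π.hom c' = 0 → c * c' = 0 := fun c c' h h' => by
    have hm : c * c' ∈ RingHom.ker π.hom ^ 2 := by
      rw [pow_two]
      exact Ideal.mul_mem_mul h h'
    rwa [hsq, Ideal.mem_bot] at hm
  -- a lift, not equivariant
  obtain ⟨l00, hl00, hl00'⟩ := SmoothLift.SmallExt.exists_lift_of_smooth f.left π.hom hπ hsq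
    x0.left y.left (congrArg CommaMorphism.left hw).symm
  let l0 : specOver C t ⟶ X := Over.homMk l00 (by
    change l00 ≫ X.hom = t
    rw [← Over.w f, ← Category.assoc, hl00']
    exact Over.w y)
  have hl0 : sMap π et ≫ l0 = x0 := Over.OverMorphism.ext hl00
  have hl0f : l0 ≫ f = y := Over.OverMorphism.ext hl00'
  -- the twisted lift
  let g := dCoord (M := M) C t
  let w := dProj (M := M) C t
  let g0 := dCoord (M := M) C0 t0
  let w0 := dProj (M := M) C0 t0
  let i := sMap π et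
  let j0 := dMap (M := M) π et
  let Φ : dOver (M := M) C t ⟶ X := lift g (lift (invPt g) w ≫ ρ.act ≫ l0) ≫ aX.act
  have hρ0' : ∀ {Z : Over S} (p : Z ⟶ Magnet.AMonS S M) (q : Z ⟶ specOver C0 t0),
      lift p (q ≫ i) ≫ ρ.act = lift p q ≫ ρ0 ≫ i := fun p q => by
    rw [hρ0, lift_whiskerLeft_assoc]
  have hΦ0 : j0 ≫ Φ = w0 ≫ x0 := by
    change dMap (M := M) π et ≫ lift g (lift (invPt g) w ≫ ρ.act ≫ l0) ≫ aX.act = _
    rw [comp_lift_assoc, comp_lift_assoc, comp_invPt, dMap_dCoord, dMap_dProj]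
    rw [← Category.assoc (lift _ _) ρ.act, hρ0', Category.assoc, Category.assoc, hl0, hx,
      lift_whiskerLeft_assoc, ← aX.lift_mul_act, mul_invPt, aX.lift_one_act]
  have hΦf : Φ ≫ f = w ≫ y := by
    change (lift g (lift (invPt g) w ≫ ρ.act ≫ l0) ≫ aX.act) ≫ f = _
    rw [Category.assoc, hf, lift_whiskerLeft_assoc, Category.assoc, Category.assoc, hl0f, hy,
      lift_whiskerLeft_assoc, ← aY.lift_mul_act, mul_invPt, aY.lift_one_act]
  -- the pushout
  have hR := fib_eq (M := M) π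
  let pr1 := fibFst (M := M) π
  let pr2 := fibSnd (M := M) π
  let cst := fibCst (M := M) π
  have hcst1 : cst ≫ pr1 = π := fibCst_fst π
  have hcst2 : cst ≫ pr2 = bcInl R0.{u} M C := fibCst_snd π
  let π0 : fibRing M π ⟶ C := CommRingCat.ofHom (R := (fibRing M π : Type u)) (S := (C : Type u))
    { toFun := fun z => coord R0.{u} C (pr2.hom z) 1
      map_one' := by
        have h := coord_inl_one R0.{u} C (1 : C) (M := M)
        rw [map_one] at h
        rw [map_one]
        exact h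
      map_mul' := fun z z' => by
        rw [map_mul]
        exact coord_mul_one R0.{u} (toAlgHom' π) hsq' (hR z) (hR z')
      map_zero' := by rw [map_zero, coord_zero]
      map_add' := fun z z' => by rw [map_add, coord_add] }
  have hcst0 : cst ≫ π0 = 𝟙 C := CommRingCat.hom_ext (RingHom.ext fun c => coord_inl_one R0.{u} C c)
  have hπ0 : π0 ≫ π = pr1 := CommRingCat.hom_ext (RingHom.ext fun z => by
    change toAlgHom' π (coord R0.{u} C (pr2.hom z) 1) = pr1.hom z
    rw [← coord_bcNat, hR, coord_inl_one])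
  let tP : Spec (fibRing M π) ⟶ S := Spec.map cst ≫ t
  let P : Over S := specOver (fibRing M π) tP
  let qW : dOver (M := M) C t ⟶ P := sMap pr2 (by
    change Spec.map pr2 ≫ Spec.map cst ≫ t = _
    rw [← Category.assoc, ← Spec.map_comp, hcst2])
  let q0 : specOver C0 t0 ⟶ P := sMap pr1 (by
    change Spec.map pr1 ≫ Spec.map cst ≫ t = _
    rw [← Category.assoc, ← Spec.map_comp, hcst1, et])
  have hSq : Ferrand.IsSq pr1.hom pr2.hom (bcInl R0.{u} M C0).hom (bcNat R0.{u} (toAlgHom' π)).hom :=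
    fib_isSq π hπ
  have hcomm : j0 ≫ qW = w0 ≫ q0 := by
    apply Over.OverMorphism.ext
    rw [Over.comp_left, Over.comp_left, dMap_left, dProj_left, sMap_left, sMap_left, ← Spec.map_comp,
      ← Spec.map_comp]
    exact congrArg Spec.map (CommRingCat.hom_ext (RingHom.ext hR))
  have hpo : IsPushout j0 w0 qW q0 := by
    refine isPushout_of_affSq ?_ hcomm
    rw [dMap_left, dProj_left, sMap_left, sMap_left]
    exact Ferrand.affSq_Spec (CommRingCat.hom_ext (RingHom.ext fun z => (hR z).symm)) hSq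
  let Φb : P ⟶ X := hpo.desc Φ x0 hΦ0
  have hΦbW : qW ≫ Φb = Φ := hpo.inl_desc _ _ _
  have hΦb0 : q0 ≫ Φb = x0 := hpo.inr_desc _ _ _
  let s : specOver C t ⟶ P := sMap π0 (by
    change Spec.map π0 ≫ Spec.map cst ≫ t = _
    rw [← Category.assoc, ← Spec.map_comp, hcst0, Spec.map_id, Category.id_comp])
  have his : i ≫ s = q0 := by
    apply Over.OverMorphism.ext
    rw [Over.comp_left, sMap_left, sMap_left, sMap_left, ← Spec.map_comp, hπ0]
  let p : P ⟶ specOver C t := sMap cst rfl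
  have hsp : s ≫ p = 𝟙 _ := by
    apply Over.OverMorphism.ext
    rw [Over.comp_left, sMap_left, sMap_left, ← Spec.map_comp, hcst0, Spec.map_id]
    rfl
  have hpf : Φb ≫ f = p ≫ y := by
    refine hpo.hom_ext ?_ ?_
    · rw [← Category.assoc, hΦbW, hΦf, ← Category.assoc]
      refine congrArg (· ≫ y) (Over.OverMorphism.ext ?_)
      rw [Over.comp_left, dProj_left, sMap_left, sMap_left, ← Spec.map_comp, hcst2]
    · rw [← Category.assoc, hΦb0, hw, ← Category.assoc]
      refine congrArg (· ≫ y) (Over.OverMorphism.ext ?_)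
      rw [Over.comp_left, sMap_left, sMap_left, sMap_left, ← Spec.map_comp, hcst1]
  refine ⟨s ≫ Φb, ?_, by rw [← Category.assoc, his, hΦb0], by
    rw [Category.assoc, hpf, ← Category.assoc, hsp, Category.id_comp]⟩
  -- the pushout after `- ⊗ R₀[M]`
  let C1 := bcRing R0.{u} M C
  let C10 := bcRing R0.{u} M C0
  let t1 : Spec C1 ⟶ S := Spec.map (bcInl R0.{u} M C) ≫ t
  let t10 : Spec C10 ⟶ S := Spec.map (bcInl R0.{u} M C0) ≫ t0
  have eW : Spec.map pr2 ≫ tP = t1 := Over.w qW
  have e0 : Spec.map pr1 ≫ tP = t0 := Over.w q0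
  have ej : Spec.map (bcNat R0.{u} (toAlgHom' π)) ≫ t1 = t10 := Over.w j0
  have ew : Spec.map (bcInl R0.{u} M C0) ≫ t0 = t10 := rfl
  let J := dMap (M := M) (bcNat R0.{u} (toAlgHom' π)) ej
  let W1 := dMap (M := M) (bcInl R0.{u} M C0) ew
  let QW := dMap (M := M) pr2 eW
  let Q0 := dMap (M := M) pr1 e0
  have hSq1 := isSq_bcNat (M := M) hSq
  have hcomm1' : bcNat (M := M) R0.{u} (toAlgHom' pr1) ≫ bcNat R0.{u} (toAlgHom' (bcInl R0.{u} M C0)) =
      bcNat R0.{u} (toAlgHom' pr2) ≫ bcNat R0.{u} (toAlgHom' (bcNat R0.{u} (toAlgHom' π))) :=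
    CommRingCat.hom_ext (RingHom.ext hSq1.comm)
  have hcomm1 : J ≫ QW = W1 ≫ Q0 := by
    apply Over.OverMorphism.ext
    rw [Over.comp_left, Over.comp_left, dMap_left, dMap_left, dMap_left, dMap_left, ← Spec.map_comp,
      ← Spec.map_comp, hcomm1']
  have hpo1 : IsPushout J W1 QW Q0 := by
    refine isPushout_of_affSq ?_ hcomm1
    rw [dMap_left, dMap_left, dMap_left, dMap_left]
    exact Ferrand.affSq_Spec hcomm1' hSq1
  -- the action on the pushout
  let h1 := dCoord (M := M) C1 t1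
  let u1 := dProj (M := M) C1 t1
  let h10 := dCoord (M := M) C10 t10
  let u10 := dProj (M := M) C10 t10
  let A0 : dOver (M := M) C0 t0 ⟶ specOver C0 t0 := (dIso C0 t0).hom ≫ ρ0
  have hJ : J ≫ twist ρ ≫ qW = W1 ≫ A0 ≫ q0 := by
    have hu : J ≫ u1 = u10 ≫ j0 := by
      rw [dMap_dProj]
      exact congrArg (dProj C10 t10 ≫ ·) (Over.OverMorphism.ext (by rw [sMap_left, dMap_left]))
    have e : J ≫ twist ρ = lift (h10 * (u10 ≫ g0)) (lift h10 (u10 ≫ w0) ≫ ρ0) ≫ (dIso C0 t0).inv ≫ j0 := by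
      have hj : (dIso C0 t0).inv ≫ j0 = (Magnet.AMonS S M ◁ i) ≫ (dIso C t).inv := by
        rw [Iso.inv_comp_eq, ← Category.assoc, Iso.eq_comp_inv, ← lift_dCoord_dProj,
          ← lift_dCoord_dProj, comp_lift, dMap_dCoord, dMap_dProj, lift_whiskerLeft]
      rw [twist, hj, comp_lift_assoc, lift_whiskerLeft_assoc, comp_lift_assoc, dMap_dCoord, MonObj.comp_mul,
        ← Category.assoc J, ← Category.assoc J, hu, Category.assoc, Category.assoc, dMap_dCoord, dMap_dProj,
        dMap_dCoord, ← Category.assoc u10 w0, hρ0', Category.assoc]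
    have ew0 : W1 ≫ A0 = lift h10 (u10 ≫ w0) ≫ ρ0 := by
      change dMap (M := M) (bcInl R0.{u} M C0) ew ≫ (dIso C0 t0).hom ≫ ρ0 = _
      rw [← lift_dCoord_dProj_comp ρ0, comp_lift_assoc, dMap_dCoord, dMap_dProj]
      refine congrArg (fun q => lift h10 (u10 ≫ q) ≫ ρ0) (Over.OverMorphism.ext ?_)
      rw [sMap_left, dProj_left]
    rw [← Category.assoc, e, Category.assoc, Category.assoc, hcomm, ← Category.assoc W1, ew0,
      ← Category.assoc (dIso C0 t0).inv]
    rw [show (dIso (M := M) C0 t0).inv ≫ w0 = snd _ _ from Iso.inv_hom_id_assoc _ _, lift_snd_assoc]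
  let actP : dOver (M := M) (fibRing M π) tP ⟶ P := hpo1.desc (twist ρ ≫ qW) (A0 ≫ q0) hJ
  have hactW : QW ≫ actP = twist ρ ≫ qW := hpo1.inl_desc _ _ _
  have hact0 : Q0 ≫ actP = A0 ≫ q0 := hpo1.inr_desc _ _ _
  have hΦeq : actP ≫ Φb = lift (dCoord (fibRing M π) tP) (dProj (fibRing M π) tP ≫ Φb) ≫ aX.act := by
    refine hpo1.hom_ext ?_ ?_
    · have hu : QW ≫ dProj (fibRing M π) tP = u1 ≫ qW := dMap_dProj _ _
      have hc : QW ≫ dCoord (fibRing M π) tP = h1 := dMap_dCoord _ _
      rw [← Category.assoc, hactW, Category.assoc, hΦbW]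
      conv_rhs => rw [comp_lift_assoc, hc, ← Category.assoc QW, hu, Category.assoc, hΦbW]
      change twist ρ ≫ lift g (lift (invPt g) w ≫ ρ.act ≫ l0) ≫ aX.act =
        lift h1 (u1 ≫ lift g (lift (invPt g) w ≫ ρ.act ≫ l0) ≫ aX.act) ≫ aX.act
      rw [comp_lift_assoc, comp_lift_assoc, comp_invPt, twist_dCoord, twist_dProj,
        ← Category.assoc (lift _ _) ρ.act, ← ρ.lift_mul_act, invPt_mul_mul_self, comp_lift_assoc,
        comp_lift_assoc, comp_invPt, aX.lift_mul_act]
      simp only [Category.assoc]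
      rfl
    · have hu : Q0 ≫ dProj (fibRing M π) tP = w0 ≫ q0 := dMap_dProj _ _
      have hc : Q0 ≫ dCoord (fibRing M π) tP = g0 := dMap_dCoord _ _
      rw [← Category.assoc, hact0, Category.assoc, hΦb0]
      conv_rhs => rw [comp_lift_assoc, hc, ← Category.assoc Q0, hu, Category.assoc, hΦb0]
      change ((dIso C0 t0).hom ≫ ρ0) ≫ x0 = _
      rw [Category.assoc, hx, ← lift_dCoord_dProj_comp, lift_whiskerLeft_assoc]
  -- the section is equivariant
  let hs := dMap (M := M) π0 (Over.w s)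
  have hsg : hs ≫ dCoord (fibRing M π) tP = g := dMap_dCoord _ _
  have hsw : hs ≫ dProj (fibRing M π) tP = w ≫ s := dMap_dProj _ _
  have hkey : (dIso C t).hom ≫ ρ.act ≫ s = hs ≫ actP := by
    apply Over.OverMorphism.ext
    let α : fibRing M π ⟶ bcRing R0.{u} M (fibRing M π) := Spec.preimage actP.left
    have hα : Spec.map α = actP.left := Spec.map_preimage _
    have hα2 : α ≫ bcNat R0.{u} (toAlgHom' pr2) = pr2 ≫ twistRing ρ := by
      apply Spec.map_injective
      rw [Spec.map_comp, Spec.map_comp, hα, map_twistRing]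
      exact congrArg CommaMorphism.left hactW
    change ((dIso C t).hom ≫ ρ.act).left ≫ s.left = hs.left ≫ actP.left
    rw [← map_coact, sMap_left, dMap_left, ← hα,
      ← Spec.map_comp, ← Spec.map_comp]
    refine congrArg Spec.map (CommRingCat.hom_ext (RingHom.ext fun z => coord_ext R0.{u} C fun n => ?_))
    change coord R0.{u} C ((coact ρ).hom (π0.hom z)) n =
      coord R0.{u} C ((bcNat R0.{u} (toAlgHom' π0)).hom (α.hom z)) n
    rw [coord_bcNat]
    refine Eq.trans ?_ (congrArg (fun a => coord R0.{u} C a 1)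
      ((congrArg (fun a => coord R0.{u} C1 a n) congr($hα2 z)).symm.trans (coord_bcNat ..)))
    exact (coord_twistRing ρ (pr2.hom z) n).symm
  unfold Magnet.MonAct.IsEquivariant
  rw [← cancel_epi (dIso (M := M) C t).hom, ← Category.assoc ρ.act, ← Category.assoc, hkey, Category.assoc,
    hΦeq, comp_lift_assoc, hsg, ← Category.assoc hs, hsw, Category.assoc,
    ← lift_dCoord_dProj_comp, lift_whiskerLeft_assoc]

end Main

end Groth.Agent.Lib.GrpSch.AttrAffine
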