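import Groth.Prelude.Def_Magnet2
import Mathlib.CategoryTheory.Sites.SheafOfTypes
import Mathlib.CategoryTheory.Sites.Canonical

/-!
# Equivariant-morphism and fixed-point functors are sheaves for subcanonical topologies
-/

universe v₁ u₁

open CategoryTheory MonoidalCategory CartesianMonoidalCategory MonObj Opposite

namespace Groth.Agent.Lib.GrpSch

variable {C : Type u₁} [Category.{v₁} C] (J : GrothendieckTopology C) [J.Subcanonical]

theorem hom_ext_of_sieve {W X : C} (R : Sieve W) (hR : R ∈ J W) (f g : W ⟶ X)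
    (h : ∀ ⦃Z : C⦄ (q : Z ⟶ W), R q → q ≫ f = q ≫ g) : f = g :=
  (GrothendieckTopology.Subcanonical.isSheaf_of_isRepresentable (J := J) (yoneda.obj X) R hR).isSeparatedFor.ext
    (fun {Z} q hq => h q hq)

theorem exists_glue {W X : C} (R : Sieve W) (hR : R ∈ J W)
    (x : Presieve.FamilyOfElements (yoneda.obj X) R.arrows) (hx : x.Compatible) :
    ∃ f : W ⟶ X, ∀ ⦃Z : C⦄ (q : Z ⟶ W) (hq : R q), q ≫ f = x q hq :=
  have h := GrothendieckTopology.Subcanonical.isSheaf_of_isRepresentable (J := J) (yoneda.obj X) R hR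
  ⟨(h.amalgamate x hx : (yoneda.obj X).obj (op W)), fun _ q hq => h.valid_glue hx q hq⟩

variable [CartesianMonoidalCategory C] {A B X : C} [MonObj A]

theorem isSheaf_eqvHom (ρ : Magnet.MonAct A B) (a : Magnet.MonAct A X) :
    Presheaf.IsSheaf J (Magnet.MonAct.eqvHom ρ a) := by
  rw [isSheaf_iff_isSheaf_of_type]
  intro T R hR
  rw [← Presieve.isSeparatedFor_and_exists_isAmalgamation_iff_isSheafFor]
  have hS : R.pullback (snd B T) ∈ J (B ⊗ T) := J.pullback_stable _ hR
  refine ⟨fun x t₁ t₂ h₁ h₂ => Subtype.ext (hom_ext_of_sieve J _ hS _ _ fun Z q hq => ?_), fun x hx => ?_⟩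
  · have e₁ : (B ◁ (q ≫ snd B T)) ≫ t₁.1 = (x _ hq).1 := congrArg Subtype.val (h₁ _ hq)
    have e₂ : (B ◁ (q ≫ snd B T)) ≫ t₂.1 = (x _ hq).1 := congrArg Subtype.val (h₂ _ hq)
    have e := congrArg (lift (q ≫ fst B T) (𝟙 Z) ≫ ·) (e₁.trans e₂.symm)
    simpa [lift_whiskerLeft_assoc] using e
  · rw [Presieve.compatible_iff_sieveCompatible] at hx
    have hx' : ∀ {Y Z : C} (f : Y ⟶ T) (g : Z ⟶ Y) (hf : R f),
        (x (g ≫ f) (R.downward_closed hf g)).1 = (B ◁ g) ≫ (x f hf).1 := fun f g hf =>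
      congrArg Subtype.val (hx f g hf)
    let y : Presieve.FamilyOfElements (yoneda.obj X) (R.pullback (snd B T)).arrows :=
      fun Z q hq => lift (q ≫ fst B T) (𝟙 Z) ≫ (x (q ≫ snd B T) hq).1
    have hy : y.Compatible := by
      rw [Presieve.compatible_iff_sieveCompatible]
      intro Y Z f g hf
      change lift ((g ≫ f) ≫ fst B T) (𝟙 Z) ≫ (x ((g ≫ f) ≫ snd B T) _).1 =
        g ≫ lift (f ≫ fst B T) (𝟙 Y) ≫ (x (f ≫ snd B T) hf).1
      have : (x ((g ≫ f) ≫ snd B T) ((R.pullback (snd B T)).downward_closed hf g)).1 =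
          (x (g ≫ f ≫ snd B T) (R.downward_closed hf g)).1 := by
        congr 2
        simp
      rw [this, hx' (f ≫ snd B T) g hf, lift_whiskerLeft_assoc, comp_lift_assoc]
      simp
    obtain ⟨Φ, hΦ⟩ := exists_glue J _ hS y hy
    have hrestr : ∀ {U : C} (f : U ⟶ T) (hf : R f), (B ◁ f) ≫ Φ = (x f hf).1 := by
      intro U f hf
      have hq : (R.pullback (snd B T)).arrows (B ◁ f) := by
        change R ((B ◁ f) ≫ snd B T)
        rw [whiskerLeft_snd]
        exact R.downward_closed hf _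
      rw [hΦ _ hq]
      change lift ((B ◁ f) ≫ fst B T) (𝟙 _) ≫ (x ((B ◁ f) ≫ snd B T) hq).1 = _
      have : (x ((B ◁ f) ≫ snd B T) hq).1 = (x (snd B U ≫ f) (R.downward_closed hf _)).1 := by
        congr 2
        simp
      rw [this, hx' f (snd B U) hf, lift_whiskerLeft_assoc]
      simp
    have hmem : Magnet.MonAct.IsEquivariant (ρ.prod (Magnet.MonAct.trivial A T)) a Φ := by
      rw [Magnet.MonAct.mem_eqvHom_iff]
      intro T' g b t
      refine hom_ext_of_sieve J _ (J.pullback_stable t hR) _ _ fun Z q hq => ?_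
      have h := (Magnet.MonAct.mem_eqvHom_iff _).1 (x _ hq).2 Z (q ≫ g) (q ≫ b) (𝟙 Z)
      rw [← hrestr _ hq, lift_whiskerLeft_assoc, lift_whiskerLeft_assoc, Category.id_comp] at h
      simp only [comp_lift_assoc, comp_lift, Category.assoc] at h ⊢
      exact h
    exact ⟨⟨Φ, hmem⟩, fun U f hf => Subtype.ext (hrestr f hf)⟩

theorem isSheaf_fixedPsh (a : Magnet.MonAct A X) : Presheaf.IsSheaf J (Magnet.MonAct.fixedPsh a) := by
  rw [isSheaf_iff_isSheaf_of_type]
  intro T R hR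
  rw [← Presieve.isSeparatedFor_and_exists_isAmalgamation_iff_isSheafFor]
  refine ⟨fun x t₁ t₂ h₁ h₂ => Subtype.ext (hom_ext_of_sieve J R hR _ _ fun Z q hq =>
    (congrArg Subtype.val (h₁ q hq)).trans (congrArg Subtype.val (h₂ q hq)).symm), fun x hx => ?_⟩
  rw [Presieve.compatible_iff_sieveCompatible] at hx
  let y : Presieve.FamilyOfElements (yoneda.obj X) R.arrows := fun Z q hq => (x q hq).1
  have hy : y.Compatible := by
    rw [Presieve.compatible_iff_sieveCompatible]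
    exact fun Y Z f g hf => congrArg Subtype.val (hx f g hf)
  obtain ⟨Φ, hΦ⟩ := exists_glue J R hR y hy
  refine ⟨⟨Φ, fun T' t g => ?_⟩, fun U f hf => Subtype.ext (hΦ f hf)⟩
  refine hom_ext_of_sieve J _ (J.pullback_stable t hR) _ _ fun Z q hq => ?_
  have h := (x _ hq).2 Z (𝟙 Z) (q ≫ g)
  rw [Category.id_comp, show (x _ hq).1 = (q ≫ t) ≫ Φ from (hΦ _ hq).symm, Category.assoc] at h
  rw [comp_lift_assoc]
  exact h

end Groth.Agent.Lib.GrpSch
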