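import Mathlib.AlgebraicGeometry.Group.Affine
import Mathlib.LinearAlgebra.TensorProduct.Basis

/-!
# Extension along a split monomorphism of algebras is a closed condition
-/

set_option autoImplicit false
universe u

open CategoryTheory MonoidalCategory CartesianMonoidalCategory AlgebraicGeometry Opposite TensorProduct

namespace Groth.Agent.Lib.GrpSch

variable {R : CommRingCat.{u}}

theorem exists_closed_extension {A A' C : CommAlgCat R} [Module.Free R A'] (φ : A ⟶ A')
    {ψ : A' →ₗ[R] A} (hψ : ∀ x, ψ (φ.hom x) = x)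
    (act : (algSpec R).obj (op A') ⊗ (algSpec R).obj (op C) ⟶ (algSpec R).obj (op C)) :
    ∃ I : Ideal C, ∀ (B : CommAlgCat R) (τ : C ⟶ B), I ≤ RingHom.ker τ.hom.toRingHom ↔
      ∃ e : (algSpec R).obj (op A) ⊗ (algSpec R).obj (op B) ⟶ (algSpec R).obj (op C),
        ((algSpec R).map φ.op ▷ (algSpec R).obj (op B)) ≫ e =
          ((algSpec R).obj (op A') ◁ (algSpec R).map τ.op) ≫ act := by
  classical
  obtain ⟨ρ, hρ⟩ : ∃ ρ : op A' ⊗ op C ⟶ op C,
      Functor.LaxMonoidal.μ (algSpec R) _ _ ≫ (algSpec R).map ρ = act :=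
    ⟨(algSpec R).preimage (Functor.OplaxMonoidal.δ (algSpec R) _ _ ≫ act), by simp⟩
  let ρ₀ : C →ₐ[R] A' ⊗[R] C := ρ.unop.hom
  let π : A' →ₗ[R] A' := LinearMap.id - φ.hom.toLinearMap ∘ₗ ψ
  let β := Module.Free.chooseBasis R A'
  let co : ∀ B : CommAlgCat R, A' ⊗[R] B → Module.Free.ChooseBasisIndex R A' → B := fun B z i =>
    TensorProduct.equivFinsuppOfBasisLeft β (π.rTensor B z) i
  refine ⟨Ideal.span (Set.range fun p : C × Module.Free.ChooseBasisIndex R A' => co C (ρ₀ p.1) p.2),
    fun B τ => ?_⟩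
  let θ := Algebra.TensorProduct.map φ.hom (AlgHom.id R B)
  let ν := Algebra.TensorProduct.map (AlgHom.id R A') τ.hom
  have hθ : Function.Injective θ := Function.LeftInverse.injective (g := ψ.rTensor B) fun z => by
    induction z using TensorProduct.induction_on with
    | zero => simp
    | tmul a b => simp [θ, hψ]
    | add x y hx hy => simp [hx, hy]
  have hmem : ∀ z, z ∈ θ.range ↔ π.rTensor B z = 0 := fun z => by
    have hdec : ∀ z : A' ⊗[R] B, π.rTensor B z = z - θ (ψ.rTensor B z) := fun z => by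
      induction z using TensorProduct.induction_on with
      | zero => simp
      | tmul a b => simp [π, θ]
      | add x y hx hy => simp only [map_add, hx, hy]; abel
    constructor
    · rintro ⟨w, rfl⟩
      rw [hdec, sub_eq_zero]
      refine congrArg θ ?_
      symm
      induction w using TensorProduct.induction_on with
      | zero => simp
      | tmul a b => simp [θ, hψ]
      | add x y hx hy => simp only [map_add, hx, hy]
    · exact fun h => ⟨ψ.rTensor B z, by rw [hdec, sub_eq_zero] at h; exact h.symm⟩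
  have hnat : ∀ (z : A' ⊗[R] C) i, co B (ν z) i = τ.hom (co C z i) := fun z i => by
    simp only [co]
    induction z using TensorProduct.induction_on with
    | zero => simp
    | tmul a c => simp [ν]
    | add x y hx hy => simp only [map_add, Finsupp.add_apply, hx, hy]
  have hI : Ideal.span (Set.range fun p : C × Module.Free.ChooseBasisIndex R A' => co C (ρ₀ p.1) p.2) ≤
      RingHom.ker τ.hom.toRingHom ↔ ∀ c, ν (ρ₀ c) ∈ θ.range := by
    simp only [hmem, Ideal.span_le, Set.range_subset_iff, Prod.forall, SetLike.mem_coe, RingHom.mem_ker,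
      AlgHom.toRingHom_eq_coe, RingHom.coe_coe, ← hnat]
    exact ⟨fun h c => (TensorProduct.equivFinsuppOfBasisLeft β).map_eq_zero_iff.mp (Finsupp.ext (h c)),
      fun h c i => by simp [co, h c]⟩
  rw [hI]
  have key : ∀ σ : op A ⊗ op B ⟶ op C,
      ((algSpec R).map φ.op ▷ (algSpec R).obj (op B)) ≫
          Functor.LaxMonoidal.μ (algSpec R) _ _ ≫ (algSpec R).map σ =
        ((algSpec R).obj (op A') ◁ (algSpec R).map τ.op) ≫ act ↔
      θ.comp σ.unop.hom = ν.comp ρ₀ := fun σ => by
    rw [← hρ, Functor.LaxMonoidal.μ_natural_left_assoc, Functor.LaxMonoidal.μ_natural_right_assoc,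
      cancel_epi, ← Functor.map_comp, ← Functor.map_comp, (algSpec R).map_injective.eq_iff]
    constructor
    · exact fun h => congrArg (fun w => w.unop.hom) h
    · exact fun h => Quiver.Hom.unop_inj (CommAlgCat.hom_ext h)
  constructor
  · intro h
    let e := AlgEquiv.ofInjective θ hθ
    let σ₀ : C →ₐ[R] A ⊗[R] B := e.symm.toAlgHom.comp ((ν.comp ρ₀).codRestrict θ.range h)
    refine ⟨_, (key (CommAlgCat.ofHom σ₀ : C ⟶ A ⊗ B).op).2 (AlgHom.ext fun c => ?_)⟩
    exact congrArg Subtype.val (e.apply_symm_apply ⟨ν (ρ₀ c), h c⟩)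
  · rintro ⟨e, he⟩ c
    have h := (key ((algSpec R).preimage (Functor.OplaxMonoidal.δ (algSpec R) _ _ ≫ e))).1
      (by simpa using he)
    exact ⟨_, congrArg (fun w : C →ₐ[R] A' ⊗[R] B => w c) h⟩

end Groth.Agent.Lib.GrpSch
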