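import Groth.Agent.Lib.GrpSch.HopfPts
import Groth.Agent.Lib.GrpQ.NormalKer
import Groth.Agent.Lib.Comod.Cartier
import Groth.Agent.Lib.Hopf.Conv3
import Mathlib.RingTheory.Spectrum.Prime.Chevalley
import Mathlib.RingTheory.Flat.TorsionFree
import Mathlib.Analysis.Complex.Polynomial.Basic
import Mathlib.RingTheory.RootsOfUnity.Complex
import Mathlib.LinearAlgebra.Trace
import Mathlib.LinearAlgebra.Eigenspace.Charpoly
import Mathlib.RingTheory.Ideal.KrullsHeightTheorem
import Mathlib.FieldTheory.AlgebraicClosure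

/-!
A finitely generated dense subgroup of the rational points of a commutative Hopf algebra of finite
type over an algebraically closed field of characteristic zero.
-/

namespace Groth.Agent.Lib.GrpSch.FGDense

open TensorProduct WithConv Set Topology CoalgebraStruct HopfPts

universe u

section Tensor

variable {k : Type*} [Field k] {V W : Type*} [AddCommGroup V] [Module k V] [AddCommGroup W] [Module k W]

/-- Tensors are determined by separating families of functionals. -/
theorem tensor_ext {ι κ : Type*} (φ : ι → V →ₗ[k] k) (ψ : κ → W →ₗ[k] k)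
    (hφ : ∀ v, (∀ i, φ i v = 0) → v = 0) (hψ : ∀ w, (∀ j, ψ j w = 0) → w = 0) {t : V ⊗[k] W}
    (h : ∀ i j, LinearMap.mul' k k (TensorProduct.map (φ i) (ψ j) t) = 0) : t = 0 := by
  let b := Module.Free.chooseBasis k V
  apply (TensorProduct.equivFinsuppOfBasisLeft b).injective
  rw [map_zero]
  ext n
  refine hψ _ fun j => ?_
  have key : ∀ z : V ⊗[k] W, ψ j (TensorProduct.equivFinsuppOfBasisLeft b z n) =
      b.coord n (TensorProduct.rid k V (TensorProduct.map LinearMap.id (ψ j) z)) := fun z => by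
    induction z using TensorProduct.induction_on with
    | zero => simp
    | add x y hx hy => simp [hx, hy]
    | tmul x y => simp [mul_comm]
  rw [key]
  suffices h0 : TensorProduct.rid k V (TensorProduct.map LinearMap.id (ψ j) t) = 0 by rw [h0, map_zero]
  refine hφ _ fun i => ?_
  rw [← h i j]
  clear h
  induction t using TensorProduct.induction_on with
  | zero => simp
  | add x y hx hy => simp [hx, hy]
  | tmul x y => simp [mul_comm]

end Tensor

section RootsOfUnity

variable {k : Type*} [Field k] [CharZero k]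

/-- A sum of roots of unity equal to a natural number at least their number: all are `1`. -/
theorem eq_one_of_sum_eq (s : Multiset k) (hs : ∀ z ∈ s, ∃ m, 0 < m ∧ z ^ m = 1) (N : ℕ)
    (hN : s.card ≤ N) (hsum : s.sum = (N : k)) : N = s.card ∧ ∀ z ∈ s, z = 1 := by
  classical
  let K₀ := algebraicClosure ℚ k
  have hint : ∀ z ∈ s, z ∈ K₀ := fun z hz => by
    obtain ⟨m, hm, hzm⟩ := hs z hz
    exact mem_algebraicClosure_iff.2
      ((IsIntegral.of_pow hm (by rw [hzm]; exact isIntegral_one)).isAlgebraic)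
  have : Algebra.IsAlgebraic ℚ K₀ := algebraicClosure.isAlgebraic ℚ k
  let ψ : K₀ →ₐ[ℚ] ℂ := IsAlgClosed.lift
  let s₀ : Multiset K₀ := s.attach.map fun z => ⟨z.1, hint z.1 z.2⟩
  have hmap : s₀.map (fun z : K₀ => (z : k)) = s := by
    simp [s₀, Multiset.map_map, Multiset.attach_map_val]
  have hsum₀ : s₀.sum = (N : K₀) := by
    apply Subtype.val_injective
    have := map_multiset_sum K₀.val s₀
    simp only [IntermediateField.coe_val, hmap] at this
    rw [this, hsum]
    simp
  have hψ : (s₀.map ψ).sum = (N : ℂ) := by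
    rw [← map_multiset_sum ψ, hsum₀, map_natCast]
  have hnorm : ∀ z ∈ s₀, ‖ψ z‖ = 1 := fun z hz => by
    have hzs : (z : k) ∈ s := by rw [← hmap]; exact Multiset.mem_map_of_mem _ hz
    obtain ⟨m, hm, hzm⟩ := hs _ hzs
    have h1 : z ^ m = 1 := Subtype.val_injective (by simpa using hzm)
    exact Complex.norm_eq_one_of_pow_eq_one (by rw [← map_pow, h1, map_one]) hm.ne'
  let r : K₀ → ℝ := fun z => (ψ z).re
  have hre : (s₀.map r).sum = N := by
    have := congrArg Complex.re hψ
    rw [← Complex.reLm_coe, map_multiset_sum, Multiset.map_map] at this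
    simpa using this
  have hle : ∀ z ∈ s₀, r z ≤ 1 := fun z hz => (Complex.re_le_norm _).trans (hnorm z hz).le
  have hcard : s₀.card = s.card := by simp [s₀]
  have hsum1 : (s₀.map r).sum + (s₀.map fun z => 1 - r z).sum = s.card := by
    rw [← Multiset.sum_map_add]
    simp [hcard]
  have hnn : 0 ≤ (s₀.map fun z => 1 - r z).sum :=
    Multiset.sum_nonneg fun x hx => by
      obtain ⟨z, hz, rfl⟩ := Multiset.mem_map.1 hx
      linarith [hle z hz]
  have hcN : (s.card : ℝ) ≤ N := by exact_mod_cast hN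
  have hN' : N = s.card := le_antisymm (by exact_mod_cast (show (N : ℝ) ≤ s.card by linarith)) hN
  refine ⟨hN', fun z hz => ?_⟩
  obtain ⟨z₀, hz₀, rfl⟩ : ∃ z₀ ∈ s₀, (z₀ : k) = z := by
    rw [← hmap] at hz
    simpa using Multiset.mem_map.1 hz
  have hNr : (N : ℝ) = s.card := by exact_mod_cast hN'
  have h0 : 1 - r z₀ = 0 := by
    refine le_antisymm ?_ (by linarith [hle z₀ hz₀])
    have hS0 : (s₀.map fun z => 1 - r z).sum = 0 := by linarith
    rw [← hS0]
    refine Multiset.single_le_sum (fun x hx => ?_) _ (Multiset.mem_map_of_mem (fun z => 1 - r z) hz₀)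
    obtain ⟨z', hz', rfl⟩ := Multiset.mem_map.1 hx
    linarith [hle z' hz']
  have h1 : ψ z₀ = 1 := by
    apply Complex.ext
    · have : r z₀ = (ψ z₀).re := rfl
      simp only [Complex.one_re]; linarith
    · have h2 := Complex.sq_norm (ψ z₀)
      rw [hnorm z₀ hz₀, Complex.normSq_apply] at h2
      have : (ψ z₀).re = 1 := by
        have : r z₀ = (ψ z₀).re := rfl
        linarith
      rw [this] at h2
      simp only [Complex.one_im]
      nlinarith
  have h2 : z₀ = 1 := ψ.toRingHom.injective (by simpa using h1)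
  simp [h2]

open Polynomial in
/-- The trace of an endomorphism of finite order is a sum of roots of unity. -/
theorem trace_of_pow_eq_one [IsAlgClosed k] {V : Type*} [AddCommGroup V] [Module k V]
    [FiniteDimensional k V] (f : V →ₗ[k] V) {m : ℕ} (hm : 0 < m) (hf : f ^ m = 1) (N : ℕ)
    (hN : Module.finrank k V ≤ N) (htr : LinearMap.trace k V f = (N : k)) :
    N = Module.finrank k V ∧ f = 1 := by
  classical
  have hroots : ∀ z ∈ f.charpoly.roots, ∃ m, 0 < m ∧ z ^ m = 1 := by
    intro z hz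
    have hev : Module.End.HasEigenvalue f z := by
      rw [Module.End.hasEigenvalue_iff_isRoot_charpoly]
      exact (Polynomial.mem_roots'.1 hz).2
    obtain ⟨v, hv⟩ := hev.exists_hasEigenvector
    refine ⟨m, hm, ?_⟩
    have h1 := hv.pow_apply m
    rw [hf] at h1
    exact smul_left_injective k hv.2 (by simpa using h1.symm)
  have hsplit : f.charpoly.Splits := IsAlgClosed.splits _
  have hcard : f.charpoly.roots.card = Module.finrank k V := by
    rw [← hsplit.natDegree_eq_card_roots, LinearMap.charpoly_natDegree]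
  have hsum : f.charpoly.roots.sum = (N : k) := by
    rw [← htr, Module.End.trace_eq_sum_roots_charpoly_of_splits hsplit]
  obtain ⟨h1, h2⟩ := eq_one_of_sum_eq _ hroots N (hcard ▸ hN) hsum
  refine ⟨h1.trans hcard, ?_⟩
  have hchar : f.charpoly = (X - C (1 : k)) ^ Module.finrank k V := by
    rw [hsplit.eq_prod_roots_of_monic (LinearMap.charpoly_monic f), Multiset.eq_replicate_card.2 h2,
      Multiset.map_replicate, Multiset.prod_replicate, hcard]
  have hnil : IsNilpotent (f - 1) := by
    refine ⟨Module.finrank k V, ?_⟩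
    have := LinearMap.aeval_self_charpoly f
    rw [hchar] at this
    simpa using this
  have hsub : ∀ i, ∃ a, f ^ i - 1 = (f - 1) * a ∧ Commute (f - 1) a := fun i =>
    ⟨∑ j ∈ Finset.range i, f ^ j, (mul_geom_sum f i).symm,
      Commute.sum_right _ _ _ fun j _ => ((Commute.refl f).pow_right j).sub_left (Commute.one_left _)⟩
  have hu : IsUnit (∑ i ∈ Finset.range m, f ^ i) := by
    choose a ha hca using hsub
    have e : (∑ i ∈ Finset.range m, f ^ i) = (f - 1) * (∑ i ∈ Finset.range m, a i) + (m : V →ₗ[k] V) := by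
      rw [Finset.mul_sum, ← sub_eq_iff_eq_add]
      simp [← ha, Finset.sum_sub_distrib]
    rw [e]
    have hn : IsNilpotent ((f - 1) * ∑ i ∈ Finset.range m, a i) :=
      (Commute.sum_right _ _ _ fun i _ => hca i).isNilpotent_mul_right hnil
    have hm' : IsUnit (m : V →ₗ[k] V) := by
      rw [show (m : V →ₗ[k] V) = algebraMap k (Module.End k V) (m : k) from (map_natCast _ m).symm]
      exact (Ne.isUnit (by simp [hm.ne'] : (m : k) ≠ 0)).map _
    rw [add_comm]
    exact hn.isUnit_add_left_of_commute hm' (Nat.cast_commute _ _).symm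
  have h0 : (f - 1) * (∑ i ∈ Finset.range m, f ^ i) = 0 := by rw [mul_geom_sum, hf, sub_self]
  exact sub_eq_zero.1 (hu.mul_left_eq_zero.1 h0)

end RootsOfUnity

section Dominant

open Polynomial

/-- A function on a domain of finite type avoiding all large natural values is constant. -/
theorem exists_eq_algebraMap {k : Type u} [Field k] [IsAlgClosed k] [CharZero k] {D : Type*} [CommRing D] [IsDomain D]
    [Algebra k D] [Algebra.FiniteType k D] (F : D) (d : ℕ)
    (h : ∀ φ : D →ₐ[k] k, ∀ N : ℕ, d < N → φ F ≠ (N : k)) : ∃ c : k, F = algebraMap k D c := by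
  by_contra! hne
  have htr : Transcendental k F := by
    intro halg
    obtain ⟨c, hc⟩ := IsAlgClosed.algebraMap_bijective_of_isIntegral (k := k)
      (K := integralClosure k D) |>.2 ⟨F, halg.isIntegral⟩
    exact hne c (congrArg Subtype.val hc).symm
  let _ : Algebra k[X] D := (Polynomial.aeval F).toRingHom.toAlgebra
  have : IsScalarTower k k[X] D := IsScalarTower.of_algebraMap_eq fun c => by
    show algebraMap k D c = Polynomial.aeval F (Polynomial.C c)
    simp
  have : Algebra.FiniteType k[X] D := Algebra.FiniteType.of_restrictScalars_finiteType k k[X] D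
  have : Algebra.FinitePresentation k[X] D := Algebra.FinitePresentation.of_finiteType.1 ‹_›
  have : FaithfulSMul k[X] D :=
    (faithfulSMul_iff_algebraMap_injective k[X] D).2 (transcendental_iff_injective.1 htr)
  have : Module.IsTorsionFree k[X] D :=
    Module.IsTorsionFree.trans_faithfulSMul k[X] D D
  have : Module.Flat k[X] D := inferInstance
  have hopen := PrimeSpectrum.isOpenMap_comap_of_hasGoingDown_of_finitePresentation (R := k[X]) (S := D)
  obtain ⟨s, hs⟩ := (PrimeSpectrum.isClosed_iff_zeroLocus _).1 (hopen _ isOpen_univ).isClosed_compl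
  obtain ⟨q, hq, hq0⟩ : ∃ q ∈ s, q ≠ 0 := by
    by_contra! hs0
    have hmem : (⟨⊥, Ideal.isPrime_bot⟩ : PrimeSpectrum k[X]) ∈ PrimeSpectrum.zeroLocus s :=
      fun q hq => by simp [hs0 q hq]
    rw [← hs] at hmem
    refine hmem ⟨⟨⊥, Ideal.isPrime_bot⟩, trivial, ?_⟩
    ext q
    exact (FaithfulSMul.algebraMap_injective k[X] D).eq_iff' (map_zero _)
  obtain ⟨N, hN, hqN⟩ : ∃ N : ℕ, d < N ∧ q.eval (N : k) ≠ 0 := by
    obtain ⟨N, hN1, hN2⟩ := ((Set.Ioi_infinite d).sdiff
      ((Polynomial.finite_setOf_isRoot hq0).preimage (Nat.cast_injective (R := k)).injOn)).nonempty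
    exact ⟨N, hN1, fun h => hN2 h⟩
  let P : PrimeSpectrum k[X] :=
    ⟨RingHom.ker (Polynomial.evalRingHom (N : k)), RingHom.ker_isPrime _⟩
  obtain ⟨p, -, hp⟩ : P ∈ PrimeSpectrum.comap (algebraMap k[X] D) '' univ := by
    by_contra hP
    have hP' : P ∈ PrimeSpectrum.zeroLocus s := by rw [← hs]; exact hP
    exact hqN (hP' hq)
  obtain ⟨m, hm, hpm⟩ := Ideal.exists_le_maximal p.asIdeal p.isPrime.ne_top
  obtain ⟨φ, hφ⟩ := Lib.Hopf.Points.exists_point_of_isMaximal (k := k) m
  refine h φ N hN ?_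
  have hmem : algebraMap k[X] D (X - C (N : k)) ∈ p.asIdeal := by
    have : (X - C (N : k)) ∈ (PrimeSpectrum.comap (algebraMap k[X] D) p).asIdeal := by
      rw [hp]; simp [P]
    exact this
  have := hpm hmem
  rw [← hφ, RingHom.mem_ker] at this
  have e : algebraMap k[X] D (X - C (N : k)) = F - (N : D) := by
    show Polynomial.aeval F (X - C (N : k)) = _
    simp
  rw [e, map_sub, map_natCast, sub_eq_zero] at this
  exact this

end Dominant

variable {k : Type u} [Field k] [IsAlgClosed k] [CharZero k] {A : Type u} [CommRing A] [HopfAlgebra k A]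
  [Algebra.FiniteType k A]

omit [IsAlgClosed k] [CharZero k] in
/-- The vanishing ideal of a closed subgroup is a Hopf ideal. -/
theorem isHopfIdeal_Z (C : Subgroup (Pts k A)) : (Z (C : Set (Pts k A))).IsHopfIdeal k := by
  let I := Z (C : Set (Pts k A))
  have hq : ∀ g : C, I.restrictScalars k ≤ LinearMap.ker g.1.ofConv.toLinearMap :=
    fun g a ha => mem_Z.1 ha g.1 g.2
  let φ : C → (A ⧸ I.restrictScalars k) →ₗ[k] k := fun g => (I.restrictScalars k).liftQ _ (hq g)
  have hsep : ∀ v, (∀ g, φ g v = 0) → v = 0 := fun v hv => by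
    obtain ⟨a, rfl⟩ := Submodule.Quotient.mk_surjective _ v
    rw [Submodule.Quotient.mk_eq_zero]
    exact mem_Z.2 fun g hg => hv ⟨g, hg⟩
  refine { counit_eq_zero := fun x hx => mem_Z.1 hx 1 C.one_mem, map_mkQ_comul_eq_zero := fun x hx => ?_,
           antipode_mem := fun x hx => mem_Z.2 fun g hg => ?_ }
  · refine tensor_ext φ φ hsep hsep fun g h => ?_
    have hgh := mem_Z.1 hx _ (C.mul_mem g.2 h.2)
    rw [ev_mul] at hgh
    rw [← hgh]
    induction comul (R := k) x using TensorProduct.induction_on with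
    | zero => simp
    | add a b ha hb => simp only [map_add, ha, hb]
    | tmul a b => simp [φ, ev]
  · have := mem_Z.1 hx g⁻¹ (C.inv_mem hg)
    rwa [ev_inv] at this

/-- The vanishing ideal of a normal subgroup is a normal Hopf ideal. -/
theorem isNormal_Z (C : Subgroup (Pts k A)) (hC : ∀ g, ∀ n ∈ C, g * n * g⁻¹ ∈ C) :
    SGA3.IsNormalHopfIdeal k A (Z (C : Set (Pts k A))) := by
  intro R _ _ g h hh a ha
  let I := Z (C : Set (Pts k A))
  let iL : A →ₐ[k] A ⊗[k] (A ⧸ I) := Algebra.TensorProduct.includeLeft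
  let iR : A →ₐ[k] A ⊗[k] (A ⧸ I) := Algebra.TensorProduct.includeRight.comp (Ideal.Quotient.mkₐ k I)
  let Θ : A ⊗[k] (A ⧸ I) →ₐ[k] R :=
    Algebra.TensorProduct.lift g (Ideal.Quotient.liftₐ I h hh) fun _ _ => Commute.all _ _
  let c := (toConv iL * toConv iR * toConv (iL.comp (HopfAlgebra.antipodeAlgHom k A))).ofConv
  have hc : c a = 0 := by
    have : IsReduced A := Lib.Comod.Cartier.isReduced (k := k)
    let φ : Pts k A → A →ₗ[k] k := fun x => x.ofConv.toLinearMap
    let ψ : C → (A ⧸ I) →ₗ[k] k := fun n =>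
      (Ideal.Quotient.liftₐ I n.1.ofConv fun b hb => mem_Z.1 hb n.1 n.2).toLinearMap
    refine tensor_ext φ ψ
      (fun v hv => Lib.Hopf.Points.eq_zero_of_forall_point_eq_zero (k := k) fun x => hv (toConv x))
      (fun v hv => ?_) fun x n => ?_
    · obtain ⟨b, rfl⟩ := Ideal.Quotient.mk_surjective v
      exact Ideal.Quotient.eq_zero_iff_mem.2 (mem_Z.2 fun n hn => hv ⟨n, hn⟩)
    · let E : A ⊗[k] (A ⧸ I) →ₐ[k] k := Algebra.TensorProduct.lift x.ofConv
        (Ideal.Quotient.liftₐ I n.1.ofConv fun b hb => mem_Z.1 hb n.1 n.2) fun _ _ => Commute.all _ _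
      have e1 : ∀ t, LinearMap.mul' k k (TensorProduct.map (φ x) (ψ n) t) = E t := fun t => by
        induction t using TensorProduct.induction_on with
        | zero => simp
        | add a b ha hb => simp only [map_add, ha, hb]
        | tmul a b => simp [E, φ, ψ]
      have eL : E.comp iL = x.ofConv := by ext b; simp [E, iL]
      have eR : E.comp iR = n.1.ofConv := by ext b; simp [E, iR]
      have eI : E.comp (iL.comp (HopfAlgebra.antipodeAlgHom k A)) = x⁻¹.ofConv := by
        rw [← AlgHom.comp_assoc, eL]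
        rfl
      rw [e1, show E (c a) = (E.comp c) a from rfl]
      simp only [c, AlgHom.comp_convMul_distrib, toConv_ofConv, ofConv_toConv, eL, eR, eI]
      exact mem_Z.1 ha _ (hC x n.1 n.2)
  have eL : Θ.comp iL = g := by ext b; simp [Θ, iL]
  have eR : Θ.comp iR = h := by ext b; simp [Θ, iR]
  have eI : Θ.comp (iL.comp (HopfAlgebra.antipodeAlgHom k A)) = g.comp (HopfAlgebra.antipodeAlgHom k A) := by
    rw [← AlgHom.comp_assoc, eL]
  have e : Dyn.conv3 k A g h (g.comp (HopfAlgebra.antipodeAlgHom k A)) = Θ.comp c := by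
    apply toConv_injective
    rw [Lib.Hopf.Conv3.conv3_eq]
    simp only [c, AlgHom.comp_convMul_distrib, toConv_ofConv, ofConv_toConv, eL, eR, eI]
  rw [e, AlgHom.comp_apply, hc, map_zero]

/-- The trace trick: if the connected component is torsion modulo a normal closed subgroup, it lies in it. -/
theorem component_le (C G₀ : Subgroup (Pts k A)) (hC : IsClosed (C : Set (Pts k A)))
    (hn : ∀ g, ∀ n ∈ C, g * n * g⁻¹ ∈ C) (hG₀ : IsClosed (G₀ : Set (Pts k A)))
    (hirr : IsIrreducible (G₀ : Set (Pts k A))) (htor : ∀ g ∈ G₀, ∃ m, 0 < m ∧ g ^ m ∈ C) : G₀ ≤ C := by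
  classical
  have := isHopfIdeal_Z C
  obtain ⟨T, hT, hTI⟩ := Lib.GrpQ.SemiInv.exists_invariants (Z (C : Set (Pts k A))) (isNormal_Z C hn)
  have hinv : ∀ x ∈ T, ∀ g n, n ∈ C → ev x (g * n) = ev x g := by
    intro x hx g n hnC
    let n' : A ⧸ Z (C : Set (Pts k A)) →ₐ[k] k := Ideal.Quotient.liftₐ _ n.ofConv fun b hb => mem_Z.1 hb n hnC
    let E : A ⊗[k] (A ⧸ Z (C : Set (Pts k A))) →ₐ[k] k :=
      Algebra.TensorProduct.lift g.ofConv n' fun _ _ => Commute.all _ _
    have e2 : ∀ t : A ⊗[k] A, E ((Ideal.Quotient.mkₐ k (Z (C : Set (Pts k A)))).toLinearMap.lTensor A t) =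
        Algebra.TensorProduct.lift g.ofConv n.ofConv (fun _ _ => Commute.all _ _) t := fun t => by
      induction t using TensorProduct.induction_on with
      | zero => simp
      | add a b ha hb => simp only [map_add, ha, hb]
      | tmul a b => simp [E, n']
    rw [ev_mul, ← e2, hT x hx]
    simp [E, n']
  let fn : Pts k A → A → (Pts k A → k) := fun g x h => ev x (g * h)
  let V : Submodule k (Pts k A → k) := Submodule.span k (⋃ g, fn g '' (T : Set A))
  have hbound : ∀ x : A, ∃ W : Submodule k A, W.FG ∧ ∀ g : Pts k A, lt g x ∈ W := by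
    intro x
    have key : ∀ t : A ⊗[k] A, ∃ W : Submodule k A, W.FG ∧ ∀ g : Pts k A,
        Algebra.TensorProduct.lid k A (Algebra.TensorProduct.map g.ofConv (AlgHom.id k A) t) ∈ W := by
      intro t
      induction t using TensorProduct.induction_on with
      | zero => exact ⟨⊥, Submodule.fg_bot, fun g => by simp⟩
      | tmul a b => exact ⟨Submodule.span k {b}, Submodule.fg_span_singleton b, fun g => by
          simp only [Algebra.TensorProduct.map_tmul, AlgHom.id_apply, Algebra.TensorProduct.lid_tmul]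
          exact Submodule.smul_mem _ _ (Submodule.mem_span_singleton_self b)⟩
      | add a b ha hb =>
          obtain ⟨W, hW, hW'⟩ := ha
          obtain ⟨W', hW2, hW2'⟩ := hb
          exact ⟨W ⊔ W', hW.sup hW2, fun g => by
            rw [map_add, map_add]
            exact add_mem (Submodule.mem_sup_left (hW' g)) (Submodule.mem_sup_right (hW2' g))⟩
    exact key (comul x)
  choose W hW hW' using hbound
  let evF : A →ₗ[k] (Pts k A → k) :=
    { toFun := fun a h => ev a h
      map_add' := fun a b => funext fun h => map_add h.ofConv a b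
      map_smul' := fun c a => funext fun h => by simp [ev] }
  have hVle : V ≤ (T.sup W).map evF := by
    refine Submodule.span_le.2 fun f hf => ?_
    obtain ⟨g, x, hx, rfl⟩ : ∃ g, ∃ x ∈ T, fn g x = f := by simpa using hf
    exact ⟨lt g x, (Finset.le_sup hx : W x ≤ T.sup W) (hW' x g), funext fun h => ev_lt g h x⟩
  have : Module.Finite k ((T.sup W).map evF) :=
    Module.Finite.iff_fg.2 ((Finset.sup_induction Submodule.fg_bot (fun _ ha _ hb => ha.sup hb) fun x _ => hW x).map evF)
  have : FiniteDimensional k V := Module.Finite.of_injective (Submodule.inclusion hVle) (Submodule.inclusion_injective hVle)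
  have hreg : ∀ f ∈ V, ∃ a, evF a = f := fun f hf => by
    obtain ⟨a, -, ha⟩ := hVle hf
    exact ⟨a, ha⟩
  have hstab : ∀ g : Pts k A, ∀ f ∈ V, LinearMap.funLeft k k (fun h => g⁻¹ * h) f ∈ V := by
    intro g f hf
    refine (show V ≤ V.comap (LinearMap.funLeft k k fun h => g⁻¹ * h) from Submodule.span_le.2 ?_) hf
    intro f hf
    obtain ⟨g', x, hx, rfl⟩ : ∃ g, ∃ x ∈ T, fn g x = f := by simpa using hf
    refine Submodule.subset_span (Set.mem_iUnion.2 ⟨g' * g⁻¹, x, hx, ?_⟩)
    funext h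
    show ev x (g' * g⁻¹ * h) = ev x (g' * (g⁻¹ * h))
    rw [_root_.mul_assoc]
  let ρ : Pts k A →* Module.End k V :=
    { toFun := fun g => (LinearMap.funLeft k k fun h => g⁻¹ * h).restrict (hstab g)
      map_one' := by ext f h; simp [LinearMap.funLeft_apply]
      map_mul' := fun g g' => by ext f h; simp [LinearMap.funLeft_apply, _root_.mul_assoc] }
  have hρC : ∀ n ∈ C, ρ n = 1 := by
    intro n hnC
    have key : ∀ f ∈ V, ∀ h, f (n⁻¹ * h) = f h := by
      intro f hf
      induction hf using Submodule.span_induction with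
      | zero => simp
      | add a b _ _ ha hb => intro h; simp [ha h, hb h]
      | smul c a _ ha => intro h; simp [ha h]
      | mem f hf =>
          obtain ⟨g, x, hx, rfl⟩ : ∃ g, ∃ x ∈ T, fn g x = f := by simpa using hf
          intro h
          show ev x (g * (n⁻¹ * h)) = ev x (g * h)
          rw [show g * (n⁻¹ * h) = g * h * (h⁻¹ * n⁻¹ * h⁻¹⁻¹) by group]
          exact hinv x hx _ _ (hn _ _ (C.inv_mem hnC))
    ext f h
    exact key f.1 f.2 h
  have hρker : ∀ g, ρ g = 1 → g ∈ C := by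
    intro g hg
    have hJ : Z (C : Set (Pts k A)) ≤ RingHom.ker (g⁻¹).ofConv := by
      refine hTI _ fun x hx => ?_
      have hf : fn 1 x ∈ V := Submodule.subset_span (Set.mem_iUnion.2 ⟨1, x, hx, rfl⟩)
      have h1 : ev x (1 * (g⁻¹ * 1)) = ev x (1 * 1) :=
        congrFun (congrArg Subtype.val (LinearMap.congr_fun hg ⟨fn 1 x, hf⟩)) 1
      simp only [_root_.one_mul, _root_.mul_one, ev_one] at h1
      simp [RingHom.mem_ker, ← h1, ev]
    have := mem_of_Z hC (g := g⁻¹) fun a ha => hJ ha
    simpa using C.inv_mem this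
  have hdual : ∀ φ : Module.Dual k V, ∀ v : V, ∃ a : A, ∀ g, φ (ρ g v) = ev a g := by
    let S : Submodule k (Module.Dual k V) :=
      { carrier := {φ | ∀ v, ∃ a : A, ∀ g, φ (ρ g v) = ev a g}
        zero_mem' := fun v => ⟨0, fun g => by simp [ev]⟩
        add_mem' := fun {φ φ'} h h' v => by
          obtain ⟨a, ha⟩ := h v
          obtain ⟨a', ha'⟩ := h' v
          exact ⟨a + a', fun g => by simp [ha g, ha' g, ev]⟩
        smul_mem' := fun c φ h v => by
          obtain ⟨a, ha⟩ := h v
          exact ⟨c • a, fun g => by simp [ha g, ev]⟩ }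
    have hev : ∀ h, (LinearMap.proj h).comp V.subtype ∈ S := by
      intro h v
      obtain ⟨a, ha⟩ := hreg v.1 v.2
      refine ⟨HopfAlgebra.antipodeAlgHom k A (rt h a), fun g => ?_⟩
      rw [← ev_inv, ev_rt]
      show v.1 (g⁻¹ * h) = _
      rw [← ha]
      rfl
    have hco : S.dualCoannihilator = ⊥ := by
      rw [eq_bot_iff]
      intro v hv
      ext h
      exact (Submodule.mem_dualCoannihilator v).1 hv _ (hev h)
    have htop : S = ⊤ := by
      rw [← Subspace.dualCoannihilator_dualAnnihilator_eq (W := S), hco, Submodule.dualAnnihilator_bot]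
    intro φ
    exact (htop.symm ▸ Submodule.mem_top : φ ∈ S)
  let b := Module.finBasis k V
  choose a ha using fun i => hdual (b.coord i) (b i)
  let F := ∑ i, a i
  have hF : ∀ g, LinearMap.trace k V (ρ g) = ev F g := by
    intro g
    rw [LinearMap.trace_eq_matrix_trace k b, Matrix.trace]
    simp only [F, ev, map_sum, Matrix.diag_apply, LinearMap.toMatrix_apply]
    exact Finset.sum_congr rfl fun i _ => ha i g
  let D := A ⧸ Z (G₀ : Set (Pts k A))
  have : (Z (G₀ : Set (Pts k A))).IsPrime := Z_isPrime hirr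
  have hfin : ∀ g ∈ G₀, ∀ N : ℕ, Module.finrank k V ≤ N → ev F g = (N : k) →
      N = Module.finrank k V ∧ ρ g = 1 := by
    intro g hg N hN he
    obtain ⟨m, hm, hgm⟩ := htor g hg
    exact trace_of_pow_eq_one _ hm (by rw [← map_pow, hρC _ hgm]) N hN (by rw [hF, he])
  obtain ⟨c, hc⟩ := exists_eq_algebraMap (k := k) (D := D) (Ideal.Quotient.mk _ F) (Module.finrank k V)
    fun φ N hN he => by
      have hg : toConv (φ.comp (Ideal.Quotient.mkₐ k _)) ∈ G₀ :=
        mem_of_Z hG₀ fun a ha => by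
          show φ (Ideal.Quotient.mk _ a) = 0
          rw [Ideal.Quotient.eq_zero_iff_mem.2 ha, map_zero]
      exact hN.ne' (hfin _ hg N hN.le he).1
  intro g hg
  refine hρker g (hfin g hg _ le_rfl ?_).2
  have hmem : F - algebraMap k A c ∈ Z (G₀ : Set (Pts k A)) := by
    rw [← Ideal.Quotient.eq_zero_iff_mem, map_sub, hc, Ideal.Quotient.mk_algebraMap, sub_self]
  have h1 := mem_Z.1 hmem g hg
  have h2 := mem_Z.1 hmem 1 G₀.one_mem
  simp only [ev, map_sub, AlgHom.commutes, sub_eq_zero] at h1 h2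
  rw [ev, h1, ← h2]
  change ev F 1 = _
  rw [← hF, map_one, LinearMap.trace_one]

/-- **Main theorem**: a finitely generated dense subgroup of the rational points. -/
theorem exists_fg_dense :
    ∃ Φ : Subgroup (Pts k A), Φ.FG ∧ Dense (pt '' (Φ : Set (Pts k A))) := by
  classical
  have hst := isSemiTop (k := k) (A := A)
  let Cp : Subgroup (Pts k A) → Subgroup (Pts k A) → Prop := fun Φ C =>
    C ≤ hst.topClosure Φ ∧ IsClosed (C : Set (Pts k A)) ∧ IsIrreducible (C : Set (Pts k A)) ∧
      (∀ g ∈ Φ, ∃ m, 0 < m ∧ g ^ m ∈ C) ∧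
      ∀ S : Set (Pts k A), IsIrreducible S → (1 : Pts k A) ∈ S → S ⊆ closure (Φ : Set (Pts k A)) → S ⊆ C
  have hex : ∀ Φ, ∃ C, Cp Φ C := by
    intro Φ
    let H := hst.topClosure Φ
    have : TopologicalSpace.NoetherianSpace H := Topology.IsInducing.subtypeVal.noetherianSpace
    obtain ⟨C, hC, hCi, hCf, hCu⟩ := (hst.subgroup H).exists_identityComponent
    have hHc : IsClosed (H : Set (Pts k A)) := isClosed_closure
    refine ⟨C.map H.subtype, Subgroup.map_subtype_le C, ?_, ?_, ?_, ?_⟩
    · rw [Subgroup.coe_map]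
      exact hHc.isClosedEmbedding_subtypeVal.isClosedMap _ hC
    · rw [Subgroup.coe_map]
      exact hCi.image _ continuous_subtype_val.continuousOn
    · intro g hg
      obtain ⟨m, hm, hgm⟩ := SemiTop.exists_pow_mem hCf (⟨g, subset_closure hg⟩ : H)
      exact ⟨m, hm, ⟨_, hgm, by simp⟩⟩
    · intro S hS hS1 hSH x hx
      have hSi : IsIrreducible (H.subtype ⁻¹' S) := by
        refine ⟨⟨⟨x, hSH hx⟩, hx⟩, ?_⟩
        rintro u v hu hv ⟨a, ha, hau⟩ ⟨b, hb, hbv⟩
        obtain ⟨U, hU, rfl⟩ := isOpen_induced_iff.1 hu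
        obtain ⟨V, hV, rfl⟩ := isOpen_induced_iff.1 hv
        obtain ⟨y, hy, hyU, hyV⟩ := hS.2 U V hU hV ⟨a.1, ha, hau⟩ ⟨b.1, hb, hbv⟩
        exact ⟨⟨y, hSH hy⟩, hy, hyU, hyV⟩
      exact ⟨⟨x, hSH hx⟩, hCu _ hSi hS1 hx, rfl⟩
  choose C hCle hCc hCi hCt hCu using hex
  let P : ℕ → Prop := fun n => ∃ Φ : Subgroup (Pts k A), Φ.FG ∧ (Z (C Φ : Set (Pts k A))).height.toNat = n
  have hP : ∃ n, P n := ⟨_, ⊥, Subgroup.FG.bot, rfl⟩
  obtain ⟨Φ₀, hΦ₀, hmin⟩ := Nat.find_spec hP
  have hmax : ∀ Φ : Subgroup (Pts k A), Φ.FG → C Φ ≤ C Φ₀ := by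
    intro Φ hΦ
    let Ψ := Φ ⊔ Φ₀
    have hle : ∀ Φ', Φ' ≤ Ψ → C Φ' ≤ C Ψ := fun Φ' h => hCu Ψ _ (hCi Φ') (C Φ').one_mem
      ((SetLike.coe_subset_coe.2 (hCle Φ')).trans (closure_mono h))
    have h0 := hle Φ₀ le_sup_right
    rcases eq_or_lt_of_le (Z_anti (SetLike.coe_subset_coe.2 h0)) with he | hlt
    · intro x hx
      exact mem_of_Z (hCc Φ₀) fun a ha => mem_Z.1 (he.symm ▸ ha) x (hle Φ le_sup_left hx)
    · exfalso
      have : IsNoetherianRing A := Algebra.FiniteType.isNoetherianRing k A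
      have := Z_isPrime (hCi Ψ)
      have := Z_isPrime (hCi Φ₀)
      have h1 := Ideal.height_strict_mono_of_isPrime_of_isPrime hlt
      have h2 : (Z (C Ψ : Set (Pts k A))).height.toNat < Nat.find hP := by
        rw [← hmin]
        have hne := Ideal.height_ne_top (I := Z (C Φ₀ : Set (Pts k A))) Ideal.IsPrime.ne_top'
        lift (Z (C Φ₀ : Set (Pts k A))).height to ℕ using hne with b hb
        lift (Z (C Ψ : Set (Pts k A))).height to ℕ using ne_top_of_lt h1 with a ha
        simpa using h1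
      exact Nat.find_min hP h2 ⟨Ψ, hΦ.sup hΦ₀, rfl⟩
  have hnormal : ∀ g, ∀ n ∈ C Φ₀, g * n * g⁻¹ ∈ C Φ₀ := by
    intro g n hn
    let c : Pts k A →* Pts k A := (MulAut.conj g).toMonoidHom
    have hfg : (Φ₀.map c).FG := by
      obtain ⟨S, hSf, hSfin⟩ := (Subgroup.fg_iff _).1 hΦ₀
      exact (Subgroup.fg_iff _).2 ⟨c '' S, by rw [← MonoidHom.map_closure, hSf], hSfin.image c⟩
    refine hmax (Φ₀.map c) hfg (hCu (Φ₀.map c) (c '' (C Φ₀)) ?_ ?_ ?_ ⟨n, hn, rfl⟩)
    · exact (hCi Φ₀).image _ (hst.conj g).continuousOn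
    · exact ⟨1, (C Φ₀).one_mem, map_one c⟩
    · rintro _ ⟨x, hx, rfl⟩
      exact map_mem_closure (f := fun x => g * x * g⁻¹) (hst.conj g) (hCle Φ₀ hx) fun y hy => ⟨y, hy, rfl⟩
  obtain ⟨G₀, hG₀, hG₀i, hG₀f, -⟩ := hst.exists_identityComponent
  have hG₀le : G₀ ≤ C Φ₀ := by
    refine component_le (C Φ₀) G₀ (hCc Φ₀) hnormal hG₀ hG₀i fun g _ => ?_
    obtain ⟨m, hm, hgm⟩ := hCt (Subgroup.zpowers g) g (Subgroup.mem_zpowers g)
    exact ⟨m, hm, hmax _ (Subgroup.fg_iff _ |>.2 ⟨{g}, by rw [Subgroup.zpowers_eq_closure], Set.finite_singleton g⟩) hgm⟩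
  obtain ⟨F, hF, hFg⟩ := hG₀f
  refine ⟨Φ₀ ⊔ Subgroup.closure F, hΦ₀.sup (Subgroup.fg_iff _ |>.2 ⟨F, rfl, hF⟩), ?_⟩
  have hall : ∀ g : Pts k A, g ∈ closure ((Φ₀ ⊔ Subgroup.closure F : Subgroup (Pts k A)) : Set (Pts k A)) := by
    intro g
    obtain ⟨f, hf, hfg⟩ := hFg g
    have h1 : f ∈ hst.topClosure (Φ₀ ⊔ Subgroup.closure F) :=
      subset_closure (Subgroup.mem_sup_right (Subgroup.subset_closure hf))
    have h2 : f⁻¹ * g ∈ hst.topClosure (Φ₀ ⊔ Subgroup.closure F) :=
      closure_mono (SetLike.coe_subset_coe.2 le_sup_left) (hCle Φ₀ (hG₀le hfg))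
    have h3 := (hst.topClosure _).mul_mem h1 h2
    rwa [mul_inv_cancel_left] at h3
  intro p
  refine closure_minimal ?_ isClosed_closure (dense_range_pt (k := k) p)
  rintro _ ⟨g, rfl⟩
  exact image_closure_subset_closure_image isInducing_pt.continuous ⟨g, hall g, rfl⟩

end Groth.Agent.Lib.GrpSch.FGDense
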