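import Groth.Agent.Lib.GrpSch.FaceLift
import Groth.Agent.Lib.GrpSch.FaceHom
import Groth.Agent.Lib.GrpSch.EqvSheaf
import Groth.Agent.Lib.HTopSheaf.OverSheaf
import Groth.Agent.Lib.GrpSch.AttrLimit
import Groth.Agent.Lib.GrpSch.AttrAffine

/-!
# Base change of étale equivariant maps along faces

For `f : U ⟶ X` étale equivariant, `U` affine over `S`, and a face `Q` of `N`, the square
`U^N → X^N`, `U^Q → X^Q` is cartesian.
-/

set_option autoImplicit false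
universe u

open CategoryTheory Limits MonoidalCategory CartesianMonoidalCategory MonObj AlgebraicGeometry Opposite
open Groth.Agent.Lib

namespace Groth.Agent.Lib.GrpSch.FaceCartesian

variable {S : Scheme.{u}} {M : Type} [AddCommGroup M] {X U : Over S}
  (aX : Magnet.MonAct (Magnet.AMonS S M) X) (aU : Magnet.MonAct (Magnet.AMonS S M) U)
  (f : U ⟶ X) (hf : Magnet.MonAct.IsEquivariant aU aX f)

variable (N Q : AddSubmonoid M) (hQ : Magnet.IsFace N Q)

/-- The statement of base change along the face over a fixed test scheme. -/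
def Cart (T : Over S) : Prop :=
  ∀ (ξ : (Magnet.attr aX N).obj (op T)) (υ : (Magnet.attr aU Q).obj (op T)),
    υ.1 ≫ f = (Magnet.AMonS.faceMap S hQ ▷ T) ≫ ξ.1 →
    ∃! l : (Magnet.attr aU N).obj (op T), l.1 ≫ f = ξ.1 ∧ (Magnet.AMonS.faceMap S hQ ▷ T) ≫ l.1 = υ.1

variable {aX aU f N Q hQ}

include hf in
/-- The affine case, for a magnet with a face form. -/
theorem cart_spec [IsAffineHom U.hom] [Etale f.left] {k : M →+ ℤ} (hk : ∀ x ∈ N, 0 ≤ k x)
    (hkQ : ∀ x ∈ N, k x = 0 ↔ x ∈ Q) (B : CommRingCat.{u}) (t : Spec B ⟶ S) :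
    Cart aX aU f N Q hQ (AttrAffine.specOver B t) := by
  intro ξ υ h
  let eN := AttrAffine.dIso (M := ↥N) B t
  let eQ := AttrAffine.dIso (M := ↥Q) B t
  have hfW : GradedW.faceW hQ t ≫ eN.hom = eQ.hom ≫ (Magnet.AMonS.faceMap S hQ ▷ AttrAffine.specOver B t) := by
    rw [GradedW.faceW_eq]
    simp only [eN, eQ, Category.assoc, Iso.inv_hom_id, Category.comp_id]
  obtain ⟨l, ⟨hle, hlf, hlu⟩, huniq⟩ := GradedW.existsUnique_lift hQ hk hkQ f aU aX hf (eN.hom ≫ ξ.1)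
    ((AttrAffine.isEquivariant_transport_hom eN _).comp ξ.2) (eQ.hom ≫ υ.1)
    ((AttrAffine.isEquivariant_transport_hom eQ _).comp υ.2) (by
      rw [Category.assoc, h, ← Category.assoc eQ.hom, ← hfW, Category.assoc])
  refine ⟨⟨eN.inv ≫ l, (AttrAffine.isEquivariant_transport_inv eN _).comp hle⟩, ⟨?_, ?_⟩, fun l' ⟨h1, h2⟩ => ?_⟩
  · change (eN.inv ≫ l) ≫ f = ξ.1
    rw [Category.assoc, hlf, eN.inv_hom_id_assoc]
  · change (Magnet.AMonS.faceMap S hQ ▷ AttrAffine.specOver B t) ≫ eN.inv ≫ l = υ.1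
    rw [← cancel_epi eQ.hom, ← Category.assoc, ← hfW, Category.assoc, eN.hom_inv_id_assoc, hlu]
  · have h3 := huniq (eN.hom ≫ l'.1) ⟨(AttrAffine.isEquivariant_transport_hom eN _).comp l'.2,
      by rw [Category.assoc, h1],
      by rw [← Category.assoc, hfW, Category.assoc, h2]⟩
    refine Subtype.ext ?_
    change l'.1 = eN.inv ≫ l
    rw [← h3, eN.inv_hom_id_assoc]

theorem Cart.of_iso {T T' : Over S} (e : T ≅ T') (h : Cart aX aU f N Q hQ T') : Cart aX aU f N Q hQ T := by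
  intro ξ υ hc
  let A := Magnet.AMonS S ↥N
  let A' := Magnet.AMonS S ↥Q
  let face := Magnet.AMonS.faceMap S hQ
  obtain ⟨l, ⟨h1, h2⟩, hu⟩ := h ((Magnet.attr aX N).map e.inv.op ξ) ((Magnet.attr aU Q).map e.inv.op υ) (by
    change ((A' ◁ e.inv) ≫ υ.1) ≫ f = (face ▷ T') ≫ (A ◁ e.inv) ≫ ξ.1
    rw [Category.assoc, hc, ← Category.assoc, ← Category.assoc, whisker_exchange])
  change l.1 ≫ f = (A ◁ e.inv) ≫ ξ.1 at h1
  change (face ▷ T') ≫ l.1 = (A' ◁ e.inv) ≫ υ.1 at h2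
  refine ⟨(Magnet.attr aU N).map e.hom.op l, ⟨?_, ?_⟩, fun l' hl' => ?_⟩
  · change ((A ◁ e.hom) ≫ l.1) ≫ f = ξ.1
    rw [Category.assoc, h1, ← MonoidalCategory.whiskerLeft_comp_assoc, e.hom_inv_id,
      MonoidalCategory.whiskerLeft_id, Category.id_comp]
  · change (face ▷ T) ≫ (A ◁ e.hom) ≫ l.1 = υ.1
    rw [← whisker_exchange_assoc, h2, ← MonoidalCategory.whiskerLeft_comp_assoc, e.hom_inv_id,
      MonoidalCategory.whiskerLeft_id, Category.id_comp]
  · have h3 := hu ((Magnet.attr aU N).map e.inv.op l') ⟨by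
        change ((A ◁ e.inv) ≫ l'.1) ≫ f = (A ◁ e.inv) ≫ ξ.1
        rw [Category.assoc, hl'.1], by
        change (face ▷ T') ≫ (A ◁ e.inv) ≫ l'.1 = (A' ◁ e.inv) ≫ υ.1
        rw [← whisker_exchange_assoc, hl'.2]⟩
    rw [← h3, ← Functor.map_comp_apply, ← op_comp, e.hom_inv_id, op_id, Functor.map_id_apply]

/-- The statement is local. -/
theorem cart_of_spec (hf : Magnet.MonAct.IsEquivariant aU aX f)
    (h : ∀ (B : CommRingCat.{u}) (t : Spec B ⟶ S), Cart aX aU f N Q hQ (AttrAffine.specOver B t))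
    (T : Over S) : Cart aX aU f N Q hQ T := by
  have haff : ∀ Y : Over S, IsAffine Y.left → Cart aX aU f N Q hQ Y := fun Y hY =>
    (h Γ(Y.left, ⊤) (Y.left.isoSpec.inv ≫ Y.hom)).of_iso (Over.isoMk Y.left.isoSpec (by
      simp [AttrAffine.specOver]))
  have hsh : ∀ {Z : Over S} {L : AddSubmonoid M} {W : Over S} (a : Magnet.MonAct (Magnet.AMonS S M) W),
      Presieve.IsSheafFor (Magnet.attr a L) (HTopSheaf.OverSheaf.affineArrows Z) := fun {Z L W} a =>
    (Presieve.isSheafFor_iff_generate _).mpr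
      ((isSheaf_iff_isSheaf_of_type _ _).1 (isSheaf_eqvHom (Scheme.zariskiTopology.over S) _ a) _
        (HTopSheaf.OverSheaf.generate_affineArrows_mem Z))
  let face := Magnet.AMonS.faceMap S hQ
  let A := Magnet.AMonS S ↥N
  let A' := Magnet.AMonS S ↥Q
  have huniq : ∀ (T : Over S) (l l' : (Magnet.attr aU N).obj (op T)), l.1 ≫ f = l'.1 ≫ f →
      (face ▷ T) ≫ l.1 = (face ▷ T) ≫ l'.1 → l = l' := by
    intro T l l' h1 h2
    refine (hsh aU).isSeparatedFor.ext fun Y g hY => ?_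
    let m := (Magnet.attr aU N).map g.op l
    obtain ⟨m₀, -, hu⟩ := haff Y hY ⟨m.1 ≫ f, m.2.comp hf⟩ ((Magnet.attrFace aU hQ).app (op Y) m)
      (Category.assoc _ _ _)
    refine (hu m ⟨rfl, rfl⟩).trans (hu ((Magnet.attr aU N).map g.op l') ⟨?_, ?_⟩).symm
    · change ((A ◁ g) ≫ l'.1) ≫ f = ((A ◁ g) ≫ l.1) ≫ f
      rw [Category.assoc, Category.assoc, h1]
    · change (face ▷ Y) ≫ (A ◁ g) ≫ l'.1 = (face ▷ Y) ≫ (A ◁ g) ≫ l.1
      rw [← whisker_exchange_assoc, ← whisker_exchange_assoc, h2]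
  intro ξ υ hc
  have hloc : ∀ ⦃Y : Over S⦄ (g : Y ⟶ T), HTopSheaf.OverSheaf.affineArrows T g →
      ∃ l : (Magnet.attr aU N).obj (op Y), l.1 ≫ f = (A ◁ g) ≫ ξ.1 ∧
        (face ▷ Y) ≫ l.1 = (A' ◁ g) ≫ υ.1 := fun Y g hY =>
    (haff Y hY ((Magnet.attr aX N).map g.op ξ) ((Magnet.attr aU Q).map g.op υ) (by
      change ((A' ◁ g) ≫ υ.1) ≫ f = (face ▷ Y) ≫ (A ◁ g) ≫ ξ.1
      rw [Category.assoc, hc, whisker_exchange_assoc])).exists
  choose x hx1 hx2 using hloc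
  have hxc : Presieve.FamilyOfElements.Compatible (fun Y g hg => x g hg :
      Presieve.FamilyOfElements (Magnet.attr aU N) (HTopSheaf.OverSheaf.affineArrows T)) := by
    intro Y₁ Y₂ Z g₁ g₂ f₁ f₂ h₁ h₂ he
    refine huniq Z _ _ ?_ ?_
    · change ((A ◁ g₁) ≫ (x f₁ h₁).1) ≫ f = ((A ◁ g₂) ≫ (x f₂ h₂).1) ≫ f
      rw [Category.assoc, Category.assoc, hx1, hx1, ← MonoidalCategory.whiskerLeft_comp_assoc,
        ← MonoidalCategory.whiskerLeft_comp_assoc, he]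
    · change (face ▷ Z) ≫ (A ◁ g₁) ≫ (x f₁ h₁).1 = (face ▷ Z) ≫ (A ◁ g₂) ≫ (x f₂ h₂).1
      rw [← whisker_exchange_assoc, ← whisker_exchange_assoc, hx2, hx2,
        ← MonoidalCategory.whiskerLeft_comp_assoc, ← MonoidalCategory.whiskerLeft_comp_assoc, he]
  let l := (hsh aU).amalgamate _ hxc
  have hl : ∀ ⦃Y : Over S⦄ (g : Y ⟶ T) (hg : HTopSheaf.OverSheaf.affineArrows T g),
      (A ◁ g) ≫ l.1 = (x g hg).1 := fun Y g hg =>
    congrArg Subtype.val ((hsh aU).valid_glue hxc g hg)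
  have e1 : l.1 ≫ f = ξ.1 := by
    have : (⟨l.1 ≫ f, l.2.comp hf⟩ : (Magnet.attr aX N).obj (op T)) = ξ :=
      (hsh aX).isSeparatedFor.ext fun Y g hg => Subtype.ext (by
        change (A ◁ g) ≫ l.1 ≫ f = (A ◁ g) ≫ ξ.1
        rw [← Category.assoc, hl g hg, hx1])
    exact congrArg Subtype.val this
  have e2 : (face ▷ T) ≫ l.1 = υ.1 := by
    have : (Magnet.attrFace aU hQ).app (op T) l = υ :=
      (hsh aU).isSeparatedFor.ext fun Y g hg => Subtype.ext (by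
        change (A' ◁ g) ≫ (face ▷ T) ≫ l.1 = (A' ◁ g) ≫ υ.1
        rw [whisker_exchange_assoc, hl g hg, hx2])
    exact congrArg Subtype.val this
  exact ⟨l, ⟨e1, e2⟩, fun l' hl' => huniq T l' l (hl'.1.trans e1.symm) (hl'.2.trans e2.symm)⟩

/-- The finitely generated case. -/
theorem cart_of_fg [AddGroup.FG M] [IsAffineHom U.hom] [Etale f.left] (hf : Magnet.MonAct.IsEquivariant aU aX f)
    (hN : N.FG) (T : Over S) : Cart aX aU f N Q hQ T := by
  obtain ⟨k, hk⟩ := exists_face_hom hN hQ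
  exact cart_of_spec hf (fun B t => cart_spec hf (fun x hx => (hk x hx).1) (fun x hx => (hk x hx).2) B t) T

section Limit

variable {W : Over S} (a : Magnet.MonAct (Magnet.AMonS S M) W)

theorem attrMap_injective [IsSeparated W.hom] {N L : AddSubmonoid M} (h : N ≤ L) (T : Over S) :
    Function.Injective ((Magnet.attrMap a h).app (op T)) := fun _ _ e =>
  Subtype.ext (ext_of_AMonS_map (AddSubmonoid.inclusion h) (AddSubmonoid.inclusion_injective h)
    (congrArg Subtype.val e))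

theorem attrMap_trans {K N L : AddSubmonoid M} (h₁ : K ≤ N) (h₂ : N ≤ L) {T : Over S}
    (φ : (Magnet.attr a K).obj (op T)) :
    (Magnet.attrMap a h₂).app (op T) ((Magnet.attrMap a h₁).app (op T) φ) =
      (Magnet.attrMap a (h₁.trans h₂)).app (op T) φ := by
  refine Subtype.ext ?_
  change (Magnet.AMonS.map S (AddSubmonoid.inclusion h₂) ▷ T) ≫ (Magnet.AMonS.map S (AddSubmonoid.inclusion h₁) ▷ T) ≫ φ.1 =
    (Magnet.AMonS.map S (AddSubmonoid.inclusion (h₁.trans h₂)) ▷ T) ≫ φ.1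
  rw [← comp_whiskerRight_assoc, ← Magnet.AMonS.map_comp]
  rfl

/-- Elements of the attractor of a directed union come from a finite stage. -/
theorem exists_attr_stage [IsSeparated W.hom] [LocallyOfFinitePresentation W.hom] {J : Type} [Preorder J]
    [IsDirected J (· ≤ ·)] [Nonempty J] (Ns : J → AddSubmonoid M) (hmono : Monotone Ns) {L : AddSubmonoid M}
    (hL : ⨆ i, Ns i = L) (B : CommRingCat.{u}) (t : Spec B ⟶ S)
    (φ : (Magnet.attr a L).obj (op (AttrAffine.specOver B t))) :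
    ∃ (i : J) (hi : Ns i ≤ L) (ψ : (Magnet.attr a (Ns i)).obj (op (AttrAffine.specOver B t))),
      (Magnet.attrMap a hi).app (op (AttrAffine.specOver B t)) ψ = φ := by
  subst hL
  obtain ⟨i, ψ, hψ⟩ := AttrAffine.exists_factor Ns hmono B t φ.1
  have hres : ∀ χ : Magnet.AMonS S ↥(Ns i) ⊗ AttrAffine.specOver B t ⟶ W,
      (Magnet.AMonS.map S (⨆ i, Ns i).subtype ▷ AttrAffine.specOver B t) ≫
        (Magnet.AMonS.map S (AddSubmonoid.inclusion (le_iSup Ns i)) ▷ AttrAffine.specOver B t) ≫ χ =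
      (Magnet.AMonS.map S (Ns i).subtype ▷ AttrAffine.specOver B t) ≫ χ := fun χ => by
    rw [← comp_whiskerRight_assoc, ← Magnet.AMonS.map_comp]
    rfl
  obtain ⟨ψ', hψ'⟩ := (AttrAffine.exists_attr_iff a (Ns i)
    ((Magnet.attrToX a _).app (op (AttrAffine.specOver B t)) φ)).2 ⟨ψ, by
      rw [← hres, hψ, attr_restrict_eq]⟩
  refine ⟨i, le_iSup Ns i, ψ', Subtype.ext ?_⟩
  apply ext_of_AMonS_map (⨆ i, Ns i).subtype Subtype.val_injective
  refine (hres ψ'.1).trans ?_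
  rw [attr_restrict_eq a (Ns i) ψ', hψ', attr_restrict_eq a _ φ]

end Limit

theorem faceMap_comp_map_inclusion {N Q K Q' : AddSubmonoid M} (hQ : Magnet.IsFace N Q)
    (hK : Magnet.IsFace K Q') (hKN : K ≤ N) (hQQ : Q' ≤ Q) (hcap : ∀ x ∈ K, x ∈ Q → x ∈ Q') :
    Magnet.AMonS.faceMap S hQ ≫ Magnet.AMonS.map S (AddSubmonoid.inclusion hKN) =
      Magnet.AMonS.map S (AddSubmonoid.inclusion hQQ) ≫ Magnet.AMonS.faceMap S hK := by
  simp only [Magnet.AMonS.faceMap, Magnet.AMonS.map, ← Functor.map_comp, Magnet.AMon.faceMap,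
    Magnet.AMon.map_eq_pt, ← CoactBr.pt_comp]
  congr 2
  refine MonoidAlgebra.algHom_ext (fun n => ?_) (Subsingleton.elim _ _)
  simp only [AlgHom.comp_apply, BialgHom.coe_toAlgHom, MonoidAlgebra.mapDomainBialgHom_single,
    MonoidAlgebra.lsingle_apply]
  rw [show (AddMonoidHom.toMultiplicative (AddSubmonoid.inclusion hKN)) n =
      Multiplicative.ofAdd (AddSubmonoid.inclusion hKN n.toAdd) from rfl]
  obtain ⟨m, rfl⟩ : ∃ m : ↥K, Multiplicative.ofAdd m = n := ⟨n.toAdd, rfl⟩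
  rw [toAdd_ofAdd]
  by_cases hn : ((AddSubmonoid.inclusion hKN m : ↥N) : M) ∈ Q
  · rw [Magnet.faceAlgHom_single_of_mem _ hQ _ hn, Magnet.faceAlgHom_single_of_mem _ hK m (hcap _ m.2 hn),
      MonoidAlgebra.mapDomainBialgHom_single]
    rfl
  · rw [Magnet.faceAlgHom_single_of_not_mem _ hQ _ hn,
      Magnet.faceAlgHom_single_of_not_mem _ hK m (fun h => hn (hQQ h)), map_zero]

/-- The case of a separated target locally of finite presentation. -/
theorem cart_of_lfp [AddGroup.FG M] [IsAffineHom U.hom] [Etale f.left] [IsSeparated X.hom]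
    [LocallyOfFinitePresentation X.hom] (hf : Magnet.MonAct.IsEquivariant aU aX f)
    (T : Over S) : Cart aX aU f N Q hQ T := by
  classical
  haveI : LocallyOfFinitePresentation U.hom := by rw [← Over.w f]; infer_instance
  refine cart_of_spec hf (fun B t => ?_) T
  let T := AttrAffine.specOver B t
  let J := {s : Finset M // (s : Set M) ⊆ N}
  haveI : Nonempty J := ⟨⟨∅, by simp⟩⟩
  haveI : IsDirected J (· ≤ ·) := ⟨fun a b => ⟨⟨a.1 ∪ b.1, by simp [Finset.coe_union, a.2, b.2]⟩,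
    Finset.subset_union_left, Finset.subset_union_right⟩⟩
  let Ns : J → AddSubmonoid M := fun s => AddSubmonoid.closure (s.1 : Set M)
  let Qs : J → AddSubmonoid M := fun s => Ns s ⊓ Q
  have hNle : ∀ s, Ns s ≤ N := fun s => AddSubmonoid.closure_le.2 s.2
  have hQle : ∀ s, Qs s ≤ Q := fun s => inf_le_right
  have hNmono : Monotone Ns := fun a b h => AddSubmonoid.closure_mono (Finset.coe_subset.2 h)
  have hQmono : Monotone Qs := fun a b h => inf_le_inf_right Q (hNmono h)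
  have hmem : ∀ x ∈ N, ∃ s, x ∈ Ns s := fun x hx =>
    ⟨⟨{x}, by simpa using hx⟩, AddSubmonoid.subset_closure (by simp)⟩
  have hNsup : ⨆ s, Ns s = N := le_antisymm (iSup_le hNle) fun x hx => by
    obtain ⟨s, hs⟩ := hmem x hx
    exact le_iSup Ns s hs
  have hQsup : ⨆ s, Qs s = Q := le_antisymm (iSup_le hQle) fun x hx => by
    obtain ⟨s, hs⟩ := hmem x (hQ.le hx)
    exact le_iSup Qs s ⟨hs, hx⟩
  have hface : ∀ s, Magnet.IsFace (Ns s) (Qs s) := fun s => ⟨inf_le_left, fun x hx y hy hxy =>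
    ⟨⟨hx, (hQ.mem_of_add_mem x (hNle s hx) y (hNle s hy) hxy.2).1⟩,
      ⟨hy, (hQ.mem_of_add_mem x (hNle s hx) y (hNle s hy) hxy.2).2⟩⟩⟩
  have hsq : ∀ (s : J) {W : Over S} (φ : Magnet.AMonS S ↥(Ns s) ⊗ T ⟶ W),
      (Magnet.AMonS.faceMap S hQ ▷ T) ≫ (Magnet.AMonS.map S (AddSubmonoid.inclusion (hNle s)) ▷ T) ≫ φ =
        (Magnet.AMonS.map S (AddSubmonoid.inclusion (hQle s)) ▷ T) ≫
          (Magnet.AMonS.faceMap S (hface s) ▷ T) ≫ φ := fun s W φ => by
    rw [← comp_whiskerRight_assoc, ← comp_whiskerRight_assoc,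
      faceMap_comp_map_inclusion hQ (hface s) (hNle s) (hQle s) fun x hx hx' => ⟨hx, hx'⟩]
  have hfg : ∀ s, Cart aX aU f (Ns s) (Qs s) (hface s) T := fun s => cart_of_fg hf ⟨s.1, rfl⟩ T
  intro ξ υ hc
  obtain ⟨i, hi, ξi, hξi⟩ := exists_attr_stage aX Ns hNmono hNsup B t ξ
  obtain ⟨j, hj, υj, hυj⟩ := exists_attr_stage aU Qs hQmono hQsup B t υ
  obtain ⟨k, hik, hjk⟩ := directed_of (· ≤ ·) i j
  let ξk := (Magnet.attrMap aX (hNmono hik)).app (op T) ξi
  let υk := (Magnet.attrMap aU (hQmono hjk)).app (op T) υj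
  have hξk : (Magnet.AMonS.map S (AddSubmonoid.inclusion (hNle k)) ▷ T) ≫ ξk.1 = ξ.1 :=
    congrArg Subtype.val ((attrMap_trans aX (hNmono hik) (hNle k) ξi).trans hξi)
  have hυk : (Magnet.AMonS.map S (AddSubmonoid.inclusion (hQle k)) ▷ T) ≫ υk.1 = υ.1 :=
    congrArg Subtype.val ((attrMap_trans aU (hQmono hjk) (hQle k) υj).trans hυj)
  have hck : υk.1 ≫ f = (Magnet.AMonS.faceMap S (hface k) ▷ T) ≫ ξk.1 := by
    apply ext_of_AMonS_map (AddSubmonoid.inclusion (hQle k)) (AddSubmonoid.inclusion_injective _)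
    rw [reassoc_of% hυk, ← hsq k ξk.1, hξk, hc]
  obtain ⟨lk, ⟨hl1, hl2⟩, -⟩ := hfg k ξk υk hck
  let l := (Magnet.attrMap aU (hNle k)).app (op T) lk
  have e1 : l.1 ≫ f = ξ.1 := by
    change ((Magnet.AMonS.map S (AddSubmonoid.inclusion (hNle k)) ▷ T) ≫ lk.1) ≫ f = ξ.1
    rw [Category.assoc, hl1, hξk]
  have e2 : (Magnet.AMonS.faceMap S hQ ▷ T) ≫ l.1 = υ.1 := by
    change (Magnet.AMonS.faceMap S hQ ▷ T) ≫
      (Magnet.AMonS.map S (AddSubmonoid.inclusion (hNle k)) ▷ T) ≫ lk.1 = υ.1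
    rw [hsq k lk.1, hl2, hυk]
  refine ⟨l, ⟨e1, e2⟩, fun l' ⟨h1, h2⟩ => ?_⟩
  obtain ⟨m, hm, lm', hlm'⟩ := exists_attr_stage aU Ns hNmono hNsup B t l'
  obtain ⟨n, hkn, hmn⟩ := directed_of (· ≤ ·) k m
  let a := (Magnet.attrMap aU (hNmono hkn)).app (op T) lk
  let b := (Magnet.attrMap aU (hNmono hmn)).app (op T) lm'
  have ha : (Magnet.AMonS.map S (AddSubmonoid.inclusion (hNle n)) ▷ T) ≫ a.1 = l.1 :=
    congrArg Subtype.val (attrMap_trans aU (hNmono hkn) (hNle n) lk)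
  have hb : (Magnet.AMonS.map S (AddSubmonoid.inclusion (hNle n)) ▷ T) ≫ b.1 = l'.1 :=
    congrArg Subtype.val ((attrMap_trans aU (hNmono hmn) (hNle n) lm').trans hlm')
  have f1 : b.1 ≫ f = a.1 ≫ f := by
    apply ext_of_AMonS_map (AddSubmonoid.inclusion (hNle n)) (AddSubmonoid.inclusion_injective _)
    rw [reassoc_of% hb, reassoc_of% ha, h1, e1]
  have f2 : (Magnet.AMonS.faceMap S (hface n) ▷ T) ≫ b.1 = (Magnet.AMonS.faceMap S (hface n) ▷ T) ≫ a.1 := by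
    apply ext_of_AMonS_map (AddSubmonoid.inclusion (hQle n)) (AddSubmonoid.inclusion_injective _)
    rw [← hsq n b.1, ← hsq n a.1, hb, ha, h2, e2]
  obtain ⟨c, -, hu⟩ := hfg n ⟨a.1 ≫ f, a.2.comp hf⟩ ((Magnet.attrFace aU (hface n)).app (op T) a)
    (Category.assoc _ _ _)
  have hba : b = a := (hu b ⟨f1, f2⟩).trans (hu a ⟨rfl, rfl⟩).symm
  refine Subtype.ext ?_
  rw [← hb, ← ha, hba]

/-- The cartesian square of functors. -/
theorem isPullback_of_cart (hf : Magnet.MonAct.IsEquivariant aU aX f) (hc : ∀ T, Cart aX aU f N Q hQ T) :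
    IsPullback (Magnet.MonAct.eqvHom.postcomp (Magnet.subAct S M N) f hf) (Magnet.attrFace aU hQ)
      (Magnet.attrFace aX hQ) (Magnet.MonAct.eqvHom.postcomp (Magnet.subAct S M Q) f hf) := by
  refine IsPullback.of_forall_isPullback_app fun T =>
    (CategoryTheory.Limits.Types.isPullback_iff _ _ _ _).mpr ⟨?_, ?_, ?_⟩
  · ext l
    exact Subtype.ext (Category.assoc _ _ _).symm
  · obtain ⟨T⟩ := T
    intro (l : (Magnet.attr aU N).obj (op T)) (l' : (Magnet.attr aU N).obj (op T)) ⟨h1, h2⟩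
    obtain ⟨c, -, hu⟩ := hc T ⟨l.1 ≫ f, l.2.comp hf⟩ ((Magnet.attrFace aU hQ).app (op T) l)
      (Category.assoc _ _ _)
    have e1 : l'.1 ≫ f = l.1 ≫ f := (congrArg Subtype.val h1).symm
    have e2 : (Magnet.AMonS.faceMap S hQ ▷ T) ≫ l'.1 = (Magnet.AMonS.faceMap S hQ ▷ T) ≫ l.1 :=
      (congrArg Subtype.val h2).symm
    exact (hu l ⟨rfl, rfl⟩).trans (hu l' ⟨e1, e2⟩).symm
  · obtain ⟨T⟩ := T
    intro (ξ : (Magnet.attr aX N).obj (op T)) (υ : (Magnet.attr aU Q).obj (op T)) he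
    have he' : υ.1 ≫ f = (Magnet.AMonS.faceMap S hQ ▷ T) ≫ ξ.1 := (congrArg Subtype.val he).symm
    obtain ⟨l, ⟨h1, h2⟩, -⟩ := hc T ξ υ he'
    exact ⟨l, Subtype.ext h1, Subtype.ext h2⟩

end Groth.Agent.Lib.GrpSch.FaceCartesian
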