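import Groth.Agent.Lib.GrpSch.GradedW
import Mathlib.AlgebraicGeometry.Morphisms.Flat
import Mathlib.RingTheory.Localization.Away.Basic
import Mathlib.Algebra.Polynomial.Eval.Defs

/-!
# Equivariant maps out of `A(N)_S × T` are determined near a face

Two equivariant maps into any scheme which agree on all thickenings of `A(F)_S × T`, `F` a face of
`N` cut out by a linear form, are equal.
-/

set_option autoImplicit false
universe u

open CategoryTheory Limits MonoidalCategory CartesianMonoidalCategory MonObj AlgebraicGeometry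
open Groth.Agent.Lib

namespace Groth.Agent.Lib.GrpSch.GradedW

open AttrAffine

section Flat

variable (R : Type u) [CommRing R] (M : Type) [AddCommMonoid M] (B : CommRingCat.{u}) [Algebra R B]

theorem flat_bcInl : (bcInl R M B).hom.Flat :=
  (RingHom.flat_algebraMap_iff (R := (B : Type u))
    (S := TensorProduct R (B : Type u) (MonoidAlgebra R (Multiplicative M)))).mpr
    (Module.Flat.of_free)

end Flat

section Generic

theorem zpow_neg_mul_pow {L : Type u} [Field L] (s : L) (hs : s ≠ 0) (e : ℤ) (he : 0 ≤ e) (a : L) :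
    (((Units.mk0 s hs) ^ (-e) : Lˣ) : L) * (a * s ^ e.toNat) = a := by
  obtain ⟨n, rfl⟩ := Int.eq_ofNat_of_zero_le he
  rw [zpow_neg, zpow_natCast, Units.val_inv_eq_inv_val, Units.val_pow_eq_pow_val, Units.val_mk0, Int.toNat_natCast]
  field_simp

/-- Maps into a scheme agreeing on a basic open. -/
def AgreeAt {C : CommRingCat.{u}} {X : Scheme.{u}} (x y : Spec C ⟶ X) (c : C) : Prop :=
  Spec.map (CommRingCat.ofHom (algebraMap C (Localization.Away c))) ≫ x =
    Spec.map (CommRingCat.ofHom (algebraMap C (Localization.Away c))) ≫ y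

theorem eq_zero_of_away {C : Type u} [CommRing C] (c : C) (I : ℕ → Ideal C)
    (hI : ∀ z, (∀ n, ∃ i, c ^ i * z ∈ I n) → ∃ i, c ^ i * z = 0) (d : Localization.Away c)
    (hd : ∀ n, IsLocalization.Away.map (Localization.Away c) (Localization.Away (Ideal.Quotient.mk (I n) c))
      (Ideal.Quotient.mk (I n)) c d = 0) : d = 0 := by
  obtain ⟨e, z, hz⟩ := IsLocalization.Away.surj c d
  have hu : IsUnit (algebraMap C (Localization.Away c) c) := IsLocalization.Away.algebraMap_isUnit c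
  obtain ⟨i, hi⟩ := hI z fun n => by
    let π := Ideal.Quotient.mk (I n)
    let κ : Localization.Away c →+* Localization.Away (π c) :=
      IsLocalization.Away.map (Localization.Away c) (Localization.Away (π c)) π c
    have hz0 : algebraMap _ (Localization.Away (π c)) (π z) = 0 := by
      have h1 : κ (algebraMap C (Localization.Away c) z) = algebraMap _ (Localization.Away (π c)) (π z) :=
        IsLocalization.map_eq _ z
      rw [← h1, ← hz, map_mul, show κ d = 0 from hd n, zero_mul]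
    obtain ⟨⟨_, i, rfl⟩, hi⟩ := (IsLocalization.map_eq_zero_iff (Submonoid.powers (π c)) _ _).1 hz0
    refine ⟨i, Ideal.Quotient.eq_zero_iff_mem.1 ?_⟩
    change π (c ^ i * z) = 0
    rw [map_mul, map_pow]
    exact hi
  have hz1 : algebraMap C (Localization.Away c) z = 0 := by
    refine (hu.pow i).mul_right_eq_zero.1 ?_
    rw [← map_pow, ← map_mul, hi, map_zero]
  rw [hz1] at hz
  exact (hu.pow e).mul_left_eq_zero.1 hz

theorem agreeAt_of_affine {C : CommRingCat.{u}} {X : Scheme.{u}} (x y : Spec C ⟶ X) (I : ℕ → Ideal C) (c : C)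
    (hI : ∀ z, (∀ n, ∃ i, c ^ i * z ∈ I n) → ∃ i, c ^ i * z = 0) {U : X.Opens} (hU : IsAffineOpen U)
    (hsub : ∀ p ∈ PrimeSpectrum.basicOpen c, x p ∈ U ∧ y p ∈ U)
    (h : ∀ n, Spec.map (CommRingCat.ofHom (Ideal.Quotient.mk (I n))) ≫ x =
      Spec.map (CommRingCat.ofHom (Ideal.Quotient.mk (I n))) ≫ y) : AgreeAt x y c := by
  unfold AgreeAt
  let j : Spec (CommRingCat.of (Localization.Away c)) ⟶ Spec C :=
    Spec.map (CommRingCat.ofHom (algebraMap C (Localization.Away c)))
  have hj : ∀ q, j q ∈ PrimeSpectrum.basicOpen c := fun q => by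
    have hq : j q ∈ Set.range (PrimeSpectrum.comap (algebraMap C (Localization.Away c))) := ⟨q, rfl⟩
    rwa [PrimeSpectrum.localization_away_comap_range (Localization.Away c) c] at hq
  have hrx : Set.range (j ≫ x) ⊆ Set.range hU.fromSpec := by
    rintro _ ⟨q, rfl⟩
    rw [hU.range_fromSpec]
    exact (hsub _ (hj q)).1
  have hry : Set.range (j ≫ y) ⊆ Set.range hU.fromSpec := by
    rintro _ ⟨q, rfl⟩
    rw [hU.range_fromSpec]
    exact (hsub _ (hj q)).2
  let αx := Spec.preimage (IsOpenImmersion.lift hU.fromSpec _ hrx)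
  let αy := Spec.preimage (IsOpenImmersion.lift hU.fromSpec _ hry)
  have hαx : Spec.map αx ≫ hU.fromSpec = j ≫ x := by rw [Spec.map_preimage, IsOpenImmersion.lift_fac]
  have hαy : Spec.map αy ≫ hU.fromSpec = j ≫ y := by rw [Spec.map_preimage, IsOpenImmersion.lift_fac]
  suffices hα : αx = αy by
    change j ≫ x = j ≫ y
    rw [← hαx, ← hαy, hα]
  refine CommRingCat.hom_ext (RingHom.ext fun r => sub_eq_zero.1 (eq_zero_of_away c I hI _ fun n => ?_))
  let κ : Localization.Away c →+* Localization.Away (Ideal.Quotient.mk (I n) c) :=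
    IsLocalization.Away.map (Localization.Away c) (Localization.Away (Ideal.Quotient.mk (I n) c)) (Ideal.Quotient.mk (I n)) c
  have hκ : αx ≫ CommRingCat.ofHom κ = αy ≫ CommRingCat.ofHom κ := by
    apply Spec.map_injective
    rw [← cancel_mono hU.fromSpec, Spec.map_comp, Spec.map_comp, Category.assoc, Category.assoc, hαx, hαy,
      ← Category.assoc, ← Category.assoc]
    have hmap : ∀ z, κ (algebraMap C (Localization.Away c) z) =
        algebraMap _ (Localization.Away (Ideal.Quotient.mk (I n) c)) (Ideal.Quotient.mk (I n) z) :=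
      fun z => IsLocalization.map_eq _ z
    have e' : Spec.map (CommRingCat.ofHom κ) ≫ j =
        Spec.map (CommRingCat.ofHom (algebraMap _ (Localization.Away (Ideal.Quotient.mk (I n) c)))) ≫
          Spec.map (CommRingCat.ofHom (Ideal.Quotient.mk (I n))) := by
      rw [← Spec.map_comp, ← Spec.map_comp]
      exact congrArg Spec.map (CommRingCat.hom_ext (RingHom.ext hmap))
    rw [e', Category.assoc, Category.assoc, h n]
  exact (map_sub κ _ _).trans (sub_eq_zero.2 congr($hκ r))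

theorem agree_on_iSup {C : CommRingCat.{u}} {X : Scheme.{u}} (x y : Spec C ⟶ X) :
    (⨆ c : {c : C // AgreeAt x y c}, PrimeSpectrum.basicOpen c.1 : (Spec C).Opens).ι ≫ x =
      (⨆ c : {c : C // AgreeAt x y c}, PrimeSpectrum.basicOpen c.1 : (Spec C).Opens).ι ≫ y := by
  let O : (Spec C).Opens := ⨆ c : {c : C // AgreeAt x y c}, PrimeSpectrum.basicOpen c.1
  refine Scheme.hom_ext_of_forall _ _ fun z => ?_
  obtain ⟨⟨c, hc⟩, hzc⟩ := TopologicalSpace.Opens.mem_iSup.1 (show O.ι z ∈ O from z.2)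
  let V : O.toScheme.Opens := O.ι ⁻¹ᵁ PrimeSpectrum.basicOpen c
  refine ⟨V, hzc, ?_⟩
  let j : Spec (CommRingCat.of (Localization.Away c)) ⟶ Spec C :=
    Spec.map (CommRingCat.ofHom (algebraMap C (Localization.Away c)))
  haveI : IsOpenImmersion j := IsOpenImmersion.of_isLocalization c
  have hV : Set.range (V.ι ≫ O.ι) ⊆ Set.range j := by
    rintro _ ⟨q, rfl⟩
    have hq : ((V.ι ≫ O.ι) q : PrimeSpectrum C) ∈ ((PrimeSpectrum.basicOpen c : TopologicalSpace.Opens _) :
        Set (PrimeSpectrum C)) := q.2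
    rw [← PrimeSpectrum.localization_away_comap_range (Localization.Away c) c] at hq
    exact hq
  change V.ι ≫ O.ι ≫ x = V.ι ≫ O.ι ≫ y
  rw [← Category.assoc, ← Category.assoc, ← IsOpenImmersion.lift_fac j _ hV, Category.assoc, Category.assoc,
    show j ≫ x = j ≫ y from hc]

end Generic

attribute [local instance] baseAlg

section Act

variable {S : Scheme.{u}} {M : Type} [AddCommGroup M] {C : CommRingCat.{u}} {t : Spec C ⟶ S}

/-- An action of `A(M)_S`, `M` a group, on an affine scheme is flat. -/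
theorem flat_coact (ρ : Magnet.MonAct (Magnet.AMonS S M) (specOver C t)) : Flat (Spec.map (coact ρ)) := by
  let g := dCoord (M := M) C t
  let w := dProj (M := M) C t
  let σ : dOver (M := M) C t ⟶ dOver (M := M) C t := lift g (lift g w ≫ ρ.act) ≫ (dIso C t).inv
  let σ' : dOver (M := M) C t ⟶ dOver (M := M) C t := lift g (lift (invPt g) w ≫ ρ.act) ≫ (dIso C t).inv
  have hg : ∀ {Z : Over S} (q : Z ⟶ Magnet.AMonS S M ⊗ specOver C t),
      (q ≫ (dIso C t).inv) ≫ g = q ≫ fst _ _ := fun q =>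
    (Category.assoc _ _ _).trans (congrArg (q ≫ ·) (Iso.inv_hom_id_assoc _ _))
  have hw : ∀ {Z : Over S} (q : Z ⟶ Magnet.AMonS S M ⊗ specOver C t),
      (q ≫ (dIso C t).inv) ≫ w = q ≫ snd _ _ := fun q =>
    (Category.assoc _ _ _).trans (congrArg (q ≫ ·) (Iso.inv_hom_id_assoc _ _))
  have h1 : σ ≫ σ' = 𝟙 _ := by
    rw [← cancel_mono (dIso C t).hom, Category.id_comp, ← lift_dCoord_dProj]
    simp only [σ', Category.assoc, Iso.inv_hom_id, Category.comp_id, comp_lift, comp_lift_assoc, comp_invPt,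
      lift_dCoord_dProj]
    simp only [σ, hg, hw, lift_fst, lift_snd]
    rw [← ρ.lift_mul_act, mul_comm_pt, mul_invPt, ρ.lift_one_act, lift_dCoord_dProj]
  have h2 : σ' ≫ σ = 𝟙 _ := by
    rw [← cancel_mono (dIso C t).hom, Category.id_comp, ← lift_dCoord_dProj]
    simp only [σ, Category.assoc, Iso.inv_hom_id, Category.comp_id, comp_lift, comp_lift_assoc,
      lift_dCoord_dProj]
    simp only [σ', hg, hw, lift_fst, lift_snd]
    rw [← ρ.lift_mul_act, mul_invPt, ρ.lift_one_act, lift_dCoord_dProj]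
  have : IsIso σ.left := ((Over.forget S).mapIso ⟨σ, σ', h1, h2⟩).isIso_hom
  have : Flat (Spec.map (bcInl R0.{u} M C)) :=
    (HasRingHomProperty.Spec_iff (P := @Flat)).mpr (flat_bcInl R0.{u} M C)
  have e : Spec.map (coact ρ) = σ.left ≫ Spec.map (bcInl R0.{u} M C) := by
    rw [map_coact, ← dProj_left C t, ← Over.comp_left]
    refine congrArg CommaMorphism.left ?_
    rw [← lift_dCoord_dProj_comp ρ.act]
    exact ((hw _).trans (lift_snd _ _)).symm
  rw [e]
  infer_instance

end Act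

section Ext

variable {S : Scheme.{u}} {M : Type} [AddCommGroup M] {k : M →+ ℤ} {N F : AddSubmonoid M}
  (hF : Magnet.IsFace N F) (hk : ∀ x ∈ N, 0 ≤ k x) (hkF : ∀ x ∈ N, k x = 0 ↔ x ∈ F)
  {B : CommRingCat.{u}} {t : Spec B ⟶ S}

variable (k N B) in
/-- The projection to the `n`-th thickening of the face. -/
noncomputable def thick (n : ℕ) : bcRing R0.{u} ↥N B ⟶ CommRingCat.of (bcRing R0.{u} ↥N B ⧸ wIdeal k N B n) :=
  CommRingCat.ofHom (Ideal.Quotient.mk _)

include hF hk hkF in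
theorem exists_agreeAt {X : Scheme.{u}} (x y : Spec (bcRing R0.{u} ↥N B) ⟶ X)
    (h : ∀ n, Spec.map (thick k N B n) ≫ x = Spec.map (thick k N B n) ≫ y)
    (p : PrimeSpectrum (bcRing R0.{u} ↥N B)) (hp : wIdeal k N B 1 ≤ p.asIdeal) :
    ∃ c, AgreeAt x y c ∧ c ∉ p.asIdeal := by
  have hp1 : p ∈ Set.range (PrimeSpectrum.comap (Ideal.Quotient.mk (wIdeal k N B 1))) := by
    rw [range_comap_of_surjective _ _ Ideal.Quotient.mk_surjective]
    intro z hz
    exact hp (Ideal.Quotient.eq_zero_iff_mem.1 hz)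
  obtain ⟨p', hp'⟩ := hp1
  have hxy : x p = y p := by
    rw [← hp']
    exact congr($(h 1) p')
  obtain ⟨_, ⟨U, hU, rfl⟩, hpU, -⟩ := X.isBasis_affineOpens.exists_subset_of_mem_open
    (Set.mem_univ (x p)) isOpen_univ
  obtain ⟨_, ⟨c₁, rfl⟩, hc₁, hsub⟩ := PrimeSpectrum.isTopologicalBasis_basic_opens.exists_subset_of_mem_open
    (show p ∈ ((x ⁻¹ᵁ U ⊓ y ⁻¹ᵁ U : (Spec (bcRing R0.{u} ↥N B)).Opens) : Set (Spec (bcRing R0.{u} ↥N B))) from
      ⟨hpU, show y p ∈ U from hxy ▸ hpU⟩)
    (x ⁻¹ᵁ U ⊓ y ⁻¹ᵁ U : (Spec (bcRing R0.{u} ↥N B)).Opens).isOpen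
  let c0 := (bcMap R0.{u} B (AddSubmonoid.inclusion hF.le)).hom ((bcFace hF B).hom c₁)
  refine ⟨c₁ * c0, ?_, fun hcp => ?_⟩
  · refine agreeAt_of_affine x y (wIdeal k N B) _ (eq_zero_away hF B hk hkF c₁) hU (fun q hq => ?_) h
    exact hsub fun h1 => hq (Ideal.mul_mem_right _ _ h1)
  · rcases p.isPrime.mem_or_mem hcp with h1 | h1
    · exact hc₁ h1
    · have h2 := p.asIdeal.add_mem (hp (sub_retr_mem hF B hk hkF c₁)) h1
      rw [sub_add_cancel] at h2
      exact hc₁ h2

include hF hk hkF in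
theorem exists_point_aux {X : Scheme.{u}} (x y : Spec (bcRing R0.{u} ↥N B) ⟶ X)
    (h : ∀ n, Spec.map (thick k N B n) ≫ x = Spec.map (thick k N B n) ≫ y)
    (K : CommRingCat.{u}) [IsDomain K] (φ0 : bcRing R0.{u} ↥N B ⟶ K) :
    ∃ q : PrimeSpectrum (bcRing R0.{u} M (bcRing R0.{u} ↥N B)),
      Spec.map (coact (wAct N B t)) q = PrimeSpectrum.comap φ0.hom ⟨⊥, Ideal.isPrime_bot⟩ ∧ ∃ c, AgreeAt x y c ∧
        (bcInl R0.{u} M (bcRing R0.{u} ↥N B)).hom c ∉ q.asIdeal := by
  let C : CommRingCat.{u} := bcRing R0.{u} ↥N B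
  let retr : C ⟶ C := bcFace hF B ≫ bcMap R0.{u} B (AddSubmonoid.inclusion hF.le)
  let P : CommRingCat.{u} := CommRingCat.of (Polynomial K)
  let L : CommRingCat.{u} := CommRingCat.of (FractionRing (Polynomial K))
  let φ : C ⟶ P := CommRingCat.ofHom ((Polynomial.C).comp φ0.hom)
  let toL : P ⟶ L := CommRingCat.ofHom (algebraMap (Polynomial K) (FractionRing (Polynomial K)))
  let χ : Multiplicative ↥N →* P :=
    { toFun := fun m => φ.hom (mono R0.{u} B m) * Polynomial.X ^ wt k m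
      map_one' := by
        rw [mono_one, map_one, _root_.one_mul, show wt k (1 : Multiplicative ↥N) = 0 from by simp [wt], pow_zero]
      map_mul' := fun m m' => by
        rw [mono_mul, map_mul, wt_mul hk, pow_add]
        exact _root_.mul_mul_mul_comm _ _ _ _ }
  let ψ : C ⟶ P := bcDesc (bcInl R0.{u} ↥N B ≫ φ) χ
  let sX : (L : Type u) := algebraMap (Polynomial K) (FractionRing (Polynomial K)) Polynomial.X
  have hsX : sX ≠ 0 := (map_ne_zero_iff _ (IsFractionRing.injective _ _)).2 Polynomial.X_ne_zero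
  let χ' : Multiplicative M →* L :=
    { toFun := fun m => ((Units.mk0 (G₀ := FractionRing (Polynomial K)) sX hsX) ^ (-(k m.toAdd)) :
        (FractionRing (Polynomial K))ˣ)
      map_one' := by simp
      map_mul' := fun m m' => by
        rw [toAdd_mul, map_add, neg_add, zpow_add, Units.val_mul] }
  let Ψ : bcRing R0.{u} M C ⟶ L := bcDesc (ψ ≫ toL) χ'
  have hΨ : coact (wAct N B t) ≫ Ψ = φ ≫ toL := by
    refine bc_hom_ext ?_ fun m => ?_
    · rw [reassoc_of% inl_coact_wAct N B t, bcDesc_inl, reassoc_of% bcDesc_inl (bcInl R0.{u} ↥N B ≫ φ) χ]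
    · rw [CommRingCat.comp_apply, coact_wAct_mono, map_mul, bcDesc_mono,
        show Ψ.hom ((bcInl R0.{u} M C).hom (mono R0.{u} B m)) = (ψ ≫ toL).hom (mono R0.{u} B m) from
          congr($(bcDesc_inl (ψ ≫ toL) χ') _), CommRingCat.comp_apply, bcDesc_mono, CommRingCat.comp_apply]
      refine Eq.trans ?_ (zpow_neg_mul_pow (L := FractionRing (Polynomial K)) sX hsX (k (m.toAdd : M)) (hk _ m.toAdd.2)
        (toL.hom (φ.hom (mono R0.{u} B m))))
      refine congrArg (_ * ·) ?_
      exact (map_mul toL.hom _ _).trans (congrArg (_ * ·) (map_pow toL.hom _ _))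
  have hψ0 : ψ ≫ CommRingCat.ofHom (Polynomial.evalRingHom (0 : K)) = retr ≫ φ0 := by
    refine bc_hom_ext ?_ fun m => ?_
    · rw [reassoc_of% bcDesc_inl (bcInl R0.{u} ↥N B ≫ φ) χ]
      ext b
      change Polynomial.eval 0 (Polynomial.C (φ0.hom ((bcInl R0.{u} ↥N B).hom b))) =
        φ0.hom ((bcMap R0.{u} B (AddSubmonoid.inclusion hF.le)).hom
          ((bcFace hF B).hom ((bcInl R0.{u} ↥N B).hom b)))
      rw [Polynomial.eval_C, show (bcFace hF B).hom ((bcInl R0.{u} ↥N B).hom b) = (bcInl R0.{u} ↥F B).hom b from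
        congr($(bcInl_bcFace hF B) b), bcMap_inl]
    · rw [CommRingCat.comp_apply, bcDesc_mono]
      change Polynomial.eval 0 (Polynomial.C (φ0.hom (mono R0.{u} B m)) * Polynomial.X ^ wt k m) =
        φ0.hom ((bcMap R0.{u} B (AddSubmonoid.inclusion hF.le)).hom
          ((bcFace hF B).hom (mono R0.{u} B m)))
      rw [Polynomial.eval_mul, Polynomial.eval_C, Polynomial.eval_pow, Polynomial.eval_X]
      by_cases hm : (m.toAdd : M) ∈ F
      · rw [bcFace_mono_of_mem hF B m hm, bcMap_mono, show wt k m = 0 by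
          rw [wt, (hkF _ m.toAdd.2).2 hm]; rfl, pow_zero, _root_.mul_one]
        rfl
      · rw [bcFace_mono_of_not_mem hF B m hm, map_zero, map_zero, zero_pow, mul_zero]
        have h0 : k (m.toAdd : M) ≠ 0 := fun h => hm ((hkF _ m.toAdd.2).1 h)
        have h1 := hk _ m.toAdd.2
        rw [wt]
        omega
  obtain ⟨c, hc, hc0⟩ := exists_agreeAt hF hk hkF x y h (PrimeSpectrum.comap (retr ≫ φ0).hom
      ⟨⊥, Ideal.isPrime_bot⟩) (by
    intro z hz
    rw [← ker_bcFace hF B hk hkF, RingHom.mem_ker] at hz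
    change φ0.hom ((bcMap R0.{u} B (AddSubmonoid.inclusion hF.le)).hom ((bcFace hF B).hom z)) ∈
      (⊥ : Ideal K)
    rw [hz, map_zero, map_zero]
    exact Ideal.zero_mem _)
  have hψc : ψ.hom c ≠ 0 := fun h0 => hc0 (by
    change φ0.hom (retr.hom c) ∈ (⊥ : Ideal K)
    rw [show φ0.hom (retr.hom c) = Polynomial.eval 0 (ψ.hom c) from congr($hψ0 c).symm, h0,
      Polynomial.eval_zero]
    exact Ideal.zero_mem _)
  let gp : PrimeSpectrum L := ⟨⊥, Ideal.isPrime_bot (α := FractionRing (Polynomial K))⟩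
  refine ⟨Spec.map Ψ gp, ?_, c, hc, ?_⟩
  · rw [← Scheme.Hom.comp_apply, ← Spec.map_comp, hΨ]
    refine PrimeSpectrum.ext (Ideal.ext fun z => ?_)
    change algebraMap (Polynomial K) (FractionRing (Polynomial K)) (Polynomial.C (φ0.hom z)) ∈
      (⊥ : Ideal (FractionRing (Polynomial K))) ↔ φ0.hom z ∈ (⊥ : Ideal K)
    rw [Ideal.mem_bot, Ideal.mem_bot, map_eq_zero_iff _ (IsFractionRing.injective (Polynomial K) _), Polynomial.C_eq_zero]
  · change ¬ (Ψ.hom ((bcInl R0.{u} M C).hom c) ∈ (⊥ : Ideal (L : Type u)))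
    rw [show Ψ.hom ((bcInl R0.{u} M C).hom c) = (ψ ≫ toL).hom c from congr($(bcDesc_inl (ψ ≫ toL) χ') c),
      Ideal.mem_bot]
    exact (map_ne_zero_iff _ (IsFractionRing.injective (Polynomial K) (FractionRing (Polynomial K)))).2 hψc

include hF hk hkF in
theorem exists_point {X : Scheme.{u}} (x y : Spec (bcRing R0.{u} ↥N B) ⟶ X)
    (h : ∀ n, Spec.map (thick k N B n) ≫ x = Spec.map (thick k N B n) ≫ y)
    (p : PrimeSpectrum (bcRing R0.{u} ↥N B)) :
    ∃ q : PrimeSpectrum (bcRing R0.{u} M (bcRing R0.{u} ↥N B)),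
      Spec.map (coact (wAct N B t)) q = p ∧ ∃ c, AgreeAt x y c ∧
        (bcInl R0.{u} M (bcRing R0.{u} ↥N B)).hom c ∉ q.asIdeal := by
  haveI : IsDomain (CommRingCat.of (bcRing R0.{u} ↥N B ⧸ p.asIdeal)) :=
    inferInstanceAs (IsDomain (bcRing R0.{u} ↥N B ⧸ p.asIdeal))
  obtain ⟨q, hq, hc⟩ := exists_point_aux (t := t) hF hk hkF x y h (CommRingCat.of (bcRing R0.{u} ↥N B ⧸ p.asIdeal))
    (CommRingCat.ofHom (Ideal.Quotient.mk p.asIdeal))
  exact ⟨q, hq.trans (PrimeSpectrum.ext (Ideal.ext fun z => Ideal.Quotient.eq_zero_iff_mem)), hc⟩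

include hF hk hkF in
/-- Equivariant maps agreeing on all thickenings of the face agree. -/
theorem eqv_ext {X : Over S} (a : Magnet.MonAct (Magnet.AMonS S M) X) (x y : dOver (M := ↥N) B t ⟶ X)
    (hx : Magnet.MonAct.IsEquivariant (wAct N B t) a x) (hy : Magnet.MonAct.IsEquivariant (wAct N B t) a y)
    (h : ∀ n, Spec.map (thick k N B n) ≫ x.left = Spec.map (thick k N B n) ≫ y.left) : x = y := by
  let C : CommRingCat.{u} := bcRing R0.{u} ↥N B
  let O : (Spec C).Opens := ⨆ c : {c : C // AgreeAt x.left y.left c}, PrimeSpectrum.basicOpen c.1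
  have hO : O.ι ≫ x.left = O.ι ≫ y.left := agree_on_iSup x.left y.left
  -- translates of the open cover everything
  let D := dOver (M := M) C (Spec.map (bcInl R0.{u} ↥N B) ≫ t)
  let O' : D.left.Opens := Spec.map (bcInl R0.{u} M C) ⁻¹ᵁ O
  let q : O'.toScheme ⟶ Spec C := O'.ι ≫ Spec.map (coact (wAct N B t))
  let ιP : Over.mk (O'.ι ≫ D.hom) ⟶ D := Over.homMk O'.ι
  have hq : q ≫ x.left = q ≫ y.left := by
    have key : ∀ (f : dOver (M := ↥N) B t ⟶ X), Magnet.MonAct.IsEquivariant (wAct N B t) a f →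
        q ≫ f.left = (lift (ιP ≫ dCoord (M := M) C _) (ιP ≫ dProj (M := M) C _ ≫ f) ≫ a.act).left := fun f hf => by
      change (O'.ι ≫ Spec.map (coact (wAct N B t))) ≫ f.left = _
      rw [map_coact, Category.assoc, ← Over.comp_left]
      change (ιP ≫ ((dIso (M := M) C _).hom ≫ (wAct N B t).act) ≫ f).left = _
      rw [Category.assoc, hf, ← lift_dCoord_dProj_comp, lift_whiskerLeft_assoc, comp_lift_assoc]
    rw [key x hx, key y hy]
    have e : ιP ≫ dProj (M := M) C _ ≫ x = ιP ≫ dProj (M := M) C _ ≫ y := by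
      apply Over.OverMorphism.ext
      simp only [Over.comp_left, dProj_left]
      change O'.ι ≫ Spec.map (bcInl R0.{u} M C) ≫ x.left = O'.ι ≫ Spec.map (bcInl R0.{u} M C) ≫ y.left
      rw [← morphismRestrict_ι_assoc, ← morphismRestrict_ι_assoc, hO]
    rw [e]
  have : Flat (Spec.map (coact (wAct N B t))) := flat_coact _
  have : Flat q := inferInstanceAs (Flat (O'.ι ≫ Spec.map (coact (wAct N B t))))
  have : Surjective q := by
    refine ⟨fun p => ?_⟩
    obtain ⟨q', hq', c, hc, hqc⟩ := exists_point (t := t) hF hk hkF x.left y.left h p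
    refine ⟨⟨q', ?_⟩, hq'⟩
    exact TopologicalSpace.Opens.mem_iSup.2 ⟨⟨c, hc⟩, hqc⟩
  have := AlgebraicGeometry.Flat.epi_of_flat_of_surjective q
  exact Over.OverMorphism.ext ((cancel_epi q).1 hq)

end Ext

end Groth.Agent.Lib.GrpSch.GradedW
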