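import Groth.Prelude.Def_Magnet4
import Mathlib.LinearAlgebra.Basis.VectorSpace
import Mathlib.RingTheory.Localization.BaseChange
import Mathlib.GroupTheory.Finiteness

/-!
# Gradings adapted to a face

A face of a finitely generated submonoid of an abelian group is the zero locus of an integral linear form
which is nonnegative on the monoid.
-/

set_option autoImplicit false
universe u

namespace Groth.Agent.Lib.GrpSch

open scoped TensorProduct

/-- **Gordan's alternative**: finitely many vectors without nonnegative relation are all positive for some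
linear form. -/
theorem exists_pos_form {V : Type*} [AddCommGroup V] [Module ℚ V] {ι : Type*} (G : Finset ι) :
    ∀ v : ι → V, (∀ n : ι → ℚ, (∀ i ∈ G, 0 ≤ n i) → ∑ i ∈ G, n i • v i = 0 → ∀ i ∈ G, n i = 0) →
      ∃ φ : V →ₗ[ℚ] ℚ, ∀ i ∈ G, 0 < φ (v i) := by
  classical
  induction G using Finset.induction with
  | empty => exact fun _ _ => ⟨0, by simp⟩
  | insert a G ha ih =>
    intro v hv
    have hv0 : v a ≠ 0 := by
      intro h0
      have h := hv (fun i => if i = a then 1 else 0) (fun i _ => by split_ifs <;> norm_num) (by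
        rw [Finset.sum_insert ha, Finset.sum_eq_zero fun i hi => by rw [if_neg (fun e : i = a => ha (e ▸ hi)), zero_smul]]
        simp [h0]) a (Finset.mem_insert_self _ _)
      simp at h
    obtain ⟨φ, hφ⟩ := ih v (fun n hn hs i hi => by
      have h := hv (fun i => if i = a then 0 else n i) (fun j hj => by
        split_ifs with e
        · rfl
        · exact hn j ((Finset.mem_insert.1 hj).resolve_left e)) (by
        rw [Finset.sum_insert ha, if_pos rfl, zero_smul, zero_add, ← hs]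
        exact Finset.sum_congr rfl fun j hj => by rw [if_neg (fun e : j = a => ha (e ▸ hj))]) i
        (Finset.mem_insert_of_mem hi)
      rw [if_neg (fun e : i = a => ha (e ▸ hi))] at h
      exact h)
    rcases lt_or_ge 0 (φ (v a)) with hpos | hneg
    · exact ⟨φ, Finset.forall_mem_insert _ _ _ |>.2 ⟨hpos, hφ⟩⟩
    obtain ⟨ψ, hψa, hψ⟩ : ∃ ψ : V →ₗ[ℚ] ℚ, (φ (v a) = 0 → 0 < ψ (v a)) ∧
        (φ (v a) < 0 → ∀ i ∈ G, 0 < -φ (v a) * ψ (v i) + φ (v i) * ψ (v a)) := by
      rcases hneg.lt_or_eq with hlt | heq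
      · obtain ⟨ψ, hψ⟩ := ih (fun i => -φ (v a) • v i + φ (v i) • v a) (fun n hn hs i hi => by
          have h := hv (fun j => if j = a then ∑ k ∈ G, n k * φ (v k) else n j * -φ (v a)) (fun j hj => by
            split_ifs with e
            · exact Finset.sum_nonneg fun k hk => mul_nonneg (hn k hk) (hφ k hk).le
            · exact mul_nonneg (hn j ((Finset.mem_insert.1 hj).resolve_left e)) (by linarith)) (by
            rw [Finset.sum_insert ha, if_pos rfl, Finset.sum_smul, ← Finset.sum_add_distrib, ← hs]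
            exact Finset.sum_congr rfl fun j hj => by
              rw [if_neg (fun e : j = a => ha (e ▸ hj)), smul_add, smul_smul, smul_smul, add_comm]) i
            (Finset.mem_insert_of_mem hi)
          rw [if_neg (fun e : i = a => ha (e ▸ hi)), mul_eq_zero] at h
          exact h.resolve_right (by linarith))
        exact ⟨ψ, fun e => absurd e hlt.ne, fun _ i hi => by simpa using hψ i hi⟩
      · obtain ⟨ψ, hψ⟩ := LinearMap.exists_extend
          (((LinearEquiv.toSpanNonzeroSingleton ℚ V (v a) hv0).symm : (Submodule.span ℚ {v a}) →ₗ[ℚ] ℚ))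
        refine ⟨ψ, fun _ => ?_, fun h => absurd heq h.ne⟩
        have h1 := LinearMap.congr_fun hψ ⟨v a, Submodule.mem_span_singleton_self _⟩
        simp only [LinearMap.comp_apply, Submodule.subtype_apply, LinearEquiv.coe_coe] at h1
        rw [h1, show (LinearEquiv.toSpanNonzeroSingleton ℚ V (v a) hv0).symm
            ⟨v a, Submodule.mem_span_singleton_self _⟩ = 1 from by
          rw [LinearEquiv.symm_apply_eq, LinearEquiv.toSpanNonzeroSingleton_one]]
        norm_num
    -- combine `φ` and `ψ`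
    suffices ∃ t : ℚ, (∀ i ∈ G, 0 < ψ (v i) + t * φ (v i)) ∧ 0 < ψ (v a) + t * φ (v a) by
      obtain ⟨t, h1, h2⟩ := this
      exact ⟨ψ + t • φ, Finset.forall_mem_insert _ _ _ |>.2 ⟨by simpa using h2, fun i hi => by simpa using h1 i hi⟩⟩
    rcases hneg.lt_or_eq with hlt | heq
    · by_cases hG : G.Nonempty
      · obtain ⟨i0, hi0, hmax⟩ := G.exists_max_image (fun i => -ψ (v i) / φ (v i)) hG
        refine ⟨((-ψ (v i0) / φ (v i0)) + ψ (v a) / -φ (v a)) / 2, fun i hi => ?_, ?_⟩
        all_goals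
          have hb : -ψ (v i0) / φ (v i0) < ψ (v a) / -φ (v a) := by
            rw [div_lt_div_iff₀ (hφ i0 hi0) (by linarith)]
            have := hψ hlt i0 hi0
            linarith
        · have h3 := hmax i hi
          have h4 : -ψ (v i) / φ (v i) < ((-ψ (v i0) / φ (v i0)) + ψ (v a) / -φ (v a)) / 2 := by linarith
          rw [div_lt_iff₀ (hφ i hi)] at h4
          linarith
        · have h4 : ((-ψ (v i0) / φ (v i0)) + ψ (v a) / -φ (v a)) / 2 < ψ (v a) / -φ (v a) := by linarith
          rw [lt_div_iff₀ (by linarith)] at h4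
          linarith
      · refine ⟨(ψ (v a) - 1) / -φ (v a), fun i hi => absurd ⟨i, hi⟩ hG, ?_⟩
        have : (ψ (v a) - 1) / -φ (v a) * φ (v a) = -(ψ (v a) - 1) := by
          rw [div_neg, neg_mul, div_mul_cancel₀ _ hlt.ne]
        linarith
    · refine ⟨1 + ∑ i ∈ G, |ψ (v i)| / φ (v i), fun i hi => ?_, by rw [heq]; simpa using hψa heq⟩
      have h3 : |ψ (v i)| / φ (v i) ≤ ∑ i ∈ G, |ψ (v i)| / φ (v i) :=
        Finset.single_le_sum (f := fun i => |ψ (v i)| / φ (v i))
          (fun j hj => div_nonneg (abs_nonneg _) (hφ j hj).le) hi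
      rw [div_le_iff₀ (hφ i hi)] at h3
      have h5 := neg_abs_le (ψ (v i))
      have h6 := hφ i hi
      linarith

/-- A face of a finitely generated submonoid is cut out by a nonnegative integral linear form. -/
theorem exists_face_grading {M : Type} [AddCommGroup M] [AddGroup.FG M] {N F : AddSubmonoid M} (hN : N.FG)
    (hF : Magnet.IsFace N F) :
    ∃ h : ↥N →+ ℕ, ∀ x : ↥N, h x = 0 ↔ (x : M) ∈ F := by
  classical
  obtain ⟨s, hs⟩ := hN
  let Q := M ⧸ AddSubgroup.closure (F : Set M)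
  let π : M →+ ℚ ⊗[ℤ] Q :=
    (TensorProduct.mk ℤ ℚ Q 1).toAddMonoidHom.comp (QuotientAddGroup.mk' _)
  have hclos : ∀ x, x ∈ AddSubgroup.closure (F : Set M) → ∃ f₁ ∈ F, ∃ f₂ ∈ F, x + f₁ = f₂ := by
    intro x hx
    induction hx using AddSubgroup.closure_induction with
    | mem x hx => exact ⟨0, F.zero_mem, x, hx, add_zero x⟩
    | zero => exact ⟨0, F.zero_mem, 0, F.zero_mem, add_zero 0⟩
    | add x y _ _ hx hy =>
      obtain ⟨a, ha, b, hb, e⟩ := hx
      obtain ⟨c, hc, d, hd, e'⟩ := hy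
      exact ⟨a + c, F.add_mem ha hc, b + d, F.add_mem hb hd, by rw [← e, ← e']; abel⟩
    | neg x _ hx =>
      obtain ⟨a, ha, b, hb, e⟩ := hx
      exact ⟨b, hb, a, ha, by rw [← e]; abel⟩
  -- no element of `N` outside `F` dies in `ℚ ⊗ M/⟨F⟩`
  have hker : ∀ x ∈ N, π x = 0 → x ∈ F := by
    intro x hx h0
    obtain ⟨c, hc⟩ := (IsLocalizedModule.eq_zero_iff (nonZeroDivisors ℤ) (TensorProduct.mk ℤ ℚ Q 1)).1 h0
    have hk : ∃ k : ℕ, k ≠ 0 ∧ k • (QuotientAddGroup.mk' (AddSubgroup.closure (F : Set M)) x) = 0 := by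
      refine ⟨(c : ℤ).natAbs, Int.natAbs_ne_zero.2 (nonZeroDivisors.coe_ne_zero c), ?_⟩
      rw [← natCast_zsmul]
      rcases Int.natAbs_eq (c : ℤ) with e | e
      · rw [← e]; exact hc
      · rw [show ((c : ℤ).natAbs : ℤ) = -(c : ℤ) by omega, neg_zsmul, neg_eq_zero]; exact hc
    obtain ⟨k, hk0, hk⟩ := hk
    rw [← map_nsmul, QuotientAddGroup.mk'_apply, QuotientAddGroup.eq_zero_iff] at hk
    obtain ⟨a, ha, b, hb, e⟩ := hclos _ hk
    have h1 := hF.mem_of_add_mem _ (N.nsmul_mem hx k) _ (hF.le ha) (by rw [e]; exact hb)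
    obtain ⟨j, rfl⟩ := Nat.exists_eq_succ_of_ne_zero hk0
    rw [succ_nsmul] at h1
    exact (hF.mem_of_add_mem _ (N.nsmul_mem hx j) _ hx h1.1).2
  let G := s.filter (· ∉ F)
  have hsub : ∀ g ∈ s, g ∈ N := fun g hg => hs ▸ AddSubmonoid.subset_closure hg
  obtain ⟨φ, hφ⟩ := exists_pos_form G (fun g => π g) (fun n hn hsum i hi => by
    by_contra hne
    -- clear denominators
    set D : ℕ := ∏ j ∈ G, (n j).den
    have hm : ∀ j ∈ G, ∃ k : ℕ, (k : ℚ) = D * n j := by
      intro j hj
      obtain ⟨e, he⟩ : (n j).den ∣ D := Finset.dvd_prod_of_mem (fun j => (n j).den) hj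
      refine ⟨e * (n j).num.toNat, ?_⟩
      have h1 : ((n j).num.toNat : ℤ) = (n j).num := Int.toNat_of_nonneg (Rat.num_nonneg.2 (hn j hj))
      have h2 : ((n j).num.toNat : ℚ) = ((n j).num : ℚ) := by exact_mod_cast h1
      rw [he, Nat.cast_mul, Nat.cast_mul, h2, mul_assoc, mul_comm ((n j).den : ℚ), mul_assoc, ← Rat.mul_den_eq_num]
    choose! k hk using hm
    have hπ : π (∑ j ∈ G, k j • j) = 0 := by
      rw [map_sum]
      calc ∑ j ∈ G, π (k j • j) = ∑ j ∈ G, (D : ℚ) • n j • π j := Finset.sum_congr rfl fun j hj => by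
            rw [map_nsmul, smul_smul, ← hk j hj, Nat.cast_smul_eq_nsmul]
        _ = 0 := by rw [← Finset.smul_sum, hsum, smul_zero]
    have hsumF := hker _ (AddSubmonoid.sum_mem _ fun j hj => N.nsmul_mem (hsub j (Finset.mem_filter.1 hj).1) _) hπ
    rw [← Finset.add_sum_erase _ _ hi] at hsumF
    have hF1 := (hF.mem_of_add_mem _ (N.nsmul_mem (hsub i (Finset.mem_filter.1 hi).1) _) _
      (AddSubmonoid.sum_mem _ fun j hj => N.nsmul_mem (hsub j (Finset.mem_filter.1 (Finset.mem_of_mem_erase hj)).1) _)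
      hsumF).1
    have hki : k i ≠ 0 := fun h0 => hne (by
      have h1 := hk i hi
      rw [h0, Nat.cast_zero, eq_comm, mul_eq_zero] at h1
      exact h1.resolve_left (Nat.cast_ne_zero.2 (Finset.prod_ne_zero_iff.2 fun j _ => (n j).den_nz)))
    obtain ⟨j, hj⟩ := Nat.exists_eq_succ_of_ne_zero hki
    rw [hj, succ_nsmul] at hF1
    exact (Finset.mem_filter.1 hi).2
      (hF.mem_of_add_mem _ (N.nsmul_mem (hsub i (Finset.mem_filter.1 hi).1) j) _ (hsub i (Finset.mem_filter.1 hi).1) hF1).2)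
  let D : ℕ := ∏ g ∈ s, (φ (π g)).den
  have hint : ∀ x ∈ N, ∃ k : ℕ, (k : ℚ) = D * φ (π x) ∧ (k = 0 ↔ x ∈ F) := by
    intro x hx
    rw [← hs] at hx
    induction hx using AddSubmonoid.closure_induction with
    | mem g hg =>
      have hval : 0 ≤ φ (π g) ∧ (φ (π g) = 0 ↔ g ∈ F) := by
        by_cases hgF : g ∈ F
        · have h0 : π g = 0 := by
            show TensorProduct.mk ℤ ℚ Q 1 _ = 0
            rw [QuotientAddGroup.mk'_apply, (QuotientAddGroup.eq_zero_iff g).2 (AddSubgroup.subset_closure hgF), map_zero]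
          simp [h0, hgF]
        · have h := hφ g (Finset.mem_filter.2 ⟨hg, hgF⟩)
          exact ⟨h.le, by simp [hgF, h.ne']⟩
      obtain ⟨e, he⟩ : (φ (π g)).den ∣ D := Finset.dvd_prod_of_mem (fun g => (φ (π g)).den) hg
      have h1 : ((φ (π g)).num.toNat : ℤ) = (φ (π g)).num := Int.toNat_of_nonneg (Rat.num_nonneg.2 hval.1)
      have h2 : ((φ (π g)).num.toNat : ℚ) = ((φ (π g)).num : ℚ) := by exact_mod_cast h1
      have hkey : ((e * (φ (π g)).num.toNat : ℕ) : ℚ) = D * φ (π g) := by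
        rw [he, Nat.cast_mul, Nat.cast_mul, h2, mul_assoc, mul_comm ((φ (π g)).den : ℚ), mul_assoc, ← Rat.mul_den_eq_num]
      refine ⟨_, hkey, ?_⟩
      rw [← hval.2, ← Nat.cast_eq_zero (R := ℚ), hkey, mul_eq_zero, or_iff_right]
      exact Nat.cast_ne_zero.2 (Finset.prod_ne_zero_iff.2 fun j _ => (φ (π j)).den_nz)
    | zero => exact ⟨0, by simp, by simp [F.zero_mem]⟩
    | add x y hx hy hx' hy' =>
      obtain ⟨a, ha, ha'⟩ := hx'
      obtain ⟨b, hb, hb'⟩ := hy'
      refine ⟨a + b, by rw [Nat.cast_add, ha, hb, map_add, map_add]; ring, ?_⟩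
      rw [Nat.add_eq_zero_iff, ha', hb']
      exact (hF.add_mem_iff (hs ▸ hx) (hs ▸ hy)).symm
  choose! h hh hh0 using hint
  refine ⟨{ toFun := fun x => h x, map_zero' := ?_, map_add' := fun x y => ?_ }, fun x => hh0 x x.2⟩
  · exact (hh0 0 N.zero_mem).2 F.zero_mem
  · apply Nat.cast_injective (R := ℚ)
    rw [Nat.cast_add, hh _ x.2, hh _ y.2, hh _ (x + y).2, AddSubmonoid.coe_add, map_add, map_add]; ring

end Groth.Agent.Lib.GrpSch
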