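import Groth.Agent.Lib.GrpSch.Basic
import Groth.Agent.Lib.Ideal.Comap

/-!
# Infinitesimal thickenings are stable under base change
-/

set_option autoImplicit false
universe u

open CategoryTheory Limits MonoidalCategory CartesianMonoidalCategory AlgebraicGeometry

namespace Groth.Agent.Lib.GrpSch

variable {S : Scheme.{u}}

theorem ker_sq_eq_bot_SpecMap {A B : CommRingCat.{u}} (φ : A ⟶ B) (h : RingHom.ker φ.hom ^ 2 = ⊥) :
    (Spec.map φ).ker ^ 2 = ⊥ := by
  refine le_antisymm (Scheme.IdealSheafData.le_of_isAffine ?_) bot_le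
  have h2 : RingHom.ker (Spec.map φ).appTop.hom ^ 2 = ⊥ := by
    have e : RingHom.ker (Spec.map φ).appTop.hom =
        Ideal.comap (Scheme.ΓSpecIso A).hom.hom (RingHom.ker φ.hom) := by
      ext x
      rw [Ideal.mem_comap, RingHom.mem_ker, RingHom.mem_ker]
      have hn : (Spec.map φ).appTop ≫ (Scheme.ΓSpecIso B).hom = (Scheme.ΓSpecIso A).hom ≫ φ :=
        Scheme.ΓSpecIso_naturality φ
      have hx := congr($hn x)
      simp only [CommRingCat.comp_apply] at hx
      constructor
      · intro h0
        rw [h0, map_zero] at hx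
        exact hx.symm
      · intro h0
        apply (ConcreteCategory.bijective_of_isIso (Scheme.ΓSpecIso B).hom).1
        rw [map_zero]
        exact hx.trans h0
    rw [e, eq_bot_iff]
    refine (Ideal.le_comap_pow _ 2).trans ?_
    rw [h]
    intro x hx
    rw [Ideal.mem_comap, Submodule.mem_bot] at hx
    rw [Submodule.mem_bot]
    apply (ConcreteCategory.bijective_of_isIso (Scheme.ΓSpecIso A).hom).1
    rw [map_zero]
    exact hx
  rw [Scheme.IdealSheafData.ideal_pow, Pi.pow_apply, Scheme.Hom.ker_apply]
  exact h2.le.trans bot_le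

/-- The base change of a square-zero closed immersion by whiskering. -/
theorem whiskerLeft_ker_sq_eq_bot (B : Over S) {T T' : Over S} (t : T ⟶ T') [IsClosedImmersion t.left]
    (h : t.left.ker ^ 2 = ⊥) :
    IsClosedImmersion (B ◁ t).left ∧ (B ◁ t).left.ker ^ 2 = ⊥ := by
  have hp := isPullback_whiskerLeft B t
  refine ⟨MorphismProperty.of_isPullback (P := @IsClosedImmersion) hp.flip inferInstance, ?_⟩
  have hk : (B ◁ t).left.ker = t.left.ker.comap (snd B T').left := by
    rw [← Scheme.IdealSheafData.ker_fst_of_isClosedImmersion, ← hp.isoPullback_hom_fst]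
    exact Scheme.Hom.ker_comp_of_isIso _ _
  rw [hk, ← Groth.Agent.Lib.Ideal.Comap.comap_pow, h, Scheme.IdealSheafData.comap_bot]

end Groth.Agent.Lib.GrpSch
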