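import Groth.Agent.Lib.GrpSch.FaceExt
import Groth.Agent.Lib.GrpSch.InfThick
import Groth.Agent.Lib.SmoothLift.SmallExt
import Mathlib.AlgebraicGeometry.Morphisms.Etale

/-!
# Lifting equivariant maps along étale morphisms from a face

For `U` affine over `S`, `f : U ⟶ X` étale equivariant, an equivariant `x : A(N)_S × T ⟶ X` and an
equivariant lift `u` of its restriction to `A(F)_S × T`, `F` a face of `N` cut out by a linear form,
there is exactly one equivariant lift of `x` extending `u`.
-/

set_option autoImplicit false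
universe u

open CategoryTheory Limits MonoidalCategory CartesianMonoidalCategory MonObj AlgebraicGeometry
open Groth.Agent.Lib

namespace Groth.Agent.Lib.GrpSch.GradedW

open AttrAffine

attribute [local instance] baseAlg

section Rings

variable {M : Type} [AddCommGroup M] (k : M →+ ℤ) (N : AddSubmonoid M) (B : CommRingCat.{u})

/-- The ring of the thickening of level `n + 1`. -/
noncomputable def thRing (n : ℕ) : CommRingCat.{u} :=
  CommRingCat.of (bcRing R0.{u} ↥N B ⧸ wIdeal k N B (n + 1))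

/-- The projection to the thickening of level `n + 1`. -/
noncomputable def th (n : ℕ) : bcRing R0.{u} ↥N B ⟶ thRing k N B n :=
  CommRingCat.ofHom (Ideal.Quotient.mk _)

theorem th_surjective (n : ℕ) : Function.Surjective (th k N B n).hom :=
  Ideal.Quotient.mk_surjective (I := wIdeal k N B (n + 1))

theorem th_eq_zero_iff (n : ℕ) (z : bcRing R0.{u} ↥N B) :
    (th k N B n).hom z = 0 ↔ z ∈ wIdeal k N B (n + 1) :=
  Ideal.Quotient.eq_zero_iff_mem (I := wIdeal k N B (n + 1))

/-- The transition between consecutive thickenings. -/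
noncomputable def thStep (n : ℕ) : thRing k N B (n + 1) ⟶ thRing k N B n :=
  CommRingCat.ofHom (Ideal.Quotient.factor (wIdeal_antitone B (Nat.le_succ (n + 1))))

theorem th_thStep (n : ℕ) : th k N B (n + 1) ≫ thStep k N B n = th k N B n := by
  ext z
  rfl

theorem thStep_surjective (n : ℕ) : Function.Surjective (thStep k N B n).hom := fun z => by
  obtain ⟨c, rfl⟩ := th_surjective k N B n z
  exact ⟨(th k N B (n + 1)).hom c, congr($(th_thStep k N B n) c)⟩

variable {k N}

theorem thStep_ker_sq (hk : ∀ x ∈ N, 0 ≤ k x) (n : ℕ) : RingHom.ker (thStep k N B n).hom ^ 2 = ⊥ := by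
  rw [eq_bot_iff, pow_two, Ideal.mul_le]
  intro a ha b hb
  obtain ⟨a, rfl⟩ := th_surjective k N B (n + 1) a
  obtain ⟨b, rfl⟩ := th_surjective k N B (n + 1) b
  have e : ∀ c, (thStep k N B n).hom ((th k N B (n + 1)).hom c) = (th k N B n).hom c := fun c =>
    congr($(th_thStep k N B n) c)
  rw [RingHom.mem_ker, e, th_eq_zero_iff] at ha hb
  rw [Ideal.mem_bot, ← map_mul, th_eq_zero_iff]
  exact wIdeal_antitone B (by omega) (wIdeal_mul_le B hk (n + 1) (n + 1) (Ideal.mul_mem_mul ha hb))

end Rings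

section Coact

variable {S : Scheme.{u}} {M : Type} [AddCommGroup M] {k : M →+ ℤ} {N : AddSubmonoid M}
  {B : CommRingCat.{u}} (t : Spec B ⟶ S)

variable (k N) in
/-- The coaction on a thickening. -/
noncomputable def thCoact (n : ℕ) : thRing k N B n ⟶ bcRing R0.{u} M (thRing k N B n) :=
  CommRingCat.ofHom (R := (bcRing R0.{u} ↥N B ⧸ wIdeal k N B (n + 1)))
    (S := (bcRing R0.{u} M (thRing k N B n) : Type u))
    (Ideal.Quotient.lift _ ((bcNat R0.{u} (toAlgHom' (th k N B n))).hom.comp (coact (wAct N B t)).hom) (by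
      intro z hz
      refine (Ideal.span_le.2 ?_ : wIdeal k N B (n + 1) ≤ RingHom.ker
        ((bcNat R0.{u} (toAlgHom' (th k N B n))).hom.comp (coact (wAct N B t)).hom)) hz
      rintro _ ⟨m, hm, rfl⟩
      rw [SetLike.mem_coe, RingHom.mem_ker, RingHom.comp_apply, coact_wAct_mono, map_mul, bcNat_inl]
      have h0 : toAlgHom' (th k N B n) (mono R0.{u} B m) = 0 :=
        (th_eq_zero_iff k N B n _).2 (Ideal.subset_span ⟨m, hm, rfl⟩)
      rw [h0, map_zero, mul_zero]))

theorem th_thCoact (n : ℕ) :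
    th k N B n ≫ thCoact k N t n = coact (wAct N B t) ≫ bcNat R0.{u} (toAlgHom' (th k N B n)) := by
  ext z
  rfl

theorem coord_coact_wAct (z : bcRing R0.{u} ↥N B) (l : Multiplicative ↥N) :
    coord R0.{u} (bcRing R0.{u} ↥N B) ((coact (wAct N B t)).hom z) (Multiplicative.ofAdd (l.toAdd : M)) =
      (bcInl R0.{u} ↥N B).hom (coord R0.{u} B z l) * mono R0.{u} B l := by
  classical
  obtain ⟨s, hs, hz⟩ := exists_decomp R0.{u} B z
  have hterm : ∀ m, coord R0.{u} (bcRing R0.{u} ↥N B)
      ((coact (wAct N B t)).hom ((bcInl R0.{u} ↥N B).hom (coord R0.{u} B z m) * mono R0.{u} B m))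
        (Multiplicative.ofAdd (l.toAdd : M)) =
      if m = l then (bcInl R0.{u} ↥N B).hom (coord R0.{u} B z m) * mono R0.{u} B m else 0 := fun m => by
    rw [map_mul, coact_wAct_mono,
      show (coact (wAct N B t)).hom ((bcInl R0.{u} ↥N B).hom (coord R0.{u} B z m)) =
        (bcInl R0.{u} M (bcRing R0.{u} ↥N B)).hom ((bcInl R0.{u} ↥N B).hom (coord R0.{u} B z m)) from
          congr($(inl_coact_wAct N B t) _), mul_left_comm, ← map_mul, _root_.mul_comm, coord_inl_mul, coord_mono]
    by_cases e : m = l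
    · rw [if_pos e, if_pos (by rw [e]), _root_.mul_one]
    · rw [if_neg e, if_neg, mul_zero]
      intro e'
      exact e (Multiplicative.toAdd.injective (Subtype.ext (Multiplicative.ofAdd.injective e')))
  conv_lhs => rw [hz, map_sum, coord_sum]
  refine (Finset.sum_congr rfl fun m _ => hterm m).trans ?_
  rw [Finset.sum_ite_eq']
  split_ifs with hl
  · rfl
  · rw [hs l hl, map_zero, zero_mul]

/-- A compatible equivariant family of maps to the thickenings comes from an equivariant map. -/
theorem exists_algebraization (hk : ∀ x ∈ N, 0 ≤ k x) {R : CommRingCat.{u}} (ρ : R ⟶ bcRing R0.{u} M R)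
    (lam : ∀ n, R ⟶ thRing k N B n) (hcompat : ∀ n, lam (n + 1) ≫ thStep k N B n = lam n)
    (hequiv : ∀ n, lam n ≫ thCoact k N t n = ρ ≫ bcNat R0.{u} (toAlgHom' (lam n))) :
    ∃ lim : R ⟶ bcRing R0.{u} ↥N B, (∀ n, lim ≫ th k N B n = lam n) ∧
      lim ≫ coact (wAct N B t) = ρ ≫ bcNat R0.{u} (toAlgHom' lim) := by
  classical
  choose z hz using fun r n => th_surjective k N B n ((lam n).hom r)
  -- representatives are compatible
  have hzc : ∀ r n n', n ≤ n' → z r n' - z r n ∈ wIdeal k N B (n + 1) := by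
    intro r n n' h
    induction n', h using Nat.le_induction with
    | base => simp
    | succ n' h ih =>
      have h1 : z r (n' + 1) - z r n' ∈ wIdeal k N B (n' + 1) := by
        rw [← th_eq_zero_iff, map_sub, hz r n', ← show (thStep k N B n').hom ((th k N B (n' + 1)).hom (z r (n' + 1))) =
          (th k N B n').hom (z r (n' + 1)) from congr($(th_thStep k N B n') _), hz r (n' + 1),
          show (thStep k N B n').hom ((lam (n' + 1)).hom r) = (lam n').hom r from congr($(hcompat n') r), sub_self]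
      have := Submodule.add_mem _ (wIdeal_antitone B (by omega) h1) ih
      rwa [sub_add_sub_cancel] at this
  have hb : ∀ r (l : Multiplicative ↥N) n, wt k l < n + 1 →
      coord R0.{u} B (z r n) l = coord R0.{u} B (z r (wt k l)) l := by
    intro r l n hl
    have h1 := (mem_wIdeal B hk _ _).1 (hzc r (wt k l) n (by omega)) l (Nat.lt_succ_self _)
    have h2 := coord_add R0.{u} B (z r n - z r (wt k l)) (z r (wt k l)) l
    rw [sub_add_cancel, h1, zero_add] at h2
    exact h2
  -- boundedness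
  have hbd : ∀ r (l : Multiplicative ↥N), coord R0.{u} R (ρ.hom r) (Multiplicative.ofAdd (l.toAdd : M)) = 0 →
      coord R0.{u} B (z r (wt k l)) l = 0 := by
    intro r l h0
    have h1 := congrArg (fun q => coord R0.{u} (thRing k N B (wt k l)) q (Multiplicative.ofAdd (l.toAdd : M)))
      (congr($(hequiv (wt k l)) r))
    simp only [CommRingCat.comp_apply] at h1
    rw [← hz r (wt k l), show (thCoact k N t (wt k l)).hom ((th k N B (wt k l)).hom (z r (wt k l))) =
      (bcNat R0.{u} (toAlgHom' (th k N B (wt k l)))).hom ((coact (wAct N B t)).hom (z r (wt k l))) from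
        congr($(th_thCoact t (wt k l)) _), coord_bcNat, coord_bcNat, coord_coact_wAct, h0, map_zero] at h1
    have h2 := (mem_wIdeal B hk _ _).1 ((th_eq_zero_iff k N B (wt k l) _).1 h1) l (Nat.lt_succ_self _)
    rw [coord_inl_mul, coord_mono, if_pos rfl, _root_.mul_one] at h2
    exact h2
  let em : Multiplicative ↥N → Multiplicative M := fun l => Multiplicative.ofAdd (l.toAdd : M)
  have hem : Function.Injective em := fun l l' e =>
    Multiplicative.toAdd.injective (Subtype.ext (Multiplicative.ofAdd.injective e))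
  choose sρ hsρ _ using fun r => exists_decomp R0.{u} R (ρ.hom r)
  let L : R → bcRing R0.{u} ↥N B := fun r =>
    ∑ l ∈ (sρ r).preimage em hem.injOn, (bcInl R0.{u} ↥N B).hom (coord R0.{u} B (z r (wt k l)) l) * mono R0.{u} B l
  have hL : ∀ r n, (th k N B n).hom (L r) = (lam n).hom r := by
    intro r n
    rw [← hz r n, ← sub_eq_zero, ← map_sub, th_eq_zero_iff, mem_wIdeal B hk]
    intro l hl
    have h2 := coord_add R0.{u} B (L r - z r n) (z r n) l
    rw [sub_add_cancel] at h2
    suffices coord R0.{u} B (L r) l = coord R0.{u} B (z r n) l by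
      rw [this] at h2
      exact add_eq_right.mp h2.symm
    rw [hb r l n hl, coord_sum]
    simp only [coord_inl_mul, coord_mono, mul_ite, _root_.mul_one, mul_zero]
    rw [Finset.sum_ite_eq']
    split_ifs with hm
    · rfl
    · refine (hbd r l (hsρ r _ fun h => hm ?_)).symm
      exact Finset.mem_preimage.2 h
  have hext : ∀ a b : bcRing R0.{u} ↥N B, (∀ n, (th k N B n).hom a = (th k N B n).hom b) → a = b := fun a b h =>
    sub_eq_zero.1 (eq_zero_of_forall_mem B hk fun n => wIdeal_antitone B (Nat.le_succ n)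
      ((th_eq_zero_iff k N B n _).1 (by rw [map_sub, h n, sub_self])))
  let lim : R ⟶ bcRing R0.{u} ↥N B := CommRingCat.ofHom
    { toFun := L
      map_one' := hext _ _ fun n => (hL 1 n).trans ((map_one (lam n).hom).trans (map_one (th k N B n).hom).symm)
      map_mul' := fun a b => hext _ _ fun n => (hL (a * b) n).trans ((map_mul _ a b).trans
        ((congrArg₂ (· * ·) (hL a n).symm (hL b n).symm).trans (map_mul (th k N B n).hom (L a) (L b)).symm))
      map_zero' := hext _ _ fun n => (hL 0 n).trans ((map_zero (lam n).hom).trans (map_zero (th k N B n).hom).symm)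
      map_add' := fun a b => hext _ _ fun n => (hL (a + b) n).trans ((map_add _ a b).trans
        ((congrArg₂ (· + ·) (hL a n).symm (hL b n).symm).trans (map_add (th k N B n).hom (L a) (L b)).symm)) }
  have hlim : ∀ n, lim ≫ th k N B n = lam n := fun n => CommRingCat.hom_ext (RingHom.ext fun r => hL r n)
  refine ⟨lim, hlim, CommRingCat.hom_ext (RingHom.ext fun r => coord_ext R0.{u} _ fun m => hext _ _ fun n => ?_)⟩
  have h1 := congrArg (fun q => coord R0.{u} (thRing k N B n) q m) (congr($(hequiv n) r))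
  simp only [CommRingCat.comp_apply] at h1 ⊢
  rw [show (th k N B n).hom (coord R0.{u} _ ((coact (wAct N B t)).hom (lim.hom r)) m) =
      coord R0.{u} (thRing k N B n) ((thCoact k N t n).hom ((th k N B n).hom (lim.hom r))) m from
    (coord_bcNat R0.{u} (toAlgHom' (th k N B n)) _ m).symm.trans
      (congrArg (fun q => coord R0.{u} (thRing k N B n) q m) congr($(th_thCoact t n) _).symm),
    show (th k N B n).hom (lim.hom r) = (lam n).hom r from hL r n, h1, coord_bcNat, coord_bcNat]
  exact (congr($(hlim n) _)).symm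

end Coact

section Lift

variable {S : Scheme.{u}}

theorem hom_ext_specMap {A B : CommRingCat.{u}} (φ : A ⟶ B) (hφ : Function.Surjective φ.hom)
    (hsq : RingHom.ker φ.hom ^ 2 = ⊥) {X Y : Scheme.{u}} (f : X ⟶ Y) [FormallyUnramified f]
    {g g' : Spec A ⟶ X} (h : Spec.map φ ≫ g = Spec.map φ ≫ g') (h' : g ≫ f = g' ≫ f) : g = g' := by
  haveI : IsClosedImmersion (Spec.map φ) := IsClosedImmersion.spec_of_surjective φ hφ
  exact FormallyUnramified.hom_ext (Spec.map φ) ⟨2, ker_sq_eq_bot_SpecMap φ hsq⟩ f h h'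

variable {M : Type} [AddCommGroup M] {k : M →+ ℤ} {N F : AddSubmonoid M} (hF : Magnet.IsFace N F)
  (hk : ∀ x ∈ N, 0 ≤ k x) (hkF : ∀ x ∈ N, k x = 0 ↔ x ∈ F) {B : CommRingCat.{u}} {t : Spec B ⟶ S}

variable (t) in
/-- The face morphism over an affine base. -/
noncomputable def faceW : dOver (M := ↥F) B t ⟶ dOver (M := ↥N) B t :=
  sMap (bcFace hF B) (by rw [← Category.assoc, ← Spec.map_comp, bcInl_bcFace])

theorem faceW_eq :
    faceW hF t = (dIso (M := ↥F) B t).hom ≫ (Magnet.AMonS.faceMap S hF ▷ specOver B t) ≫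
      (dIso (M := ↥N) B t).inv := by
  rw [← Category.assoc, Iso.eq_comp_inv]
  exact (Over.OverMorphism.ext (prodIso_face hF B t)).symm

variable (k N) in
/-- The thickening of level `n + 1` as a scheme over `S`. -/
noncomputable abbrev thW (n : ℕ) (t : Spec B ⟶ S) : Over S :=
  specOver (thRing k N B n) (Spec.map (th k N B n) ≫ Spec.map (bcInl R0.{u} ↥N B) ≫ t)

variable (k N t) in
/-- The inclusion of a thickening. -/
noncomputable def thI (n : ℕ) : thW k N n t ⟶ dOver (M := ↥N) B t := sMap (th k N B n) rfl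

variable (k N t) in
/-- The inclusion of consecutive thickenings. -/
noncomputable def thS (n : ℕ) : thW k N n t ⟶ thW k N (n + 1) t :=
  sMap (thStep k N B n) (by rw [← Category.assoc, ← Spec.map_comp, th_thStep])

theorem thS_thI (n : ℕ) : thS k N t n ≫ thI k N t (n + 1) = thI k N t n := by
  apply Over.OverMorphism.ext
  rw [thS, thI, thI, Over.comp_left, sMap_left, sMap_left, sMap_left, ← Spec.map_comp, th_thStep]

include hF hk hkF in
/-- The retraction of the first thickening onto the face. -/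
theorem exists_thRetr : ∃ (j : thW k N 0 t ⟶ dOver (M := ↥F) B t) (ψ : dOver (M := ↥F) B t ⟶ thW k N 0 t),
    j ≫ faceW hF t = thI k N t 0 ∧ ψ ≫ thI k N t 0 = faceW hF t ∧ ψ ≫ j = 𝟙 _ ∧
      j.left = Spec.map (bcMap R0.{u} B (AddSubmonoid.inclusion hF.le) ≫ th k N B 0) := by
  let jr := bcMap R0.{u} B (AddSubmonoid.inclusion hF.le) ≫ th k N B 0
  have hker : ∀ c ∈ wIdeal k N B (0 + 1), (bcFace hF B).hom c = 0 := fun c hc => by
    rw [← RingHom.mem_ker, ker_bcFace hF B hk hkF]
    exact hc
  let ψr : thRing k N B 0 ⟶ bcRing R0.{u} ↥F B := CommRingCat.ofHom (Ideal.Quotient.lift _ (bcFace hF B).hom hker)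
  have h1 : th k N B 0 ≫ ψr = bcFace hF B := rfl
  have h2 : bcFace hF B ≫ jr = th k N B 0 := CommRingCat.hom_ext (RingHom.ext fun c => by
    change (th k N B 0).hom ((bcMap R0.{u} B (AddSubmonoid.inclusion hF.le)).hom ((bcFace hF B).hom c)) =
      (th k N B 0).hom c
    rw [eq_comm, ← sub_eq_zero, ← map_sub, th_eq_zero_iff]
    exact sub_retr_mem hF B hk hkF c)
  have h3 : jr ≫ ψr = 𝟙 _ := by
    rw [Category.assoc, h1, bcMap_bcFace]
  have hj : bcInl R0.{u} ↥F B ≫ jr = bcInl R0.{u} ↥N B ≫ th k N B 0 := by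
    rw [← h2, ← Category.assoc (bcInl R0.{u} ↥N B), bcInl_bcFace]
  have hψ : bcInl R0.{u} ↥N B ≫ th k N B 0 ≫ ψr = bcInl R0.{u} ↥F B := by rw [h1, bcInl_bcFace]
  refine ⟨sMap jr (by simp only [← Category.assoc, ← Spec.map_comp, hj]),
    sMap ψr (by simp only [← Spec.map_comp_assoc, Category.assoc, hψ]), ?_, ?_, ?_, rfl⟩
  · apply Over.OverMorphism.ext
    rw [faceW, thI, Over.comp_left, sMap_left, sMap_left, sMap_left, ← Spec.map_comp, h2]
  · apply Over.OverMorphism.ext
    rw [faceW, thI, Over.comp_left, sMap_left, sMap_left, sMap_left, ← Spec.map_comp, h1]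
  · apply Over.OverMorphism.ext
    rw [Over.comp_left, sMap_left, sMap_left, ← Spec.map_comp, h3, Spec.map_id]
    rfl

variable {U X : Over S} (f : U ⟶ X)

include hF hk hkF in
/-- Lifts on the thickenings. -/
theorem exists_thLifts [Smooth f.left] (x : dOver (M := ↥N) B t ⟶ X) (u : dOver (M := ↥F) B t ⟶ U)
    (hu : u ≫ f = faceW hF t ≫ x) :
    ∃ l : ∀ n, thW k N n t ⟶ U, (∀ n, l n ≫ f = thI k N t n ≫ x) ∧ (∀ n, thS k N t n ≫ l (n + 1) = l n) ∧
      ∀ (j : thW k N 0 t ⟶ dOver (M := ↥F) B t),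
        j.left = Spec.map (bcMap R0.{u} B (AddSubmonoid.inclusion hF.le) ≫ th k N B 0) → l 0 = j ≫ u := by
  obtain ⟨j, ψ, hj, -, -, hjl⟩ := exists_thRetr (t := t) hF hk hkF
  have step : ∀ n (p : {p : thW k N n t ⟶ U // p ≫ f = thI k N t n ≫ x}),
      ∃ q : {q : thW k N (n + 1) t ⟶ U // q ≫ f = thI k N t (n + 1) ≫ x}, thS k N t n ≫ q.1 = p.1 := by
    intro n p
    obtain ⟨γ, hγ, hγ'⟩ := SmoothLift.SmallExt.exists_lift_of_smooth f.left (thStep k N B n).hom
      (thStep_surjective k N B n) (thStep_ker_sq B hk n) p.1.left (thI k N t (n + 1) ≫ x).left (by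
        have e : thS k N t n ≫ thI k N t (n + 1) ≫ x = p.1 ≫ f := by rw [← Category.assoc, thS_thI, p.2]
        exact congrArg CommaMorphism.left e)
    refine ⟨⟨Over.homMk γ ?_, Over.OverMorphism.ext hγ'⟩, Over.OverMorphism.ext hγ⟩
    change γ ≫ U.hom = _
    rw [← Over.w f, reassoc_of% hγ']
    exact Over.w (thI k N t (n + 1) ≫ x)
  choose next hnext using step
  let l : ∀ n, {p : thW k N n t ⟶ U // p ≫ f = thI k N t n ≫ x} := fun n =>
    Nat.rec ⟨j ≫ u, by rw [Category.assoc, hu, ← Category.assoc, hj]⟩ next n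
  refine ⟨fun n => (l n).1, fun n => (l n).2, fun n => hnext n (l n), fun j' hj' => ?_⟩
  rw [show j' = j from Over.OverMorphism.ext (hj'.trans hjl.symm)]
  rfl

variable [FormallyUnramified f.left]

include hk in
theorem thLift_unique (g g' : ∀ n, thW k N n t ⟶ U) (hf : ∀ n, g n ≫ f = g' n ≫ f) (h0 : g 0 = g' 0)
    (hg : ∀ n, thS k N t n ≫ g (n + 1) = g n) (hg' : ∀ n, thS k N t n ≫ g' (n + 1) = g' n) : ∀ n, g n = g' n := by
  intro n
  induction n with
  | zero => exact h0
  | succ n ih =>
    refine Over.OverMorphism.ext (hom_ext_specMap (thStep k N B n) (thStep_surjective k N B n)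
      (thStep_ker_sq B hk n) f.left ?_ (congrArg CommaMorphism.left (hf (n + 1))))
    have := (hg n).trans (ih.trans (hg' n).symm)
    exact congrArg CommaMorphism.left this

variable (k N t) in
/-- The action on a thickening. -/
noncomputable def thAct (n : ℕ) :
    dOver (M := M) (thRing k N B n) (Spec.map (th k N B n) ≫ Spec.map (bcInl R0.{u} ↥N B) ≫ t) ⟶ thW k N n t :=
  sMap (thCoact k N t n) (by
    rw [← Category.assoc (Spec.map (thCoact k N t n)), ← Spec.map_comp, th_thCoact, Spec.map_comp, Category.assoc,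
      ← reassoc_of% dProj_left (M := M) (thRing k N B n) (Spec.map (th k N B n) ≫ Spec.map (bcInl R0.{u} ↥N B) ≫ t)]
    rw [show Spec.map (coact (wAct N B t)) ≫ Spec.map (bcInl R0.{u} ↥N B) ≫ t =
      Spec.map (bcInl R0.{u} M (bcRing R0.{u} ↥N B)) ≫ Spec.map (bcInl R0.{u} ↥N B) ≫ t from by
        rw [← Category.assoc, ← Spec.map_comp, inl_coact_wAct, Spec.map_comp, Category.assoc]]
    rw [← Category.assoc, ← Spec.map_comp, bcInl_bcNat, Spec.map_comp, Category.assoc, dProj_left]
    rfl)

theorem thAct_thI (n : ℕ) :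
    thAct k N t n ≫ thI k N t n = dMap (th k N B n) rfl ≫ (dIso (M := M) _ _).hom ≫ (wAct N B t).act := by
  apply Over.OverMorphism.ext
  rw [Over.comp_left, thAct, thI, sMap_left, sMap_left, ← Spec.map_comp, th_thCoact, Spec.map_comp]
  exact (congrArg (_ ≫ ·) (map_coact (wAct N B t))).trans rfl

theorem dMap_thAct (n : ℕ) :
    dMap (thStep k N B n) (by rw [← Category.assoc, ← Spec.map_comp, th_thStep]) ≫ thAct k N t (n + 1) =
      thAct k N t n ≫ thS k N t n := by
  apply Over.OverMorphism.ext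
  rw [Over.comp_left, Over.comp_left, thAct, thAct, thS, dMap_left, sMap_left, sMap_left, sMap_left,
    ← Spec.map_comp, ← Spec.map_comp]
  refine congrArg Spec.map (CommRingCat.hom_ext (RingHom.ext fun c => ?_))
  obtain ⟨c, rfl⟩ := th_surjective k N B (n + 1) c
  change (bcNat R0.{u} (toAlgHom' (thStep k N B n))).hom ((thCoact k N t (n + 1)).hom ((th k N B (n + 1)).hom c)) =
    (thCoact k N t n).hom ((thStep k N B n).hom ((th k N B (n + 1)).hom c))
  rw [show (thStep k N B n).hom ((th k N B (n + 1)).hom c) = (th k N B n).hom c from congr($(th_thStep k N B n) c),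
    show (thCoact k N t (n + 1)).hom ((th k N B (n + 1)).hom c) = _ from congr($(th_thCoact t (n + 1)) c),
    show (thCoact k N t n).hom ((th k N B n).hom c) = _ from congr($(th_thCoact t n) c)]
  refine coord_ext R0.{u} _ fun m => ?_
  simp only [CommRingCat.comp_apply, coord_bcNat]
  exact congr($(th_thStep k N B n) _)

variable (aU : Magnet.MonAct (Magnet.AMonS S M) U) (aX : Magnet.MonAct (Magnet.AMonS S M) X)

include hF hk hkF in
/-- Lifts on the thickenings of equivariant data are equivariant. -/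
theorem thLifts_equivariant (hf : Magnet.MonAct.IsEquivariant aU aX f) (x : dOver (M := ↥N) B t ⟶ X)
    (hx : Magnet.MonAct.IsEquivariant (wAct N B t) aX x) (u : dOver (M := ↥F) B t ⟶ U)
    (hu : Magnet.MonAct.IsEquivariant (wAct F B t) aU u) (l : ∀ n, thW k N n t ⟶ U)
    (hl : ∀ n, l n ≫ f = thI k N t n ≫ x) (hls : ∀ n, thS k N t n ≫ l (n + 1) = l n)
    (hl0 : ∀ (j : thW k N 0 t ⟶ dOver (M := ↥F) B t),
      j.left = Spec.map (bcMap R0.{u} B (AddSubmonoid.inclusion hF.le) ≫ th k N B 0) → l 0 = j ≫ u) :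
    ∀ n, thAct k N t n ≫ l n = lift (dCoord _ _) (dProj (M := M) _ _ ≫ l n) ≫ aU.act := by
  intro n
  induction n with
  | zero =>
    obtain ⟨j, ψ, hj, -, -, hjl⟩ := exists_thRetr (t := t) hF hk hkF
    let jd : dOver (M := M) (thRing k N B 0) (Spec.map (th k N B 0) ≫ Spec.map (bcInl R0.{u} ↥N B) ≫ t) ⟶
        dOver (M := M) (bcRing R0.{u} ↥F B) (Spec.map (bcInl R0.{u} ↥F B) ≫ t) :=
      dMap (bcMap R0.{u} B (AddSubmonoid.inclusion hF.le) ≫ th k N B 0) (by rw [← hjl]; exact Over.w j)
    have hjd : thAct k N t 0 ≫ j = jd ≫ (dIso (M := M) _ _).hom ≫ (wAct F B t).act := by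
      apply Over.OverMorphism.ext
      rw [Over.comp_left, thAct, sMap_left, hjl, ← Spec.map_comp, Over.comp_left, dMap_left, ← map_coact,
        ← Spec.map_comp]
      refine congrArg Spec.map (bc_hom_ext ?_ fun m => ?_)
      · rw [← Category.assoc, ← Category.assoc, bcInl_bcMap, Category.assoc, th_thCoact, reassoc_of% inl_coact_wAct,
          reassoc_of% inl_coact_wAct, bcInl_bcNat, bcInl_bcNat, ← Category.assoc, ← Category.assoc]
        congr 1
        ext b
        exact (congrArg (th k N B 0).hom (bcMap_inl (AddSubmonoid.inclusion hF.le) b)).symm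
      · simp only [CommRingCat.comp_apply]
        rw [bcMap_mono, show (thCoact k N t 0).hom ((th k N B 0).hom _) = _ from congr($(th_thCoact t 0) _)]
        simp only [CommRingCat.comp_apply]
        rw [coact_wAct_mono, coact_wAct_mono, map_mul, map_mul, bcNat_inl, bcNat_inl, bcNat_mono, bcNat_mono]
        exact congrArg (fun q => _ * (bcInl R0.{u} M _).hom q)
          (congrArg (th k N B 0).hom (bcMap_mono (AddSubmonoid.inclusion hF.le) m)).symm
    rw [hl0 j hjl, ← Category.assoc (thAct k N t 0), hjd, Category.assoc, Category.assoc, hu, ← lift_dCoord_dProj_comp,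
      lift_whiskerLeft_assoc, comp_lift_assoc, dMap_dCoord, dMap_dProj_assoc]
    refine congrArg (fun q => lift _ (dProj _ _ ≫ q ≫ u) ≫ aU.act) ?_
    exact Over.OverMorphism.ext hjl.symm
  | succ n ih =>
    refine Over.OverMorphism.ext (hom_ext_specMap (bcNat R0.{u} (toAlgHom' (thStep k N B n)))
      (bcNat_surjective R0.{u} _ (thStep_surjective k N B n)) (ker_bcNat_sq _ (thStep_ker_sq B hk n)) f.left ?_ ?_)
    · have e : Spec.map (thStep k N B n) ≫ Spec.map (th k N B (n + 1)) ≫ Spec.map (bcInl R0.{u} ↥N B) ≫ t =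
          Spec.map (th k N B n) ≫ Spec.map (bcInl R0.{u} ↥N B) ≫ t := by
        rw [← Category.assoc, ← Spec.map_comp, th_thStep]
      have h1 : dMap (M := M) (thStep k N B n) e ≫ thAct k N t (n + 1) ≫ l (n + 1) =
          dMap (M := M) (thStep k N B n) e ≫ lift (dCoord _ _) (dProj (M := M) _ _ ≫ l (n + 1)) ≫ aU.act := by
        rw [← Category.assoc (dMap (M := M) (thStep k N B n) e), dMap_thAct, Category.assoc, hls, ih, comp_lift_assoc, dMap_dCoord, dMap_dProj_assoc]
        exact congrArg (fun q => lift _ (dProj _ _ ≫ q) ≫ aU.act) (hls n).symm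
      exact congrArg CommaMorphism.left h1
    · refine congrArg CommaMorphism.left (?_ : (thAct k N t (n + 1) ≫ l (n + 1)) ≫ f = (_ ≫ aU.act) ≫ f)
      rw [Category.assoc, hl, ← Category.assoc (thAct k N t (n + 1)), thAct_thI, Category.assoc, Category.assoc, hx, Category.assoc, hf,
        ← lift_dCoord_dProj_comp, lift_whiskerLeft_assoc, lift_whiskerLeft_assoc, comp_lift_assoc, dMap_dCoord,
        dMap_dProj_assoc, Category.assoc, hl]
      rfl

end Lift

section Main

variable {S : Scheme.{u}} {M : Type} [AddCommGroup M] {k : M →+ ℤ} {N F : AddSubmonoid M}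
  (hF : Magnet.IsFace N F) (hk : ∀ x ∈ N, 0 ≤ k x) (hkF : ∀ x ∈ N, k x = 0 ↔ x ∈ F)
  {B : CommRingCat.{u}} {t : Spec B ⟶ S}
  {U X : Over S} [IsAffineHom U.hom] (f : U ⟶ X) [Etale f.left]
  (aU : Magnet.MonAct (Magnet.AMonS S M) U) (aX : Magnet.MonAct (Magnet.AMonS S M) X)
  (hf : Magnet.MonAct.IsEquivariant aU aX f)

include hF hk hkF hf in
/-- Unique equivariant lifting along an etale map from a face. -/
theorem existsUnique_lift (x : dOver (M := ↥N) B t ⟶ X)
    (hx : Magnet.MonAct.IsEquivariant (wAct N B t) aX x) (u : dOver (M := ↥F) B t ⟶ U)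
    (hu : Magnet.MonAct.IsEquivariant (wAct F B t) aU u) (huf : u ≫ f = faceW hF t ≫ x) :
    ∃! l : dOver (M := ↥N) B t ⟶ U,
      Magnet.MonAct.IsEquivariant (wAct N B t) aU l ∧ l ≫ f = x ∧ faceW hF t ≫ l = u := by
  obtain ⟨ln, hln, hlns, hln0⟩ := exists_thLifts hF hk hkF f x u huf
  have hlne := thLifts_equivariant hF hk hkF f aU aX hf x hx u hu ln hln hlns hln0
  -- the affine scheme `U × T`
  let T := specOver B t
  haveI : IsAffineHom (snd U T).left :=
    MorphismProperty.of_isPullback (P := @IsAffineHom) (isPullback_left U T) inferInstance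
  haveI : IsAffine T.left := inferInstanceAs (IsAffine (Spec B))
  haveI : IsAffine (U ⊗ T).left := isAffine_of_isAffineHom (snd U T).left
  let R : CommRingCat.{u} := Γ((U ⊗ T).left, ⊤)
  let tR : Spec R ⟶ S := (U ⊗ T).left.isoSpec.inv ≫ (U ⊗ T).hom
  let e : specOver R tR ≅ U ⊗ T := Over.isoMk (U ⊗ T).left.isoSpec.symm rfl
  let ρR := transportAct e (aU.prod (Magnet.MonAct.trivial (Magnet.AMonS S M) T))
  let q : dOver (M := ↥N) B t ⟶ T := dProj B t
  let lR : ∀ n, thW k N n t ⟶ specOver R tR := fun n => lift (ln n) (thI k N t n ≫ q) ≫ e.inv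
  let lam : ∀ n, R ⟶ thRing k N B n := fun n => Spec.preimage (lR n).left
  have hlam : ∀ n, Spec.map (lam n) = (lR n).left := fun n => Spec.map_preimage _
  have hcompat : ∀ n, lam (n + 1) ≫ thStep k N B n = lam n := fun n => Spec.map_injective (by
    rw [Spec.map_comp, hlam, hlam]
    have e1 : thS k N t n ≫ lR (n + 1) = lR n := by
      simp only [lR]
      rw [comp_lift_assoc, hlns, ← Category.assoc (thS k N t n), thS_thI]
    exact congrArg CommaMorphism.left e1)
  have hequiv : ∀ n, lam n ≫ thCoact k N t n = coact ρR ≫ bcNat R0.{u} (toAlgHom' (lam n)) := fun n => by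
    apply Spec.map_injective
    rw [Spec.map_comp, Spec.map_comp, hlam, map_coact]
    let d : dOver (M := M) (thRing k N B n) (Spec.map (th k N B n) ≫ Spec.map (bcInl R0.{u} ↥N B) ≫ t) ⟶
        dOver (M := M) R tR :=
      dMap (lam n) (by rw [hlam]; exact Over.w (lR n))
    have hd : d ≫ dProj R tR = dProj _ _ ≫ lR n := by
      rw [dMap_dProj]
      exact congrArg (dProj _ _ ≫ ·) (Over.OverMorphism.ext (hlam n))
    have hg : d ≫ dCoord R tR = dCoord _ _ := dMap_dCoord _ _
    have e1 : thAct k N t n ≫ lR n = d ≫ (dIso (M := M) R tR).hom ≫ ρR.act := by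
      conv_rhs => rw [← lift_dCoord_dProj_comp ρR.act, comp_lift_assoc, hg, hd, transportAct_act, lift_whiskerLeft_assoc]
      simp only [lR, Category.assoc, e.inv_hom_id, Category.comp_id]
      rw [comp_lift, Magnet.MonAct.lift_prod_act_assoc,
        comp_lift_assoc, hlne]
      refine congrArg (fun p => lift _ p ≫ e.inv) ?_
      rw [Magnet.MonAct.lift_trivial_act, ← Category.assoc (thAct k N t n), thAct_thI, Category.assoc, show
          ((dIso (M := M) _ _).hom ≫ (wAct N B t).act) ≫ q = dProj _ _ ≫ q from dIso_wAct_dProj N B t,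
        dMap_dProj_assoc]
      rfl
    exact congrArg CommaMorphism.left e1
  obtain ⟨lim, hlim, hlimeq⟩ := exists_algebraization t hk (coact ρR) lam hcompat hequiv
  have hext : ∀ {A : CommRingCat.{u}} (a b : A ⟶ bcRing R0.{u} ↥N B),
      (∀ n, a ≫ th k N B n = b ≫ th k N B n) → a = b := fun a b h =>
    CommRingCat.hom_ext (RingHom.ext fun r => sub_eq_zero.1 (eq_zero_of_forall_mem B hk fun n =>
      wIdeal_antitone B (Nat.le_succ n) ((th_eq_zero_iff k N B n _).1 (by
        rw [map_sub, sub_eq_zero]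
        exact congr($(h n) r)))))
  let qB : B ⟶ R := Spec.preimage (e.hom ≫ snd U T).left
  have hqB : Spec.map qB = (e.hom ≫ snd U T).left := Spec.map_preimage _
  have hlimB : qB ≫ lim = bcInl R0.{u} ↥N B := hext _ _ fun n => by
    apply Spec.map_injective
    rw [Category.assoc, hlim, Spec.map_comp, Spec.map_comp, hlam, hqB, ← dProj_left B t]
    have e1 : lR n ≫ e.hom ≫ snd U T = thI k N t n ≫ q := by
      simp only [lR, Category.assoc, e.inv_hom_id_assoc, lift_snd]
    exact congrArg CommaMorphism.left e1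
  let lS : dOver (M := ↥N) B t ⟶ specOver R tR := sMap lim (by
    have h1 : tR = Spec.map qB ≫ t := by
      rw [hqB]
      exact (Over.w (e.hom ≫ snd U T)).symm
    rw [h1, ← Category.assoc, ← Spec.map_comp, hlimB])
  have hlS : ∀ n, thI k N t n ≫ lS = lR n := fun n => by
    apply Over.OverMorphism.ext
    rw [thI, Over.comp_left, sMap_left, sMap_left, ← Spec.map_comp, hlim, hlam]
  have hlSe : Magnet.MonAct.IsEquivariant (wAct N B t) ρR lS := by
    unfold Magnet.MonAct.IsEquivariant
    rw [← cancel_epi (dIso (M := M) (bcRing R0.{u} ↥N B) (Spec.map (bcInl R0.{u} ↥N B) ≫ t)).hom]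
    conv_rhs => rw [← lift_dCoord_dProj_comp, lift_whiskerLeft_assoc]
    let d : dOver (M := M) (bcRing R0.{u} ↥N B) (Spec.map (bcInl R0.{u} ↥N B) ≫ t) ⟶ dOver (M := M) R tR :=
      dMap lim (Over.w lS)
    have hd : d ≫ dProj R tR = dProj _ _ ≫ lS := dMap_dProj _ _
    have hg : d ≫ dCoord R tR = dCoord _ _ := dMap_dCoord _ _
    rw [← hd, ← hg, ← comp_lift_assoc, lift_dCoord_dProj_comp, ← Category.assoc]
    apply Over.OverMorphism.ext
    change ((dIso (M := M) _ _).hom ≫ (wAct N B t).act).left ≫ lS.left = d.left ≫ ((dIso (M := M) R tR).hom ≫ ρR.act).left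
    rw [← map_coact, ← map_coact, dMap_left, sMap_left, ← Spec.map_comp,
      ← Spec.map_comp, hlimeq]
  let l : dOver (M := ↥N) B t ⟶ U := lS ≫ e.hom ≫ fst U T
  have hle : Magnet.MonAct.IsEquivariant (wAct N B t) aU l :=
    hlSe.comp ((isEquivariant_transport_hom e _).comp (Magnet.MonAct.isEquivariant_prod_fst aU _))
  have hlt : ∀ n, thI k N t n ≫ l = ln n := fun n => by
    simp only [l, reassoc_of% hlS, lR, Category.assoc, e.inv_hom_id_assoc, lift_fst]
  obtain ⟨j, ψ, hj, hψ, hψj, hjl⟩ := exists_thRetr (t := t) hF hk hkF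
  have hlu : faceW hF t ≫ l = u := by
    rw [← hψ, Category.assoc, hlt, hln0 j hjl, reassoc_of% hψj]
  have hlevel : ∀ n, ∀ {Y : Over S} (y y' : dOver (M := ↥N) B t ⟶ Y),
      thI k N t n ≫ y = thI k N t n ≫ y' → Spec.map (thick k N B (n + 1)) ≫ y.left =
        Spec.map (thick k N B (n + 1)) ≫ y'.left := fun n _ y y' h => congrArg CommaMorphism.left h
  have hlevel0 : ∀ {Y : Over S} (y y' : dOver (M := ↥N) B t ⟶ Y),
      (∀ n, thI k N t n ≫ y = thI k N t n ≫ y') → ∀ n, Spec.map (thick k N B n) ≫ y.left =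
        Spec.map (thick k N B n) ≫ y'.left := by
    intro Y y y' h n
    cases n with
    | zero =>
      haveI : Subsingleton (CommRingCat.of (bcRing R0.{u} ↥N B ⧸ wIdeal k N B 0)) :=
        Ideal.Quotient.subsingleton_iff.2 (eq_top_iff.2 fun z _ =>
          (mem_wIdeal B hk 0 z).2 fun m hm => absurd hm (Nat.not_lt_zero _))
      haveI : IsEmpty (Spec (CommRingCat.of (bcRing R0.{u} ↥N B ⧸ wIdeal k N B 0))) :=
        inferInstanceAs (IsEmpty (PrimeSpectrum (bcRing R0.{u} ↥N B ⧸ wIdeal k N B 0)))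
      exact (isInitialOfIsEmpty).hom_ext _ _
    | succ n => exact hlevel n y y' (h n)
  have hlf : l ≫ f = x := eqv_ext hF hk hkF aX (l ≫ f) x (hle.comp hf) hx
    (hlevel0 _ _ fun n => by rw [← Category.assoc, hlt, hln])
  refine ⟨l, ⟨hle, hlf, hlu⟩, fun l' ⟨hl'e, hl'f, hl'u⟩ => ?_⟩
  have hsame : ∀ n, thI k N t n ≫ l' = ln n := thLift_unique hk f (fun n => thI k N t n ≫ l') ln
    (fun n => by rw [Category.assoc, hl'f, hln]) (by
      rw [hln0 j hjl, ← hl'u, ← Category.assoc, hj])
    (fun n => by rw [← Category.assoc, thS_thI]) hlns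
  exact eqv_ext hF hk hkF aU l' l hl'e hle (hlevel0 _ _ fun n => by rw [hsame, hlt])

end Main

end Groth.Agent.Lib.GrpSch.GradedW
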