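import Groth.Prelude.Def_Magnet4
import Groth.Agent.Lib.GrpSch.Magnet
import Groth.Agent.Lib.Ferrand.Spec
import Groth.Agent.Lib.Ferrand.BaseChange
import Groth.Agent.Lib.Ferrand.Props
import Mathlib.AlgebraicGeometry.Morphisms.Flat

/-!
# Pushouts of face morphisms

For `L` a face of `L'` and `N ≤ L` with `N' = L' \ (L \ N)`, the scheme `A(N') × T` is the pushout of
`A(L') × T ← A(L) × T → A(N) × T`.
-/

set_option autoImplicit false
universe u

open CategoryTheory Limits MonoidalCategory CartesianMonoidalCategory MonObj AlgebraicGeometry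

namespace Groth.Agent.Lib.GrpSch.FacePushout

section Ring

variable (R : Type u) [CommRing R] {M : Type} [AddCommMonoid M]

theorem face_coeff {N F : AddSubmonoid M} (hF : Magnet.IsFace N F) (x : MonoidAlgebra R (Multiplicative ↥N))
    (k : ↥F) : (Magnet.faceAlgHom R hF x).coeff (Multiplicative.ofAdd k) =
      x.coeff (Multiplicative.ofAdd (AddSubmonoid.inclusion hF.le k)) := by
  classical
  induction x using MonoidAlgebra.induction_linear with
  | zero => simp
  | add x y hx hy => rw [map_add, MonoidAlgebra.coeff_add, MonoidAlgebra.coeff_add, Finsupp.add_apply, Finsupp.add_apply, hx, hy]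
  | single m r =>
    rw [show m = Multiplicative.ofAdd m.toAdd from rfl]
    by_cases h : ((m.toAdd : ↥N) : M) ∈ F
    · rw [Magnet.faceAlgHom_single_of_mem R hF _ h, MonoidAlgebra.coeff_single, MonoidAlgebra.coeff_single,
        Finsupp.single_apply, Finsupp.single_apply]
      refine if_congr ⟨fun e => ?_, fun e => ?_⟩ rfl rfl
      · have := Multiplicative.ofAdd.injective e
        exact congrArg Multiplicative.ofAdd (Subtype.ext (congrArg Subtype.val this :))
      · have := Multiplicative.ofAdd.injective e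
        exact congrArg Multiplicative.ofAdd (Subtype.ext (congrArg Subtype.val this :))
    · rw [Magnet.faceAlgHom_single_of_not_mem R hF _ h, MonoidAlgebra.coeff_zero, MonoidAlgebra.coeff_single,
        Finsupp.zero_apply, Finsupp.single_apply, if_neg]
      intro e
      have := Multiplicative.ofAdd.injective e
      exact h (by rw [show ((m.toAdd : ↥N) : M) = (k : M) from congrArg Subtype.val this]; exact k.2)

/-- The map of monoid algebras induced by an inclusion of submonoids. -/
noncomputable abbrev inclHom {A B : AddSubmonoid M} (h : A ≤ B) :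
    MonoidAlgebra R (Multiplicative ↥A) →ₐ[R] MonoidAlgebra R (Multiplicative ↥B) :=
  (MonoidAlgebra.mapDomainBialgHom R (AddMonoidHom.toMultiplicative (AddSubmonoid.inclusion h))).toAlgHom

theorem incl_coeff {A B : AddSubmonoid M} (h : A ≤ B) (x : MonoidAlgebra R (Multiplicative ↥A)) (k : ↥A) :
    (inclHom R h x).coeff (Multiplicative.ofAdd (AddSubmonoid.inclusion h k)) = x.coeff (Multiplicative.ofAdd k) := by
  have hi : Function.Injective (AddMonoidHom.toMultiplicative (AddSubmonoid.inclusion h)) := fun p q e =>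
    Multiplicative.toAdd.injective (AddSubmonoid.inclusion_injective h (congrArg Multiplicative.toAdd e :))
  exact Finsupp.mapDomain_apply hi x.coeff (Multiplicative.ofAdd k)

theorem incl_coeff_eq_zero {A B : AddSubmonoid M} (h : A ≤ B) (x : MonoidAlgebra R (Multiplicative ↥A)) (k : ↥B)
    (hk : (k : M) ∉ A) : (inclHom R h x).coeff (Multiplicative.ofAdd k) = 0 := by
  refine Finsupp.mapDomain_of_notMem_range _ _ ?_
  rintro ⟨p, hp⟩
  have h2 : ((p.toAdd : ↥A) : M) = (k : M) := congrArg (fun z => ((Multiplicative.toAdd z : ↥B) : M)) hp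
  exact hk (h2 ▸ p.toAdd.2)

variable {N N' L L' : AddSubmonoid M} (hNL : N ≤ L) (hN'L' : N' ≤ L') (hL : Magnet.IsFace L' L)
  (hN : Magnet.IsFace N' N) (hdiff : (N' : Set M) = (L' : Set M) \ ((L : Set M) \ (N : Set M)))

include hdiff in
theorem isSq :
    Ferrand.IsSq (Magnet.faceAlgHom R hN).toRingHom (inclHom R hN'L').toRingHom
      (inclHom R hNL).toRingHom (Magnet.faceAlgHom R hL).toRingHom := by
  have hmem : ∀ m : M, m ∈ N' → m ∈ L → m ∈ N := by
    intro m h1 h2
    have h3 : m ∈ (N' : Set M) := h1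
    rw [hdiff] at h3
    by_contra h4
    exact h3.2 ⟨h2, h4⟩
  refine ⟨fun x => ?_, fun z => ?_, fun x y _ h2 => ?_, fun b a hba => ?_⟩
  · refine MonoidAlgebra.ext (Finsupp.ext fun k => ?_)
    obtain ⟨k, rfl⟩ := Multiplicative.ofAdd.surjective k
    change (inclHom R hNL (Magnet.faceAlgHom R hN x)).coeff _ = (Magnet.faceAlgHom R hL (inclHom R hN'L' x)).coeff _
    rw [face_coeff]
    by_cases hk : (k : M) ∈ N
    · rw [show k = AddSubmonoid.inclusion hNL ⟨k, hk⟩ from rfl, incl_coeff, face_coeff]
      exact (incl_coeff R hN'L' x _).symm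
    · rw [incl_coeff_eq_zero R hNL _ k hk]
      exact (incl_coeff_eq_zero R hN'L' x _ (fun h => hk (hmem _ h k.2))).symm
  · refine ⟨inclHom R hL.le z, MonoidAlgebra.ext (Finsupp.ext fun k => ?_)⟩
    obtain ⟨k, rfl⟩ := Multiplicative.ofAdd.surjective k
    exact (face_coeff R hL _ k).trans (incl_coeff R hL.le z k)
  · refine MonoidAlgebra.ext (Finsupp.ext fun k => ?_)
    obtain ⟨k, rfl⟩ := Multiplicative.ofAdd.surjective k
    rw [← incl_coeff R hN'L' x k, ← incl_coeff R hN'L' y k]
    exact congrArg (fun z => MonoidAlgebra.coeff z (Multiplicative.ofAdd (AddSubmonoid.inclusion hN'L' k))) h2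
  · let i : Multiplicative ↥N' → Multiplicative ↥L' :=
      fun p => AddMonoidHom.toMultiplicative (AddSubmonoid.inclusion hN'L') p
    have hi : Function.Injective i := fun p q e =>
      Multiplicative.toAdd.injective (AddSubmonoid.inclusion_injective hN'L' (congrArg Multiplicative.toAdd e :))
    have hsupp : ↑a.coeff.support ⊆ Set.range i := by
      intro p hp
      obtain ⟨k, rfl⟩ := Multiplicative.ofAdd.surjective p
      refine ⟨Multiplicative.ofAdd ⟨k, ?_⟩, rfl⟩
      have hkL' : (k : M) ∈ (L' : Set M) := k.2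
      show (k : M) ∈ (N' : Set M)
      rw [hdiff]
      refine ⟨hkL', fun ⟨hkL, hkN⟩ => ?_⟩
      have h1 : (Magnet.faceAlgHom R hL a).coeff (Multiplicative.ofAdd (⟨k, hkL⟩ : ↥L)) = 0 := by
        rw [show Magnet.faceAlgHom R hL a = inclHom R hNL b from hba.symm]
        exact incl_coeff_eq_zero R hNL b _ hkN
      rw [face_coeff] at h1
      exact Finsupp.mem_support_iff.1 hp h1
    refine ⟨MonoidAlgebra.comapDomain i hi a, MonoidAlgebra.ext (Finsupp.ext fun k => ?_),
      MonoidAlgebra.mapDomain_comapDomain hsupp hi⟩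
    obtain ⟨k, rfl⟩ := Multiplicative.ofAdd.surjective k
    change (Magnet.faceAlgHom R hN _).coeff _ = _
    rw [face_coeff, MonoidAlgebra.coeff_comapDomain, Finsupp.comapDomain_apply]
    have h1 := congrArg (fun z => MonoidAlgebra.coeff z (Multiplicative.ofAdd (AddSubmonoid.inclusion hNL k))) hba
    change (inclHom R hNL b).coeff _ = (Magnet.faceAlgHom R hL a).coeff _ at h1
    rw [incl_coeff, face_coeff] at h1
    exact h1.symm

end Ring

section Scheme

variable {S : Scheme.{u}} {M : Type} [AddCommMonoid M]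

theorem isPullback_faceMap_whiskerRight {N F : AddSubmonoid M} (hF : Magnet.IsFace N F) (T : Over S) :
    IsPullback (Magnet.AMonS.faceMap S hF ▷ T).left
      ((fst (Magnet.AMonS S F) T).left ≫ bcProj _ (Magnet.AMon (ULift.{u} ℤ) F))
      ((fst (Magnet.AMonS S N) T).left ≫ bcProj _ (Magnet.AMon (ULift.{u} ℤ) N))
      (Magnet.AMon.faceMap (ULift.{u} ℤ) hF).left :=
  (isPullback_whiskerRight (Magnet.AMonS.faceMap S hF) T).paste_vert
    (isPullback_bc_map (Limits.IsTerminal.from specULiftZIsTerminal S) (Magnet.AMon.faceMap (ULift.{u} ℤ) hF))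

variable {N N' L L' : AddSubmonoid M} (hNL : N ≤ L) (hN'L' : N' ≤ L') (hL : Magnet.IsFace L' L)
  (hN : Magnet.IsFace N' N) (hdiff : (N' : Set M) = (L' : Set M) \ ((L : Set M) \ (N : Set M)))

include hdiff in
theorem isPushout_whiskerRight (T : Over S) :
    IsPushout (Magnet.AMonS.faceMap S hL ▷ T) (Magnet.AMonS.map S (AddSubmonoid.inclusion hNL) ▷ T)
      (Magnet.AMonS.map S (AddSubmonoid.inclusion hN'L') ▷ T) (Magnet.AMonS.faceMap S hN ▷ T) := by
  let i := (Magnet.AMon.faceMap (ULift.{u} ℤ) hL).left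
  let j := (Magnet.AMon.map (ULift.{u} ℤ) (AddSubmonoid.inclusion hNL)).left
  let a := (Magnet.AMon.map (ULift.{u} ℤ) (AddSubmonoid.inclusion hN'L')).left
  let b := (Magnet.AMon.faceMap (ULift.{u} ℤ) hN).left
  have hci : IsClosedImmersion i := IsClosedImmersion.spec_of_surjective _
    (isSq (ULift.{u} ℤ) hNL hN'L' hL hN hdiff).surj
  have hsq : Ferrand.AffSq i j a b :=
    Ferrand.affSq_Spec (CommRingCat.hom_ext (RingHom.ext (isSq (ULift.{u} ℤ) hNL hN'L' hL hN hdiff).comm))
      (isSq (ULift.{u} ℤ) hNL hN'L' hL hN hdiff)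
  have := hsq.affX
  have := hsq.affY
  have hglue : Ferrand.GluedBy i j a b :=
    Ferrand.GluedBy.of_isPushout (fun y => ⟨⟨⊤, ⊤, isAffineOpen_top _, isAffineOpen_top _, rfl⟩, trivial⟩)
      hsq.isPushout
  have hfl : Flat (i ≫ a ≫ (Magnet.AMon (ULift.{u} ℤ) N').hom) := by
    have e : i ≫ a ≫ (Magnet.AMon (ULift.{u} ℤ) N').hom = (Magnet.AMon (ULift.{u} ℤ) L).hom :=
      specULiftZIsTerminal.hom_ext _ _
    rw [e]
    exact (HasRingHomProperty.Spec_iff (P := @Flat)).mpr ((RingHom.flat_algebraMap_iff).mpr inferInstance)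
  have hw : (Magnet.AMonS.faceMap S hL ▷ T) ≫ (Magnet.AMonS.map S (AddSubmonoid.inclusion hN'L') ▷ T) =
      (Magnet.AMonS.map S (AddSubmonoid.inclusion hNL) ▷ T) ≫ (Magnet.AMonS.faceMap S hN ▷ T) := by
    rw [← MonoidalCategory.comp_whiskerRight, ← MonoidalCategory.comp_whiskerRight, Magnet.AMonS.faceMap,
      Magnet.AMonS.faceMap, Magnet.AMonS.map, Magnet.AMonS.map, ← Functor.map_comp, ← Functor.map_comp]
    congr 2
    exact Over.OverMorphism.ext hsq.w
  have h := hglue.baseChange (Magnet.AMon (ULift.{u} ℤ) N').hom (T.hom ≫ Limits.IsTerminal.from specULiftZIsTerminal S)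
    (isPullback_AMonS_snd T ↥N').flip
    (isPullback_AMonS_map_whiskerRight (AddSubmonoid.inclusion hN'L') T).flip
    (isPullback_faceMap_whiskerRight hN T).flip
    (isPullback_faceMap_whiskerRight hL T).flip
    (isPullback_AMonS_map_whiskerRight (AddSubmonoid.inclusion hNL) T).w
    (congrArg CommaMorphism.left hw) (.inr hfl)
  exact IsPushout.of_map (Over.forget S) hw h

end Scheme

end Groth.Agent.Lib.GrpSch.FacePushout
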