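import Groth.Agent.Lib.GrpSch.FiniteRestr
import Groth.Agent.Lib.GrpSch.Basic
import Groth.Agent.Lib.AlgSpMor.Cancel

/-!
# Loci of agreement along finite locally free morphisms

`exists_agree`: for `π : P ⟶ Q` finite locally free and `u v : P ⟶ X` over `S`, the locus in `Q` over which
`u = v` is closed as soon as the equaliser of `u` and `v` is closed in `P`.
-/

set_option autoImplicit false
universe u
open CategoryTheory CategoryTheory.Limits MonoidalCategory CartesianMonoidalCategory AlgebraicGeometry

namespace Groth.Agent.Lib.GrpSch.FiniteAgree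

open FreeRestr

variable {S : Scheme.{u}} {P Q X : Over S}

/-- The diagonal of `X` over `S`. -/
noncomputable abbrev diag (X : Over S) : X.left ⟶ (X ⊗ X).left := (lift (𝟙 X) (𝟙 X)).left

/-- The equaliser of two morphisms over `S`. -/
noncomputable abbrev eqι (u v : P ⟶ X) : pullback (lift u v).left (diag X) ⟶ P.left :=
  pullback.fst _ _

theorem diag_closed [IsSeparated X.hom] : IsClosedImmersion (diag X) :=
  (IsSeparated.isClosedImmersion_diagonal : IsClosedImmersion (pullback.diagonal X.hom))

theorem diag_lfp [LocallyOfFinitePresentation X.hom] : LocallyOfFinitePresentation (diag X) := by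
  have h : LocallyOfFinitePresentation (pullback.diagonal X.hom ≫ pullback.fst X.hom X.hom) := by
    rw [pullback.diagonal_fst]
    infer_instance
  exact Groth.Agent.Lib.AlgSpMor.Cancel.locallyOfFinitePresentation_of_comp h inferInstance

theorem diag_immersion : IsImmersion (diag X) :=
  (inferInstance : IsImmersion (pullback.diagonal X.hom))

/-- Membership of a morphism in the equaliser. -/
theorem factor_iff (u v : P ⟶ X) {W : Over S} (p : W ⟶ P) :
    (∃ w, w ≫ eqι u v = p.left) ↔ p ≫ u = p ≫ v := by
  constructor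
  · rintro ⟨w, hw⟩
    have h1 : (p ≫ lift u v).left = w ≫ pullback.snd _ _ ≫ diag X := by
      rw [Over.comp_left, ← hw, Category.assoc, pullback.condition]
    apply Over.OverMorphism.ext
    have h2 := congrArg (· ≫ (fst X X).left) h1
    have h3 := congrArg (· ≫ (snd X X).left) h1
    simp only [Category.assoc, ← Over.comp_left, lift_fst, lift_snd] at h2 h3
    exact h2.trans h3.symm
  · intro h
    refine ⟨pullback.lift p.left (p ≫ u).left ?_, pullback.lift_fst _ _ _⟩
    rw [← Over.comp_left, ← Over.comp_left]
    congr 1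
    rw [comp_lift, comp_lift, Category.comp_id, ← h]

theorem exists_agree (π : P ⟶ Q) [IsFinite π.left] [Flat π.left] [LocallyOfFinitePresentation π.left]
    (u v : P ⟶ X) [IsClosedImmersion (eqι u v)] :
    ∃ (Z : Scheme.{u}) (j : Z ⟶ Q.left), IsClosedImmersion j ∧
      (LocallyOfFinitePresentation (diag X) → LocallyOfFinitePresentation j) ∧
      ∀ (T : Over S) (x : T ⟶ Q), (∃ y : T.left ⟶ Z, y ≫ j = x.left) ↔
        ∀ (W : Over S) (p : W ⟶ P) (q : W ⟶ T), p ≫ π = q ≫ x → p ≫ u = p ≫ v := by
  obtain ⟨Z, j, hj, hfp, hZ⟩ := FiniteRestr.exists_closed_restr π.left (eqι u v)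
  refine ⟨Z, j, hj, fun h => hfp (MorphismProperty.pullback_fst _ _ h), fun T x => (hZ _ _).trans ⟨fun h W p q hpq => ?_, fun h W p q hpq => ?_⟩⟩
  · exact (factor_iff u v p).1 (h W.left p.left q.left (congrArg CommaMorphism.left hpq))
  · let Wo : Over S := Over.mk (p ≫ P.hom)
    let po : Wo ⟶ P := Over.homMk p
    let qo : Wo ⟶ T := Over.homMk q (by
      change q ≫ T.hom = p ≫ P.hom
      rw [← Over.w x, ← reassoc_of% hpq, Over.w π])
    exact (factor_iff u v po).2 (h Wo po qo (Over.OverMorphism.ext hpq))

end Groth.Agent.Lib.GrpSch.FiniteAgree
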