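import Groth.Agent.Lib.GrpSch.EqvLiftApp
import Groth.Agent.Lib.GrpSch.AttrLimit
import Groth.Agent.Lib.GrpSch.FacePushout
import Groth.Prelude.Def_Magnet4

/-!
# The weight filtration of `B ⊗ R₀[N]` defined by a linear form

For `k : M → ℤ` nonnegative on `N` the ideals spanned by monomials of weight at least `n`, the face
projection, and the coaction of `A(M)_S` on `A(N)_S × Spec B`.
-/

set_option autoImplicit false
universe u

open CategoryTheory Limits MonoidalCategory CartesianMonoidalCategory MonObj AlgebraicGeometry TensorProduct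
open Groth.Agent.Lib

namespace Groth.Agent.Lib.GrpSch.GradedW

open AttrAffine

section Generic

variable (R : Type u) [CommRing R] {M : Type} [AddCommMonoid M] {B L : CommRingCat.{u}} [Algebra R B] [Algebra R L]

/-- The ring map out of `B ⊗ R[M]` given on `B` and on monomials. -/
noncomputable def bcDescR (f : (B : Type u) →ₐ[R] L) (χ : Multiplicative M →* L) : bcRing R M B ⟶ L :=
  CommRingCat.ofHom (Algebra.TensorProduct.lift f
    (MonoidAlgebra.lift R (L : Type u) (Multiplicative M) χ) (fun _ _ => Commute.all _ _)).toRingHom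

theorem bcDescR_inl (f : (B : Type u) →ₐ[R] L) (χ : Multiplicative M →* L) :
    bcInl R M B ≫ bcDescR R f χ = CommRingCat.ofHom f.toRingHom := by
  ext b
  change Algebra.TensorProduct.lift f (MonoidAlgebra.lift R (L : Type u) (Multiplicative M) χ) (fun _ _ => Commute.all _ _) (b ⊗ₜ[R] (1 : MonoidAlgebra R (Multiplicative M))) = f b
  simp

theorem bcDescR_mono (f : (B : Type u) →ₐ[R] L) (χ : Multiplicative M →* L) (m : Multiplicative M) :
    (bcDescR R f χ).hom (mono R B m) = χ m := by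
  change Algebra.TensorProduct.lift f (MonoidAlgebra.lift R (L : Type u) (Multiplicative M) χ) (fun _ _ => Commute.all _ _) ((1 : B) ⊗ₜ[R] MonoidAlgebra.single m (1 : R)) = χ m
  simp [MonoidAlgebra.lift_single]

variable {N F : AddSubmonoid M} (hF : Magnet.IsFace N F) (B)

/-- The face projection `B ⊗ R[N] → B ⊗ R[F]`. -/
noncomputable def bcFaceR : bcRing R ↥N B ⟶ bcRing R ↥F B :=
  CommRingCat.ofHom (Algebra.TensorProduct.map (AlgHom.id R B) (Magnet.faceAlgHom R hF)).toRingHom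

theorem bcInl_bcFaceR : bcInl R ↥N B ≫ bcFaceR R B hF = bcInl R ↥F B := by
  ext b
  change Algebra.TensorProduct.map _ _ (b ⊗ₜ[R] (1 : MonoidAlgebra R (Multiplicative ↥N))) = b ⊗ₜ[R] 1
  simp

theorem bcInr_bcFaceR : bcInr R ↥N B ≫ bcFaceR R B hF =
    CommRingCat.ofHom (Magnet.faceAlgHom R hF).toRingHom ≫ bcInr R ↥F B := by
  refine CommRingCat.hom_ext (RingHom.ext fun a => ?_)
  change Algebra.TensorProduct.map _ _ ((1 : B) ⊗ₜ[R] a) = (1 : B) ⊗ₜ[R] Magnet.faceAlgHom R hF a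
  simp

theorem bcFaceR_mono_of_mem (m : Multiplicative ↥N) (h : (m.toAdd : M) ∈ F) :
    (bcFaceR R B hF).hom (mono R B m) = mono R B (Multiplicative.ofAdd (⟨m.toAdd, h⟩ : ↥F)) :=
  (congr($(bcInr_bcFaceR R B hF) (MonoidAlgebra.single m 1))).trans
    (congrArg (bcInr R ↥F B).hom (Magnet.faceAlgHom_single_of_mem R hF m.toAdd h 1))

theorem bcFaceR_mono_of_not_mem (m : Multiplicative ↥N) (h : (m.toAdd : M) ∉ F) :
    (bcFaceR R B hF).hom (mono R B m) = 0 :=
  (congr($(bcInr_bcFaceR R B hF) (MonoidAlgebra.single m 1))).trans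
    ((congrArg (bcInr R ↥F B).hom (Magnet.faceAlgHom_single_of_not_mem R hF m.toAdd h 1)).trans (map_zero _))

end Generic

attribute [local instance] baseAlg

section Desc

variable {M : Type} [AddCommMonoid M] {B L : CommRingCat.{u}}

/-- The ring map out of `B ⊗ R₀[M]` given on `B` and on monomials. -/
noncomputable def bcDesc (f : B ⟶ L) (χ : Multiplicative M →* L) : bcRing R0.{u} M B ⟶ L :=
  bcDescR R0.{u} (toAlgHom' f) χ

theorem bcDesc_inl (f : B ⟶ L) (χ : Multiplicative M →* L) : bcInl R0.{u} M B ≫ bcDesc f χ = f :=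
  bcDescR_inl R0.{u} (toAlgHom' f) χ

theorem bcDesc_mono (f : B ⟶ L) (χ : Multiplicative M →* L) (m : Multiplicative M) :
    (bcDesc f χ).hom (mono R0.{u} B m) = χ m :=
  bcDescR_mono R0.{u} (toAlgHom' f) χ m

theorem bc_hom_ext {f g : bcRing R0.{u} M B ⟶ L} (h₁ : bcInl R0.{u} M B ≫ f = bcInl R0.{u} M B ≫ g)
    (h₂ : ∀ m, f.hom (mono R0.{u} B m) = g.hom (mono R0.{u} B m)) : f = g := by
  refine CommRingCat.hom_ext (RingHom.ext fun z => ?_)
  obtain ⟨s, -, hz⟩ := exists_decomp R0.{u} B z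
  rw [hz, map_sum, map_sum]
  refine Finset.sum_congr rfl fun m _ => ?_
  rw [map_mul, map_mul, h₂]
  exact congrArg (· * _) congr($h₁ _)

theorem bcMap_mono {N : Type} [AddCommMonoid N] (φ : N →+ M) (n : Multiplicative N) :
    (bcMap R0.{u} B φ).hom (mono R0.{u} B n) = mono R0.{u} B (AddMonoidHom.toMultiplicative φ n) := by
  have h := bcMap_bcTerm (R := R0.{u}) (B := B) φ 1 n 1
  exact h

theorem bcMap_inl {N : Type} [AddCommMonoid N] (φ : N →+ M) (b : B) :
    (bcMap R0.{u} B φ).hom ((bcInl R0.{u} N B).hom b) = (bcInl R0.{u} M B).hom b :=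
  congr($(bcInl_bcMap R0.{u} B φ) b)

end Desc

section Filtration

variable {M : Type} [AddCommGroup M] (k : M →+ ℤ) {N : AddSubmonoid M} (B : CommRingCat.{u})

/-- The weight of a monomial. -/
def wt (m : Multiplicative ↥N) : ℕ := (k (m.toAdd : M)).toNat

variable {k}

theorem wt_mul (hk : ∀ x ∈ N, 0 ≤ k x) (m m' : Multiplicative ↥N) : wt k (m * m') = wt k m + wt k m' := by
  rw [wt, wt, wt, toAdd_mul, AddSubmonoid.coe_add, map_add,
    Int.toNat_add (hk _ m.toAdd.2) (hk _ m'.toAdd.2)]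

variable (k) (N) in
/-- The ideal spanned by the monomials of weight at least `n`. -/
noncomputable def wIdeal (n : ℕ) : Ideal (bcRing R0.{u} ↥N B) :=
  Ideal.span {z | ∃ m : Multiplicative ↥N, n ≤ wt k m ∧ mono R0.{u} B m = z}

theorem mem_wIdeal (hk : ∀ x ∈ N, 0 ≤ k x) (n : ℕ) (z : bcRing R0.{u} ↥N B) :
    z ∈ wIdeal k N B n ↔ ∀ m, wt k m < n → coord R0.{u} B z m = 0 := by
  classical
  constructor
  · intro hz
    induction hz using Submodule.span_induction with
    | mem z hz =>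
      obtain ⟨m, hm, rfl⟩ := hz
      intro l hl
      rw [coord_mono, if_neg]
      rintro rfl
      omega
    | zero => exact fun m _ => coord_zero R0.{u} B m
    | add x y _ _ hx hy => exact fun m hm => by rw [coord_add, hx m hm, hy m hm, add_zero]
    | smul r x _ hx =>
      intro l hl
      obtain ⟨s, -, hr⟩ := exists_decomp R0.{u} B r
      obtain ⟨t, ht, hx'⟩ := exists_decomp R0.{u} B x
      rw [smul_eq_mul, hr, hx', Finset.sum_mul_sum, coord_sum]
      refine Finset.sum_eq_zero fun i _ => ?_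
      rw [coord_sum]
      refine Finset.sum_eq_zero fun j _ => ?_
      rw [_root_.mul_mul_mul_comm, ← map_mul, ← mono_mul, coord_inl_mul, coord_mono]
      split_ifs with e
      · have : coord R0.{u} B x j = 0 := hx j (by rw [← e, wt_mul hk] at hl; omega)
        rw [this, mul_zero, zero_mul]
      · exact mul_zero _
  · intro h
    obtain ⟨s, -, hz⟩ := exists_decomp R0.{u} B z
    rw [hz]
    refine Submodule.sum_mem _ fun m _ => ?_
    by_cases hm : wt k m < n
    · rw [h m hm, map_zero, zero_mul]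
      exact Submodule.zero_mem _
    · exact Ideal.mul_mem_left _ _ (Ideal.subset_span ⟨m, not_lt.1 hm, rfl⟩)

theorem wIdeal_antitone {n n' : ℕ} (h : n ≤ n') : wIdeal k N B n' ≤ wIdeal k N B n :=
  Ideal.span_mono fun _ ⟨m, hm, e⟩ => ⟨m, h.trans hm, e⟩

theorem wIdeal_mul_le (hk : ∀ x ∈ N, 0 ≤ k x) (n n' : ℕ) :
    wIdeal k N B n * wIdeal k N B n' ≤ wIdeal k N B (n + n') := by
  rw [wIdeal, wIdeal, Ideal.span_mul_span', Ideal.span_le]
  rintro _ ⟨_, ⟨m, hm, rfl⟩, _, ⟨m', hm', rfl⟩, rfl⟩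
  exact Ideal.subset_span ⟨m * m', by rw [wt_mul hk]; omega, mono_mul R0.{u} B m m'⟩

theorem wIdeal_pow_le (hk : ∀ x ∈ N, 0 ≤ k x) (n : ℕ) : wIdeal k N B 1 ^ n ≤ wIdeal k N B n := by
  induction n with
  | zero =>
    intro z _
    exact (mem_wIdeal B hk 0 z).2 fun m hm => absurd hm (Nat.not_lt_zero _)
  | succ n ih =>
    rw [pow_succ]
    exact (Ideal.mul_mono_left ih).trans (wIdeal_mul_le B hk n 1)

theorem eq_zero_of_forall_mem (hk : ∀ x ∈ N, 0 ≤ k x) {z : bcRing R0.{u} ↥N B}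
    (h : ∀ n, z ∈ wIdeal k N B n) : z = 0 :=
  coord_ext R0.{u} B fun m => by
    rw [coord_zero]
    exact (mem_wIdeal B hk _ z).1 (h (wt k m + 1)) m (Nat.lt_succ_self _)

end Filtration

section Face

variable {M : Type} [AddCommGroup M] {N F : AddSubmonoid M} (hF : Magnet.IsFace N F) (B : CommRingCat.{u})

/-- The face projection `B ⊗ R₀[N] → B ⊗ R₀[F]`. -/
noncomputable def bcFace : bcRing R0.{u} ↥N B ⟶ bcRing R0.{u} ↥F B := bcFaceR R0.{u} B hF

theorem bcInl_bcFace : bcInl R0.{u} ↥N B ≫ bcFace hF B = bcInl R0.{u} ↥F B := bcInl_bcFaceR R0.{u} B hF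

theorem bcFace_mono_of_mem (m : Multiplicative ↥N) (h : (m.toAdd : M) ∈ F) :
    (bcFace hF B).hom (mono R0.{u} B m) = mono R0.{u} B (Multiplicative.ofAdd (⟨m.toAdd, h⟩ : ↥F)) :=
  bcFaceR_mono_of_mem R0.{u} B hF m h

theorem bcFace_mono_of_not_mem (m : Multiplicative ↥N) (h : (m.toAdd : M) ∉ F) :
    (bcFace hF B).hom (mono R0.{u} B m) = 0 :=
  bcFaceR_mono_of_not_mem R0.{u} B hF m h

theorem bcMap_bcFace : bcMap R0.{u} B (AddSubmonoid.inclusion hF.le) ≫ bcFace hF B = 𝟙 _ := by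
  refine bc_hom_ext ?_ fun m => ?_
  · rw [← Category.assoc, bcInl_bcMap, bcInl_bcFace, Category.comp_id]
  · rw [CommRingCat.comp_apply, bcMap_mono]
    exact (bcFace_mono_of_mem hF B _ m.toAdd.2).trans rfl

variable {k : M →+ ℤ} (hk : ∀ x ∈ N, 0 ≤ k x) (hkF : ∀ x ∈ N, k x = 0 ↔ x ∈ F)

include hk hkF in
theorem sub_retr_mem (z : bcRing R0.{u} ↥N B) :
    z - (bcMap R0.{u} B (AddSubmonoid.inclusion hF.le)).hom ((bcFace hF B).hom z) ∈ wIdeal k N B 1 := by
  obtain ⟨s, -, hz⟩ := exists_decomp R0.{u} B z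
  rw [hz, map_sum, map_sum, ← Finset.sum_sub_distrib]
  refine Submodule.sum_mem _ fun m _ => ?_
  rw [map_mul, map_mul, show (bcFace hF B).hom ((bcInl R0.{u} ↥N B).hom (coord R0.{u} B z m)) =
      (bcInl R0.{u} ↥F B).hom (coord R0.{u} B z m) from congr($(bcInl_bcFace hF B) _), bcMap_inl, ← mul_sub]
  refine Ideal.mul_mem_left _ _ ?_
  by_cases hm : (m.toAdd : M) ∈ F
  · rw [bcFace_mono_of_mem hF B m hm, bcMap_mono,
      show AddMonoidHom.toMultiplicative (AddSubmonoid.inclusion hF.le) (Multiplicative.ofAdd (⟨m.toAdd, hm⟩ : ↥F)) = m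
        from rfl, sub_self]
    exact Submodule.zero_mem _
  · rw [bcFace_mono_of_not_mem hF B m hm, map_zero, sub_zero]
    refine Ideal.subset_span ⟨m, ?_, rfl⟩
    have h0 : k (m.toAdd : M) ≠ 0 := fun h => hm ((hkF _ m.toAdd.2).1 h)
    have h1 := hk _ m.toAdd.2
    rw [wt]
    omega

include hk hkF in
theorem ker_bcFace : RingHom.ker (bcFace hF B).hom = wIdeal k N B 1 := by
  refine le_antisymm (fun z hz => ?_) (Ideal.span_le.2 ?_)
  · have := sub_retr_mem hF B hk hkF z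
    rwa [RingHom.mem_ker.1 hz, map_zero, sub_zero] at this
  · rintro _ ⟨m, hm, rfl⟩
    refine bcFace_mono_of_not_mem hF B m fun h => ?_
    rw [wt, (hkF _ m.toAdd.2).2 h] at hm
    simp at hm

include hk hkF in
/-- Elements killed in all thickenings of the face are killed on suitable basic opens. -/
theorem eq_zero_away (c₁ z : bcRing R0.{u} ↥N B)
    (h : ∀ n, ∃ i, (c₁ * (bcMap R0.{u} B (AddSubmonoid.inclusion hF.le)).hom ((bcFace hF B).hom c₁)) ^ i * z ∈
      wIdeal k N B n) :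
    ∃ i, (c₁ * (bcMap R0.{u} B (AddSubmonoid.inclusion hF.le)).hom ((bcFace hF B).hom c₁)) ^ i * z = 0 := by
  classical
  set a := (bcFace hF B).hom c₁ with ha
  set c0 := (bcMap R0.{u} B (AddSubmonoid.inclusion hF.le)).hom a with hc0
  obtain ⟨t, ht, hzt⟩ := exists_decomp R0.{u} B z
  let n := t.sup (wt k) + 1
  obtain ⟨i, hi⟩ := h n
  have hd : c₁ - c0 ∈ wIdeal k N B 1 := sub_retr_mem hF B hk hkF c₁
  let J : Ideal (bcRing R0.{u} ↥N B) := (wIdeal k N B n).colon ({z} : Set (bcRing R0.{u} ↥N B))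
  have hJ : ∀ x, x ∈ J ↔ x * z ∈ wIdeal k N B n := fun x => by
    simp [J, Submodule.mem_colon_singleton]
  -- a power of `c0` multiplies `z` into the ideal
  have hc1 : c₁ * c0 ∈ J.radical := ⟨i, (hJ _).2 hi⟩
  have hd1 : c₁ - c0 ∈ J.radical :=
    ⟨n, (hJ _).2 (Ideal.mul_mem_right _ _ (wIdeal_pow_le B hk n (Ideal.pow_mem_pow hd n)))⟩
  have hc2 : c0 * c0 ∈ J.radical := by
    have := J.radical.sub_mem hc1 (J.radical.mul_mem_right c0 hd1)
    rwa [show c₁ * c0 - (c₁ - c0) * c0 = c0 * c0 by ring] at this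
  obtain ⟨j, hj⟩ := hc2
  have hj' := (hJ _).1 hj
  have hzero : (c0 * c0) ^ j * z = 0 := by
    refine coord_ext R0.{u} B fun l => ?_
    rw [coord_zero]
    by_cases hl : wt k l < n
    · exact (mem_wIdeal B hk n _).1 hj' l hl
    rw [hc0, ← map_mul, ← map_pow]
    obtain ⟨s, -, hs⟩ := exists_decomp R0.{u} B ((a * a) ^ j)
    rw [hs, hzt, map_sum, Finset.sum_mul_sum, coord_sum]
    refine Finset.sum_eq_zero fun p _ => ?_
    rw [coord_sum]
    refine Finset.sum_eq_zero fun q hq => ?_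
    rw [map_mul, bcMap_inl, bcMap_mono, _root_.mul_mul_mul_comm, ← map_mul, ← mono_mul, coord_inl_mul, coord_mono,
      if_neg, mul_zero]
    intro e
    have h0 : wt k (AddMonoidHom.toMultiplicative (AddSubmonoid.inclusion hF.le) p) = 0 := by
      have hz0 : k ((p.toAdd : ↥F) : M) = 0 := (hkF _ (hF.le p.toAdd.2)).2 p.toAdd.2
      change (k ((p.toAdd : ↥F) : M)).toNat = 0
      rw [hz0]
      rfl
    have h1 : wt k q ≤ t.sup (wt k) := Finset.le_sup hq
    rw [← e, wt_mul hk, h0] at hl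
    omega
  refine ⟨2 * j, ?_⟩
  calc (c₁ * c0) ^ (2 * j) * z = (c₁ * c₁) ^ j * ((c0 * c0) ^ j * z) := by ring
    _ = 0 := by rw [hzero, mul_zero]

end Face

section Scheme

variable {S : Scheme.{u}} {M : Type} [AddCommGroup M]

theorem prodIso_face {N F : AddSubmonoid M} (hF : Magnet.IsFace N F) (B : CommRingCat.{u}) (t : Spec B ⟶ S) :
    (prodIso (M := ↥F) B t).hom ≫ (Magnet.AMonS.faceMap S hF ▷ specOver B t).left =
      Spec.map (bcFace hF B) ≫ (prodIso (M := ↥N) B t).hom := by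
  refine (isPullback_AMonS_spec ↥N B t).hom_ext ?_ ?_
  · rw [Category.assoc, Category.assoc, ← Over.comp_left, whiskerRight_snd, prodIso_snd, prodIso_snd,
      ← Spec.map_comp, bcInl_bcFace]
  · rw [Category.assoc, Category.assoc, (FacePushout.isPullback_faceMap_whiskerRight hF (specOver B t)).w,
      prodIso_fst, ← Category.assoc, prodIso_fst]
    refine (Spec.map_comp _ _).symm.trans ((congrArg Spec.map ?_).trans (Spec.map_comp _ _))
    exact (bcInr_bcFaceR R0.{u} B hF).symm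

variable (N : AddSubmonoid M) (B : CommRingCat.{u}) (t : Spec B ⟶ S)

/-- The action of `A(M)_S` on `A(N)_S × Spec B`. -/
noncomputable def wAct : Magnet.MonAct (Magnet.AMonS S M) (dOver (M := ↥N) B t) :=
  transportAct (dIso (M := ↥N) B t)
    ((Magnet.subAct S M N).prod (Magnet.MonAct.trivial (Magnet.AMonS S M) (specOver B t)))

theorem dIso_wAct_dProj :
    ((dIso (M := M) (bcRing R0.{u} ↥N B) (Spec.map (bcInl R0.{u} ↥N B) ≫ t)).hom ≫ (wAct N B t).act) ≫
      dProj (M := ↥N) B t = dProj (M := M) _ _ ≫ dProj (M := ↥N) B t := by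
  rw [← lift_dCoord_dProj_comp, wAct, transportAct_act, lift_whiskerLeft_assoc, Category.assoc, Category.assoc,
    ← lift_dCoord_dProj B t, comp_lift, Magnet.MonAct.lift_prod_act_assoc]
  rw [show ∀ {Z : Over S} (q : Z ⟶ Magnet.AMonS S ↥N ⊗ specOver B t),
    q ≫ (dIso (M := ↥N) B t).inv ≫ dProj B t = q ≫ snd _ _ from fun q =>
      congrArg (q ≫ ·) (Iso.inv_hom_id_assoc _ _)]
  rw [lift_snd, Magnet.MonAct.lift_trivial_act]

theorem dIso_wAct_dCoord :
    ((dIso (M := M) (bcRing R0.{u} ↥N B) (Spec.map (bcInl R0.{u} ↥N B) ≫ t)).hom ≫ (wAct N B t).act) ≫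
      dCoord (M := ↥N) B t =
      (dCoord (M := M) _ _ ≫ Magnet.AMonS.map S N.subtype) * (dProj (M := M) _ _ ≫ dCoord (M := ↥N) B t) := by
  rw [← lift_dCoord_dProj_comp, wAct, transportAct_act, lift_whiskerLeft_assoc, Category.assoc, Category.assoc,
    ← lift_dCoord_dProj B t, comp_lift, Magnet.MonAct.lift_prod_act_assoc]
  rw [show ∀ {Z : Over S} (q : Z ⟶ Magnet.AMonS S ↥N ⊗ specOver B t),
    q ≫ (dIso (M := ↥N) B t).inv ≫ dCoord B t = q ≫ fst _ _ from fun q =>
      congrArg (q ≫ ·) (Iso.inv_hom_id_assoc _ _)]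
  rw [lift_fst, Magnet.subAct, Magnet.MonAct.lift_restrict_act, Magnet.MonAct.lift_regular_act]

theorem inl_coact_wAct :
    bcInl R0.{u} ↥N B ≫ coact (wAct N B t) = bcInl R0.{u} ↥N B ≫ bcInl R0.{u} M (bcRing R0.{u} ↥N B) := by
  apply Spec.map_injective
  rw [Spec.map_comp, Spec.map_comp, map_coact, ← dProj_left (M := M) (bcRing R0.{u} ↥N B) (Spec.map (bcInl R0.{u} ↥N B) ≫ t)]
  refine (congrArg (_ ≫ ·) (dProj_left (M := ↥N) B t).symm).trans ?_
  refine (congrArg CommaMorphism.left (dIso_wAct_dProj N B t)).trans ?_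
  exact congrArg (_ ≫ ·) (dProj_left (M := ↥N) B t)

theorem coact_wAct_mono (m : Multiplicative ↥N) :
    (coact (wAct N B t)).hom (mono R0.{u} B m) =
      mono R0.{u} (bcRing R0.{u} ↥N B) (Multiplicative.ofAdd (m.toAdd : M)) *
        (bcInl R0.{u} M (bcRing R0.{u} ↥N B)).hom (mono R0.{u} B m) := by
  have h := monFn_comp ((dIso (M := M) (bcRing R0.{u} ↥N B) (Spec.map (bcInl R0.{u} ↥N B) ≫ t)).hom ≫ (wAct N B t).act)
    (dCoord (M := ↥N) B t) m.toAdd
  rw [dIso_wAct_dCoord, monFn_mul, monFn_map, monFn_comp, monFn_dCoord, monFn_dCoord, dProj_left, ← map_coact] at h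
  apply (Scheme.ΓSpecIso (bcRing R0.{u} M (bcRing R0.{u} ↥N B))).commRingCatIsoToRingEquiv.symm.injective
  change (Scheme.ΓSpecIso _).inv.hom _ = (Scheme.ΓSpecIso _).inv.hom _
  rw [map_mul]
  have e1 := congr($(Scheme.ΓSpecIso_inv_naturality (coact (wAct N B t))) (mono R0.{u} B m))
  have e2 := congr($(Scheme.ΓSpecIso_inv_naturality (bcInl R0.{u} M (bcRing R0.{u} ↥N B))) (mono R0.{u} B m))
  refine e1.trans (h.symm.trans ?_)
  erw [e2]
  rfl

end Scheme

end Groth.Agent.Lib.GrpSch.GradedW
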