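import Groth.Agent.Lib.GrpSch.SemiTop
import Groth.Agent.Lib.Hopf.Points
import Mathlib.RingTheory.HopfAlgebra.Quotient
import Mathlib.RingTheory.HopfAlgebra.Convolution
import Mathlib.RingTheory.Spectrum.Prime.Noetherian

/-!
The Zariski topology on the rational points of a Hopf algebra.
-/

namespace Groth.Agent.Lib.GrpSch.HopfPts

open TensorProduct WithConv Set Topology CoalgebraStruct

universe u v

variable (k : Type u) [Field k] (A : Type v) [CommRing A] [HopfAlgebra k A]

/-- The rational points. -/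
abbrev Pts := WithConv (A →ₐ[k] k)

variable {k A}

/-- Evaluation of a function at a point. -/
abbrev ev (a : A) (g : Pts k A) : k := g.ofConv a

/-- The prime ideal of a point. -/
def pt (g : Pts k A) : PrimeSpectrum A := ⟨RingHom.ker g.ofConv, RingHom.ker_isPrime _⟩

/-- The Zariski topology on the points. -/
noncomputable instance topPts : TopologicalSpace (Pts k A) := TopologicalSpace.induced pt inferInstance

theorem isInducing_pt : IsInducing (pt (k := k) (A := A)) := ⟨rfl⟩

theorem mem_zeroLocus {g : Pts k A} {s : Set A} : pt g ∈ PrimeSpectrum.zeroLocus s ↔ ∀ a ∈ s, ev a g = 0 :=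
  Iff.rfl

theorem isClosed_V (s : Set A) : IsClosed {g : Pts k A | ∀ a ∈ s, ev a g = 0} :=
  (PrimeSpectrum.isClosed_zeroLocus s).preimage isInducing_pt.continuous

theorem exists_eq_V {S : Set (Pts k A)} (hS : IsClosed S) :
    ∃ s : Set A, S = {g : Pts k A | ∀ a ∈ s, ev a g = 0} := by
  obtain ⟨t, ht, rfl⟩ := isInducing_pt.isClosed_iff.1 hS
  obtain ⟨s, rfl⟩ := (PrimeSpectrum.isClosed_iff_zeroLocus t).1 ht
  exact ⟨s, rfl⟩

theorem continuous_of_comp {φ : Pts k A → Pts k A} (r : A →ₐ[k] A) (h : ∀ g a, ev a (φ g) = ev (r a) g) :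
    Continuous φ := by
  rw [isInducing_pt.continuous_iff]
  have e : pt ∘ φ = PrimeSpectrum.comap r.toRingHom ∘ pt := by
    funext g
    ext a
    show ev a (φ g) = 0 ↔ ev (r a) g = 0
    rw [h]
  rw [e]
  exact (PrimeSpectrum.continuous_comap _).comp isInducing_pt.continuous

/-- Left translation of functions: `a ↦ a(g · -)`. -/
noncomputable def lt (g : Pts k A) : A →ₐ[k] A :=
  (Algebra.TensorProduct.lid k A).toAlgHom.comp
    ((Algebra.TensorProduct.map g.ofConv (AlgHom.id k A)).comp (Bialgebra.comulAlgHom k A))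

/-- Right translation of functions: `a ↦ a(- · g)`. -/
noncomputable def rt (g : Pts k A) : A →ₐ[k] A :=
  (Algebra.TensorProduct.rid k k A).toAlgHom.comp
    ((Algebra.TensorProduct.map (AlgHom.id k A) g.ofConv).comp (Bialgebra.comulAlgHom k A))

theorem ev_mul (g h : Pts k A) (a : A) :
    ev a (g * h) = Algebra.TensorProduct.lift g.ofConv h.ofConv (fun _ _ => Commute.all _ _) (comul (R := k) a) :=
  AlgHom.convMul_apply g h a

theorem ev_lt (g h : Pts k A) (a : A) : ev (lt g a) h = ev a (g * h) := by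
  rw [ev_mul]
  show h.ofConv (Algebra.TensorProduct.lid k A (Algebra.TensorProduct.map g.ofConv (AlgHom.id k A) (comul a))) = _
  induction comul (R := k) a using TensorProduct.induction_on with
  | zero => simp
  | add x y hx hy => simp only [map_add, hx, hy]
  | tmul x y => simp

theorem ev_rt (g h : Pts k A) (a : A) : ev (rt g a) h = ev a (h * g) := by
  rw [ev_mul]
  show h.ofConv (Algebra.TensorProduct.rid k k A (Algebra.TensorProduct.map (AlgHom.id k A) g.ofConv (comul a))) = _
  induction comul (R := k) a using TensorProduct.induction_on with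
  | zero => simp
  | add x y hx hy => simp only [map_add, hx, hy]
  | tmul x y => simp [mul_comm]

theorem ev_inv (g : Pts k A) (a : A) : ev a g⁻¹ = ev (HopfAlgebra.antipodeAlgHom k A a) g := rfl

theorem ev_one (a : A) : ev a (1 : Pts k A) = counit (R := k) a := rfl

theorem isSemiTop : SemiTop.IsSemiTop (Pts k A) where
  left g := continuous_of_comp (lt g) fun h a => (ev_lt g h a).symm
  right g := continuous_of_comp (rt g) fun h a => (ev_rt g h a).symm
  inv := continuous_of_comp (HopfAlgebra.antipodeAlgHom k A) fun g a => ev_inv g a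

variable [Algebra.FiniteType k A]

instance noetherianPts : TopologicalSpace.NoetherianSpace (Pts k A) := by
  have : IsNoetherianRing A := Algebra.FiniteType.isNoetherianRing k A
  exact isInducing_pt.noetherianSpace

/-- Rational points are dense in the spectrum. -/
theorem dense_range_pt [IsAlgClosed k] : Dense (Set.range (pt (k := k) (A := A))) := by
  have : IsJacobsonRing A := isJacobsonRing_of_finiteType (A := k)
  rw [dense_iff_inter_open]
  intro U hU ⟨p, hp⟩
  obtain ⟨_, ⟨f, rfl⟩, hpf, hfU⟩ := PrimeSpectrum.isTopologicalBasis_basic_opens.exists_subset_of_mem_open hp hU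
  have hf : f ∉ p.asIdeal.jacobson := by
    rw [IsJacobsonRing.out ‹IsJacobsonRing A› p.isPrime.isRadical]
    exact hpf
  simp only [Ideal.jacobson, Ideal.mem_sInf, not_forall] at hf
  obtain ⟨m, ⟨hpm, hm⟩, hfm⟩ := hf
  have := hm
  obtain ⟨g, hg⟩ := Lib.Hopf.Points.exists_point_of_isMaximal (k := k) m
  refine ⟨pt (toConv g), hfU ?_, ⟨_, rfl⟩⟩
  show f ∉ RingHom.ker g
  rw [hg]
  exact hfm

omit [Algebra.FiniteType k A] in
/-- The vanishing ideal of a set of points. -/
noncomputable def Z (S : Set (Pts k A)) : Ideal A := ⨅ g ∈ S, RingHom.ker g.ofConv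

omit [Algebra.FiniteType k A] in
theorem mem_Z {S : Set (Pts k A)} {a : A} : a ∈ Z S ↔ ∀ g ∈ S, ev a g = 0 := by
  simp [Z, Submodule.mem_iInf, RingHom.mem_ker]

omit [Algebra.FiniteType k A] in
theorem Z_anti {S S' : Set (Pts k A)} (h : S ⊆ S') : Z S' ≤ Z S :=
  fun a ha => mem_Z.2 fun g hg => mem_Z.1 ha g (h hg)

omit [Algebra.FiniteType k A] in
theorem mem_of_Z {S : Set (Pts k A)} (hS : IsClosed S) {g : Pts k A} (h : ∀ a ∈ Z S, ev a g = 0) : g ∈ S := by
  obtain ⟨s, rfl⟩ := exists_eq_V hS
  exact fun a ha => h a (mem_Z.2 fun g' hg' => hg' a ha)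

omit [Algebra.FiniteType k A] in
theorem Z_isPrime {S : Set (Pts k A)} (hS : IsIrreducible S) : (Z S).IsPrime := by
  obtain ⟨g₀, hg₀⟩ := hS.1
  refine ⟨fun h => ?_, fun {a b} hab => ?_⟩
  · have h1 := mem_Z.1 (h ▸ Submodule.mem_top : (1 : A) ∈ Z S) g₀ hg₀
    simp [ev] at h1
  · have hcl : ∀ c : A, IsClosed {g : Pts k A | ev c g = 0} := fun c => by
      simpa using isClosed_V (k := k) ({c} : Set A)
    rcases isPreirreducible_iff_isClosed_union_isClosed.1 hS.2 _ _ (hcl a) (hcl b) (fun g hg => by
      have := mem_Z.1 hab g hg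
      simpa [ev] using this) with h | h
    · exact Or.inl (mem_Z.2 h)
    · exact Or.inr (mem_Z.2 h)

end Groth.Agent.Lib.GrpSch.HopfPts
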