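
import Groth.Prelude.Def_AutSch
import Groth.Prelude.Def_Omega3
import Mathlib.AlgebraicGeometry.Morphisms.OpenImmersion
import Mathlib.AlgebraicGeometry.Morphisms.Flat
import Mathlib.AlgebraicGeometry.Noetherian
import Mathlib.Algebra.DualNumber
import Mathlib.LinearAlgebra.Dual.Lemmas
import Mathlib.RingTheory.Spectrum.Prime.Homeomorph

/-!
# Infinitesimal automorphisms

* `isOpenImmersion_section`: a rational point without tangent vectors is an open immersion.
* `Thick`: morphisms `X ⊗ Spec k[ε] ⟶ X` extending the identity are the derivations of `O_X`, for a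
  Noetherian `k`-scheme `X`.
-/

set_option autoImplicit false
universe u

open CategoryTheory CategoryTheory.Limits MonoidalCategory CartesianMonoidalCategory MonObj AlgebraicGeometry
open TopologicalSpace Opposite TrivSqZeroExt

noncomputable section

namespace Groth.Agent.Lib.GrpSch.InfAut

variable (k : Type u) [Field k]

/-- `Spec k[ε]`. -/
def dual : Over (Spec (CommRingCat.of k)) :=
  Over.mk (Spec.map (CommRingCat.ofHom (algebraMap k (DualNumber k))))

/-- The closed point of `Spec k[ε]`. -/
def zero : 𝟙_ (Over (Spec (CommRingCat.of k))) ⟶ dual k :=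
  Over.homMk (Spec.map (CommRingCat.ofHom (TrivSqZeroExt.fstHom k k k).toRingHom)) (by
    change Spec.map _ ≫ Spec.map _ = 𝟙 _
    rw [← Spec.map_comp, ← CommRingCat.ofHom_comp]
    erw [← Spec.map_id]
    congr 1)

instance surjective_zero : Surjective (zero k).left :=
  ⟨(PrimeSpectrum.isHomeomorph_comap (TrivSqZeroExt.fstHom k k k).toRingHom
    (fun x => ⟨1, one_pos, ⟨TrivSqZeroExt.inl x, by simp⟩⟩) (fun x (hx : x.fst = 0) =>
      (⟨2, by ext <;> simp [pow_two, hx]⟩ : IsNilpotent x))).surjective⟩

variable {k}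

/-- A rational point without tangent vectors is an open immersion. -/
theorem isOpenImmersion_section {G : Over (Spec (CommRingCat.of k))} [LocallyOfFiniteType G.hom]
    (e : 𝟙_ (Over (Spec (CommRingCat.of k))) ⟶ G)
    (h : ∀ v : dual k ⟶ G, zero k ≫ v = e → v = toUnit _ ≫ e) : IsOpenImmersion e.left := by
  obtain ⟨_, ⟨U, hU, rfl⟩, hxU, -⟩ := G.left.isBasis_affineOpens.exists_subset_of_mem_open
    (Set.mem_univ (e.left (IsLocalRing.closedPoint k))) isOpen_univ
  have hU : IsAffineOpen U := hU
  let l := IsOpenImmersion.lift hU.fromSpec e.left (by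
    rintro _ ⟨t, rfl⟩
    rw [hU.range_fromSpec]
    exact Subsingleton.elim (α := Spec (CommRingCat.of k)) (IsLocalRing.closedPoint k) t ▸ hxU)
  have hl : l ≫ hU.fromSpec = e.left := IsOpenImmersion.lift_fac _ _ _
  obtain ⟨φ, hφ⟩ := Spec.map_surjective l
  obtain ⟨θ, hθ⟩ := Spec.map_surjective (hU.fromSpec ≫ G.hom)
  have hft : θ.hom.FiniteType := by
    rw [← HasRingHomProperty.Spec_iff (P := @LocallyOfFiniteType), hθ]
    infer_instance
  letI := θ.hom.toAlgebra
  haveI : Algebra.FiniteType k Γ(G.left, U) := hft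
  have hc : θ ≫ φ = 𝟙 _ := Spec.map_injective (by
    rw [Spec.map_comp, hφ, hθ, Spec.map_id, ← Category.assoc, hl]
    exact Over.w e)
  have hcφ : ∀ a : k, φ.hom (algebraMap k Γ(G.left, U) a) = a := fun a => ConcreteCategory.congr_hom hc a
  let ψ : Γ(G.left, U) →ₐ[k] k := { φ.hom with commutes' := hcφ }
  haveI : IsNoetherianRing Γ(G.left, U) := Algebra.FiniteType.isNoetherianRing k _
  let m := RingHom.ker φ.hom
  suffices hm : m * m = m by
    obtain ⟨c, hc1, hc2⟩ := (Ideal.isIdempotentElem_iff_of_fg m (IsNoetherian.noetherian m)).1 hm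
    have := (isOpenImmersion_SpecMap_iff_of_surjective φ fun x => ⟨_, hcφ x⟩).2 ⟨c, hc1, hc2⟩
    rw [← hl, ← hφ]
    infer_instance
  by_contra hne
  obtain ⟨b₀, hb₀, hb₀'⟩ := SetLike.exists_of_lt (lt_of_le_of_ne Ideal.mul_le_right hne)
  let W : Submodule k Γ(G.left, U) := (m * m).restrictScalars k ⊔ Submodule.span k {1}
  have hb₁ : b₀ ∉ W := fun hW => hb₀' (by
    obtain ⟨a, ha, b, hb, rfl⟩ := Submodule.mem_sup.1 hW
    obtain ⟨c, rfl⟩ := Submodule.mem_span_singleton.1 hb
    have h0 : φ.hom (a + c • 1) = 0 := hb₀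
    rw [map_add, show φ.hom a = 0 from Ideal.mul_le_right ha, zero_add, Algebra.smul_def, _root_.mul_one, hcφ] at h0
    rw [h0, zero_smul, add_zero]
    exact ha)
  obtain ⟨d, hd, hdW⟩ := Submodule.exists_dual_map_eq_bot_of_notMem hb₁ inferInstance
  have hdW' : ∀ a ∈ W, d a = 0 := fun a ha =>
    (Submodule.mem_bot k).1 (hdW ▸ Submodule.mem_map_of_mem ha)
  have hd1 : d 1 = 0 := hdW' 1 (Submodule.mem_sup_right (Submodule.mem_span_singleton_self 1))
  have hdmul : ∀ a b, d (a * b) = ψ a * d b + ψ b * d a := fun a b => by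
    have ha : a - algebraMap k _ (ψ a) ∈ m := by
      change φ.hom _ = 0
      rw [map_sub, hcφ]; exact sub_self _
    have hb : b - algebraMap k _ (ψ b) ∈ m := by
      change φ.hom _ = 0
      rw [map_sub, hcφ]; exact sub_self _
    have h0 := hdW' _ (Submodule.mem_sup_left (T := Submodule.span k {1})
      (show (a - algebraMap k _ (ψ a)) * (b - algebraMap k _ (ψ b)) ∈ (m * m).restrictScalars k from
        Ideal.mul_mem_mul ha hb))
    have e1 : (a - algebraMap k _ (ψ a)) * (b - algebraMap k _ (ψ b)) =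
        a * b - ψ a • b - ψ b • a + (ψ a * ψ b) • (1 : Γ(G.left, U)) := by
      simp only [Algebra.smul_def, map_mul]; ring
    rw [e1, map_add, map_sub, map_sub, map_smul, map_smul, map_smul, hd1, smul_zero, add_zero, smul_eq_mul,
      smul_eq_mul] at h0
    linear_combination h0
  let π₁ : Γ(G.left, U) →+* DualNumber k :=
    { toFun := fun b => inl (ψ b) + inr (d b)
      map_one' := by ext <;> simp [hd1]
      map_mul' := fun a b => by
        ext
        · simp
        · simp [hdmul]; ring
      map_zero' := by ext <;> simp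
      map_add' := fun a b => by ext <;> simp }
  let v : dual k ⟶ G := Over.homMk (Spec.map (CommRingCat.ofHom π₁) ≫ hU.fromSpec) (by
    change (Spec.map (CommRingCat.ofHom π₁) ≫ hU.fromSpec) ≫ G.hom = _
    rw [Category.assoc, ← hθ]
    erw [← Spec.map_comp]
    change _ = Spec.map (CommRingCat.ofHom (algebraMap k (DualNumber k)))
    congr 1
    ext a : 2
    change inl (ψ (algebraMap k _ a)) + inr (d (algebraMap k _ a)) = algebraMap k (DualNumber k) a
    rw [show ψ (algebraMap k _ a) = a from hcφ a, Algebra.algebraMap_eq_smul_one a, map_smul, hd1, smul_zero]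
    simp [TrivSqZeroExt.algebraMap_eq_inl])
  have hv := congrArg Over.Hom.left (h v (by
    apply Over.OverMorphism.ext
    change Spec.map _ ≫ Spec.map _ ≫ hU.fromSpec = e.left
    rw [← hl, ← hφ, ← Spec.map_comp_assoc]
    congr 2
    ext b : 2
    change (inl (ψ b) + inr (d b) : DualNumber k).fst = ψ b
    simp))
  change Spec.map (CommRingCat.ofHom π₁) ≫ hU.fromSpec =
    Spec.map (CommRingCat.ofHom (algebraMap k (DualNumber k))) ≫ e.left at hv
  rw [← hl, ← hφ, ← Category.assoc, cancel_mono, ← Spec.map_comp] at hv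
  have h2 := congrArg TrivSqZeroExt.snd (ConcreteCategory.congr_hom (Spec.map_injective hv) b₀)
  exact hd (by simpa [π₁, TrivSqZeroExt.algebraMap_eq_inl] using h2)

/-- A point of a group with open unit which is trivial at the closed point is trivial. -/
theorem eq_one_of_isOpenImmersion {G : Over (Spec (CommRingCat.of k))}
    (e : 𝟙_ (Over (Spec (CommRingCat.of k))) ⟶ G) [IsOpenImmersion e.left] (v : dual k ⟶ G)
    (hv : zero k ≫ v = e) : v = toUnit _ ≫ e := by
  have hr : Set.range v.left ⊆ Set.range e.left := by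
    rintro _ ⟨t, rfl⟩
    obtain ⟨y, rfl⟩ := (zero k).left.surjective t
    exact ⟨y, by rw [← hv, Over.comp_left, Scheme.Hom.comp_apply]⟩
  have h1 := IsOpenImmersion.lift_fac e.left v.left hr
  have h2 : IsOpenImmersion.lift e.left v.left hr = (toUnit (dual k)).left := by
    have h3 := congrArg (· ≫ G.hom) h1
    simp only [Category.assoc, Over.w] at h3
    change IsOpenImmersion.lift e.left v.left hr = (dual k).hom
    exact (Category.comp_id _).symm.trans h3
  apply Over.OverMorphism.ext
  rw [Over.comp_left, ← h2, h1]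

namespace Thick

variable {X : Over (Spec (CommRingCat.of k))}

/-- `X ⊗ Spec k[ε]`. -/
abbrev P (X : Over (Spec (CommRingCat.of k))) : Scheme.{u} := (X ⊗ dual k).left

/-- The projection. -/
def π (X : Over (Spec (CommRingCat.of k))) : P X ⟶ X.left := (fst X (dual k)).left

/-- The closed subscheme `ε = 0`. -/
abbrev sec (X : Over (Spec (CommRingCat.of k))) : X ⟶ X ⊗ dual k := lift (𝟙 X) (toUnit X ≫ zero k)

theorem sec_π : (sec X).left ≫ π X = 𝟙 _ := by
  unfold π
  change (sec X ≫ fst _ _).left = _
  rw [lift_fst]; rfl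

theorem isPullback_π : IsPullback (π X) (snd X (dual k)).left X.hom (dual k).hom :=
  IsPullback.of_hasPullback X.hom (dual k).hom

instance surjective_sec : Surjective (sec X).left := by
  have h : IsPullback (sec X).left X.hom (snd X (dual k)).left (zero k).left := by
    refine IsPullback.of_right ?_ ?_ (isPullback_π (X := X)).flip.flip |>.flip.flip
    · haveI : IsIso (𝟙_ (Over (Spec (CommRingCat.of k)))).hom := inferInstanceAs (IsIso (𝟙 (Spec (CommRingCat.of k))))
      rw [sec_π, Over.w]
      exact IsPullback.of_horiz_isIso ⟨by simp⟩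
    · change (sec X ≫ snd _ _).left = _
      rw [lift_snd, Over.comp_left]
      rfl
  exact MorphismProperty.of_isPullback (P := @Surjective) h.flip inferInstance

theorem sec_surj (y : P X) : (sec X).left (π X y) = y := by
  obtain ⟨x, rfl⟩ := (sec X).left.surjective y
  rw [show π X ((sec X).left x) = x from by rw [← Scheme.Hom.comp_apply, sec_π]; rfl]

/-- A morphism extending the identity is the projection on points. -/
theorem base_eq {φ : P X ⟶ X.left} (hφ : (sec X).left ≫ φ = 𝟙 _) (y : P X) : φ y = π X y := by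
  conv_lhs => rw [← sec_surj y, ← Scheme.Hom.comp_apply, hφ]
  rfl

theorem preimage_le {φ : P X ⟶ X.left} (hφ : (sec X).left ≫ φ = 𝟙 _) (U : X.left.Opens) :
    π X ⁻¹ᵁ U ≤ φ ⁻¹ᵁ U := fun y hy => by
  change φ y ∈ U
  rw [base_eq hφ y]
  exact hy

theorem sec_le (U : X.left.Opens) : U ≤ (sec X).left ⁻¹ᵁ (π X ⁻¹ᵁ U) := by
  rw [← Scheme.Hom.comp_preimage, sec_π]; exact le_rfl

/-- The scalars `k[ε]` in the sections over `π⁻¹ U`. -/
def tHom (U : X.left.Opens) : DualNumber k →+* Γ(P X, π X ⁻¹ᵁ U) :=
  ((snd X (dual k)).left.appLE ⊤ (π X ⁻¹ᵁ U) le_top).hom.comp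
    (Scheme.ΓSpecIso (CommRingCat.of (DualNumber k))).inv.hom

/-- The scalars `k` in the sections over `U`. -/
def scal (U : X.left.Opens) : k →+* Γ(X.left, U) :=
  (X.hom.appLE ⊤ U le_top).hom.comp (Scheme.ΓSpecIso (CommRingCat.of k)).inv.hom

theorem sec_tHom (U : X.left.Opens) (c : DualNumber k) :
    (sec X).left.appLE (π X ⁻¹ᵁ U) U (by rw [← Scheme.Hom.comp_preimage, sec_π]; exact le_rfl) (tHom U c) =
      scal U (TrivSqZeroExt.fst c) := by
  have hsnd : (sec X).left ≫ (snd X (dual k)).left = X.hom ≫ (zero k).left := by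
    change (sec X ≫ snd _ _).left = _
    rw [lift_snd, Over.comp_left]
    rfl
  have h0 : (zero k).left.appTop ((Scheme.ΓSpecIso (CommRingCat.of (DualNumber k))).inv c) =
      (Scheme.ΓSpecIso (CommRingCat.of k)).inv (TrivSqZeroExt.fst c) :=
    (ConcreteCategory.congr_hom
      (Scheme.ΓSpecIso_inv_naturality (CommRingCat.ofHom (TrivSqZeroExt.fstHom k k k).toRingHom)) c).symm
  have h := Scheme.Hom.appLE_comp_appLE (sec X).left (snd X (dual k)).left ⊤ (π X ⁻¹ᵁ U) U le_top
    (by rw [← Scheme.Hom.comp_preimage, sec_π]; exact le_rfl)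
  refine (ConcreteCategory.congr_hom h ((Scheme.ΓSpecIso (CommRingCat.of (DualNumber k))).inv c)).trans ?_
  simp only [hsnd]
  rw [Scheme.Hom.comp_appLE]
  exact congrArg (X.hom.appLE ⊤ U le_top).hom h0

/-- `ε` on `π⁻¹ U`. -/
def eps (U : X.left.Opens) : Γ(P X, π X ⁻¹ᵁ U) := tHom U (DualNumber.eps : DualNumber k)

theorem eps_mul_eps (U : X.left.Opens) : eps U * eps U = 0 := by
  unfold eps
  rw [← map_mul, DualNumber.eps_mul_eps, map_zero]

theorem map_eps {U V : X.left.Opens} (h : V ≤ U) :
    (P X).presheaf.map (homOfLE ((π X).preimage_mono h)).op (eps U) = eps V := by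
  exact ConcreteCategory.congr_hom (Scheme.Hom.appLE_map (snd X (dual k)).left le_top
    (homOfLE ((π X).preimage_mono h)).op) ((Scheme.ΓSpecIso (CommRingCat.of (DualNumber k))).inv
      (DualNumber.eps : DualNumber k))

/-- `a + b ε`. -/
def θ (U : X.left.Opens) : DualNumber Γ(X.left, U) →+* Γ(P X, π X ⁻¹ᵁ U) where
  toFun x := (π X).app U x.fst + eps U * (π X).app U x.snd
  map_one' := by simp
  map_mul' x y := by
    simp only [fst_mul, DualNumber.snd_mul, map_add, map_mul]
    linear_combination (-((π X).app U x.snd * (π X).app U y.snd)) * eps_mul_eps U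
  map_zero' := by simp
  map_add' x y := by simp only [fst_add, snd_add, map_add]; ring

theorem θ_inl (U : X.left.Opens) (a : Γ(X.left, U)) : θ U (inl a) = (π X).app U a := by
  change (π X).app U _ + eps U * (π X).app U _ = _
  simp

theorem θ_eps (U : X.left.Opens) : θ U DualNumber.eps = eps U := by
  change (π X).app U _ + eps U * (π X).app U _ = _
  simp

theorem map_θ {U V : X.left.Opens} (h : V ≤ U) (x : DualNumber Γ(X.left, U)) :
    (P X).presheaf.map (homOfLE ((π X).preimage_mono h)).op (θ U x) =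
      θ V (inl (X.left.presheaf.map (homOfLE h).op x.fst) + inr (X.left.presheaf.map (homOfLE h).op x.snd)) := by
  change _ = (π X).app V _ + eps V * (π X).app V _
  simp only [fst_add, fst_inl, fst_inr, snd_add, snd_inl, snd_inr, add_zero, zero_add]
  change ((P X).presheaf.map _).hom ((π X).app U x.fst + eps U * (π X).app U x.snd) = _
  rw [map_add, map_mul, map_eps h]
  congr 1 <;> [skip; congr 1] <;>
    exact (ConcreteCategory.congr_hom ((π X).naturality (homOfLE h).op) _).symm

theorem sec_θ (U : X.left.Opens) (x : DualNumber Γ(X.left, U)) :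
    (sec X).left.appLE (π X ⁻¹ᵁ U) U (sec_le U) (θ U x) = x.fst := by
  have h1 : ∀ a, (sec X).left.appLE (π X ⁻¹ᵁ U) U (sec_le U) ((π X).app U a) = a := fun a => by
    have h := Scheme.Hom.appLE_comp_appLE (sec X).left (π X) U (π X ⁻¹ᵁ U) U le_rfl (sec_le U)
    rw [← ConcreteCategory.comp_apply, Scheme.Hom.app_eq_appLE, h]
    simp only [sec_π]
    have hid : ∀ (V : X.left.Opens) (e : V ≤ (𝟙 X.left : _ ⟶ _) ⁻¹ᵁ V), (𝟙 X.left : _ ⟶ _).appLE V V e = 𝟙 _ :=
      fun V e => by simp only [Scheme.Hom.appLE, Scheme.Hom.id_app]; erw [X.left.presheaf.map_id, Category.comp_id]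
    rw [hid]; rfl
  have h2 : (sec X).left.appLE (π X ⁻¹ᵁ U) U (sec_le U) (eps U) = 0 := by
    rw [show (sec X).left.appLE (π X ⁻¹ᵁ U) U (sec_le U) (eps U) = scal U (TrivSqZeroExt.fst (DualNumber.eps : DualNumber k))
      from sec_tHom U _]
    simp
  change (sec X).left.appLE _ U (sec_le U) ((π X).app U x.fst + eps U * (π X).app U x.snd) = _
  rw [map_add, map_mul, h2, h1, zero_mul, add_zero]

theorem θ_bijective [IsNoetherian X.left] (U : X.left.Opens) : Function.Bijective (θ U) := by
  have hT : IsAffine (dual k).left := inferInstanceAs (IsAffine (Spec _))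
  haveI : Flat (dual k).hom := by
    change Flat (Spec.map _)
    rw [HasRingHomProperty.Spec_iff (P := @Flat), CommRingCat.hom_ofHom, RingHom.flat_algebraMap_iff]
    infer_instance
  have hc : IsCompact (X := X.left) U := NoetherianSpace.isCompact _
  have hq : IsQuasiSeparated (α := X.left) U := fun _ _ _ _ _ _ _ _ => NoetherianSpace.isCompact _
  have hiso := isIso_pushoutSection_of_isQuasiSeparated_of_flat_right (isPullback_π (X := X))
    (US := ⊤) (UT := ⊤) (UX := U) (UY := π X ⁻¹ᵁ U) le_top le_top (by simp) (isAffineOpen_top _)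
    (isAffineOpen_top _) hc hq
  have hpo := (isIso_pushoutSection_iff _ _ _ _).1 hiso
  let α : k →+* Γ(X.left, U) := scal U
  let mapA : DualNumber k →+* DualNumber Γ(X.left, U) :=
    { toFun := fun c => inl (α c.fst) + inr (α c.snd)
      map_one' := by ext <;> simp
      map_mul' := fun a b => by ext <;> simp [mul_comm]
      map_zero' := by ext <;> simp
      map_add' := fun a b => by ext <;> simp }
  have hT' : ∀ c : Γ(Spec (CommRingCat.of k), ⊤), (Scheme.ΓSpecIso (CommRingCat.of (DualNumber k))).hom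
      ((dual k).hom.appTop c) = inl ((Scheme.ΓSpecIso (CommRingCat.of k)).hom c) := fun c =>
    ConcreteCategory.congr_hom (Scheme.ΓSpecIso_naturality (CommRingCat.ofHom (algebraMap k (DualNumber k)))) c
  have hback : ∀ c : k, tHom U (inl c) = (π X).app U (α c) := fun c => by
    have h := ConcreteCategory.congr_hom hpo.w ((Scheme.ΓSpecIso (CommRingCat.of k)).inv c)
    rw [← Scheme.Hom.appLE_eq_app]
    refine Eq.trans ?_ h.symm
    refine congrArg ((snd X (dual k)).left.appLE ⊤ (π X ⁻¹ᵁ U) le_top).hom ?_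
    rw [show (dual k).hom.appLE ⊤ ⊤ le_top = (dual k).hom.appTop from Scheme.Hom.appLE_eq_app _]
    exact (ConcreteCategory.congr_hom (Scheme.ΓSpecIso_inv_naturality
      (CommRingCat.ofHom (algebraMap k (DualNumber k)))) c)
  have hscal : ∀ c : DualNumber k, tHom U c =
      (π X).app U (α (TrivSqZeroExt.fst c)) + eps U * (π X).app U (α (TrivSqZeroExt.snd c)) := fun c => by
    conv_lhs => rw [show c = inl (TrivSqZeroExt.fst c) + DualNumber.eps * inl (TrivSqZeroExt.snd c) from by
      ext <;> simp]
    rw [map_add, map_mul, hback, hback]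
    rfl
  let ψ : Γ(P X, π X ⁻¹ᵁ U) ⟶ CommRingCat.of (DualNumber Γ(X.left, U)) :=
    hpo.desc (CommRingCat.ofHom (inlHom Γ(X.left, U) Γ(X.left, U)))
      (CommRingCat.ofHom (mapA.comp (Scheme.ΓSpecIso (CommRingCat.of (DualNumber k))).hom.hom)) (by
        ext c : 2
        change inl ((X.hom.appLE ⊤ U le_top).hom c) =
          mapA ((Scheme.ΓSpecIso (CommRingCat.of (DualNumber k))).hom ((dual k).hom.appLE ⊤ ⊤ le_top c))
        rw [show (dual k).hom.appLE ⊤ ⊤ le_top = (dual k).hom.appTop from Scheme.Hom.appLE_eq_app _, hT']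
        change _ = inl (α _) + inr (α _)
        simp only [fst_inl, snd_inl, map_zero, inr_zero, add_zero]
        exact congrArg (fun t => inl (M := Γ(X.left, U)) ((X.hom.appLE ⊤ U le_top).hom t))
          (Iso.hom_inv_id_apply _ c).symm)
  refine Function.bijective_iff_has_inverse.2 ⟨ψ.hom, fun x => ?_, fun y => ?_⟩
  · change ψ.hom ((π X).app U x.fst + eps U * (π X).app U x.snd) = x
    have e1 : ∀ a, ψ.hom ((π X).app U a) = inl a := fun a => by
      rw [Scheme.Hom.app_eq_appLE]
      exact ConcreteCategory.congr_hom (hpo.inl_desc _ _ _) a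
    have e2 : ψ.hom (eps U) = DualNumber.eps := by
      refine (ConcreteCategory.congr_hom (hpo.inr_desc _ _ _)
        ((Scheme.ΓSpecIso (CommRingCat.of (DualNumber k))).inv (DualNumber.eps : DualNumber k))).trans ?_
      change mapA ((Scheme.ΓSpecIso (CommRingCat.of (DualNumber k))).hom _) = _
      rw [Iso.inv_hom_id_apply]
      ext <;> simp [mapA]
    rw [map_add, map_mul, e1, e1, e2]
    ext <;> simp
  · have : ψ ≫ CommRingCat.ofHom (θ U) = 𝟙 _ := by
      refine hpo.hom_ext ?_ ?_
      · rw [← Category.assoc, hpo.inl_desc, Category.comp_id]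
        ext a : 2
        change θ U (inl a) = _
        rw [θ_inl, Scheme.Hom.app_eq_appLE]
      · rw [← Category.assoc, hpo.inr_desc, Category.comp_id]
        ext c : 2
        obtain ⟨c, rfl⟩ := (ConcreteCategory.bijective_of_isIso
          (Scheme.ΓSpecIso (CommRingCat.of (DualNumber k))).inv).2 c
        change θ U (mapA ((Scheme.ΓSpecIso (CommRingCat.of (DualNumber k))).hom _)) = _
        rw [Iso.inv_hom_id_apply]
        change θ U (inl (α (TrivSqZeroExt.fst c)) + inr (α (TrivSqZeroExt.snd c))) = tHom U c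
        rw [hscal c]
        change (π X).app U _ + eps U * (π X).app U _ = _
        simp
    exact ConcreteCategory.congr_hom this y

end Thick

end Groth.Agent.Lib.GrpSch.InfAut
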