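import Groth.Agent.Lib.GrpSch.MonPts
import Groth.Prelude.Def_Magnet3
import Mathlib.AlgebraicGeometry.Morphisms.FlatMono
import Mathlib.AlgebraicGeometry.Morphisms.Etale
import Mathlib.AlgebraicGeometry.Morphisms.ClosedImmersion
import Mathlib.RingTheory.Localization.FractionRing
import Mathlib.Algebra.Polynomial.Eval.Coeff

/-!
# Actions of the multiplicative monoid `A¹` on locally linear schemes
-/

set_option autoImplicit false
universe u

open CategoryTheory Limits MonoidalCategory CartesianMonoidalCategory MonObj AlgebraicGeometry Opposite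
open Groth.Agent.Lib

namespace Groth.Agent.Lib.GrpSch.LineAct

variable {S : Scheme.{u}}

theorem C_eval {R : CommRingCat.{u}} (r : R) :
    (CommRingCat.ofHom Polynomial.C : R ⟶ CommRingCat.of (Polynomial R)) ≫
      CommRingCat.ofHom (Polynomial.evalRingHom r) = 𝟙 R := by
  ext y
  exact Polynomial.eval_C

theorem specMap_C_eval {R : CommRingCat.{u}} (r : R) :
    Spec.map (CommRingCat.ofHom (Polynomial.evalRingHom r) : CommRingCat.of (Polynomial R) ⟶ R) ≫
      Spec.map (CommRingCat.ofHom Polynomial.C : R ⟶ CommRingCat.of (Polynomial R)) = 𝟙 _ := by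
  rw [← Spec.map_comp, C_eval, Spec.map_id]

/-- The point of `A¹` with coordinate `c`. -/
noncomputable def nu {T : Over S} (c : Γ(T.left, ⊤)) : T ⟶ Magnet.AMonS S ℕ := monPt (powersHom _ c)

theorem monFn_nu {T : Over S} (c : Γ(T.left, ⊤)) (n : ℕ) : monFn (nu c) n = c ^ n := by
  rw [nu, monFn_monPt, powersHom_apply, toAdd_ofAdd]

theorem nu_comp {T T' : Over S} (h : T' ⟶ T) (c : Γ(T.left, ⊤)) : h ≫ nu c = nu (h.left.appTop c) :=
  monFn_ext fun n => by rw [monFn_comp, monFn_nu, monFn_nu, map_pow]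

theorem nu_one {T : Over S} : nu (1 : Γ(T.left, ⊤)) = (1 : T ⟶ Magnet.AMonS S ℕ) :=
  monFn_ext fun n => by rw [monFn_nu, one_pow, monFn_one]

theorem nu_mul {T : Over S} (c d : Γ(T.left, ⊤)) : nu c * nu d = nu (c * d) :=
  monFn_ext fun n => by rw [monFn_mul, monFn_nu, monFn_nu, monFn_nu, mul_pow]

theorem eq_nu {T : Over S} (g : T ⟶ Magnet.AMonS S ℕ) : g = nu (monFn g 1) :=
  monFn_ext fun n => by rw [monFn_nu, ← monFn_nsmul, smul_eq_mul, _root_.mul_one]

theorem mul_nu_zero {T : Over S} (g : T ⟶ Magnet.AMonS S ℕ) :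
    g * nu (0 : Γ(T.left, ⊤)) = nu (0 : Γ(T.left, ⊤)) ∧ nu (0 : Γ(T.left, ⊤)) * g = nu (0 : Γ(T.left, ⊤)) := by
  constructor
  · conv_lhs => rw [eq_nu g, nu_mul, mul_zero]
  · conv_lhs => rw [eq_nu g, nu_mul, zero_mul]

variable {X Y : Over S} (a : Magnet.MonAct (Magnet.AMonS S ℕ) X)

/-- Acting by `0`. -/
noncomputable def z : X ⟶ X := lift (nu (0 : Γ(X.left, ⊤))) (𝟙 X) ≫ a.act

theorem comp_z {T : Over S} (x : T ⟶ X) : x ≫ z a = lift (nu (0 : Γ(T.left, ⊤))) x ≫ a.act := by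
  rw [z, comp_lift_assoc, Category.comp_id, nu_comp, map_zero]

theorem lift_comp_z {T : Over S} (g : T ⟶ Magnet.AMonS S ℕ) (x : T ⟶ X) :
    lift g (x ≫ z a) ≫ a.act = x ≫ z a ∧ (lift g x ≫ a.act) ≫ z a = x ≫ z a := by
  rw [comp_z, comp_z]
  exact ⟨by rw [← Magnet.MonAct.lift_mul_act, (mul_nu_zero g).1],
    by rw [← Magnet.MonAct.lift_mul_act, (mul_nu_zero g).2]⟩

theorem z_z : z a ≫ z a = z a := by
  have h := (lift_comp_z a (nu (0 : Γ(X.left, ⊤))) (𝟙 X)).2
  rwa [Category.id_comp] at h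

theorem act_z : a.act ≫ z a = snd _ _ ≫ z a := by
  have h := (lift_comp_z a (fst (Magnet.AMonS S ℕ) X) (snd _ _)).2
  rwa [lift_fst_snd, Category.id_comp] at h

/-- `z` as a fixed point. -/
noncomputable def zFix : (Magnet.MonAct.fixedPsh a).obj (op X) :=
  ⟨z a, fun _ t g => (lift_comp_z a g t).1⟩

/-- Stable opens. -/
def Stable (U : X.left.Opens) : Prop :=
  (snd (Magnet.AMonS S ℕ) X).left ⁻¹ᵁ U ≤ a.act.left ⁻¹ᵁ U

variable {a}

theorem Stable.lands {U : X.left.Opens} (hU : Stable a U) {T : Over S} (g : T ⟶ Magnet.AMonS S ℕ) (x : T ⟶ X)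
    (p : T.left) (h : x.left.base p ∈ U) : (lift g x ≫ a.act).left.base p ∈ U := by
  rw [Over.comp_left, Scheme.Hom.comp_apply]
  refine hU ?_
  change (snd (Magnet.AMonS S ℕ) X).left.base _ ∈ U
  rwa [← Scheme.Hom.comp_apply, ← Over.comp_left, lift_snd]

theorem Stable.z_mem {U : X.left.Opens} (hU : Stable a U) {p : X.left} (h : p ∈ U) : (z a).left.base p ∈ U :=
  hU.lands _ (𝟙 X) p h

/-- A stable open containing the limit of a point contains the point. -/
theorem Stable.mem_of_z_mem {U : X.left.Opens} (hU : Stable a U) {p : X.left} (h : (z a).left.base p ∈ U) :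
    p ∈ U := by
  let K := X.left.residueField p
  let R1 : CommRingCat.{u} := .of (Polynomial (K : Type u))
  let L : CommRingCat.{u} := .of (FractionRing (Polynomial (K : Type u)))
  let T : Over S := Over.mk (X.left.fromSpecResidueField p ≫ X.hom)
  let x : T ⟶ X := Over.homMk (X.left.fromSpecResidueField p)
  let T1 : Over S := Over.mk (Spec.map (CommRingCat.ofHom Polynomial.C : K ⟶ R1) ≫ T.hom)
  let π : T1 ⟶ T := Over.homMk (Spec.map (CommRingCat.ofHom Polynomial.C : K ⟶ R1))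
  let cX : Γ(T1.left, ⊤) := (Scheme.ΓSpecIso R1).inv.hom Polynomial.X
  let h1 : T1 ⟶ X := lift (nu cX) (π ≫ x) ≫ a.act
  let σ : T ⟶ T1 := Over.homMk (Spec.map (CommRingCat.ofHom (Polynomial.evalRingHom 0) : R1 ⟶ K)) (by
    exact (Category.assoc _ _ _).symm.trans ((congrArg (· ≫ T.hom) (specMap_C_eval (0 : K))).trans
      (Category.id_comp _)))
  have hσπ : σ ≫ π = 𝟙 T := by
    apply Over.OverMorphism.ext
    exact specMap_C_eval (0 : K)
  have hσ : σ ≫ h1 = x ≫ z a := by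
    rw [comp_z, comp_lift_assoc, nu_comp, reassoc_of% hσπ]
    congr 3
    exact (congr($(Scheme.ΓSpecIso_inv_naturality (CommRingCat.ofHom (Polynomial.evalRingHom 0) : R1 ⟶ K))
      Polynomial.X)).symm.trans ((congrArg (Scheme.ΓSpecIso K).inv.hom Polynomial.eval_X).trans (map_zero _))
  obtain ⟨p0⟩ : Nonempty (Spec K) := inferInstance
  have hx0 : x.left.base p0 = p := X.left.fromSpecResidueField_apply p p0
  have hp0 : h1.left.base (σ.left.base p0) ∈ U := by
    rw [← Scheme.Hom.comp_apply, ← Over.comp_left, hσ, Over.comp_left, Scheme.Hom.comp_apply, hx0]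
    exact h
  let T2 : Over S := Over.mk (Spec.map (CommRingCat.ofHom (algebraMap (Polynomial (K : Type u))
    (FractionRing (Polynomial (K : Type u)))) : R1 ⟶ L) ≫ T1.hom)
  let η2 : T2 ⟶ T1 := Over.homMk (Spec.map (CommRingCat.ofHom (algebraMap (Polynomial (K : Type u))
    (FractionRing (Polynomial (K : Type u)))) : R1 ⟶ L))
  obtain ⟨p2⟩ : Nonempty (Spec L) := inferInstance
  have hgen : η2.left.base p2 ⤳ σ.left.base p0 := by
    refine (PrimeSpectrum.le_iff_specializes (η2.left.base p2) (σ.left.base p0)).1 ?_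
    intro r hr
    change algebraMap (Polynomial (K : Type u)) (FractionRing (Polynomial (K : Type u))) r ∈ p2.asIdeal at hr
    have h0 : algebraMap (Polynomial (K : Type u)) (FractionRing (Polynomial (K : Type u))) r = 0 := by
      by_contra hne
      exact p2.2.ne_top (Ideal.eq_top_of_isUnit_mem _ hr (Ne.isUnit hne))
    rw [(map_eq_zero_iff _ (IsFractionRing.injective _ _)).1 h0]
    exact zero_mem _
  have h2 : (η2 ≫ h1).left.base p2 ∈ U := by
    rw [Over.comp_left, Scheme.Hom.comp_apply]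
    exact (hgen.map h1.left.continuous).mem_open U.2 hp0
  let Xi : Γ(T2.left, ⊤) := (Scheme.ΓSpecIso L).inv.hom
    (algebraMap (Polynomial (K : Type u)) (FractionRing (Polynomial (K : Type u))) Polynomial.X)⁻¹
  have hinv : nu Xi * (η2 ≫ nu cX) = (1 : T2 ⟶ Magnet.AMonS S ℕ) := by
    rw [nu_comp, nu_mul, ← nu_one]
    congr 1
    have e : η2.left.appTop cX = (Scheme.ΓSpecIso L).inv.hom
        (algebraMap (Polynomial (K : Type u)) (FractionRing (Polynomial (K : Type u))) Polynomial.X) :=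
      (congr($(Scheme.ΓSpecIso_inv_naturality (CommRingCat.ofHom (algebraMap (Polynomial (K : Type u))
        (FractionRing (Polynomial (K : Type u)))) : R1 ⟶ L)) Polynomial.X)).symm
    rw [e, ← map_mul, inv_mul_cancel₀ (fun h0 => Polynomial.X_ne_zero
      ((IsFractionRing.injective (Polynomial (K : Type u)) (FractionRing (Polynomial (K : Type u))))
        (h0.trans (map_zero _).symm)))]
    exact map_one _
  have h3 : lift (nu Xi) (η2 ≫ h1) ≫ a.act = η2 ≫ π ≫ x := by
    rw [comp_lift_assoc, ← Magnet.MonAct.lift_mul_act, hinv, Magnet.MonAct.lift_one_act]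
  have h4 := hU.lands (nu Xi) (η2 ≫ h1) p2 h2
  rw [h3, Over.comp_left, Over.comp_left, Scheme.Hom.comp_apply, Scheme.Hom.comp_apply] at h4
  rwa [show x.left.base _ = p from X.left.fromSpecResidueField_apply p _] at h4

theorem isAffineOpen_inf_preimage {X X' : Scheme.{u}} {U : X.Opens} (hU : IsAffineOpen U) {U' A : X'.Opens}
    (hU' : IsAffineOpen U') (hA : IsAffineOpen A) (hAU : A ≤ U') (h : X ⟶ X') (hle : U ≤ h ⁻¹ᵁ U') :
    IsAffineOpen (U ⊓ h ⁻¹ᵁ A) := by
  haveI : IsAffine (U : Scheme.{u}) := hU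
  haveI : IsAffine (U' : Scheme.{u}) := hU'
  let g : (U : Scheme.{u}) ⟶ U' := IsOpenImmersion.lift U'.ι (U.ι ≫ h) (by
    rintro _ ⟨t, rfl⟩
    rw [U'.range_ι]
    exact hle t.2)
  have hA2 : IsAffineOpen (U'.ι ⁻¹ᵁ A) := hA.preimage_of_isOpenImmersion U'.ι (by
    rw [U'.opensRange_ι]; exact hAU)
  have h5 : IsAffineOpen (U.ι ''ᵁ (g ⁻¹ᵁ (U'.ι ⁻¹ᵁ A))) := (hA2.preimage g).image_of_isOpenImmersion U.ι
  rwa [← Scheme.Hom.comp_preimage, IsOpenImmersion.lift_fac, Scheme.Hom.comp_preimage,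
    Scheme.Hom.image_preimage_eq_opensRange_inf, U.opensRange_ι] at h5

variable (a)

theorem exists_theta {R : CommRingCat.{u}} (c : Spec R ⟶ X.left) [IsOpenImmersion c]
    (hc : Stable a c.opensRange) :
    ∃ (θ : R ⟶ CommRingCat.of (Polynomial R)) (ζ : R ⟶ R),
      Spec.map ζ ≫ c = c ≫ (z a).left ∧
      Spec.map θ ≫ c = (lift (nu ((Scheme.ΓSpecIso (CommRingCat.of (Polynomial R))).inv.hom Polynomial.X))
        (Over.homMk (Spec.map (CommRingCat.ofHom Polynomial.C : R ⟶ CommRingCat.of (Polynomial R)) ≫ c) rfl :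
          Over.mk ((Spec.map (CommRingCat.ofHom Polynomial.C : R ⟶ CommRingCat.of (Polynomial R)) ≫ c) ≫ X.hom) ⟶ X)
          ≫ a.act).left ∧
      (∀ r, (θ.hom r).eval 1 = r) ∧ (∀ r, (θ.hom r).eval 0 = ζ.hom r) ∧
      (∀ r n, θ.hom ((θ.hom r).coeff n) = Polynomial.C ((θ.hom r).coeff n) * Polynomial.X ^ n) := by
  let R1 : CommRingCat.{u} := .of (Polynomial R)
  let pC : R ⟶ R1 := CommRingCat.ofHom Polynomial.C
  let TR : Over S := Over.mk (c ≫ X.hom)
  let x : TR ⟶ X := Over.homMk c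
  let T1 : Over S := Over.mk ((Spec.map pC ≫ c) ≫ X.hom)
  let x1 : T1 ⟶ X := Over.homMk (Spec.map pC ≫ c) rfl
  let cX : Γ(T1.left, ⊤) := (Scheme.ΓSpecIso R1).inv.hom Polynomial.X
  have hinj : ∀ {R' : CommRingCat.{u}} {τ τ' : R ⟶ R'}, Spec.map τ ≫ c = Spec.map τ' ≫ c → τ = τ' :=
    fun h => Spec.map_injective ((cancel_mono c).1 h)
  have hland : ∀ {R' : CommRingCat.{u}} (w : Spec R' ⟶ X.left), (∀ p, w.base p ∈ c.opensRange) →
      ∃ τ : R ⟶ R', Spec.map τ ≫ c = w := by
    intro R' w h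
    obtain ⟨τ, hτ⟩ := Spec.map_surjective (IsOpenImmersion.lift c w (by rintro _ ⟨p, rfl⟩; exact h p))
    exact ⟨τ, by rw [hτ, IsOpenImmersion.lift_fac]⟩
  obtain ⟨ζ, hζ⟩ := hland (R' := R) (c ≫ (z a).left) fun p => by
    rw [Scheme.Hom.comp_apply]; exact hc.z_mem ⟨p, rfl⟩
  obtain ⟨θ, hθ⟩ := hland (R' := R1) (lift (nu cX) x1 ≫ a.act).left fun p =>
    hc.lands (nu cX) x1 p ⟨(Spec.map pC).base p, (Scheme.Hom.comp_apply _ _ _).symm⟩
  let ev : ↑R → (TR ⟶ T1) := fun r =>
    Over.homMk (Spec.map (CommRingCat.ofHom (Polynomial.evalRingHom r) : R1 ⟶ R)) (by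
      change Spec.map _ ≫ (Spec.map pC ≫ c) ≫ X.hom = c ≫ X.hom
      rw [← Category.assoc, ← Category.assoc (Spec.map _) (Spec.map pC) c, specMap_C_eval, Category.id_comp])
  have hev : ∀ r, ev r ≫ x1 = x := fun r => by
    apply Over.OverMorphism.ext
    change Spec.map _ ≫ Spec.map pC ≫ c = c
    rw [← Category.assoc, specMap_C_eval, Category.id_comp]
  have hevw : ∀ r, Spec.map (θ ≫ CommRingCat.ofHom (Polynomial.evalRingHom r)) ≫ c =
      (lift (nu (T := TR) ((Scheme.ΓSpecIso R).inv.hom r)) x ≫ a.act).left := by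
    intro r
    rw [Spec.map_comp, Category.assoc, hθ]
    refine congrArg CommaMorphism.left (?_ : ev r ≫ lift (nu cX) x1 ≫ a.act = _)
    rw [comp_lift_assoc, nu_comp, hev]
    congr 3
    exact (congr($(Scheme.ΓSpecIso_inv_naturality (CommRingCat.ofHom (Polynomial.evalRingHom r) : R1 ⟶ R))
      Polynomial.X)).symm.trans (congrArg (Scheme.ΓSpecIso R).inv.hom Polynomial.eval_X)
  have h1 : θ ≫ CommRingCat.ofHom (Polynomial.evalRingHom 1) = 𝟙 R := hinj (by
    rw [hevw, map_one, nu_one, Magnet.MonAct.lift_one_act, Spec.map_id]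
    exact (Category.id_comp c).symm)
  have h0 : θ ≫ CommRingCat.ofHom (Polynomial.evalRingHom 0) = ζ := hinj (by
    rw [hevw, map_zero, ← comp_z, hζ]
    rfl)
  let R2 : CommRingCat.{u} := .of (Polynomial (Polynomial R))
  let pC2 : R1 ⟶ R2 := CommRingCat.ofHom Polynomial.C
  let T2 : Over S := Over.mk (Spec.map pC2 ≫ (Spec.map pC ≫ c) ≫ X.hom)
  let π2 : T2 ⟶ T1 := Over.homMk (Spec.map pC2)
  let mθ : R1 ⟶ R2 := CommRingCat.ofHom (Polynomial.mapRingHom θ.hom)
  let bm : R1 ⟶ R2 := CommRingCat.ofHom (Polynomial.eval₂RingHom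
    ((Polynomial.C : Polynomial R →+* Polynomial (Polynomial R)).comp Polynomial.C)
    (Polynomial.C Polynomial.X * Polynomial.X))
  have hmθ : pC ≫ mθ = θ ≫ pC2 := by
    ext y : 2
    exact Polynomial.map_C _
  have hbm : pC ≫ bm = pC ≫ pC2 := by
    ext y : 2
    exact Polynomial.eval₂_C _ _
  let am : T2 ⟶ T1 := Over.homMk (Spec.map mθ) (by
    change Spec.map mθ ≫ (Spec.map pC ≫ c) ≫ X.hom = Spec.map pC2 ≫ (Spec.map pC ≫ c) ≫ X.hom
    rw [← Category.assoc, ← Category.assoc (Spec.map pC2), ← Spec.map_comp_assoc, hmθ, Spec.map_comp_assoc, hθ,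
      Category.assoc]
    exact congrArg (Spec.map pC2 ≫ ·) (Over.w (lift (nu cX) x1 ≫ a.act)))
  let bmO : T2 ⟶ T1 := Over.homMk (Spec.map bm) (by
    change Spec.map bm ≫ (Spec.map pC ≫ c) ≫ X.hom = Spec.map pC2 ≫ (Spec.map pC ≫ c) ≫ X.hom
    rw [← Category.assoc, ← Category.assoc (Spec.map pC2), ← Spec.map_comp_assoc, hbm, Spec.map_comp_assoc])
  have ham : am ≫ x1 = π2 ≫ lift (nu cX) x1 ≫ a.act := Over.OverMorphism.ext (by
    change Spec.map mθ ≫ Spec.map pC ≫ c = Spec.map pC2 ≫ (lift (nu cX) x1 ≫ a.act).left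
    rw [← Spec.map_comp_assoc, hmθ, Spec.map_comp_assoc, hθ])
  have hbx : bmO ≫ x1 = π2 ≫ x1 := Over.OverMorphism.ext (by
    change Spec.map bm ≫ Spec.map pC ≫ c = Spec.map pC2 ≫ Spec.map pC ≫ c
    rw [← Spec.map_comp_assoc, hbm, Spec.map_comp_assoc])
  have hγ : am.left.appTop cX * π2.left.appTop cX = bmO.left.appTop cX := by
    have e1 : ∀ (h : R1 ⟶ R2), (Spec.map h).appTop cX = (Scheme.ΓSpecIso R2).inv.hom (h.hom Polynomial.X) :=
      fun h => (congr($(Scheme.ΓSpecIso_inv_naturality h) Polynomial.X)).symm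
    change (Spec.map mθ).appTop cX * (Spec.map pC2).appTop cX = (Spec.map bm).appTop cX
    rw [e1, e1, e1, ← map_mul]
    refine congrArg (Scheme.ΓSpecIso R2).inv.hom ?_
    change Polynomial.map _ Polynomial.X * Polynomial.C Polynomial.X = Polynomial.eval₂ _ _ Polynomial.X
    rw [Polynomial.eval₂_X, Polynomial.map_X, _root_.mul_comm]
  have hco : θ ≫ mθ = θ ≫ bm := hinj (by
    rw [Spec.map_comp, Category.assoc, hθ, Spec.map_comp, Category.assoc, hθ]
    refine congrArg CommaMorphism.left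
      (?_ : am ≫ lift (nu cX) x1 ≫ a.act = bmO ≫ lift (nu cX) x1 ≫ a.act)
    rw [comp_lift_assoc, nu_comp, ham, comp_lift_assoc, nu_comp, ← Magnet.MonAct.lift_mul_act, nu_mul, hγ,
      comp_lift_assoc, nu_comp, hbx])
  refine ⟨θ, ζ, hζ, hθ, fun r => congr($(h1) r), fun r => congr($(h0) r), fun r n => ?_⟩
  have h := congrArg (fun p : Polynomial (Polynomial R) => p.coeff n) (congr($(hco) r))
  refine (Polynomial.coeff_map θ.hom n).symm.trans (h.trans ?_)
  have key : ∀ p : Polynomial R, (p.eval₂ ((Polynomial.C : Polynomial R →+* Polynomial (Polynomial R)).comp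
      Polynomial.C) (Polynomial.C Polynomial.X * Polynomial.X)).coeff n =
        Polynomial.C (p.coeff n) * Polynomial.X ^ n := by
    intro p
    induction p using Polynomial.induction_on' with
    | add p q hp hq =>
      rw [Polynomial.eval₂_add, Polynomial.coeff_add, hp, hq, Polynomial.coeff_add, map_add, add_mul]
    | monomial i r =>
      rw [Polynomial.eval₂_monomial, RingHom.comp_apply, mul_pow, ← map_pow, ← _root_.mul_assoc, ← map_mul,
        Polynomial.coeff_C_mul_X_pow, Polynomial.coeff_monomial]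
      rcases eq_or_ne n i with rfl | hn
      · rw [if_pos rfl, if_pos rfl]
      · rw [if_neg hn, if_neg (Ne.symm hn), map_zero, zero_mul]
  exact key _

variable {a} {b : Magnet.MonAct (Magnet.AMonS S ℕ) Y} {f : X ⟶ Y}

theorem z_comp (hf : Magnet.MonAct.IsEquivariant a b f) : z a ≫ f = f ≫ z b := by
  rw [comp_z b f, z, Category.assoc, show a.act ≫ f = (Magnet.AMonS S ℕ ◁ f) ≫ b.act from hf,
    lift_whiskerLeft_assoc, Category.id_comp]

open Polynomial in
/-- The graded core: surjectivity. -/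
theorem surjective_of_graded {R R' : Type u} [CommRing R] [CommRing R'] (g : R →+* R')
    (θ : R →+* Polynomial R) (θ' : R' →+* Polynomial R') (hg : ∀ r, θ' (g r) = (θ r).map g)
    (h1' : ∀ r, (θ' r).eval 1 = r) (hθ' : ∀ r n, θ' ((θ' r).coeff n) = C ((θ' r).coeff n) * Polynomial.X ^ n)
    (hzero : ∀ s : R', (θ' s).coeff 0 ∈ g.range)
    (hspan : ∀ s : R', (θ' s).coeff 0 = 0 → s ∈ Ideal.span (g '' {r | (θ r).coeff 0 = 0})) :
    Function.Surjective g := by
  have key : ∀ n s, (θ' s).coeff n ∈ g.range := by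
    intro n
    induction n using Nat.strong_induction_on with
    | _ n ih =>
      intro s
      rcases eq_or_ne n 0 with rfl | hn
      · exact hzero s
      · have h0 : (θ' ((θ' s).coeff n)).coeff 0 = 0 := by
          rw [hθ', coeff_C_mul_X_pow, if_neg (Ne.symm hn)]
        have hnn : (θ' ((θ' s).coeff n)).coeff n = (θ' s).coeff n := by
          rw [hθ', coeff_C_mul_X_pow, if_pos rfl]
        rw [← hnn]
        have hmem := hspan _ h0
        generalize (θ' s).coeff n = t at hmem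
        suffices H : ∀ c, (θ' (c * t)).coeff n ∈ g.range by simpa using H 1
        induction hmem using Submodule.span_induction with
        | mem y hy =>
          intro c
          obtain ⟨r, hr, rfl⟩ := hy
          rw [map_mul, coeff_mul]
          refine sum_mem fun i hi => ?_
          rw [Finset.HasAntidiagonal.mem_antidiagonal] at hi
          rw [hg, coeff_map]
          rcases eq_or_ne i.2 0 with h2 | h2
          · rw [h2, show (θ r).coeff 0 = 0 from hr, map_zero, mul_zero]; exact zero_mem _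
          · exact mul_mem (ih i.1 (by omega) c) ⟨_, rfl⟩
        | zero => intro c; rw [mul_zero, map_zero, coeff_zero]; exact zero_mem _
        | add x y _ _ hx hy => intro c; rw [mul_add, map_add, coeff_add]; exact add_mem (hx c) (hy c)
        | smul r x _ hx => intro c; rw [smul_eq_mul, ← _root_.mul_assoc]; exact hx _
  intro s
  have hs : s ∈ g.range := by
    conv => arg 2; rw [← h1' s, eval_eq_sum_range]
    refine sum_mem fun i _ => ?_
    rw [one_pow, _root_.mul_one]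
    exact key i s
  exact hs

open Polynomial in
/-- The graded core: injectivity. -/
theorem injective_of_graded {R R' : Type u} [CommRing R] [CommRing R'] (g : R →+* R')
    (θ : R →+* Polynomial R) (θ' : R' →+* Polynomial R') (hg : ∀ r, θ' (g r) = (θ r).map g)
    (h1 : ∀ r, (θ r).eval 1 = r) (hθ : ∀ r n, θ ((θ r).coeff n) = C ((θ r).coeff n) * Polynomial.X ^ n)
    (hloc : ∀ m : Ideal R, m.IsMaximal → (∀ r, (θ r).coeff 0 = 0 → r ∈ m) →
      ∀ x, g x = 0 → ∃ h ∉ m, h * x = 0) :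
    Function.Injective g := by
  rw [injective_iff_map_eq_zero]
  intro x hx
  rw [← h1 x, eval_eq_sum_range]
  refine Finset.sum_eq_zero fun n _ => ?_
  rw [one_pow, _root_.mul_one]
  set y := (θ x).coeff n with hy
  have hgy : g y = 0 := by rw [hy, ← coeff_map, ← hg, hx, map_zero, coeff_zero]
  have hyy : ∀ i, (θ y).coeff i = if i = n then y else 0 := fun i => by rw [hy, hθ, coeff_C_mul_X_pow]
  let Rp : Ideal R := RingHom.ker ((Polynomial.evalRingHom 0).comp θ)
  let Ann : Ideal R :=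
    { carrier := {r | r * y = 0}
      add_mem' := fun {p q} hp hq => by
        rw [Set.mem_setOf_eq] at hp hq ⊢
        rw [add_mul, hp, hq, add_zero]
      zero_mem' := zero_mul y
      smul_mem' := fun c p hp => by
        rw [Set.mem_setOf_eq] at hp ⊢
        rw [smul_eq_mul, _root_.mul_assoc, hp, mul_zero] }
  have htop : Ann ⊔ Rp = ⊤ := by
    by_contra hne
    obtain ⟨m, hm, hle⟩ := Ideal.exists_le_maximal _ hne
    obtain ⟨h, hh, hhy⟩ := hloc m hm (fun r hr => hle (Ideal.mem_sup_right (by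
      rw [RingHom.mem_ker, RingHom.comp_apply, coe_evalRingHom, ← coeff_zero_eq_eval_zero, hr]))) y hgy
    exact hh (hle (Ideal.mem_sup_left hhy))
  obtain ⟨p, hp, q, hq, hpq⟩ := Submodule.mem_sup.1 (htop ▸ Submodule.mem_top : (1 : R) ∈ Ann ⊔ Rp)
  rw [RingHom.mem_ker, RingHom.comp_apply, coe_evalRingHom, ← coeff_zero_eq_eval_zero] at hq
  have h01 : (θ p).coeff 0 = 1 := by
    have h := congrArg (fun r => (θ r).coeff 0) hpq
    simp only [map_add, coeff_add, hq, add_zero, map_one] at h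
    rwa [coeff_one_zero] at h
  have hpy : (θ (p * y)).coeff n = y := by
    rw [map_mul, coeff_mul, Finset.sum_eq_single (0, n)]
    · rw [h01, hyy, if_pos rfl, _root_.one_mul]
    · intro i hi hne
      rw [Finset.HasAntidiagonal.mem_antidiagonal] at hi
      rw [hyy, if_neg, mul_zero]
      intro h2
      exact hne (Prod.ext (by omega) h2)
    · intro h
      exact absurd (Finset.HasAntidiagonal.mem_antidiagonal.2 (zero_add n)) h
  rw [← hpy, show p * y = 0 from hp, map_zero, coeff_zero]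

/-- The affine case. -/
theorem bijective_of_affine (hf : Magnet.MonAct.IsEquivariant a b f) (q : Y ⟶ X)
    (hq₁ : q ≫ f = z b) (hq₂ : f ≫ q = z a)
    (hcart : ∀ {T : Over S} (x : T ⟶ X), (x ≫ f) ≫ z b = x ≫ f → x ≫ z a = x)
    (V : X.left.Opens) [Etale (V.ι ≫ f.left)] (hV : ∀ p, q.left.base p ∈ V)
    {R R' : CommRingCat.{u}} (cY : Spec R ⟶ Y.left) [IsOpenImmersion cY] (cX : Spec R' ⟶ X.left)
    [IsOpenImmersion cX] (hRY : Stable b cY.opensRange) (hRX : Stable a cX.opensRange)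
    (g : R ⟶ R') (hg : cX ≫ f.left = Spec.map g ≫ cY)
    (hqR : ∀ p, q.left.base (cY.base p) ∈ cX.opensRange) : Function.Bijective g.hom := by
  obtain ⟨θ, ζ, hζ, hθe, h1, h0, hθ⟩ := exists_theta b cY hRY
  obtain ⟨θ', ζ', hζ', hθe', h1', h0', hθ'⟩ := exists_theta a cX hRX
  have hinjY : ∀ {A : CommRingCat.{u}} {τ τ' : R ⟶ A}, Spec.map τ ≫ cY = Spec.map τ' ≫ cY → τ = τ' :=
    fun h => Spec.map_injective ((cancel_mono cY).1 h)
  have hinjX : ∀ {A : CommRingCat.{u}} {τ τ' : R' ⟶ A}, Spec.map τ ≫ cX = Spec.map τ' ≫ cX → τ = τ' :=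
    fun h => Spec.map_injective ((cancel_mono cX).1 h)
  let R1 : CommRingCat.{u} := .of (Polynomial R)
  let R1' : CommRingCat.{u} := .of (Polynomial R')
  let mg : R1 ⟶ R1' := CommRingCat.ofHom (Polynomial.mapRingHom g.hom)
  have hgθ : g ≫ θ' = θ ≫ mg := hinjY (by
    rw [Spec.map_comp, Category.assoc, ← hg, Spec.map_comp, Category.assoc, hθe, ← Category.assoc]
    refine (congrArg (· ≫ f.left) hθe').trans ?_
    let pC : R ⟶ R1 := CommRingCat.ofHom Polynomial.C
    let pC' : R' ⟶ R1' := CommRingCat.ofHom Polynomial.C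
    have hC : g ≫ pC' = pC ≫ mg := by
      ext y : 2
      exact (Polynomial.map_C _).symm
    let T1 : Over S := Over.mk ((Spec.map pC ≫ cY) ≫ Y.hom)
    let T1' : Over S := Over.mk ((Spec.map pC' ≫ cX) ≫ X.hom)
    let y1 : T1 ⟶ Y := Over.homMk (Spec.map pC ≫ cY) rfl
    let x1 : T1' ⟶ X := Over.homMk (Spec.map pC' ≫ cX) rfl
    let mO : T1' ⟶ T1 := Over.homMk (Spec.map mg) (by
      change Spec.map mg ≫ (Spec.map pC ≫ cY) ≫ Y.hom = (Spec.map pC' ≫ cX) ≫ X.hom
      rw [← Over.w f, Category.assoc, Category.assoc, reassoc_of% hg, ← Spec.map_comp_assoc, ← hC,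
        Spec.map_comp_assoc])
    refine congrArg CommaMorphism.left (?_ :
      (lift (nu (T := T1') ((Scheme.ΓSpecIso R1').inv.hom Polynomial.X)) x1 ≫ a.act) ≫ f =
        mO ≫ lift (nu (T := T1) ((Scheme.ΓSpecIso R1).inv.hom Polynomial.X)) y1 ≫ b.act)
    rw [Category.assoc, show a.act ≫ f = (Magnet.AMonS S ℕ ◁ f) ≫ b.act from hf, lift_whiskerLeft_assoc,
      comp_lift_assoc, nu_comp]
    congr 2
    · congr 1
      refine (congrArg (Scheme.ΓSpecIso R1').inv.hom ?_).trans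
        (congr($(Scheme.ΓSpecIso_inv_naturality mg) Polynomial.X))
      exact (Polynomial.map_X _).symm
    · apply Over.OverMorphism.ext
      change (Spec.map pC' ≫ cX) ≫ f.left = Spec.map mg ≫ Spec.map pC ≫ cY
      rw [Category.assoc, hg, ← Spec.map_comp_assoc, hC, Spec.map_comp_assoc])
  obtain ⟨qR, hqR'⟩ : ∃ qR : R' ⟶ R, Spec.map qR ≫ cX = cY ≫ q.left := by
    obtain ⟨τ, hτ⟩ := Spec.map_surjective (IsOpenImmersion.lift cX (cY ≫ q.left) (by
      rintro _ ⟨p, rfl⟩; exact hqR p))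
    exact ⟨τ, by rw [hτ, IsOpenImmersion.lift_fac]⟩
  have hqg : g ≫ qR = ζ := hinjY (by
    rw [Spec.map_comp, Category.assoc, ← hg, reassoc_of% hqR', hζ, ← Over.comp_left, hq₁])
  have hgq : qR ≫ g = ζ' := hinjX (by
    rw [Spec.map_comp, Category.assoc, hqR', ← reassoc_of% hg, hζ', ← Over.comp_left, hq₂])
  have hzr : ∀ r, (θ.hom r).coeff 0 = ζ.hom r := fun r => by rw [Polynomial.coeff_zero_eq_eval_zero, h0]
  have hzr' : ∀ r, (θ'.hom r).coeff 0 = ζ'.hom r := fun r => by rw [Polynomial.coeff_zero_eq_eval_zero, h0']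
  have hidem : ∀ r, (θ.hom (ζ.hom r)).coeff 0 = ζ.hom r := fun r => by
    rw [← hzr r, hθ r 0, pow_zero, _root_.mul_one, Polynomial.coeff_C_zero]
  have hge : ∀ r, θ'.hom (g.hom r) = (θ.hom r).map g.hom := fun r => congr($(hgθ) r)
  have hsurj : Function.Surjective g.hom := by
    refine surjective_of_graded g.hom θ.hom θ'.hom hge h1' hθ' (fun s => ?_) (fun s hs => ?_)
    · exact ⟨qR.hom s, (congr($(hgq) s)).trans (hzr' s).symm⟩
    · let J : Ideal R' := Ideal.span (g.hom '' {r | (θ.hom r).coeff 0 = 0})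
      let π : R' ⟶ CommRingCat.of ((R' : Type u) ⧸ J) := CommRingCat.ofHom (Ideal.Quotient.mk J)
      let T : Over S := Over.mk ((Spec.map π ≫ cX) ≫ X.hom)
      let x : T ⟶ X := Over.homMk (Spec.map π ≫ cX) rfl
      have hfix : (x ≫ f) ≫ z b = x ≫ f := by
        apply Over.OverMorphism.ext
        change ((Spec.map π ≫ cX) ≫ f.left) ≫ (z b).left = (Spec.map π ≫ cX) ≫ f.left
        simp only [Category.assoc]
        rw [reassoc_of% hg, hg, ← hζ, ← Spec.map_comp_assoc, ← Spec.map_comp_assoc, ← Spec.map_comp_assoc]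
        congr 2
        ext r
        refine Ideal.Quotient.eq.2 ?_
        rw [← map_sub]
        refine Ideal.subset_span ⟨_, ?_, rfl⟩
        rw [Set.mem_setOf_eq, map_sub, Polynomial.coeff_sub]
        exact sub_eq_zero.2 ((hidem r).trans (hzr r).symm)
      have h2 : Spec.map π ≫ cX ≫ (z a).left = Spec.map π ≫ cX :=
        (Category.assoc _ _ _).symm.trans (congrArg CommaMorphism.left (hcart x hfix))
      rw [← hζ', ← Spec.map_comp_assoc] at h2
      have h3 := congr($(hinjX h2) s)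
      change Ideal.Quotient.mk J (ζ'.hom s) = Ideal.Quotient.mk J s at h3
      rw [← hzr', hs, map_zero, eq_comm, Ideal.Quotient.eq_zero_iff_mem] at h3
      exact h3
  refine ⟨injective_of_graded g.hom θ.hom θ'.hom hge h1 hθ (fun m hm hm0 x hx => ?_), hsurj⟩
  let pm : Spec R := ⟨m, hm.isPrime⟩
  have hgm : (Spec.map g).base ((Spec.map qR).base pm) = pm := by
    rw [← Scheme.Hom.comp_apply, ← Spec.map_comp, hqg]
    refine PrimeSpectrum.ext ?_
    ext r
    change ζ.hom r ∈ m ↔ r ∈ m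
    have hr : r - ζ.hom r ∈ m := hm0 _ (by
      rw [map_sub, Polynomial.coeff_sub, hidem, hzr, sub_self])
    exact ⟨fun h => by simpa using m.add_mem hr h, fun h => by simpa using m.sub_mem h hr⟩
  let V2 : (Spec R').Opens := cX ⁻¹ᵁ V
  have hP : (Spec.map qR).base pm ∈ V2 := by
    change cX.base _ ∈ V
    rw [← Scheme.Hom.comp_apply, hqR', Scheme.Hom.comp_apply]
    exact hV _
  haveI : IsClosedImmersion (Spec.map g) := IsClosedImmersion.spec_of_surjective g hsurj
  let lV : (V2 : Scheme.{u}) ⟶ V := IsOpenImmersion.lift V.ι (V2.ι ≫ cX) (by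
    rintro _ ⟨p, rfl⟩; rw [V.range_ι]; exact p.2)
  have hlV : lV ≫ V.ι = V2.ι ≫ cX := IsOpenImmersion.lift_fac _ _ _
  haveI : IsOpenImmersion (lV ≫ V.ι) := by rw [hlV]; infer_instance
  haveI : IsOpenImmersion lV := IsOpenImmersion.of_comp lV V.ι
  haveI : Etale (lV ≫ V.ι ≫ f.left) := inferInstance
  haveI : IsOpenImmersion (V2.ι ≫ Spec.map g) := by
    haveI : Etale ((V2.ι ≫ Spec.map g) ≫ cY) := by
      rw [Category.assoc, ← hg, ← Category.assoc, ← hlV, Category.assoc]
      infer_instance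
    haveI : Etale (V2.ι ≫ Spec.map g) :=
      MorphismProperty.of_postcomp (W := @Etale) (W' := @Etale) _ cY inferInstance inferInstance
    exact IsOpenImmersion.of_flat_of_mono _
  have hmem : pm ∈ (V2.ι ≫ Spec.map g).opensRange := ⟨⟨_, hP⟩, hgm⟩
  obtain ⟨_, ⟨h, rfl⟩, hhm, hle⟩ := PrimeSpectrum.isTopologicalBasis_basic_opens.exists_subset_of_mem_open
    hmem (V2.ι ≫ Spec.map g).opensRange.2
  let loc : R ⟶ CommRingCat.of (Localization.Away h) := CommRingCat.ofHom (algebraMap R (Localization.Away h))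
  obtain ⟨σ, hσ⟩ : ∃ σ : R' ⟶ CommRingCat.of (Localization.Away h), g ≫ σ = loc := by
    obtain ⟨σ, hσ⟩ := Spec.map_surjective (IsOpenImmersion.lift (V2.ι ≫ Spec.map g) (Spec.map loc) (by
      rintro _ ⟨p, rfl⟩
      refine hle ?_
      exact fun hc => p.2.ne_top (Ideal.eq_top_of_isUnit_mem _ hc (IsLocalization.Away.algebraMap_isUnit h))) ≫ V2.ι)
    refine ⟨σ, Spec.map_injective ?_⟩
    rw [Spec.map_comp, hσ, Category.assoc, IsOpenImmersion.lift_fac]
  have h0x : algebraMap R (Localization.Away h) x = 0 := by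
    have e := congr($(hσ) x)
    change σ.hom (g.hom x) = _ at e
    rw [hx, map_zero] at e
    exact e.symm
  obtain ⟨⟨t, n, rfl⟩, ht⟩ := (IsLocalization.map_eq_zero_iff (Submonoid.powers h) _ x).1 h0x
  exact ⟨h ^ n, fun hc => hhm (hm.isPrime.mem_of_pow_mem n hc), ht⟩

/-- An equivariant morphism of locally linear schemes which is an isomorphism on fixed points,
reflects them and is étale around them is an isomorphism. -/
theorem isIso_of_fixed (hX : ∀ x : X.left, ∃ U : X.left.Opens, x ∈ U ∧ IsAffineOpen U ∧ Stable a U)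
    (hY : ∀ y : Y.left, ∃ U : Y.left.Opens, y ∈ U ∧ IsAffineOpen U ∧ Stable b U)
    (hf : Magnet.MonAct.IsEquivariant a b f) (h1 : IsIso (Magnet.MonAct.fixedPsh.map f hf))
    (h2 : IsPullback (Magnet.MonAct.fixedPsh.map f hf) (Magnet.MonAct.fixedPshι a)
      (Magnet.MonAct.fixedPshι b) (yoneda.map f))
    (V : X.left.Opens) [Etale (V.ι ≫ f.left)]
    (h3 : ∀ (T : Over S) (x : (Magnet.MonAct.fixedPsh a).obj (op T)), x.1.left ⁻¹ᵁ V = ⊤) :
    IsIso f := by
  have hb : ∀ T : Over S, Function.Bijective ((Magnet.MonAct.fixedPsh.map f hf).app (op T)) := fun T =>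
    (isIso_iff_bijective _).1 inferInstance
  obtain ⟨qf, hqf⟩ := (hb Y).2 (zFix b)
  have hq₁ : qf.1 ≫ f = z b := congrArg Subtype.val hqf
  have hzf := z_comp hf
  have hq₂ : f ≫ qf.1 = z a := by
    have e : (Magnet.MonAct.fixedPsh a).map f.op qf = zFix a := (hb X).1 (Subtype.ext (by
      change (f ≫ qf.1) ≫ f = z a ≫ f
      rw [Category.assoc, hq₁, hzf]))
    exact congrArg Subtype.val e
  have hzq : z b ≫ qf.1 = qf.1 := by
    have e : (Magnet.MonAct.fixedPsh a).map (z b).op qf = qf := (hb Y).1 (Subtype.ext (by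
      change (z b ≫ qf.1) ≫ f = qf.1 ≫ f
      rw [Category.assoc, hq₁, z_z]))
    exact congrArg Subtype.val e
  have hcart : ∀ {T : Over S} (x : T ⟶ X), (x ≫ f) ≫ z b = x ≫ f → x ≫ z a = x := by
    intro T x hx
    have hfx : ∀ (T' : Over S) (t : T' ⟶ T) (g : T' ⟶ Magnet.AMonS S ℕ),
        lift g (t ≫ x ≫ f) ≫ b.act = t ≫ x ≫ f := fun T' t g => by
      rw [← hx, ← Category.assoc t]
      exact (lift_comp_z b g _).1
    obtain ⟨v, -, hv⟩ := Limits.Types.exists_of_isPullback (h2.map ((evaluation _ _).obj (op T)))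
      (⟨x ≫ f, hfx⟩ : (Magnet.MonAct.fixedPsh b).obj (op T)) x rfl
    change v.1 = x at hv
    have h := v.2 T (𝟙 T) (nu 0)
    rw [Category.id_comp, hv] at h
    rw [comp_z, h]
  have hV : ∀ p, qf.1.left.base p ∈ V := fun p => by
    change p ∈ qf.1.left ⁻¹ᵁ V
    rw [h3 Y qf]
    trivial
  have hpt : ∀ p, f.left.base (qf.1.left.base p) = (z b).left.base p := fun p => by
    rw [← Scheme.Hom.comp_apply, ← Over.comp_left, hq₁]
  have hzq' : ∀ p, qf.1.left.base ((z b).left.base p) = qf.1.left.base p := fun p => by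
    rw [← Scheme.Hom.comp_apply, ← Over.comp_left, hzq]
  have hqf' : ∀ p, qf.1.left.base (f.left.base p) = (z a).left.base p := fun p => by
    rw [← Scheme.Hom.comp_apply, ← Over.comp_left, hq₂]
  have hzz : ∀ p, (z b).left.base ((z b).left.base p) = (z b).left.base p := fun p => by
    rw [← Scheme.Hom.comp_apply, ← Over.comp_left, z_z]
  suffices H : ∀ y : Y.left, ∃ U₂ : Y.left.Opens, y ∈ U₂ ∧ IsIso (f.left ∣_ U₂) by
    choose U₂ hy hiso using H
    haveI : IsIso f.left := by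
      refine (IsZariskiLocalAtTarget.iff_of_iSup_eq_top (P := MorphismProperty.isomorphisms Scheme.{u}) U₂
        (top_le_iff.mp fun y _ => TopologicalSpace.Opens.mem_iSup.mpr ⟨y, hy y⟩)).2 hiso
    haveI : IsIso ((Over.forget S).map f) := (inferInstance : IsIso f.left)
    exact isIso_of_reflects_iso f (Over.forget S)
  intro y
  obtain ⟨U, hyU, hU, hUs⟩ := hY y
  obtain ⟨U', hqU', hU', hUs'⟩ := hX (qf.1.left.base y)
  obtain ⟨A₁, hA₁, hzA₁, hA₁le⟩ := exists_isAffineOpen_mem_and_subset (X := Y.left)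
    (x := (z b).left.base y) (U := U ⊓ qf.1.left ⁻¹ᵁ U') ⟨hUs.z_mem hyU, by
      change qf.1.left.base _ ∈ U'; rwa [hzq']⟩
  let U₁ : Y.left.Opens := U ⊓ (z b).left ⁻¹ᵁ A₁
  have hU₁ : IsAffineOpen U₁ := isAffineOpen_inf_preimage hU hU hA₁ (fun p hp => (hA₁le hp).1) _
    (fun p hp => hUs.z_mem hp)
  have hU₁q : U₁ ≤ qf.1.left ⁻¹ᵁ U' := fun p hp => by
    have := (hA₁le hp.2).2
    change qf.1.left.base _ ∈ U' at this ⊢
    rwa [hzq'] at this
  have hyU₁ : y ∈ U₁ := ⟨hyU, hzA₁⟩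
  have hzU₁ : ∀ p ∈ U₁, (z b).left.base p ∈ U₁ := fun p hp => ⟨hUs.z_mem hp.1, by
    change (z b).left.base ((z b).left.base p) ∈ A₁
    rw [hzz]; exact hp.2⟩
  obtain ⟨A₂, hA₂, hqA₂, hA₂le⟩ := exists_isAffineOpen_mem_and_subset (X := X.left)
    (x := qf.1.left.base y) (U := U' ⊓ f.left ⁻¹ᵁ U₁) ⟨hqU', by
      change f.left.base _ ∈ U₁; rw [hpt]; exact hzU₁ y hyU₁⟩
  let U₂ : Y.left.Opens := U₁ ⊓ qf.1.left ⁻¹ᵁ A₂
  have hU₂ : IsAffineOpen U₂ := isAffineOpen_inf_preimage hU₁ hU' hA₂ (fun p hp => (hA₂le hp).1) _ hU₁q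
  let X₂ : X.left.Opens := U' ⊓ (z a).left ⁻¹ᵁ A₂
  have hX₂ : IsAffineOpen X₂ := isAffineOpen_inf_preimage hU' hU' hA₂ (fun p hp => (hA₂le hp).1) _
    (fun p hp => hUs'.z_mem hp)
  have hXeq : f.left ⁻¹ᵁ U₂ = X₂ := by
    apply le_antisymm
    · intro p hp
      have h4 : (z a).left.base p ∈ A₂ := by rw [← hqf']; exact hp.2
      exact ⟨hUs'.mem_of_z_mem (hA₂le h4).1, h4⟩
    · intro p hp
      have h4 : (z a).left.base p ∈ A₂ := hp.2
      have h5 : f.left.base ((z a).left.base p) ∈ U₁ := (hA₂le h4).2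
      rw [← Scheme.Hom.comp_apply, ← Over.comp_left, hzf, Over.comp_left, Scheme.Hom.comp_apply] at h5
      refine ⟨⟨hUs.mem_of_z_mem h5.1, ?_⟩, ?_⟩
      · have h6 := h5.2
        change (z b).left.base ((z b).left.base _) ∈ A₁ at h6
        rwa [hzz] at h6
      · change qf.1.left.base (f.left.base p) ∈ A₂
        rw [hqf']; exact h4
  have hazz : ∀ {Z : Over S} (c : Magnet.MonAct (Magnet.AMonS S ℕ) Z) (t : (Magnet.AMonS S ℕ ⊗ Z).left),
      (z c).left.base (c.act.left.base t) = (z c).left.base ((snd (Magnet.AMonS S ℕ) Z).left.base t) := by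
    intro Z c t
    rw [← Scheme.Hom.comp_apply, ← Scheme.Hom.comp_apply, ← Over.comp_left, ← Over.comp_left, act_z]
  have hU₁s : Stable b U₁ := fun t ht => ⟨hUs ht.1, by
    change (z b).left.base (b.act.left.base t) ∈ A₁
    rw [hazz]; exact ht.2⟩
  have hU₂s : Stable b U₂ := fun t ht => ⟨hU₁s ht.1, by
    change qf.1.left.base (b.act.left.base t) ∈ A₂
    rw [← hzq', hazz, hzq']; exact ht.2⟩
  have hX₂s : Stable a X₂ := fun t ht => ⟨hUs' ht.1, by
    change (z a).left.base (a.act.left.base t) ∈ A₂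
    rw [hazz]; exact ht.2⟩
  refine ⟨U₂, ⟨hyU₁, hqA₂⟩, ?_⟩
  have hpre : IsAffineOpen (f.left ⁻¹ᵁ U₂) := by rw [hXeq]; exact hX₂
  have hbij := bijective_of_affine hf qf.1 hq₁ hq₂ hcart V hV (R := Γ(Y.left, U₂))
    (R' := Γ(X.left, f.left ⁻¹ᵁ U₂)) hU₂.fromSpec hpre.fromSpec
    (by rw [hU₂.opensRange_fromSpec]; exact hU₂s)
    (by rw [hpre.opensRange_fromSpec, hXeq]; exact hX₂s)
    (f.left.appLE U₂ (f.left ⁻¹ᵁ U₂) le_rfl)
    (hU₂.SpecMap_appLE_fromSpec f.left hpre le_rfl).symm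
    (fun p => by
      rw [hpre.opensRange_fromSpec, hXeq]
      have hp : hU₂.fromSpec.base p ∈ U₂ := by
        rw [← SetLike.mem_coe, ← hU₂.range_fromSpec]; exact ⟨p, rfl⟩
      refine ⟨hU₁q hp.1, ?_⟩
      change (z a).left.base (qf.1.left.base _) ∈ A₂
      rw [← hqf', hpt, hzq']
      exact hp.2)
  haveI : IsIso (f.left.appLE U₂ (f.left ⁻¹ᵁ U₂) le_rfl) :=
    (RingEquiv.ofBijective _ hbij).toCommRingCatIso.isIso_hom
  have e : f.left ∣_ U₂ = hpre.isoSpec.hom ≫ Spec.map (f.left.appLE U₂ (f.left ⁻¹ᵁ U₂) le_rfl) ≫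
      hU₂.isoSpec.inv := by
    rw [← cancel_mono U₂.ι, morphismRestrict_ι, Category.assoc, Category.assoc, hU₂.isoSpec_inv_ι,
      hU₂.SpecMap_appLE_fromSpec f.left hpre le_rfl, ← hpre.isoSpec_inv_ι, Category.assoc,
      Iso.hom_inv_id_assoc]
  rw [e]
  infer_instance

end Groth.Agent.Lib.GrpSch.LineAct
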