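import Groth.Agent.Lib.GrpSch.Basic
import Groth.Agent.Lib.Normalization.Birational
import Groth.Agent.Lib.Normalization.InFieldVariety
import Groth.Agent.Lib.SchDense.Basic
import Groth.Prelude.Def_AlgGrp

/-!
# The normalization of a variety as an equivariant birational morphism
-/

set_option autoImplicit false

universe u

open CategoryTheory MonoidalCategory CartesianMonoidalCategory CategoryTheory.Limits AlgebraicGeometry

namespace Groth.Agent.Lib.GrpSch.NormAct

open Groth.Agent.Lib.Normalization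

/-- The normalization of a variety is an isomorphism over a dense open subset. -/
theorem exists_isIso_restrict {k : Type u} [Field k] (X : Over (Spec (CommRingCat.of k)))
    [IsIntegral X.left] [LocallyOfFiniteType X.hom]
    [QuasiCompact (X.left.fromSpecStalk (genericPoint ↥X.left))]
    [QuasiSeparated (X.left.fromSpecStalk (genericPoint ↥X.left))] :
    ∃ U : X.left.Opens, (U : Set ↥X.left).Nonempty ∧ IsIso (Curv2.normalizationι X.left ∣_ U) := by
  letI : X.left.Over (Spec (CommRingCat.of k)) := ⟨X.hom⟩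
  haveI : LocallyOfFiniteType (X.left ↘ Spec (CommRingCat.of k)) := ‹LocallyOfFiniteType X.hom›
  obtain ⟨U, -, hne, hiso⟩ := Birational.exists_iso X.left fun U hne hU => by
    haveI := hne
    haveI := InFieldVariety.isFinite_normalizationι k X.left
    have h := (Curv2.normalizationι X.left).finite_app U hU
    let := ((Curv2.normalizationι X.left).app U).hom.toAlgebra
    haveI : Module.Finite Γ(X.left, U)
        Γ(Curv2.normalization X.left, (Curv2.normalizationι X.left) ⁻¹ᵁ U) := h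
    exact Module.Finite.equiv (AlgEquiv.ofRingEquiv (f := Basic.sectionsEquiv X.left hU)
      fun a => Basic.sectionsEquiv_app X.left hU a).toLinearEquiv
  exact ⟨U, hne, hiso⟩

/-- A base change of a morphism which is an isomorphism over `U` is an isomorphism over the
preimage of `U`. -/
theorem isIso_restrict_of_isPullback {P A Z B : Scheme.{u}} {p : P ⟶ A} {q : P ⟶ Z} {ν : A ⟶ B}
    {r : Z ⟶ B} (H : IsPullback p q ν r) (U : B.Opens) [IsIso (ν ∣_ U)] :
    IsIso (q ∣_ (r ⁻¹ᵁ U)) := by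
  have big : IsPullback ((q ⁻¹ᵁ (r ⁻¹ᵁ U)).ι ≫ p) (q ∣_ (r ⁻¹ᵁ U)) ν ((r ⁻¹ᵁ U).ι ≫ r) :=
    (isPullback_morphismRestrict q (r ⁻¹ᵁ U)).flip.paste_horiz H
  have small : IsPullback (ν ⁻¹ᵁ U).ι (ν ∣_ U) ν U.ι := (isPullback_morphismRestrict ν U).flip
  have e : ((q ⁻¹ᵁ (r ⁻¹ᵁ U)).ι ≫ p) ≫ ν = (q ∣_ (r ⁻¹ᵁ U) ≫ r ∣_ U) ≫ U.ι := by
    rw [big.w, Category.assoc, morphismRestrict_ι]
  have t : IsPullback (small.lift ((q ⁻¹ᵁ (r ⁻¹ᵁ U)).ι ≫ p) (q ∣_ (r ⁻¹ᵁ U) ≫ r ∣_ U) e)
      (q ∣_ (r ⁻¹ᵁ U)) (ν ∣_ U) (r ∣_ U) := by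
    refine IsPullback.of_right ?_ (small.lift_snd _ _ _) small
    rw [small.lift_fst, morphismRestrict_ι]
    exact big
  exact (MorphismProperty.isomorphisms Scheme.{u}).of_isPullback t
    (MorphismProperty.isomorphisms.infer_property (ν ∣_ U))

/-- Injectivity over an open over which a morphism is an isomorphism. -/
theorem eq_of_isIso_restrict {A B : Scheme.{u}} (q : A ⟶ B) (W : B.Opens) [IsIso (q ∣_ W)]
    {y y' : ↥A} (hy : q y ∈ W) (h : q y = q y') : y = y' := by
  have hy' : q y' ∈ W := h ▸ hy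
  have hinj : Function.Injective (q ∣_ W) :=
    (inferInstance : IsOpenImmersion (q ∣_ W)).base_open.injective
  have key : ∀ z : ↥((q ⁻¹ᵁ W : A.Opens) : Scheme.{u}),
      W.ι ((q ∣_ W) z) = q ((q ⁻¹ᵁ W).ι z) := fun z => by
    rw [← Scheme.Hom.comp_apply, ← Scheme.Hom.comp_apply, morphismRestrict_ι]
  exact congrArg Subtype.val (hinj (a₁ := ⟨y, hy⟩) (a₂ := ⟨y', hy'⟩)
    (W.ι.isOpenEmbedding.injective ((key _).trans (h.trans (key ⟨y', hy'⟩).symm))))

variable {k : Type u} [Field k] {X Y : Over (Spec (CommRingCat.of k))} (n : Y ⟶ X)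

/-- For `n` an isomorphism over `U`, the map `n × n` is injective over `U × U`. -/
theorem tensorHom_eq {U : X.left.Opens} [IsIso (n.left ∣_ U)] {y y' : ↥(Y ⊗ Y).left}
    (h1 : (fst X X).left ((n ⊗ₘ n).left y) ∈ U) (h2 : (snd X X).left ((n ⊗ₘ n).left y) ∈ U)
    (h : (n ⊗ₘ n).left y = (n ⊗ₘ n).left y') : y = y' := by
  have e : ∀ z, (n ⊗ₘ n).left z = (X ◁ n).left ((n ▷ Y).left z) := fun z => by
    rw [← Scheme.Hom.comp_apply, ← Over.comp_left, ← tensorHom_def]
  rw [e, e] at h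
  rw [e] at h1 h2
  haveI : IsIso ((X ◁ n).left ∣_ ((snd X X).left ⁻¹ᵁ U)) :=
    isIso_restrict_of_isPullback
      (Groth.Agent.Lib.GrpSch.isPullback_whiskerLeft X n).flip U
  have h' := eq_of_isIso_restrict (X ◁ n).left ((snd X X).left ⁻¹ᵁ U) h2 h
  haveI : IsIso ((n ▷ Y).left ∣_ ((fst X Y).left ⁻¹ᵁ U)) :=
    isIso_restrict_of_isPullback (Groth.Agent.Lib.GrpSch.isPullback_whiskerRight n Y).flip U
  refine eq_of_isIso_restrict (n ▷ Y).left ((fst X Y).left ⁻¹ᵁ U) ?_ h'
  show (fst X Y).left ((n ▷ Y).left y) ∈ U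
  rw [← Scheme.Hom.comp_apply, ← Over.comp_left, whiskerLeft_fst] at h1
  exact h1

end Groth.Agent.Lib.GrpSch.NormAct
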