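import Groth.Agent.Lib.ActSep.GrpDim
import Groth.Agent.Lib.GrpSch.OrbitDim

/-!
# The dimension formula for orbits
-/

universe u

open CategoryTheory Limits MonoidalCategory CartesianMonoidalCategory MonObj AlgebraicGeometry Topology
open Groth.Agent.Lib Groth.Agent.Lib.GrpQ.MonoClosed Groth.Agent.Lib.FibreDim.Basic Groth.Agent.Lib.ActSep

namespace Groth.Agent.Lib.GrpSch

variable {k : Type u} [Field k] [IsAlgClosed k]
variable {G X : Over (Spec (CommRingCat.of k))} [GrpObj G] [LocallyOfFiniteType G.hom] [QuasiCompact G.hom]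
  [LocallyOfFiniteType X.hom] [QuasiCompact X.hom]
  (a : AlgGrp.Action G X) (o : 𝟙_ (Over (Spec (CommRingCat.of k))) ⟶ X)

/-- `x ↦ r * x` as an isomorphism. -/
noncomputable def lmulIso (r : 𝟙_ (Over (Spec (CommRingCat.of k))) ⟶ G) : G ≅ G where
  hom := (toUnit G ≫ r) * 𝟙 G
  inv := (toUnit G ≫ r⁻¹) * 𝟙 G
  hom_inv_id := by
    rw [MonObj.comp_mul, Category.comp_id, ← Category.assoc,
      toUnit_unique (_ ≫ toUnit G) (toUnit G), GrpObj.comp_inv, inv_mul_cancel_left]
  inv_hom_id := by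
    rw [MonObj.comp_mul, Category.comp_id, ← Category.assoc,
      toUnit_unique (_ ≫ toUnit G) (toUnit G), GrpObj.comp_inv, mul_inv_cancel_left]

omit [IsAlgClosed k] [LocallyOfFiniteType G.hom] [QuasiCompact G.hom] [LocallyOfFiniteType X.hom] [QuasiCompact X.hom] in
theorem lmul_orbit (r : 𝟙_ (Over (Spec (CommRingCat.of k))) ⟶ G) :
    (lmulIso r).hom ≫ a.orbitMap o = a.orbitMap o ≫ (translate a r).hom := by
  show ((toUnit G ≫ r) * 𝟙 G) ≫ a.orbitMap o = _
  rw [mul_orbit, Category.id_comp, comp_translate_hom]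

omit [IsAlgClosed k] [LocallyOfFiniteType G.hom] [QuasiCompact G.hom] [LocallyOfFiniteType X.hom] [QuasiCompact X.hom] in
theorem fibreDimAt_lmul (r : 𝟙_ (Over (Spec (CommRingCat.of k))) ⟶ G) (x : G.left) :
    FlatMor.fibreDimAt (a.orbitMap o).left ((lmulIso r).hom.left x) = FlatMor.fibreDimAt (a.orbitMap o).left x := by
  let τ : G.left ≃ₜ G.left := ((Over.forget _).mapIso (lmulIso r)).hom.homeomorph
  let σ : X.left ≃ₜ X.left := ((Over.forget _).mapIso (translate a r)).hom.homeomorph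
  have hc : ∀ y, (a.orbitMap o).left (τ y) = σ ((a.orbitMap o).left y) := by
    intro y
    show (a.orbitMap o).left ((lmulIso r).hom.left y) = (translate a r).hom.left ((a.orbitMap o).left y)
    rw [← Scheme.Hom.comp_apply, ← Scheme.Hom.comp_apply, ← Over.comp_left, ← Over.comp_left, lmul_orbit]
  show FlatMor.fibreDimAt (a.orbitMap o).left (τ x) = _
  rw [fibreDimAt_eq, fibreDimAt_eq]
  let e : ↥((a.orbitMap o).left.base ⁻¹' {(a.orbitMap o).left.base x}) ≃ₜ
      ↥((a.orbitMap o).left.base ⁻¹' {(a.orbitMap o).left.base (τ x)}) :=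
    τ.subtype fun y => by
      show (a.orbitMap o).left y = (a.orbitMap o).left x ↔
        (a.orbitMap o).left (τ y) = (a.orbitMap o).left (τ x)
      rw [hc, hc]
      exact σ.injective.eq_iff.symm
  exact localDim_eq_of_homeomorph e ⟨x, rfl⟩

theorem fibreDimAt_orbit_const (x y : G.left) :
    FlatMor.fibreDimAt (a.orbitMap o).left x = FlatMor.fibreDimAt (a.orbitMap o).left y := by
  have : LocallyOfFiniteType ((a.orbitMap o).left ≫ X.hom) := by rw [Over.w]; infer_instance
  have : LocallyOfFiniteType (a.orbitMap o).left := locallyOfFiniteType_of_comp (a.orbitMap o).left X.hom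
  suffices ∀ x y : G.left,
      FlatMor.fibreDimAt (a.orbitMap o).left x ≤ FlatMor.fibreDimAt (a.orbitMap o).left y from
    le_antisymm (this x y) (this y x)
  intro x y
  by_contra hx
  let L := {z : G.left | FlatMor.fibreDimAt (a.orbitMap o).left z ≤ FlatMor.fibreDimAt (a.orbitMap o).left y}
  have hL : IsOpen L := Groth.Agent.Lib.FibreDim.Semicont.isOpen_setOf_fibreDimAt_le (a.orbitMap o).left _
  obtain ⟨g, hg⟩ := exists_ptOf (X := G) (s := L) hL.isLocallyClosed ⟨y, le_refl (FlatMor.fibreDimAt (a.orbitMap o).left y)⟩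
  obtain ⟨b, hb⟩ := exists_ptOf (X := G) (s := Lᶜ) hL.isClosed_compl.isLocallyClosed ⟨x, hx⟩
  refine hb ?_
  show FlatMor.fibreDimAt (a.orbitMap o).left (ptOf b) ≤ _
  rw [show ptOf b = (lmulIso (b * g⁻¹)).hom.left (ptOf g) by
    rw [ptOf_comp]
    congr 1
    show b = g ≫ ((toUnit G ≫ (b * g⁻¹)) * 𝟙 G)
    rw [MonObj.comp_mul, Category.comp_id, ← Category.assoc, toUnit_unique (g ≫ toUnit G) (𝟙 _),
      Category.id_comp, inv_mul_cancel_right], fibreDimAt_lmul]
  exact hg

theorem dim_eq_add_orbit :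
    topologicalKrullDim G.left = topologicalKrullDim ↥(Set.range (a.orbitMap o).left) +
      topologicalKrullDim ↥((a.orbitMap o).left ⁻¹' {(a.orbitMap o).left (η[G].left (IsLocalRing.closedPoint k))}) := by
  have := quasiCompact_orbitMap a o
  have : LocallyOfFiniteType ((a.orbitMap o).left ≫ X.hom) := by rw [Over.w]; infer_instance
  have : LocallyOfFiniteType (a.orbitMap o).left := locallyOfFiniteType_of_comp (a.orbitMap o).left X.hom
  let e := η[G].left (IsLocalRing.closedPoint k)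
  obtain ⟨d, hd⟩ := Groth.Agent.Lib.FibreDim.Chart.exists_fibreDimAt_eq (a.orbitMap o).left e
  have hconst : ∀ x, FlatMor.fibreDimAt (a.orbitMap o).left x = d := fun x => (fibreDimAt_orbit_const a o x e).trans hd
  have hfib : ∀ z : X.left, z ∈ Set.range (a.orbitMap o).left → topologicalKrullDim ↥((a.orbitMap o).left ⁻¹' {z}) = (d : WithBot ℕ∞) := by
    rintro _ ⟨x, rfl⟩
    refine le_antisymm (topologicalKrullDim_le_of_forall fun w => ?_) ?_
    · exact ((localDim_preimage (a.orbitMap o).left w).trans (hconst w.1)).le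
    · rw [← hconst x, fibreDimAt_eq]
      exact localDim_le_topologicalKrullDim _
  obtain ⟨n, hn⟩ : ∃ n : ℕ, topologicalKrullDim G.left = n := by
    obtain ⟨n, hn⟩ := Groth.Agent.Lib.FibreDim.Chart.exists_fibreDimAt_eq G.hom e
    refine ⟨n, ?_⟩
    rw [fibreDimAt_eq] at hn
    rw [← localDim_eq_topologicalKrullDim G e, ← hn]
    have hu : (G.hom.base ⁻¹' {G.hom.base e} : Set G.left) = Set.univ :=
      Set.eq_univ_of_forall fun w => Subsingleton.elim (α := Spec (CommRingCat.of k)) _ _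
    exact (localDim_eq_of_homeomorph ((Homeomorph.setCongr hu).trans (Homeomorph.Set.univ _)) ⟨e, rfl⟩)
  have hR : IsLocallyClosed (Set.range (a.orbitMap o).left) := isLocallyClosed_range_orbit a o
  have hadd : ∀ z ∈ Set.range (a.orbitMap o).left, VarDim.Basic.pdim X.hom z + d ≤ n := by
    intro z hz
    obtain ⟨x, rfl, hx⟩ := VarDim.Fibre.exists_tdAt_ge (a.orbitMap o).left z d (hfib z hz).ge
    have h1 := VarDim.Basic.pdim_le_topologicalKrullDim_scheme G.hom x
    rw [hn] at h1
    have h2 : VarDim.Basic.pdim G.hom x ≤ n := by exact_mod_cast h1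
    have h3 := VarDim.Fibre.pdim_eq_add G.hom X.hom (a.orbitMap o).left (Over.w (a.orbitMap o)) x
    omega
  classical
  let P : Set ℕ := VarDim.Basic.pdim X.hom '' Set.range (a.orbitMap o).left
  have hP : P.Nonempty := ⟨_, Set.mem_image_of_mem _ ⟨e, rfl⟩⟩
  have hPb : BddAbove P := ⟨n, by rintro _ ⟨z, hz, rfl⟩; have := hadd z hz; omega⟩
  obtain ⟨z₀, hz₀, hz₀m⟩ := Nat.sSup_mem hP hPb
  have hR' : topologicalKrullDim ↥(Set.range (a.orbitMap o).left) = (sSup P : ℕ) := by
    rw [← hz₀m]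
    exact VarDim.Basic.topologicalKrullDim_eq X.hom hR hz₀ fun w hw => by
      rw [hz₀m]; exact le_csSup hPb (Set.mem_image_of_mem _ hw)
  rw [hR', hfib _ ⟨e, rfl⟩, hn]
  have h4 : n ≤ sSup P + d := by
    have h5 : topologicalKrullDim G.left ≤ ((sSup P + d : ℕ) : WithBot ℕ∞) := by
      refine (VarDim.Basic.topologicalKrullDim_scheme_le_iff G.hom _).2 fun x => ?_
      have h1 := VarDim.Fibre.tdAt_le_topologicalKrullDim_fibre (a.orbitMap o).left x
      rw [hfib _ ⟨x, rfl⟩] at h1
      have h1' : VarDim.Basic.tdAt (a.orbitMap o).left x ≤ d := by exact_mod_cast h1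
      have h2 : VarDim.Basic.pdim X.hom ((a.orbitMap o).left x) ≤ sSup P := le_csSup hPb (Set.mem_image_of_mem _ ⟨x, rfl⟩)
      have h3 := VarDim.Fibre.pdim_eq_add G.hom X.hom (a.orbitMap o).left (Over.w (a.orbitMap o)) x
      exact_mod_cast (show VarDim.Basic.pdim G.hom x ≤ sSup P + d by omega)
    rw [hn] at h5
    exact_mod_cast h5
  have h6 : sSup P + d ≤ n := by have := hadd z₀ hz₀; omega
  exact_mod_cast le_antisymm h4 h6

end Groth.Agent.Lib.GrpSch
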