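import Groth.Agent.Lib.GrpSch.Translate
import Groth.Agent.Lib.GrpSch.SmoothReduced
import Groth.Agent.H75.RedKer
import Mathlib.AlgebraicGeometry.Morphisms.SchemeTheoreticallyDominant
import Mathlib.AlgebraicGeometry.Morphisms.LocalFlatDescent
import Mathlib.AlgebraicGeometry.Morphisms.Immersion
import Mathlib.AlgebraicGeometry.Morphisms.FlatMono

/-!
# A reduced orbit of a smooth group scheme is smooth
-/

universe u

open CategoryTheory Limits MonoidalCategory CartesianMonoidalCategory MonObj AlgebraicGeometry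

namespace Groth.Agent.Lib.GrpSch

/-- A morphism with reduced source factors through an immersion as soon as it does so set-theoretically. -/
theorem exists_lift_of_isImmersion {X Y Z : Scheme.{u}} [IsReduced X] (f : X ⟶ Y) (j : Z ⟶ Y) [IsImmersion j]
    (h : Set.range f ⊆ Set.range j) : ∃ g : X ⟶ Z, g ≫ j = f := by
  have hf : Set.range f ⊆ Set.range j.coborderRange.ι :=
    h.trans fun y ⟨z, hz⟩ => ⟨j.liftCoborder z, by rw [← Scheme.Hom.comp_apply, j.liftCoborder_ι, hz]⟩
  have hfac : IsOpenImmersion.lift j.coborderRange.ι f hf ≫ j.coborderRange.ι = f :=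
    IsOpenImmersion.lift_fac _ _ _
  obtain ⟨g, hg⟩ := Groth.Agent.H75.RedKer.exists_lift (IsOpenImmersion.lift j.coborderRange.ι f hf)
    j.liftCoborder (by
      rintro _ ⟨x, rfl⟩
      obtain ⟨z, hz⟩ := h ⟨x, rfl⟩
      refine ⟨z, j.coborderRange.ι.injective ?_⟩
      rw [← Scheme.Hom.comp_apply, j.liftCoborder_ι, hz, ← Scheme.Hom.comp_apply, hfac])
  exact ⟨g, by rw [← j.liftCoborder_ι, ← Category.assoc, hg, hfac]⟩

theorem translate_regular_orbit {S : Scheme.{u}} {G X : Over S} [GrpObj G] (a : AlgGrp.Action G X)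
    (g : 𝟙_ (Over S) ⟶ G) (x : 𝟙_ (Over S) ⟶ X) :
    (translate (regularAction G) g).hom ≫ a.orbitMap x = a.orbitMap x ≫ (translate a g).hom := by
  have : (translate (regularAction G) g).hom = (toUnit G ≫ g) * 𝟙 G := by
    rw [← Category.id_comp (translate (regularAction G) g).hom, comp_translate_hom]
    rfl
  rw [this, mul_orbit, Category.id_comp, comp_translate_hom]

/-- The base change of an orbit morphism is the orbit morphism of the base-changed action. -/
theorem bc_orbitMap {S S' : Scheme.{u}} (f : S' ⟶ S) {G X : Over S} [GrpObj G] (a : AlgGrp.Action G X)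
    (x : 𝟙_ (Over S) ⟶ X) :
    (Over.pullback f).map (a.orbitMap x) =
      (a.bc f).orbitMap (Functor.LaxMonoidal.ε (Over.pullback f) ≫ (Over.pullback f).map x) := by
  rw [AlgGrp.Action.orbitMap, AlgGrp.Action.orbitMap, AlgGrp.Action.bc_act, Functor.map_comp,
    ← Functor.Monoidal.lift_μ, CategoryTheory.Functor.map_id, Functor.map_comp, Category.assoc]
  congr 2
  rw [← Category.assoc]
  congr 1
  exact (cancel_mono (Functor.OplaxMonoidal.η (Over.pullback f))).1 (toUnit_unique _ _)

variable {k : Type u} [Field k] {G X O : Over (Spec (CommRingCat.of k))} [GrpObj G]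

/-- Over an algebraically closed field a reduced scheme onto which the orbit morphism maps surjectively and
which is immersed in `X` is smooth. -/
theorem smooth_of_orbit_of_isAlgClosed [IsAlgClosed k] [LocallyOfFiniteType G.hom] [QuasiCompact G.hom]
    [LocallyOfFiniteType O.hom] [IsReduced O.left] (a : AlgGrp.Action G X)
    (x : 𝟙_ (Over (Spec (CommRingCat.of k))) ⟶ X) (i : O ⟶ X) [IsImmersion i.left] (φ : G ⟶ O)
    [Surjective φ.left] (hφ : φ ≫ i = a.orbitMap x) : Smooth O.hom := by
  have : IsLocallyNoetherian O.left := LocallyOfFiniteType.isLocallyNoetherian O.hom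
  have : JacobsonSpace O.left := LocallyOfFiniteType.jacobsonSpace O.hom
  have : Mono i := (Over.forget _).mono_of_mono_map (inferInstanceAs (Mono i.left))
  have key : ∀ g, ∃ ψ : O ⟶ O, ψ ≫ i = i ≫ (translate a g).hom := fun g => by
    have hsub : Set.range (i ≫ (translate a g).hom).left ⊆ Set.range i.left := by
      rintro _ ⟨o, rfl⟩
      obtain ⟨h, rfl⟩ := φ.left.surjective o
      refine ⟨φ.left ((translate (regularAction G) g).hom.left h), ?_⟩
      rw [← Scheme.Hom.comp_apply, ← Over.comp_left, hφ, ← Scheme.Hom.comp_apply, ← Over.comp_left,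
        ← Scheme.Hom.comp_apply, ← Over.comp_left, reassoc_of% hφ, translate_regular_orbit]
    obtain ⟨ψ, hψ⟩ := exists_lift_of_isImmersion _ i.left hsub
    refine ⟨Over.homMk ψ ?_, Over.OverMorphism.ext hψ⟩
    conv_lhs => rw [← Over.w i, reassoc_of% hψ, Over.w]
  have hopen : IsOpen (O.hom.smoothLocus : Set O.left) := O.hom.smoothLocus.2
  rw [← Scheme.Hom.smoothLocus_eq_top_iff, ← top_le_iff]
  rintro z -
  obtain ⟨c, hc, hcc⟩ := nonempty_inter_closedPoints (X := O.left) (Z := closure {z})
    ⟨z, subset_closure rfl⟩ isClosed_closure.isLocallyClosed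
  refine (specializes_iff_mem_closure.2 hc).mem_open hopen ?_
  have hne : (O.hom.smoothLocus : Set O.left).Nonempty :=
    (Scheme.Hom.dense_smoothLocus_of_perfectField O.hom).nonempty (h := ⟨z⟩)
  obtain ⟨v, hv, hvc⟩ := nonempty_inter_closedPoints hne hopen.isLocallyClosed
  let pc : 𝟙_ (Over (Spec (CommRingCat.of k))) ⟶ O :=
    Over.homMk (pointOfClosedPoint O.hom c hcc) (pointOfClosedPoint_comp O.hom c hcc)
  let pv : 𝟙_ (Over (Spec (CommRingCat.of k))) ⟶ O :=
    Over.homMk (pointOfClosedPoint O.hom v hvc) (pointOfClosedPoint_comp O.hom v hvc)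
  obtain ⟨h, hh⟩ := exists_lift_point φ pc
  obtain ⟨l, hl⟩ := exists_lift_point φ pv
  obtain ⟨ψ, hψ⟩ := key (l * h⁻¹)
  obtain ⟨ψ', hψ'⟩ := key (l * h⁻¹)⁻¹
  have hiso : IsIso ψ := by
    refine ⟨ψ', ?_, ?_⟩ <;> rw [← cancel_mono i]
    · rw [Category.assoc, hψ', reassoc_of% hψ, Category.id_comp, ← translate_mul, inv_mul_cancel, translate_one]
      simp
    · rw [Category.assoc, hψ, reassoc_of% hψ', Category.id_comp, ← translate_mul, mul_inv_cancel, translate_one]
      simp
  have hpt : pc ≫ ψ = pv := by
    rw [← cancel_mono i, Category.assoc, hψ, ← hh, ← hl, Category.assoc, Category.assoc, reassoc_of% hφ, hφ,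
      ← translate_regular_orbit, ← Category.assoc, translate_regular_apply, inv_mul_cancel_right]
  have : IsIso ψ.left := ((Over.forget _).mapIso (asIso ψ)).isIso_hom
  have e : ψ.left ⁻¹ᵁ O.hom.smoothLocus = O.hom.smoothLocus := by
    rw [Scheme.Hom.preimage_smoothLocus_eq]
    congr 1
    exact Over.w ψ
  obtain ⟨s⟩ : Nonempty ↥(Spec (CommRingCat.of k)) := inferInstance
  have e1 : pc.left s = c := pointOfClosedPoint_apply O.hom c hcc s
  have e2 : pv.left s = v := pointOfClosedPoint_apply O.hom v hvc s
  rw [← e]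
  change ψ.left c ∈ O.hom.smoothLocus
  rw [← e1, ← Scheme.Hom.comp_apply, ← Over.comp_left, hpt, e2]
  exact hv

/-- A reduced scheme immersed in `X` with image the orbit of `x` under a smooth group is smooth. -/
theorem smooth_of_orbit [Smooth G.hom] [QuasiCompact G.hom] [LocallyOfFiniteType X.hom]
    (a : AlgGrp.Action G X) (x : 𝟙_ (Over (Spec (CommRingCat.of k))) ⟶ X)
    (i : O ⟶ X) [IsImmersion i.left] [IsReduced O.left]
    (hO : Set.range i.left = Set.range (a.orbitMap x).left) : Smooth O.hom := by
  have : IsReduced G.left := isReduced_of_smooth_field G.hom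
  have : LocallyOfFiniteType O.hom := by rw [← Over.w i]; infer_instance
  obtain ⟨φ, hφ⟩ := exists_lift_of_isImmersion (a.orbitMap x).left i.left hO.ge
  let φ' : G ⟶ O := Over.homMk φ (by rw [← Over.w i, reassoc_of% hφ]; exact Over.w _)
  have hφ' : φ' ≫ i = a.orbitMap x := Over.OverMorphism.ext hφ
  have hs : Surjective φ := ⟨fun o => by
    obtain ⟨g, hg⟩ := hO.le ⟨o, rfl⟩
    exact ⟨g, i.left.injective (by rw [← Scheme.Hom.comp_apply, hφ, hg])⟩⟩
  let e := extBase k (AlgebraicClosure k)
  have : IsDominant φ'.left := inferInstanceAs (IsDominant φ)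
  have : IsLocallyNoetherian G.left := LocallyOfFiniteType.isLocallyNoetherian G.hom
  have : CompactSpace G.left := QuasiCompact.compactSpace_of_compactSpace G.hom
  have : IsNoetherian G.left := ⟨⟩
  have : QuasiCompact φ'.left := inferInstance
  have : IsSchemeTheoreticallyDominant φ'.left := .of_isDominant _
  have : Smooth (Red.bc e G).hom := bc_hom_of e G inferInstance
  have : QuasiCompact (Red.bc e G).hom := bc_hom_of e G inferInstance
  have : LocallyOfFiniteType (Red.bc e O).hom := bc_hom_of e O inferInstance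
  have : IsReduced (Red.bc e G).left := isReduced_of_smooth_field (Red.bc e G).hom
  have : Flat (bcProj e O) := (bcProj_surjective_flat_qc k (AlgebraicClosure k) O).1.2
  have : IsSchemeTheoreticallyDominant ((Over.pullback e).map φ').left :=
    .of_isPullback (isPullback_bc_map e φ').flip
  have : QuasiCompact ((Over.pullback e).map φ').left := bc_map_left_of e φ' inferInstance
  have : IsReduced (Red.bc e O).left :=
    IsSchemeTheoreticallyDominant.isReduced ((Over.pullback e).map φ').left
  have : IsImmersion ((Over.pullback e).map i).left := bc_map_left_of e i inferInstance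
  have : Surjective ((Over.pullback e).map φ').left := bc_map_left_of e φ' hs
  have : MorphismProperty.RespectsIso (@Smooth : MorphismProperty Scheme.{u}) :=
    MorphismProperty.IsStableUnderBaseChange.respectsIso
  refine of_bc_hom k (AlgebraicClosure k) O
    (smooth_of_orbit_of_isAlgClosed (a.bc e)
      (Functor.LaxMonoidal.ε (Over.pullback e) ≫ (Over.pullback e).map x) ((Over.pullback e).map i)
      ((Over.pullback e).map φ') ?_)
  rw [← Functor.map_comp, hφ', bc_orbitMap]

end Groth.Agent.Lib.GrpSch
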