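import Groth.Agent.Lib.GrpSch.MonoCoset

/-!
# A homomorphism which is a closed immersion over the identity component is a closed immersion
-/

set_option autoImplicit false
universe u

open CategoryTheory CategoryTheory.Limits MonoidalCategory CartesianMonoidalCategory MonObj AlgebraicGeometry
open Groth.Agent.Lib.GrpQ.MonoClosed

namespace Groth.Agent.Lib.GrpSch

variable {k : Type u} [Field k]

theorem isClosedImmersion_of_pullback_open [IsAlgClosed k] {H G R Q : Over (Spec (CommRingCat.of k))}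
    [GrpObj H] [GrpObj G] [GrpObj R] [LocallyOfFiniteType G.hom] [LocallyOfFiniteType H.hom]
    (ρ : H ⟶ G) [IsMonHom ρ] (r : R ⟶ G) [IsMonHom r] [IsOpenImmersion r.left] {q₁ : Q ⟶ R} {q₂ : Q ⟶ H}
    (hpb : IsPullback q₁ q₂ r ρ) (hq : IsClosedImmersion q₁.left) : IsClosedImmersion ρ.left := by
  haveI : JacobsonSpace G.left := LocallyOfFiniteType.jacobsonSpace G.hom
  haveI : JacobsonSpace H.left := LocallyOfFiniteType.jacobsonSpace H.hom
  refine IsZariskiLocalAtTarget.of_forall_exists_morphismRestrict fun y => ?_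
  obtain ⟨c, hc⟩ := exists_ptOf (X := G) (s := closure {y}) isClosed_closure.isLocallyClosed
    ⟨y, subset_closure rfl⟩
  have hspec : ∀ W : G.left.Opens, ptOf c ∈ W → y ∈ W := fun W hW =>
    (specializes_iff_mem_closure.2 hc).mem_open W.2 hW
  haveI hopen : ∀ z : 𝟙_ (Over (Spec (CommRingCat.of k))) ⟶ G, IsOpenImmersion (r ≫ (lmulIso z).hom).left :=
    fun z => by
    haveI : IsIso (lmulIso z).hom.left := ((Over.forget _).mapIso (lmulIso z)).isIso_hom
    change IsOpenImmersion (r.left ≫ (lmulIso z).hom.left); infer_instance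
  have hpt : ∀ z : 𝟙_ (Over (Spec (CommRingCat.of k))) ⟶ G, ptOf z ∈ (r ≫ (lmulIso z).hom).left.opensRange :=
    fun z => ⟨ptOf (1 : 𝟙_ (Over (Spec (CommRingCat.of k))) ⟶ R), by
      rw [ptOf_comp]
      congr 1
      rw [← Category.assoc, comp_lmulIso, MonObj.one_comp, _root_.mul_one, toUnit_unique (toUnit _) (𝟙 _),
        Category.id_comp]⟩
  by_cases hne : ∃ w, ρ.left w ∈ (r ≫ (lmulIso c).hom).left.opensRange
  · obtain ⟨h, hh⟩ := exists_ptOf (X := H) (s := ρ.left ⁻¹' (r ≫ (lmulIso c).hom).left.opensRange)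
      ((r ≫ (lmulIso c).hom).left.opensRange.2.preimage ρ.left.continuous).isLocallyClosed hne
    rw [Set.mem_preimage, ptOf_comp] at hh
    obtain ⟨x, hx⟩ := hh
    haveI : JacobsonSpace R.left := by
      haveI : LocallyOfFiniteType R.hom := by rw [← Over.w r]; infer_instance
      exact LocallyOfFiniteType.jacobsonSpace R.hom
    haveI : LocallyOfFiniteType R.hom := by rw [← Over.w r]; infer_instance
    let m := r ≫ (lmulIso c).hom
    obtain ⟨xr, hxr⟩ : ∃ xr : 𝟙_ (Over (Spec (CommRingCat.of k))) ⟶ R, xr ≫ m = h ≫ ρ := by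
      refine ⟨Over.homMk (IsOpenImmersion.lift m.left (h ≫ ρ).left ?_) ?_, Over.OverMorphism.ext ?_⟩
      · rintro _ ⟨t, rfl⟩
        rw [Subsingleton.elim (α := PrimeSpectrum k) t (IsLocalRing.closedPoint k)]
        exact ⟨x, hx⟩
      · rw [← Over.w m, IsOpenImmersion.lift_fac_assoc]; exact Over.w (h ≫ ρ)
      · exact IsOpenImmersion.lift_fac _ _ _
    let m' := r ≫ (lmulIso (h ≫ ρ)).hom
    have hcm : ptOf c ∈ m'.left.opensRange := ⟨ptOf xr⁻¹, by
      rw [ptOf_comp]
      congr 1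
      change xr⁻¹ ≫ r ≫ (lmulIso (h ≫ ρ)).hom = c
      rw [← Category.assoc, comp_lmulIso, toUnit_unique (toUnit _) (𝟙 _), Category.id_comp, GrpObj.inv_comp,
        show h ≫ ρ = xr ≫ r ≫ (lmulIso c).hom from hxr.symm, ← Category.assoc, comp_lmulIso, toUnit_unique (toUnit _) (𝟙 _), Category.id_comp, mul_inv_cancel_right]⟩
    refine ⟨m'.left.opensRange, hspec _ hcm, ?_⟩
    have hlm : (lmulIso h).hom ≫ ρ = ρ ≫ (lmulIso (h ≫ ρ)).hom := by
      rw [comp_lmulIso, lmulIso, MonObj.mul_comp, Category.id_comp, Category.assoc]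
    have hsq' : IsPullback ρ (lmulIso h).hom (lmulIso (h ≫ ρ)).hom ρ :=
      IsPullback.of_vert_isIso ⟨hlm.symm⟩
    have hp := (hpb.paste_vert hsq').map (Over.forget (Spec (CommRingCat.of k)))
    haveI : IsClosedImmersion (pullback.snd ρ.left m'.left) := by
      rw [← show hp.flip.isoPullback.inv ≫ (Over.forget (Spec (CommRingCat.of k))).map q₁ = pullback.snd ρ.left m'.left
        from hp.flip.isoPullback_inv_snd]
      exact (MorphismProperty.cancel_left_of_respectsIso @IsClosedImmersion hp.flip.isoPullback.inv _).2 hq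
    exact (MorphismProperty.arrow_mk_iso_iff @IsClosedImmersion (morphismRestrictOpensRange ρ.left m'.left)).2
      inferInstance
  · refine ⟨_, hspec _ (hpt c), ?_⟩
    haveI : IsEmpty ((ρ.left ⁻¹ᵁ (r ≫ (lmulIso c).hom).left.opensRange : H.left.Opens) : Scheme.{u}) :=
      ⟨fun x => hne ⟨x.1, x.2⟩⟩
    infer_instance

end Groth.Agent.Lib.GrpSch
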