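import Mathlib.Topology.NoetherianSpace
import Mathlib.Topology.Homeomorph.Lemmas
import Mathlib.Algebra.Group.Subgroup.Pointwise
import Mathlib.GroupTheory.Finiteness

/-!
Groups with a Noetherian topology for which translations and inversion are continuous
(e.g. Zariski topologies on points of algebraic groups).
-/

namespace Groth.Agent.Lib.GrpSch.SemiTop

open Set Topology TopologicalSpace

/-- Translations and inversion are continuous. -/
structure IsSemiTop (Γ : Type*) [Group Γ] [TopologicalSpace Γ] : Prop where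
  left : ∀ g : Γ, Continuous fun x => g * x
  right : ∀ g : Γ, Continuous fun x => x * g
  inv : Continuous fun x : Γ => x⁻¹

variable {Γ : Type*} [Group Γ] [TopologicalSpace Γ]

/-- Left translation as a homeomorphism. -/
def IsSemiTop.mulLeft (h : IsSemiTop Γ) (g : Γ) : Γ ≃ₜ Γ where
  toEquiv := Equiv.mulLeft g
  continuous_toFun := h.left g
  continuous_invFun := h.left g⁻¹

theorem IsSemiTop.subgroup (h : IsSemiTop Γ) (H : Subgroup Γ) : IsSemiTop H where
  left g := continuous_induced_rng.2 ((h.left (g : Γ)).comp continuous_subtype_val)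
  right g := continuous_induced_rng.2 ((h.right (g : Γ)).comp continuous_subtype_val)
  inv := continuous_induced_rng.2 (h.inv.comp continuous_subtype_val)

theorem IsSemiTop.conj (h : IsSemiTop Γ) (g : Γ) : Continuous fun x => g * x * g⁻¹ :=
  (h.right g⁻¹).comp (h.left g)

/-- The closure of a subgroup. -/
def IsSemiTop.topClosure (h : IsSemiTop Γ) (H : Subgroup Γ) : Subgroup Γ where
  carrier := closure (H : Set Γ)
  one_mem' := subset_closure H.one_mem
  mul_mem' := by
    intro a b ha hb
    have h1 : ∀ y ∈ (H : Set Γ), ∀ x ∈ closure (H : Set Γ), x * y ∈ closure (H : Set Γ) := fun y hy x hx =>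
      map_mem_closure (f := fun z => z * y) (h.right y) hx fun z hz => H.mul_mem hz hy
    have h2 := map_mem_closure (f := fun z => a * z) (h.left a) hb (t := closure (H : Set Γ)) fun y hy => h1 y hy a ha
    rwa [closure_closure] at h2
  inv_mem' := fun {a} ha => map_mem_closure h.inv ha fun z hz => H.inv_mem hz

@[simp] theorem IsSemiTop.coe_topClosure (h : IsSemiTop Γ) (H : Subgroup Γ) :
    (h.topClosure H : Set Γ) = closure (H : Set Γ) := rfl

omit [Group Γ] in
theorem image_mem_irreducibleComponents (e : Γ ≃ₜ Γ) {s : Set Γ} (hs : s ∈ irreducibleComponents Γ) :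
    e '' s ∈ irreducibleComponents Γ := by
  refine ⟨hs.1.image _ e.continuous.continuousOn, fun t ht hst => ?_⟩
  have h1 : s ⊆ e.symm '' t := fun x hx => ⟨e x, hst ⟨x, hx, rfl⟩, e.symm_apply_apply x⟩
  have h2 := hs.2 (ht.image _ e.symm.continuous.continuousOn) h1
  intro y hy
  exact ⟨e.symm y, h2 ⟨y, hy, rfl⟩, e.apply_symm_apply y⟩

variable [NoetherianSpace Γ]

/-- Every point lies on only one irreducible component. -/
theorem IsSemiTop.component_unique (h : IsSemiTop Γ) {D D' : Set Γ}
    (hD : D ∈ irreducibleComponents Γ) (hD' : D' ∈ irreducibleComponents Γ) {y : Γ} (hy : y ∈ D)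
    (hy' : y ∈ D') : D = D' := by
  have hfin := NoetherianSpace.finite_irreducibleComponents (α := Γ)
  obtain ⟨x, hxD, hx⟩ : ∃ x ∈ D, ∀ E ∈ irreducibleComponents Γ, x ∈ E → E = D := by
    by_contra! hcon
    have hsub : D ⊆ ⋃₀ ((hfin.sdiff (t := {D})).toFinset : Set (Set Γ)) := fun x hx => by
      obtain ⟨E, hE, hxE, hne⟩ := hcon x hx
      exact ⟨E, by simp [hE, hne], hxE⟩
    obtain ⟨E, hE, hDE⟩ := isIrreducible_iff_sUnion_isClosed.1 hD.1 _ (fun E hE => by
      simp at hE; exact isClosed_of_mem_irreducibleComponents E hE.1) hsub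
    simp at hE
    exact hE.2 (hDE.antisymm (hD.2 hE.1.1 hDE)).symm
  let e : Γ ≃ₜ Γ := h.mulLeft (x * y⁻¹)
  have key : ∀ E ∈ irreducibleComponents Γ, y ∈ E → e '' E = D := fun E hE hyE =>
    hx _ (image_mem_irreducibleComponents e hE) ⟨y, hyE, by simp [e, IsSemiTop.mulLeft]⟩
  exact e.injective.image_injective ((key D hD hy).trans (key D' hD' hy').symm)

/-- The identity component: a closed irreducible subgroup of finite index. -/
theorem IsSemiTop.exists_identityComponent (h : IsSemiTop Γ) :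
    ∃ C : Subgroup Γ, IsClosed (C : Set Γ) ∧ IsIrreducible (C : Set Γ) ∧
      (∃ F : Set Γ, F.Finite ∧ ∀ g, ∃ f ∈ F, f⁻¹ * g ∈ C) ∧
      ∀ S : Set Γ, IsIrreducible S → (1 : Γ) ∈ S → S ⊆ C := by
  obtain ⟨D, hD, h1⟩ : ∃ D ∈ irreducibleComponents Γ, (1 : Γ) ∈ D :=
    ⟨_, irreducibleComponent_mem_irreducibleComponents 1, mem_irreducibleComponent⟩
  have hmul : ∀ a ∈ D, (h.mulLeft a) '' D = D := fun a ha =>
    h.component_unique (image_mem_irreducibleComponents _ hD) hD
      ⟨1, h1, by simp [IsSemiTop.mulLeft]⟩ ha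
  let C : Subgroup Γ :=
    { carrier := D
      one_mem' := h1
      mul_mem' := fun {a b} ha hb => (hmul a ha).le ⟨b, hb, rfl⟩
      inv_mem' := fun {a} ha => by
        obtain ⟨b, hb, hab⟩ := (hmul a ha).ge h1
        have hab' : a * b = 1 := hab
        rwa [inv_eq_of_mul_eq_one_right hab'] }
  refine ⟨C, isClosed_of_mem_irreducibleComponents D hD, hD.1, ?_, fun S hS hS1 => ?_⟩
  · have hfin := NoetherianSpace.finite_irreducibleComponents (α := Γ)
    have hrep : ∀ E ∈ irreducibleComponents Γ, ∃ f : Γ, f ∈ E := fun E hE => hE.1.nonempty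
    choose r hr using hrep
    have : Finite (irreducibleComponents Γ) := hfin
    refine ⟨Set.range fun E : irreducibleComponents Γ => r E E.2, Set.finite_range _, fun g => ?_⟩
    let E := (h.mulLeft g) '' D
    have hE : E ∈ irreducibleComponents Γ := image_mem_irreducibleComponents _ hD
    obtain ⟨d, hd, hgd⟩ := hr E hE
    have hgd' : g * d = r E hE := hgd
    refine ⟨r E hE, ⟨⟨E, hE⟩, rfl⟩, ?_⟩
    rw [← hgd', mul_inv_rev, mul_assoc, inv_mul_cancel, mul_one]
    exact C.inv_mem hd
  · obtain ⟨t, ht, hSt, htmax⟩ := exists_preirreducible S hS.isPreirreducible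
    have htc : t ∈ irreducibleComponents Γ :=
      ⟨⟨⟨1, hSt hS1⟩, ht⟩, fun u hu htu => (htmax u hu.isPreirreducible htu).le⟩
    rw [show (C : Set Γ) = D from rfl, h.component_unique hD htc h1 (hSt hS1)]
    exact hSt

omit [TopologicalSpace Γ] [NoetherianSpace Γ] in
/-- A positive power of every element lies in a subgroup of finite index. -/
theorem exists_pow_mem {C : Subgroup Γ} (hC : ∃ F : Set Γ, F.Finite ∧ ∀ g, ∃ f ∈ F, f⁻¹ * g ∈ C) (g : Γ) :
    ∃ m : ℕ, 0 < m ∧ g ^ m ∈ C := by
  obtain ⟨F, hF, h⟩ := hC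
  choose f hf hfg using fun n : ℕ => h (g ^ n)
  obtain ⟨i, -, j, -, hne, hij⟩ := Set.infinite_univ.exists_ne_map_eq_of_mapsTo (fun n _ => hf n) hF
  wlog hlt : i < j generalizing i j
  · exact this j i hne.symm hij.symm (by omega)
  refine ⟨j - i, by omega, ?_⟩
  have h1 := C.mul_mem (C.inv_mem (hfg i)) (hfg j)
  rw [hij, mul_inv_rev, inv_inv, mul_assoc, mul_inv_cancel_left] at h1
  have h2 : g ^ (j - i) = (g ^ i)⁻¹ * g ^ j := by
    rw [eq_inv_mul_iff_mul_eq, ← pow_add, Nat.add_sub_cancel' hlt.le]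
  rwa [h2]

end Groth.Agent.Lib.GrpSch.SemiTop
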