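import Groth.Agent.H83.HopfPts.Points
import Mathlib

/-!
# Rational points of torsors under affine groups over an algebraically closed field

`A` is an algebra with a coaction `ρ : A →ₐ[k] R ⊗ A` of a commutative Hopf algebra `R` whose shear map
`a ⊗ b ↦ ρ a * (1 ⊗ b)` is bijective.  No finiteness is assumed.
-/

set_option autoImplicit false

open TensorProduct
open Groth.Agent.H83.HopfPts

universe u

noncomputable section

namespace Groth.Agent.Lib.GrpSch.TorsorPoint

variable {k : Type u} [Field k] {R : Type u} [CommRing R] [HopfAlgebra k R]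
  {A : Type u} [CommRing A] [Algebra k A] (ρ : A →ₐ[k] R ⊗[k] A)

/-- The shear map. -/
def shear : A ⊗[k] A →ₐ[k] R ⊗[k] A :=
  Algebra.TensorProduct.lift ρ Algebra.TensorProduct.includeRight fun _ _ => Commute.all _ _

theorem shear_tmul (a b : A) : shear ρ (a ⊗ₜ[k] b) = ρ a * (1 ⊗ₜ[k] b) := by
  simp [shear]

theorem shear_tmul_one (a : A) : shear ρ (a ⊗ₜ[k] 1) = ρ a := by
  rw [shear_tmul, ← Algebra.TensorProduct.one_def, mul_one]

/-- `C ⊗ A` inside `R ⊗ A`. -/
def T (C : Subalgebra k R) : Subalgebra k (R ⊗[k] A) :=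
  (Algebra.TensorProduct.map C.val (AlgHom.id k A)).range

theorem tmul_mem_T {C : Subalgebra k R} {c : R} (hc : c ∈ C) (a : A) : c ⊗ₜ[k] a ∈ T (A := A) C :=
  ⟨⟨c, hc⟩ ⊗ₜ a, rfl⟩

/-- The elements coacted on inside `C`. -/
def AC (C : Subalgebra k R) : Subalgebra k A := (T C).comap ρ

theorem mem_AC {C : Subalgebra k R} {x : A} : x ∈ AC ρ C ↔ ρ x ∈ T C := Iff.rfl

theorem T_mono {C D : Subalgebra k R} (h : C ≤ D) : T (A := A) C ≤ T D := by
  rintro _ ⟨z, rfl⟩
  refine ⟨Algebra.TensorProduct.map (Subalgebra.inclusion h) (AlgHom.id k A) z, ?_⟩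
  change Algebra.TensorProduct.map D.val (AlgHom.id k A) _ = Algebra.TensorProduct.map C.val (AlgHom.id k A) z
  rw [← AlgHom.comp_apply, ← Algebra.TensorProduct.map_comp]
  rfl

theorem AC_mono {C D : Subalgebra k R} (h : C ≤ D) : AC ρ C ≤ AC ρ D := fun _ hx => T_mono h hx

theorem exists_finset_mem_T {C : Subalgebra k R} {w : R ⊗[k] A} (hw : w ∈ T C) :
    ∃ s : Finset R, (s : Set R) ⊆ C ∧ ∀ D : Subalgebra k R, (s : Set R) ⊆ D → w ∈ T D := by
  classical
  obtain ⟨z, rfl⟩ := hw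
  induction z using TensorProduct.induction_on with
  | zero => exact ⟨∅, by simp, fun D _ => ⟨0, map_zero _⟩⟩
  | tmul c a =>
    refine ⟨{(c : R)}, by simp, fun D hD => ?_⟩
    exact tmul_mem_T (hD (by simp)) a
  | add x y hx hy =>
    obtain ⟨s, hs, hx⟩ := hx
    obtain ⟨t, ht, hy⟩ := hy
    refine ⟨s ∪ t, by simp [hs, ht], fun D hD => ?_⟩
    rw [Finset.coe_union, Set.union_subset_iff] at hD
    change Algebra.TensorProduct.map C.val (AlgHom.id k A) (x + y) ∈ T D
    rw [map_add]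
    exact add_mem (hx D hD.1) (hy D hD.2)

theorem exists_finset_mem_AC {C : Subalgebra k R} {x : A} (hx : x ∈ AC ρ C) :
    ∃ s : Finset R, (s : Set R) ⊆ C ∧ ∀ D : Subalgebra k R, (s : Set R) ⊆ D → x ∈ AC ρ D :=
  exists_finset_mem_T hx

variable (hco : (Algebra.TensorProduct.map (AlgHom.id k R) ρ).comp ρ =
    (Algebra.TensorProduct.assoc k k k R R A).toAlgHom.comp
      ((Algebra.TensorProduct.map (Bialgebra.comulAlgHom k R) (AlgHom.id k A)).comp ρ))
  (hbij : Function.Bijective (shear ρ))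

/-- `E ⊗ A` inside `A ⊗ A`. -/
def U (E : Subalgebra k A) : Subalgebra k (A ⊗[k] A) :=
  (Algebra.TensorProduct.map E.val (AlgHom.id k A)).range

omit [HopfAlgebra k R] in
theorem tmul_mem_U {E : Subalgebra k A} {e : A} (he : e ∈ E) (a : A) : e ⊗ₜ[k] a ∈ U E :=
  ⟨⟨e, he⟩ ⊗ₜ a, rfl⟩

omit [HopfAlgebra k R] in
theorem exists_finset_mem_U {E : Subalgebra k A} {z : A ⊗[k] A} (hz : z ∈ U E) :
    ∃ s : Finset A, (s : Set A) ⊆ E ∧ ∀ F : Subalgebra k A, (s : Set A) ⊆ F → z ∈ U F := by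
  classical
  obtain ⟨z, rfl⟩ := hz
  induction z using TensorProduct.induction_on with
  | zero => exact ⟨∅, by simp, fun F _ => ⟨0, map_zero _⟩⟩
  | tmul c a =>
    refine ⟨{(c : A)}, by simp, fun F hF => ?_⟩
    exact tmul_mem_U (hF (by simp)) a
  | add x y hx hy =>
    obtain ⟨s, hs, hx⟩ := hx
    obtain ⟨t, ht, hy⟩ := hy
    refine ⟨s ∪ t, by simp [hs, ht], fun F hF => ?_⟩
    rw [Finset.coe_union, Set.union_subset_iff] at hF
    change Algebra.TensorProduct.map E.val (AlgHom.id k A) (x + y) ∈ U F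
    rw [map_add]
    exact add_mem (hx F hF.1) (hy F hF.2)

omit [HopfAlgebra k R] in
theorem mem_of_tmul_one_mem_U [Nontrivial A] {E : Subalgebra k A} {x : A} (h : x ⊗ₜ[k] 1 ∈ U E) : x ∈ E := by
  obtain ⟨l, hl⟩ := Module.Projective.exists_dual_ne_zero k (one_ne_zero (α := A))
  obtain ⟨z, hz⟩ := h
  let f : A ⊗[k] A →ₗ[k] A := (TensorProduct.rid k A).toLinearMap ∘ₗ l.lTensor A
  have h1 : ∀ w : E ⊗[k] A, f (Algebra.TensorProduct.map E.val (AlgHom.id k A) w) ∈ E := fun w => by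
    induction w using TensorProduct.induction_on with
    | zero => simp
    | tmul e a => simpa [f] using E.smul_mem e.2 (l a)
    | add p q hp hq => rw [map_add, map_add]; exact add_mem hp hq
  have h2 := h1 z
  rw [show Algebra.TensorProduct.map E.val (AlgHom.id k A) z = x ⊗ₜ[k] 1 from hz] at h2
  have h3 : l 1 • x ∈ E := by simpa [f] using h2
  simpa [smul_smul, inv_mul_cancel₀ hl] using E.smul_mem h3 (l 1)⁻¹

theorem shear_mem {C : Subalgebra k R} {z : A ⊗[k] A} (hz : z ∈ U (AC ρ C)) : shear ρ z ∈ T C := by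
  obtain ⟨z, rfl⟩ := hz
  induction z using TensorProduct.induction_on with
  | zero => exact ⟨0, by simp⟩
  | tmul x a =>
    change shear ρ ((x : A) ⊗ₜ[k] a) ∈ T C
    rw [shear_tmul]
    exact mul_mem x.2 (tmul_mem_T (one_mem C) a)
  | add p q hp hq =>
    change shear ρ (Algebra.TensorProduct.map (AC ρ C).val (AlgHom.id k A) (p + q)) ∈ T C
    rw [map_add, map_add]
    exact add_mem hp hq

include hco in
/-- The key identity. -/
theorem shear_coassoc :
    ((Algebra.TensorProduct.map (AlgHom.id k R) (shear ρ)).comp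
        ((Algebra.TensorProduct.assoc k k k R A A).toAlgHom.comp
          (Algebra.TensorProduct.map ρ (AlgHom.id k A)))) =
      (Algebra.TensorProduct.assoc k k k R R A).toAlgHom.comp
        ((Algebra.TensorProduct.map (Bialgebra.comulAlgHom k R) (AlgHom.id k A)).comp (shear ρ)) := by
  refine Algebra.TensorProduct.ext ?_ ?_
  · ext a
    have h := AlgHom.congr_fun hco a
    simp only [AlgHom.comp_apply, Algebra.TensorProduct.includeLeft_apply, Algebra.TensorProduct.map_tmul,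
      AlgHom.id_apply, shear_tmul_one]
    refine Eq.trans ?_ h
    change _ = Algebra.TensorProduct.map (AlgHom.id k R) ρ (ρ a)
    generalize ρ a = w
    induction w using TensorProduct.induction_on with
    | zero => simp
    | tmul r b => simp [shear_tmul_one]
    | add p q hp hq =>
      rw [TensorProduct.add_tmul, map_add, map_add, map_add, hp, hq]
  · ext b
    simp [shear_tmul, Algebra.TensorProduct.one_def]

include hco hbij in
/-- The shear map identifies `AC C ⊗ A` with `C ⊗ A`. -/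
theorem mem_U_of_shear_mem {C : Subalgebra k R} (hC : IsHopfSub k R C) {z : A ⊗[k] A} (hz : shear ρ z ∈ T C) :
    z ∈ U (AC ρ C) := by
  let Φ : A →ₗ[k] (R ⧸ C.toSubmodule) ⊗[k] A := C.toSubmodule.mkQ.rTensor A ∘ₗ ρ.toLinearMap
  have hexT : Function.Exact (C.toSubmodule.subtype.rTensor A) (C.toSubmodule.mkQ.rTensor A) :=
    rTensor_exact A (LinearMap.exact_subtype_mkQ _) (Submodule.mkQ_surjective _)
  have hker : ∀ x, Φ x = 0 ↔ x ∈ AC ρ C := fun x => by
    refine (hexT (ρ x)).trans ⟨?_, ?_⟩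
    · rintro ⟨w, hw⟩
      exact ⟨w, hw⟩
    · rintro ⟨w, hw⟩
      exact ⟨w, hw⟩
  have hex : Function.Exact ((AC ρ C).toSubmodule.subtype.rTensor A) (Φ.rTensor A) := by
    refine Module.Flat.rTensor_exact A ?_
    intro x
    rw [hker]
    simp
  suffices h : Φ.rTensor A z = 0 by
    obtain ⟨w, hw⟩ := (hex z).1 h
    exact ⟨w, hw⟩
  -- the image of `C ⊗ A` under the comultiplication is killed
  let N : R ⊗[k] (R ⊗[k] A) →ₗ[k] (R ⧸ C.toSubmodule) ⊗[k] (R ⊗[k] A) := C.toSubmodule.mkQ.rTensor _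
  have h0 : ∀ w ∈ T C, N (Algebra.TensorProduct.assoc k k k R R A
      (Algebra.TensorProduct.map (Bialgebra.comulAlgHom k R) (AlgHom.id k A) w)) = 0 := by
    rintro _ ⟨w, rfl⟩
    induction w using TensorProduct.induction_on with
    | zero => simp
    | tmul c a =>
      obtain ⟨y, hy⟩ := hC.1 c c.2
      change N (Algebra.TensorProduct.assoc k k k R R A ((CoalgebraStruct.comul (R := k) (c : R)) ⊗ₜ a)) = 0
      rw [← hy]
      clear hy
      induction y using TensorProduct.induction_on with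
      | zero => simp
      | tmul c₁ c₂ =>
        have hq : (Submodule.Quotient.mk (c₁ : R) : R ⧸ C.toSubmodule) = 0 :=
          (Submodule.Quotient.mk_eq_zero _).2 c₁.2
        simp [N]
        rw [hq, TensorProduct.zero_tmul]
      | add p q hp hq =>
        rw [map_add, TensorProduct.add_tmul, map_add, map_add, hp, hq, add_zero]
    | add p q hp hq =>
      simp only [map_add, AlgHom.toRingHom_eq_coe, RingHom.coe_coe] at hp hq ⊢
      rw [hp, hq, add_zero]
  have h1 := h0 _ hz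
  rw [show Algebra.TensorProduct.assoc k k k R R A
      (Algebra.TensorProduct.map (Bialgebra.comulAlgHom k R) (AlgHom.id k A) (shear ρ z)) =
      Algebra.TensorProduct.map (AlgHom.id k R) (shear ρ)
        (Algebra.TensorProduct.assoc k k k R A A (Algebra.TensorProduct.map ρ (AlgHom.id k A) z)) from
      (AlgHom.congr_fun (shear_coassoc ρ hco) z).symm] at h1
  let σ : (R ⧸ C.toSubmodule) ⊗[k] (A ⊗[k] A) →ₗ[k] (R ⧸ C.toSubmodule) ⊗[k] (R ⊗[k] A) :=
    (shear ρ).toLinearMap.lTensor _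
  have hσ : Function.Injective σ := Module.Flat.lTensor_preserves_injective_linearMap _ hbij.1
  have h2 : ∀ v : (R ⊗[k] A) ⊗[k] A,
      N (Algebra.TensorProduct.map (AlgHom.id k R) (shear ρ) (Algebra.TensorProduct.assoc k k k R A A v)) =
        σ (TensorProduct.assoc k _ A A ((C.toSubmodule.mkQ.rTensor A).rTensor A v)) := fun v => by
    induction v using TensorProduct.induction_on with
    | zero => simp
    | tmul w b =>
      induction w using TensorProduct.induction_on with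
      | zero => simp
      | tmul r a => simp [N, σ]
      | add p q hp hq => simp only [TensorProduct.add_tmul, map_add, hp, hq]
    | add p q hp hq => simp only [map_add, hp, hq]
  rw [h2, map_eq_zero_iff σ hσ, LinearEquiv.map_eq_zero_iff] at h1
  have h3 : Φ.rTensor A z =
      (C.toSubmodule.mkQ.rTensor A).rTensor A (Algebra.TensorProduct.map ρ (AlgHom.id k A) z) := by
    rw [show Φ.rTensor A = (C.toSubmodule.mkQ.rTensor A).rTensor A ∘ₗ ρ.toLinearMap.rTensor A from
      LinearMap.rTensor_comp _ _ _]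
    rfl
  rw [h3, h1]

include hbij in
theorem AC_bot [Nontrivial A] : AC ρ ⊥ = ⊥ := by
  refine le_antisymm (fun x hx => ?_) bot_le
  have h1 : ∀ w ∈ T (A := A) (⊥ : Subalgebra k R), ∃ a : A, w = 1 ⊗ₜ[k] a := by
    rintro _ ⟨z, rfl⟩
    induction z using TensorProduct.induction_on with
    | zero => exact ⟨0, by simp⟩
    | tmul c a =>
      obtain ⟨t, ht⟩ := Algebra.mem_bot.1 c.2
      refine ⟨t • a, ?_⟩
      change (c : R) ⊗ₜ[k] a = _
      rw [← ht, Algebra.algebraMap_eq_smul_one, TensorProduct.smul_tmul]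
    | add p q hp hq =>
      obtain ⟨a, ha⟩ := hp
      obtain ⟨b, hb⟩ := hq
      refine ⟨a + b, ?_⟩
      change Algebra.TensorProduct.map _ _ (p + q) = _
      rw [map_add, TensorProduct.tmul_add, ← ha, ← hb]
      rfl
  obtain ⟨a, ha⟩ := h1 _ hx
  have h2 : x ⊗ₜ[k] (1 : A) = (1 : A) ⊗ₜ[k] a := hbij.1 (by
    rw [shear_tmul_one, shear_tmul, map_one, one_mul]
    exact ha)
  exact mem_of_tmul_one_mem_U (h2 ▸ tmul_mem_U (one_mem ⊥) a)

include hbij in
/-- A subalgebra whose tensor with `A` shears onto a generating set of `C` contains `AC C`. -/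
theorem AC_le [Nontrivial A] {C : Subalgebra k R} {E : Subalgebra k A} {S : Set R}
    (hS : C ≤ Algebra.adjoin k S) (h : ∀ r ∈ S, ∃ z ∈ U E, shear ρ z = r ⊗ₜ[k] 1) : AC ρ C ≤ E := by
  intro x hx
  have h1 : T C ≤ (U E).map (shear ρ) := by
    rintro _ ⟨w, rfl⟩
    induction w using TensorProduct.induction_on with
    | zero => exact ⟨0, zero_mem _, by simp⟩
    | tmul c a =>
      change (c : R) ⊗ₜ[k] a ∈ (U E).map (shear ρ)
      rw [show (c : R) ⊗ₜ[k] a = ((c : R) ⊗ₜ[k] (1 : A)) * ((1 : R) ⊗ₜ[k] a) by simp]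
      refine mul_mem ?_ ⟨(1 : A) ⊗ₜ[k] a, tmul_mem_U (one_mem E) a, ?_⟩
      · have hle : Algebra.adjoin k S ≤ ((U E).map (shear ρ)).comap Algebra.TensorProduct.includeLeft := by
          refine Algebra.adjoin_le fun r hr => ?_
          obtain ⟨z, hz, hz'⟩ := h r hr
          exact ⟨z, hz, hz'⟩
        exact hle (hS c.2)
      · exact (shear_tmul ρ 1 a).trans (by rw [map_one, one_mul])
    | add p q hp hq =>
      change Algebra.TensorProduct.map C.val (AlgHom.id k A) (p + q) ∈ (U E).map (shear ρ)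
      rw [map_add]
      exact add_mem hp hq
  obtain ⟨z, hz, hz'⟩ := h1 hx
  have : z = x ⊗ₜ[k] 1 := hbij.1 (by rw [shear_tmul_one]; exact hz')
  exact mem_of_tmul_one_mem_U (this ▸ hz)

include hco hbij in
theorem AC_sup_le [Nontrivial A] {C D : Subalgebra k R} (hC : IsHopfSub k R C) (hD : IsHopfSub k R D) :
    AC ρ (C ⊔ D) ≤ AC ρ C ⊔ AC ρ D := by
  refine AC_le ρ hbij (S := (C : Set R) ∪ D) (by rw [Algebra.adjoin_union, Algebra.adjoin_eq, Algebra.adjoin_eq]) ?_
  intro r hr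
  obtain ⟨z, hz⟩ := hbij.2 (r ⊗ₜ[k] 1)
  refine ⟨z, ?_, hz⟩
  have hmono : ∀ {E F : Subalgebra k A}, E ≤ F → U E ≤ U F := fun {E F} h => by
    rintro _ ⟨w, rfl⟩
    refine ⟨Algebra.TensorProduct.map (Subalgebra.inclusion h) (AlgHom.id k A) w, ?_⟩
    change Algebra.TensorProduct.map F.val (AlgHom.id k A) _ = Algebra.TensorProduct.map E.val (AlgHom.id k A) w
    rw [← AlgHom.comp_apply, ← Algebra.TensorProduct.map_comp]
    rfl
  rcases hr with hr | hr
  · exact hmono le_sup_left (mem_U_of_shear_mem ρ hco hbij hC (hz ▸ tmul_mem_T hr 1))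
  · exact hmono le_sup_right (mem_U_of_shear_mem ρ hco hbij hD (hz ▸ tmul_mem_T hr 1))

include hco hbij in
theorem AC_fg [Nontrivial A] {D : Subalgebra k R} (hD : IsHopfSub k R D) (hfg : D.FG) : (AC ρ D).FG := by
  classical
  obtain ⟨S, hS⟩ := hfg
  have h : ∀ r ∈ S, ∃ s : Finset A, (s : Set A) ⊆ AC ρ D ∧
      ∀ F : Subalgebra k A, (s : Set A) ⊆ F → ∃ z ∈ U F, shear ρ z = r ⊗ₜ[k] 1 := fun r hr => by
    obtain ⟨z, hz⟩ := hbij.2 (r ⊗ₜ[k] 1)
    obtain ⟨s, hs, hs'⟩ := exists_finset_mem_U (mem_U_of_shear_mem ρ hco hbij hD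
      (hz ▸ tmul_mem_T (C := D) (hS ▸ Algebra.subset_adjoin hr) 1))
    exact ⟨s, hs, fun F hF => ⟨z, hs' F hF, hz⟩⟩
  choose s hs hs' using h
  refine ⟨S.attach.biUnion fun r => s r.1 r.2, le_antisymm (Algebra.adjoin_le ?_) ?_⟩
  · intro a ha
    simp only [Finset.coe_biUnion, Set.mem_iUnion] at ha
    obtain ⟨r, -, hr⟩ := ha
    exact hs r.1 r.2 hr
  · refine AC_le ρ hbij (S := (S : Set R)) hS.ge fun r hr => hs' r hr _ fun a ha => Algebra.subset_adjoin ?_
    simp only [Finset.coe_biUnion, Set.mem_iUnion]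
    exact ⟨⟨r, hr⟩, Finset.mem_attach _ _, ha⟩

variable [IsAlgClosed k]

include hco hbij in
/-- The ideal of a partial point stays proper one step further. -/
theorem map_ker_ne_top [Nontrivial A] {C D : Subalgebra k R} (hC : IsHopfSub k R C) (hD : IsHopfSub k R D)
    (hDfg : D.FG) (g : AC ρ C →ₐ[k] k) :
    (RingHom.ker g).map (Subalgebra.inclusion (AC_mono ρ (le_sup_left : C ≤ C ⊔ D))) ≠ ⊤ := by
  classical
  intro htop
  obtain ⟨n, x, y, hy, hsum⟩ : ∃ (n : ℕ) (x : Fin n → AC ρ (C ⊔ D)) (y : Fin n → AC ρ C),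
      (∀ i, g (y i) = 0) ∧ ∑ i, (x i : A) * (y i : A) = 1 := by
    have h1 : (1 : AC ρ (C ⊔ D)) ∈
        Submodule.span (AC ρ (C ⊔ D)) (Subalgebra.inclusion (AC_mono ρ (le_sup_left : C ≤ C ⊔ D)) ''
          (RingHom.ker g : Set (AC ρ C))) := (Ideal.eq_top_iff_one _).1 htop
    obtain ⟨n, x, v, hv⟩ := Submodule.mem_span_set'.1 h1
    choose y hy hy' using fun i => (v i).2
    refine ⟨n, x, y, fun i => hy i, ?_⟩
    have h2 := congrArg (Subtype.val : AC ρ (C ⊔ D) → A) hv
    simp only [← hy', smul_eq_mul] at h2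
    rw [AddSubmonoidClass.coe_finset_sum] at h2
    exact h2
  -- finite levels
  choose sy hsy hsy' using fun i => exists_finset_mem_AC ρ (y i).2
  choose sx hsx hsx' using fun i => exists_finset_mem_AC ρ (x i).2
  choose tx htx htx' using fun p : {r // r ∈ Finset.univ.biUnion sx} => exists_finset_of_mem_sup
    (show p.1 ∈ C ⊔ D by
      have := p.2
      simp only [Finset.mem_biUnion] at this
      obtain ⟨i, -, hi⟩ := this
      exact hsx i hi)
  obtain ⟨C₀, hC₀, hsC₀, hfg₀, hH₀⟩ := exists_fg_le hC (Finset.univ.biUnion sy ∪ Finset.univ.biUnion tx) (by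
    simp only [Finset.coe_union, Finset.coe_biUnion, Set.union_subset_iff, Set.iUnion_subset_iff]
    exact ⟨fun i _ => hsy i, fun p _ => htx p⟩)
  rw [Finset.coe_union, Set.union_subset_iff] at hsC₀
  have hy0 : ∀ i, (y i : A) ∈ AC ρ C₀ := fun i => hsy' i C₀ fun r hr => hsC₀.1 (by
    simp only [Finset.coe_biUnion, Set.mem_iUnion]; exact ⟨i, Finset.mem_univ i, hr⟩)
  have hx0 : ∀ i, (x i : A) ∈ AC ρ (C₀ ⊔ D) := fun i => hsx' i _ fun r hr => by
    have hr' : r ∈ Finset.univ.biUnion sx := Finset.mem_biUnion.2 ⟨i, Finset.mem_univ i, hr⟩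
    refine sup_le_sup_right (Algebra.adjoin_le fun t ht => hsC₀.2 ?_) D (htx' ⟨r, hr'⟩)
    simp only [Finset.coe_biUnion, Set.mem_iUnion]
    exact ⟨⟨r, hr'⟩, Finset.mem_univ _, ht⟩
  let g₀ : AC ρ C₀ →ₐ[k] k := g.comp (Subalgebra.inclusion (AC_mono ρ hC₀))
  have hg₀ : ∀ i, g₀ ⟨y i, hy0 i⟩ = 0 := fun i => hy i
  -- a field valued point of `C₀ ⊗ A`
  obtain ⟨m, hm⟩ := Ideal.exists_maximal A
  letI := Ideal.Quotient.field m
  let ι : (AC ρ C₀) ⊗[k] A →ₐ[k] (C₀ : Subalgebra k R) ⊗[k] A :=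
    ((AlgEquiv.ofInjective (Algebra.TensorProduct.map C₀.val (AlgHom.id k A))
        (map_val_injective C₀.val Subtype.val_injective (AlgHom.id k A) Function.injective_id)).symm.toAlgHom).comp
      (((shear ρ).comp (Algebra.TensorProduct.map (AC ρ C₀).val (AlgHom.id k A))).codRestrict _
        fun z => shear_mem ρ ⟨z, rfl⟩)
  have hι : ∀ z, Algebra.TensorProduct.map C₀.val (AlgHom.id k A) (ι z) =
      shear ρ (Algebra.TensorProduct.map (AC ρ C₀).val (AlgHom.id k A) z) := fun z =>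
    congrArg Subtype.val ((AlgEquiv.ofInjective (Algebra.TensorProduct.map C₀.val (AlgHom.id k A))
        (map_val_injective C₀.val Subtype.val_injective (AlgHom.id k A) Function.injective_id)).apply_symm_apply _)
  have hιs : Function.Surjective ι := fun w => by
    obtain ⟨z, hz⟩ := hbij.2 (Algebra.TensorProduct.map C₀.val (AlgHom.id k A) w)
    obtain ⟨z', hz'⟩ := mem_U_of_shear_mem ρ hco hbij hH₀ (show shear ρ z ∈ T C₀ from hz ▸ ⟨w, rfl⟩)
    refine ⟨z', map_val_injective C₀.val Subtype.val_injective (AlgHom.id k A) Function.injective_id ?_⟩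
    rw [hι, show Algebra.TensorProduct.map (AC ρ C₀).val (AlgHom.id k A) z' = z from hz', hz]
  have hιi : Function.Injective ι := fun a b hab => by
    refine map_val_injective (AC ρ C₀).val Subtype.val_injective (AlgHom.id k A) Function.injective_id (hbij.1 ?_)
    rw [← hι, ← hι, hab]
  let ιe := AlgEquiv.ofBijective ι ⟨hιi, hιs⟩
  let h : (C₀ : Subalgebra k R) ⊗[k] A →ₐ[k] A ⧸ m :=
    (Algebra.TensorProduct.lift ((Algebra.ofId k (A ⧸ m)).comp g₀) (Ideal.Quotient.mkₐ k m)
      fun _ _ => Commute.all _ _).comp ιe.symm.toAlgHom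
  have hρy : ∀ a : AC ρ C₀, ∃ w, Algebra.TensorProduct.map C₀.val (AlgHom.id k A) w = ρ (a : A) ∧
      h w = algebraMap k _ (g₀ a) := fun a => by
    refine ⟨ι (a ⊗ₜ 1), ?_, ?_⟩
    · rw [hι, Algebra.TensorProduct.map_tmul, map_one]
      exact shear_tmul_one ρ _
    · change (Algebra.TensorProduct.lift ((Algebra.ofId k (A ⧸ m)).comp g₀) (Ideal.Quotient.mkₐ k m)
        fun _ _ => Commute.all _ _) (ιe.symm (ιe (a ⊗ₜ[k] 1))) = _
      rw [AlgEquiv.symm_apply_apply]
      simp
  -- faithful flatness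
  letI := subHopf hH₀
  letI := subHopf (hH₀.sup hD)
  haveI : Algebra.FiniteType k (C₀ ⊔ D : Subalgebra k R) := ⟨(Subalgebra.fg_top _).mpr (hfg₀.sup hDfg)⟩
  let f := inclusion hH₀ (hH₀.sup hD) le_sup_left
  have hff := Groth.Agent.Lib.HopfTransfer.faithfullyFlat_of_injective f
    (fun a b hab => Subalgebra.inclusion_injective (show C₀ ≤ C₀ ⊔ D from le_sup_left) hab)
  letI := (f : C₀ →+* (C₀ ⊔ D : Subalgebra k R)).toAlgebra
  haveI : Module.FaithfullyFlat C₀ (C₀ ⊔ D : Subalgebra k R) := hff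
  let hC₀K : C₀ →ₐ[k] A ⧸ m := h.comp Algebra.TensorProduct.includeLeft
  letI := hC₀K.toRingHom.toAlgebra
  haveI : IsScalarTower k C₀ (A ⧸ m) := IsScalarTower.of_algebraMap_eq fun r => (hC₀K.commutes r).symm
  haveI : IsScalarTower k C₀ (C₀ ⊔ D : Subalgebra k R) := IsScalarTower.of_algebraMap_eq fun r => rfl
  let L := (C₀ ⊔ D : Subalgebra k R) ⊗[C₀] (A ⧸ m)
  have hnt : Nontrivial L := Module.FaithfullyFlat.lTensor_nontrivial C₀ _ (A ⧸ m)
  let Ψ : (C₀ ⊔ D : Subalgebra k R) ⊗[k] A →ₐ[k] L :=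
    Algebra.TensorProduct.lift (Algebra.TensorProduct.includeLeft (R := C₀) (S := k))
      (((Algebra.TensorProduct.includeRight (R := C₀) (A := (C₀ ⊔ D : Subalgebra k R))).restrictScalars k).comp
        (h.comp Algebra.TensorProduct.includeRight)) fun _ _ => Commute.all _ _
  let incl : (C₀ : Subalgebra k R) ⊗[k] A →ₐ[k] (C₀ ⊔ D : Subalgebra k R) ⊗[k] A :=
    Algebra.TensorProduct.map (Subalgebra.inclusion le_sup_left) (AlgHom.id k A)
  have hΨ : Ψ.comp incl = ((Algebra.TensorProduct.includeRight (R := C₀)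
      (A := (C₀ ⊔ D : Subalgebra k R))).restrictScalars k).comp h := by
    refine Algebra.TensorProduct.ext ?_ ?_
    · ext c
      simp only [AlgHom.comp_apply, Algebra.TensorProduct.includeLeft_apply, incl, Algebra.TensorProduct.map_tmul,
        Ψ, Algebra.TensorProduct.lift_tmul, map_one, mul_one]
      change ((Subalgebra.inclusion le_sup_left c : (C₀ ⊔ D : Subalgebra k R)) ⊗ₜ[C₀] (1 : A ⧸ m)) =
        1 ⊗ₜ[C₀] (hC₀K c)
      exact ((Algebra.TensorProduct.includeRight (R := C₀) (A := (C₀ ⊔ D : Subalgebra k R)) (B := A ⧸ m)).commutes c).symm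
    · ext a
      simp [incl, Ψ]
  let emb := Algebra.TensorProduct.map (C₀ ⊔ D : Subalgebra k R).val (AlgHom.id k A)
  have hemb : Function.Injective emb :=
    map_val_injective _ Subtype.val_injective (AlgHom.id k A) Function.injective_id
  choose w hw hw' using fun i => hρy ⟨y i, hy0 i⟩
  choose X hX using fun i => (hx0 i : ρ (x i : A) ∈ T (C₀ ⊔ D))
  have hone : ∑ i, X i * incl (w i) = 1 := hemb (by
    rw [map_sum, map_one, ← map_one ρ, ← hsum, map_sum]
    refine Finset.sum_congr rfl fun i _ => ?_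
    rw [map_mul, map_mul, ← hw i]
    refine congrArg₂ (· * ·) (hX i) ?_
    rw [← AlgHom.comp_apply, ← Algebra.TensorProduct.map_comp]
    rfl)
  have h0 := congrArg Ψ hone
  rw [map_sum, map_one] at h0
  refine zero_ne_one (α := L) (Eq.trans ?_ h0)
  symm
  refine Finset.sum_eq_zero fun i _ => ?_
  rw [map_mul, ← AlgHom.comp_apply Ψ incl, hΨ, AlgHom.comp_apply, hw' i, hg₀ i, map_zero, map_zero, mul_zero]

include hco hbij in
/-- One step of the extension. -/
theorem exists_extend_step [Nontrivial A] {C D : Subalgebra k R} (hC : IsHopfSub k R C) (hD : IsHopfSub k R D)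
    (hDfg : D.FG) (g : AC ρ C →ₐ[k] k) :
    ∃ h : AC ρ (C ⊔ D) →ₐ[k] k, ∀ c : AC ρ C, h (Subalgebra.inclusion (AC_mono ρ le_sup_left) c) = g c := by
  obtain ⟨m, hm, hle⟩ := Ideal.exists_le_maximal _ (map_ker_ne_top ρ hco hbij hC hD hDfg g)
  let E := AC ρ (C ⊔ D)
  let ι : AC ρ C →ₐ[k] E := Subalgebra.inclusion (AC_mono ρ le_sup_left)
  let π : E →ₐ[k] E ⧸ m := Ideal.Quotient.mkₐ k m
  have hπC : ∀ c, π (ι c) = algebraMap k _ (g c) := fun c => by
    have h1 : c - algebraMap k (AC ρ C) (g c) ∈ RingHom.ker g := by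
      rw [RingHom.mem_ker, map_sub, AlgHom.commutes]; simp
    have h2 : π (ι (c - algebraMap k (AC ρ C) (g c))) = 0 :=
      Ideal.Quotient.eq_zero_iff_mem.mpr (hle (Ideal.mem_map_of_mem ι h1))
    rwa [map_sub, AlgHom.commutes, map_sub, AlgHom.commutes, sub_eq_zero] at h2
  let πD : AC ρ D →ₐ[k] E ⧸ m := π.comp (Subalgebra.inclusion (AC_mono ρ le_sup_right))
  haveI : Algebra.FiniteType k (AC ρ D) := ⟨(Subalgebra.fg_top _).mpr (AC_fg ρ hco hbij hD hDfg)⟩
  have hsurj : Function.Surjective πD := by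
    intro z
    obtain ⟨c, rfl⟩ := Ideal.Quotient.mk_surjective z
    let V : Subalgebra k A := (πD.range.comap π).map E.val
    have hV : AC ρ C ⊔ AC ρ D ≤ V := sup_le
      (fun x hx => ⟨ι ⟨x, hx⟩, ⟨algebraMap k (AC ρ D) (g ⟨x, hx⟩), by
        change πD _ = π _
        rw [AlgHom.commutes, hπC]⟩, rfl⟩)
      (fun x hx => ⟨Subalgebra.inclusion (AC_mono ρ le_sup_right) ⟨x, hx⟩, ⟨⟨x, hx⟩, rfl⟩, rfl⟩)
    obtain ⟨c', hc', he⟩ := hV (AC_sup_le ρ hco hbij hC hD c.2)
    obtain rfl : c' = c := Subtype.ext he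
    exact hc'
  haveI : Algebra.FiniteType k (E ⧸ m) := Algebra.FiniteType.of_surjective πD hsurj
  letI := Ideal.Quotient.field m
  haveI : (⊥ : Ideal (E ⧸ m)).IsMaximal := Ideal.bot_isMaximal
  obtain ⟨e, -⟩ := Groth.Agent.Lib.Hopf.Points.exists_point_of_isMaximal (k := k) (⊥ : Ideal (E ⧸ m))
  refine ⟨e.comp π, fun c => ?_⟩
  change e (π (ι c)) = g c
  rw [hπC, AlgHom.commutes]; rfl

include hco hbij in
/-- **A torsor under an affine group over an algebraically closed field has a rational point.** -/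
theorem exists_point [Nontrivial A] : Nonempty (A →ₐ[k] k) := by
  classical
  let fst := AlgHom.fst k A k
  let S : Set (Subalgebra k (A × k)) :=
    {Γ | (∀ x ∈ Γ, x.1 = 0 → x.2 = 0) ∧ ∃ C, IsHopfSub k R C ∧ Γ.map fst = AC ρ C}
  have hbot : IsHopfSub k R (⊥ : Subalgebra k R) := by
    refine ⟨fun b hb => ?_, fun b hb => ?_⟩ <;> obtain ⟨t, rfl⟩ := Algebra.mem_bot.1 hb
    · refine ⟨algebraMap k _ t, ?_⟩
      rw [Algebra.algebraMap_eq_smul_one, map_smul]
      change t • ((⊥ : Subalgebra k R).val 1 ⊗ₜ[k] (⊥ : Subalgebra k R).val 1) = _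
      rw [map_one, Algebra.algebraMap_eq_smul_one, map_smul, ← Algebra.TensorProduct.one_def]
      exact congrArg (t • ·) (Bialgebra.comul_one).symm
    · rw [Algebra.algebraMap_eq_smul_one, map_smul, HopfAlgebra.antipode_one]
      exact Subalgebra.smul_mem _ (one_mem _) t
  let Γ₀ : Subalgebra k (A × k) := ⊥
  have h0 : Γ₀ ∈ S := by
    refine ⟨?_, ⊥, hbot, by rw [Algebra.map_bot, AC_bot ρ hbij]⟩
    intro x hx h
    obtain ⟨t, rfl⟩ := Algebra.mem_bot.1 hx
    have : t = 0 := (algebraMap k A).injective (h.trans (map_zero _).symm)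
    simp [this]
  obtain ⟨Γ, -, hmax⟩ := zorn_le_nonempty₀ S (fun c hc hchain y hy => by
    haveI : Nonempty c := ⟨⟨y, hy⟩⟩
    have hd : Directed (· ≤ ·) (fun i : c => (i : Subalgebra k (A × k))) := hchain.directedOn.directed_val
    refine ⟨⨆ i : c, (i : Subalgebra k (A × k)), ⟨?_, ?_⟩,
      fun z hz => le_iSup (fun i : c => (i : Subalgebra k (A × k))) ⟨z, hz⟩⟩
    · intro x hx h
      rw [← SetLike.mem_coe, Subalgebra.coe_iSup_of_directed hd, Set.mem_iUnion] at hx
      obtain ⟨i, hi⟩ := hx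
      exact (hc i.2).1 x hi h
    · choose C hC hC' using fun i : c => (hc i.2).2
      have hle : ∀ i j : c, (i : Subalgebra k (A × k)) ≤ j → C i ≤ C j := fun i j hij r hr => by
        obtain ⟨z, hz⟩ := hbij.2 (r ⊗ₜ[k] 1)
        have h1 := mem_U_of_shear_mem ρ hco hbij (hC i) (hz ▸ tmul_mem_T hr (1 : A))
        have h2 : z ∈ U (AC ρ (C j)) := by
          obtain ⟨w, rfl⟩ := h1
          refine ⟨Algebra.TensorProduct.map (Subalgebra.inclusion
            (show AC ρ (C i) ≤ AC ρ (C j) by rw [← hC' i, ← hC' j]; exact Subalgebra.map_mono hij))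
            (AlgHom.id k A) w, ?_⟩
          change Algebra.TensorProduct.map (AC ρ (C j)).val (AlgHom.id k A) _ =
            Algebra.TensorProduct.map (AC ρ (C i)).val (AlgHom.id k A) w
          rw [← AlgHom.comp_apply, ← Algebra.TensorProduct.map_comp]
          rfl
        obtain ⟨w, hw⟩ := hz ▸ shear_mem ρ h2
        obtain ⟨l, hl⟩ := Module.Projective.exists_dual_ne_zero k (one_ne_zero (α := A))
        let F : R ⊗[k] A →ₗ[k] R := (TensorProduct.rid k R).toLinearMap ∘ₗ l.lTensor R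
        have h4 : ∀ v : (C j : Subalgebra k R) ⊗[k] A,
            F (Algebra.TensorProduct.map (C j).val (AlgHom.id k A) v) ∈ C j := fun v => by
          induction v using TensorProduct.induction_on with
          | zero => simp
          | tmul e a => simpa [F] using (C j).smul_mem e.2 (l a)
          | add p q hp hq => rw [map_add, map_add]; exact add_mem hp hq
        have h5 := h4 w
        rw [show Algebra.TensorProduct.map (C j).val (AlgHom.id k A) w = r ⊗ₜ[k] 1 from hw] at h5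
        have h6 : l 1 • r ∈ C j := by simpa [F] using h5
        simpa [smul_smul, inv_mul_cancel₀ hl] using (C j).smul_mem h6 (l 1)⁻¹
      have hdC : Directed (· ≤ ·) C := fun i j => (hd i j).imp fun l hl => ⟨hle _ _ hl.1, hle _ _ hl.2⟩
      refine ⟨⨆ i, C i, isHopfSub_of_directed _ hdC hC, le_antisymm ?_ ?_⟩
      · rw [(Subalgebra.gc_map_comap fst).l_iSup, iSup_le_iff]
        intro i
        rw [hC' i]
        exact AC_mono ρ (le_iSup C i)
      · intro a ha
        obtain ⟨s, hs, hs'⟩ := exists_finset_mem_AC ρ ha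
        rw [Subalgebra.coe_iSup_of_directed hdC] at hs
        obtain ⟨i, hi⟩ := Directed.exists_mem_subset_of_finset_subset_biUnion
          (fun a b => (hdC a b).imp fun l hl => ⟨hl.1, hl.2⟩) hs
        have ha' : a ∈ (i : Subalgebra k (A × k)).map fst := by
          rw [hC' i]
          exact hs' _ hi
        exact Subalgebra.map_mono (le_iSup (fun i : c => (i : Subalgebra k (A × k))) i) ha') Γ₀ h0
  obtain ⟨hfun, C, hC, hΓ⟩ := hmax.prop
  let p : Γ →ₐ[k] AC ρ C := (fst.comp Γ.val).codRestrict _ fun x => hΓ ▸ ⟨x.1, x.2, rfl⟩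
  have hp : Function.Bijective p := by
    constructor
    · rw [injective_iff_map_eq_zero]
      intro x hx
      have h1 : (x : A × k).1 = 0 := congrArg Subtype.val hx
      exact Subtype.ext (Prod.ext h1 (hfun _ x.2 h1))
    · rintro ⟨a, ha⟩
      rw [← hΓ] at ha
      obtain ⟨x, hx, rfl⟩ := ha
      exact ⟨⟨x, hx⟩, rfl⟩
  let g' : AC ρ C →ₐ[k] k := ((AlgHom.snd k A k).comp Γ.val).comp (AlgEquiv.ofBijective p hp).symm.toAlgHom
  have htop : ∀ a : A, a ∈ AC ρ C := by
    intro a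
    obtain ⟨z, hz⟩ : ρ a ∈ T (⊤ : Subalgebra k R) := by
      generalize ρ a = w
      induction w using TensorProduct.induction_on with
      | zero => exact zero_mem _
      | tmul r b => exact tmul_mem_T Algebra.mem_top b
      | add p q hp hq => exact add_mem hp hq
    obtain ⟨s, -, hs⟩ := exists_finset_mem_T (show ρ a ∈ T (⊤ : Subalgebra k R) from ⟨z, hz⟩)
    obtain ⟨D, hsD, hDfg, hD⟩ := exists_fg_hopfSubalgebra (k := k) s
    obtain ⟨h, hh⟩ := exists_extend_step ρ hco hbij hC hD hDfg g'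
    let Γ' : Subalgebra k (A × k) := ((AC ρ (C ⊔ D)).val.prod h).range
    have hmap : Γ'.map fst = AC ρ (C ⊔ D) := by
      ext x
      constructor
      · rintro ⟨_, ⟨c, rfl⟩, rfl⟩; exact c.2
      · intro hx; exact ⟨_, ⟨⟨x, hx⟩, rfl⟩, rfl⟩
    have hΓ' : Γ' ∈ S := by
      refine ⟨?_, _, hC.sup hD, hmap⟩
      rintro _ ⟨c, rfl⟩ h1
      have : c = 0 := Subtype.ext h1
      simp [this]
    have hle' : Γ ≤ Γ' := fun x hx => by
      refine ⟨Subalgebra.inclusion (AC_mono ρ le_sup_left) (p ⟨x, hx⟩), Prod.ext rfl ((hh _).trans ?_)⟩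
      change (((AlgEquiv.ofBijective p hp).symm (AlgEquiv.ofBijective p hp ⟨x, hx⟩) : Γ) : A × k).2 = x.2
      rw [AlgEquiv.symm_apply_apply]
    have : a ∈ Γ'.map fst := by
      rw [hmap]
      exact hs _ fun r hr => le_sup_right (a := C) (hsD hr)
    obtain ⟨x, hx, rfl⟩ := this
    rw [← hΓ]
    exact ⟨x, hmax.le_of_ge hΓ' hle' hx, rfl⟩
  exact ⟨g'.comp ((AlgHom.id k A).codRestrict _ htop)⟩

end Groth.Agent.Lib.GrpSch.TorsorPoint
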