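import Mathlib.AlgebraicGeometry.Limits
import Mathlib.AlgebraicGeometry.Morphisms.Immersion
import Mathlib.CategoryTheory.Monoidal.Cartesian.Over
import Mathlib.CategoryTheory.Monoidal.Cartesian.Mon

/-!
# The subfunctor of units of a monoid scheme
-/

universe u

open CategoryTheory Limits MonoidalCategory CartesianMonoidalCategory MonObj AlgebraicGeometry

namespace Groth.Agent.Lib.GrpSch

variable {S : Scheme.{u}} (M : Over S) [MonObj M]

/-- `(m, m') ↦ (m m', m' m)`. -/
noncomputable def unitsMap : M ⊗ M ⟶ M ⊗ M :=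
  lift (fst M M * snd M M) (snd M M * fst M M)

/-- The pairs `(m, m')` with `m m' = m' m = 1`. -/
noncomputable abbrev unitsObj : Over S := pullback (unitsMap M) (lift η[M] η[M])

noncomputable abbrev unitsPair : unitsObj M ⟶ M ⊗ M := pullback.fst _ _

theorem comp_unitsMap {T : Over S} (p : T ⟶ M ⊗ M) :
    p ≫ unitsMap M = lift ((p ≫ fst M M) * (p ≫ snd M M)) ((p ≫ snd M M) * (p ≫ fst M M)) := by
  rw [unitsMap, comp_lift, comp_mul, comp_mul]

theorem unitsPair_spec {T : Over S} (g : T ⟶ unitsObj M) :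
    (g ≫ unitsPair M ≫ fst M M) * (g ≫ unitsPair M ≫ snd M M) = 1 ∧
      (g ≫ unitsPair M ≫ snd M M) * (g ≫ unitsPair M ≫ fst M M) = 1 := by
  have h : (g ≫ unitsPair M) ≫ unitsMap M =
      (g ≫ pullback.snd (unitsMap M) (lift η[M] η[M])) ≫ lift η[M] η[M] := by
    rw [Category.assoc, Category.assoc]
    exact congrArg (g ≫ ·) (pullback.condition (f := unitsMap M) (g := lift η[M] η[M]))
  rw [comp_unitsMap, comp_lift, Category.assoc, Category.assoc] at h
  have e : (g ≫ pullback.snd (unitsMap M) (lift η[M] η[M])) ≫ η[M] = 1 := by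
    rw [Hom.one_def]
    congr 1
    exact toUnit_unique _ _
  rw [e] at h
  exact ⟨by simpa [unitsPair] using congrArg (· ≫ fst M M) h, by simpa [unitsPair] using congrArg (· ≫ snd M M) h⟩

theorem unitsObj_factor_iff {T : Over S} (m : T ⟶ M) :
    (∃ g : T ⟶ unitsObj M, g ≫ unitsPair M ≫ fst M M = m) ↔ IsUnit m := by
  constructor
  · rintro ⟨g, rfl⟩
    exact ⟨⟨_, _, (unitsPair_spec M g).1, (unitsPair_spec M g).2⟩, rfl⟩
  · rintro ⟨w, rfl⟩
    refine ⟨pullback.lift (lift w.1 w.inv) (toUnit T) ?_, ?_⟩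
    · rw [comp_unitsMap, lift_fst, lift_snd, Units.val_inv, Units.inv_val, comp_lift, Hom.one_def]
    · rw [unitsPair, pullback.lift_fst_assoc, lift_fst]

theorem mono_unitsPair_fst : Mono (unitsPair M ≫ fst M M) := by
  refine ⟨fun {T} g h e => ?_⟩
  have hg := unitsPair_spec M g
  have hh := unitsPair_spec M h
  have e2 : g ≫ unitsPair M ≫ snd M M = h ≫ unitsPair M ≫ snd M M := by
    rw [← _root_.one_mul (g ≫ unitsPair M ≫ snd M M), ← hh.2, _root_.mul_assoc, ← e, hg.1, _root_.mul_one]
  have e3 : g ≫ unitsPair M = h ≫ unitsPair M :=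
    CartesianMonoidalCategory.hom_ext _ _ (by simpa using e) (by simpa using e2)
  exact pullback.hom_ext e3 (toUnit_unique _ _)

theorem isPullback_unitsObj_left :
    IsPullback (unitsPair M).left (pullback.snd (unitsMap M) (lift η[M] η[M])).left
      (unitsMap M).left (lift η[M] η[M]).left :=
  (IsPullback.of_hasPullback (unitsMap M) (lift η[M] η[M])).map (Over.forget S)

theorem isAffine_unitsObj [IsAffine S] [IsAffine M.left] : IsAffine (unitsObj M).left := by
  have : IsAffine (M ⊗ M).left := inferInstanceAs (IsAffine (pullback M.hom M.hom))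
  have : IsAffine (𝟙_ (Over S)).left := inferInstanceAs (IsAffine S)
  exact .of_isIso (isPullback_unitsObj_left M).isoPullback.hom

theorem isImmersion_unitsPair : IsImmersion (unitsPair M).left := by
  have : IsImmersion ((lift η[M] η[M]).left ≫ (M ⊗ M).hom) := by
    rw [Over.w]
    exact inferInstanceAs (IsImmersion (𝟙 S))
  have := IsImmersion.of_comp (lift η[M] η[M]).left (M ⊗ M).hom
  exact MorphismProperty.of_isPullback (P := @IsImmersion) (isPullback_unitsObj_left M).flip this

theorem quasiCompact_unitsPair [Finite ↥S] : QuasiCompact (unitsPair M).left := by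
  have : QuasiCompact (lift η[M] η[M]).left := by
    refine ⟨fun U _ _ => ?_⟩
    have : Finite ↥(𝟙_ (Over S)).left := ‹Finite ↥S›
    exact (Set.toFinite _).isCompact
  exact MorphismProperty.of_isPullback (P := @QuasiCompact) (isPullback_unitsObj_left M).flip this

end Groth.Agent.Lib.GrpSch
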